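import Mathlib

/-! `A₄`-subgroups of `GL₂(ℤ/2ᵏ)`. -/

set_option autoImplicit false

namespace Cfsg.Agent.Lib.LocalChar.A4GL2

open Matrix

/-- A symmetry of order three without fixed vectors. -/
def om (R : Type*) [CommRing R] : Matrix (Fin 2) (Fin 2) R := !![0, -1; 1, -1]

/-- Its square. -/
def om2 (R : Type*) [CommRing R] : Matrix (Fin 2) (Fin 2) R := !![-1, 1; -1, 0]

theorem om_mul_om (R : Type*) [CommRing R] : om R * om R = om2 R := by
  ext i j; fin_cases i <;> fin_cases j <;> simp [om, om2, Matrix.mul_apply, Fin.sum_univ_two]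

theorem om_mul_om2 (R : Type*) [CommRing R] : om R * om2 R = 1 := by
  ext i j; fin_cases i <;> fin_cases j <;> simp [om, om2, Matrix.mul_apply, Fin.sum_univ_two]

theorem om2_mul_om (R : Type*) [CommRing R] : om2 R * om R = 1 := by
  ext i j; fin_cases i <;> fin_cases j <;> simp [om, om2, Matrix.mul_apply, Fin.sum_univ_two]

theorem f2_idem : ∀ A : Matrix (Fin 2) (Fin 2) (ZMod 2), A + A * A = 0 →
    A * (om _ * A * om2 _) = (om _ * A * om2 _) * A → A = 0 ∨ A = 1 := by decide

theorem f2_invol : ∀ T : Matrix (Fin 2) (Fin 2) (ZMod 2), T * T = 1 →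
    T * (om _ * T * om2 _) = (om _ * T * om2 _) * T → T = 1 := by decide

theorem f2_three : ∀ X : Matrix (Fin 2) (Fin 2) (ZMod 2), X * X * X = 1 → X ≠ 1 →
    (X - 1).det = 1 ∧ X 1 0 = 1 := by decide

theorem f2_norm_card : (Finset.univ.filter fun B : Matrix (Fin 2) (Fin 2) (ZMod 2) =>
    B + om _ * B * om2 _ + om2 _ * B * om _ = 0).card = 4 := by decide

theorem a4_card : (Finset.univ.filter fun a : ↥(alternatingGroup (Fin 4)) => a * a = 1).card = 4 := by
  decide +kernel

theorem a4_three : ∃ x : ↥(alternatingGroup (Fin 4)), x ≠ 1 ∧ x * x * x = 1 := by decide +kernel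

theorem a4_act : ∀ x : ↥(alternatingGroup (Fin 4)), x ≠ 1 → x * x * x = 1 →
    ∀ a : ↥(alternatingGroup (Fin 4)), a * a = 1 →
      a * (x * a * (x * x)) = (x * a * (x * x)) * a ∧
      a * (x * a * (x * x)) * (x * x * a * x) = 1 := by decide +kernel

theorem a4_decomp : ∀ x : ↥(alternatingGroup (Fin 4)), x ≠ 1 → x * x * x = 1 →
    ∀ h : ↥(alternatingGroup (Fin 4)), ∃ a : ↥(alternatingGroup (Fin 4)), a * a = 1 ∧
      (h = a ∨ h = a * x ∨ h = a * (x * x)) := by decide +kernel

variable {k : ℕ}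

local notation "R" => ZMod (2 ^ k)
local notation "M" => Matrix (Fin 2) (Fin 2) (ZMod (2 ^ k))
local notation "M₂" => Matrix (Fin 2) (Fin 2) (ZMod 2)

variable (hk : 2 ≤ k)

/-- Reduction modulo two. -/
def red : R →+* ZMod 2 := ZMod.castHom (dvd_pow_self 2 (by omega : k ≠ 0)) (ZMod 2)

/-- Reduction modulo two of matrices. -/
def Red : M →+* M₂ := (red hk).mapMatrix

/-- `2^(k-1)`. -/
def eps (k : ℕ) : ZMod (2 ^ k) := 2 ^ (k - 1)

include hk

theorem red_eq_zero {r : R} (h : red hk r = 0) : ∃ s, r = 2 * s := by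
  obtain ⟨n, rfl⟩ := ZMod.natCast_zmod_surjective r
  rw [map_natCast, ZMod.natCast_eq_zero_iff_even] at h
  obtain ⟨m, rfl⟩ := h
  exact ⟨m, by push_cast; ring⟩

theorem two_pow_k : (2 : R) ^ k = 0 := by
  have := ZMod.natCast_self (2 ^ k)
  push_cast at this
  exact this

theorem of_two_mul {r : R} (h : 2 * r = 0) : ∃ s, r = eps k * s := by
  obtain ⟨n, rfl⟩ := ZMod.natCast_zmod_surjective r
  have h' : ((2 * n : ℕ) : R) = 0 := by push_cast; exact h
  rw [ZMod.natCast_eq_zero_iff] at h'
  obtain ⟨j, rfl⟩ : 2 ^ (k - 1) ∣ n := by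
    rw [show (2 : ℕ) ^ k = 2 * 2 ^ (k - 1) by rw [← pow_succ', show k - 1 + 1 = k by omega]] at h'
    exact (Nat.mul_dvd_mul_iff_left (by norm_num)).1 h'
  exact ⟨j, by simp [eps]⟩

theorem eps_mul_eq_zero_iff {r : R} : eps k * r = 0 ↔ red hk r = 0 := by
  obtain ⟨n, rfl⟩ := ZMod.natCast_zmod_surjective r
  rw [map_natCast, ZMod.natCast_eq_zero_iff_even,
    show eps k * (n : R) = ((2 ^ (k - 1) * n : ℕ) : R) by simp [eps],
    ZMod.natCast_eq_zero_iff, even_iff_two_dvd]
  rw [show (2 : ℕ) ^ k = 2 ^ (k - 1) * 2 by rw [← pow_succ, show k - 1 + 1 = k by omega]]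
  exact Nat.mul_dvd_mul_iff_left (Nat.two_pow_pos _)

theorem red_of_four {r : R} (h3 : 3 ≤ k) (h : 4 * r = 0) : red hk r = 0 := by
  rw [← eps_mul_eq_zero_iff hk]
  rw [show eps k = 2 ^ (k - 3) * 4 by
    unfold eps; rw [show k - 1 = k - 3 + 2 by omega, pow_add]; norm_num]
  rw [mul_assoc, h, mul_zero]

theorem eps_sq : eps k * eps k = 0 := by
  unfold eps
  rw [← pow_add, show k - 1 + (k - 1) = k + (k - 2) by omega, pow_add, two_pow_k hk, zero_mul]

theorem two_eps : 2 * eps k = 0 := by
  unfold eps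
  rw [← pow_succ', show k - 1 + 1 = k by omega, two_pow_k hk]

theorem Red_apply (A : M) (i j : Fin 2) : Red hk A i j = red hk (A i j) := rfl

theorem Red_eq_zero {A : M} (h : Red hk A = 0) : ∃ A' : M, A = (2 : R) • A' := by
  choose f hf using fun i j => red_eq_zero hk (show red hk (A i j) = 0 from congrFun (congrFun h i) j)
  exact ⟨Matrix.of f, Matrix.ext fun i j => hf i j⟩

theorem M_of_two {A : M} (h : (2 : R) • A = 0) : ∃ B : M, A = eps k • B := by
  choose f hf using fun i j => of_two_mul hk (show 2 * A i j = 0 from congrFun (congrFun h i) j)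
  exact ⟨Matrix.of f, Matrix.ext fun i j => hf i j⟩

theorem eps_smul_eq_zero_iff {B : M} : eps k • B = 0 ↔ Red hk B = 0 := by
  constructor
  · intro h; ext i j
    exact (eps_mul_eq_zero_iff hk).1 (congrFun (congrFun h i) j)
  · intro h; ext i j
    exact (eps_mul_eq_zero_iff hk).2 (congrFun (congrFun h i) j)

theorem Red_of_four {A : M} (h3 : 3 ≤ k) (h : (4 : R) • A = 0) : Red hk A = 0 := by
  ext i j
  exact red_of_four hk h3 (congrFun (congrFun h i) j)

theorem Red_surjective : Function.Surjective (Red hk) := fun B =>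
  ⟨Matrix.of fun i j => ((B i j).val : R), Matrix.ext fun i j => by
    rw [Red_apply, Matrix.of_apply, map_natCast, ZMod.natCast_zmod_val]⟩

theorem Red_om : Red hk (om R) = om _ := by
  ext i j; fin_cases i <;> fin_cases j <;> simp [om, Red_apply]

theorem Red_om2 : Red hk (om2 R) = om2 _ := by
  ext i j; fin_cases i <;> fin_cases j <;> simp [om2, Red_apply]

theorem isNilpotent_two_smul (A : M) : IsNilpotent ((2 : R) • A) :=
  ⟨k, by rw [smul_pow, two_pow_k hk, zero_smul]⟩

theorem isUnit_of_red {r : R} (h : red hk r = 1) : IsUnit r := by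
  obtain ⟨s, hs⟩ := red_eq_zero hk (r := r - 1) (by rw [map_sub, h, map_one, sub_self])
  rw [sub_eq_iff_eq_add.1 hs]
  exact IsNilpotent.isUnit_add_one ⟨k, by rw [mul_pow, two_pow_k hk, zero_mul]⟩

theorem eq_one_of_three {x : M} (h : Red hk x = 1) (h3 : x * x * x = 1) : x = 1 := by
  obtain ⟨A, hA⟩ := Red_eq_zero hk (A := x - 1) (by rw [map_sub, h, map_one, sub_self])
  have hu : IsUnit (x * x + x + 1) := by
    have hx : x = 1 + (2 : R) • A := by rw [← hA]; abel
    have e : x * x + x + 1 = 1 + (2 : R) • (1 + (3 : R) • A + (2 : R) • (A * A)) := by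
      rw [hx]; simp only [mul_add, add_mul, one_mul, mul_one, Matrix.smul_mul, Matrix.mul_smul]
      module
    rw [e]
    exact (isNilpotent_two_smul hk _).isUnit_one_add
  have h0 : (x - 1) * (x * x + x + 1) = 0 := by
    rw [sub_mul, mul_add, mul_add, one_mul, ← mul_assoc, h3, mul_one]; abel
  exact sub_eq_zero.1 (hu.mul_left_eq_zero.1 h0)

/-- The elements of the normal four group of an `A₄` through `om`. -/
def vSet : Set M := {t | ∃ B : M, Red hk B + om _ * Red hk B * om2 _ + om2 _ * Red hk B * om _ = 0 ∧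
  t = 1 + eps k • B}

theorem mem_vSet {t : M} (ht : t * t = 1) (hc : t * (om R * t * om2 R) = (om R * t * om2 R) * t)
    (hn : t * (om R * t * om2 R) * (om2 R * t * om R) = 1) : t ∈ vSet hk := by
  set w := om R
  set w2 := om2 R
  have hw1 : w * w2 = 1 := om_mul_om2 R
  have hw2 : w2 * w = 1 := om2_mul_om R
  have hT : Red hk t = 1 := by
    refine f2_invol _ (by rw [← map_mul, ht, map_one]) ?_
    rw [← Red_om hk, ← Red_om2 hk, ← map_mul, ← map_mul, ← map_mul, ← map_mul, hc]
  obtain ⟨A, hA⟩ := Red_eq_zero hk (A := t - 1) (by rw [map_sub, hT, map_one, sub_self])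
  have htA : t = 1 + (2 : R) • A := by rw [← hA]; abel
  have hconj : ∀ (c : R) (X : M), w * (1 + c • X) * w2 = 1 + c • (w * X * w2) := fun c X => by
    rw [mul_add, add_mul, mul_one, hw1, Matrix.mul_smul, Matrix.smul_mul]
  have hsq : (4 : R) • (A + A * A) = 0 := by
    have e : t * t = 1 + (4 : R) • (A + A * A) := by
      rw [htA]; simp only [mul_add, add_mul, one_mul, mul_one, Matrix.smul_mul, Matrix.mul_smul]
      module
    rw [ht] at e
    exact left_eq_add.1 e
  have hfour : (4 : R) • A = 0 ∨ (3 ≤ k ∧ (4 : R) • (1 + A) = 0) := by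
    rcases Nat.lt_or_ge k 3 with h3 | h3
    · left
      have : (4 : R) = 0 := by
        rw [show (4 : R) = 2 ^ k by rw [show k = 2 by omega]; norm_num]
        exact two_pow_k hk
      rw [this, zero_smul]
    · have hcm : (4 : R) • (A * (w * A * w2) - (w * A * w2) * A) = 0 := by
        have e := hc
        rw [htA, hconj] at e
        rw [← sub_eq_zero] at e
        rw [← e]
        simp only [mul_add, add_mul, one_mul, mul_one, Matrix.smul_mul, Matrix.mul_smul]
        module
      have h1 := Red_of_four hk h3 hsq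
      have h2 := Red_of_four hk h3 hcm
      rw [map_add, map_mul] at h1
      simp only [w, w2, map_sub, map_mul, Red_om hk, Red_om2 hk, sub_eq_zero] at h2
      rcases f2_idem _ h1 h2 with h | h
      · left
        obtain ⟨A', rfl⟩ := Red_eq_zero hk h
        have hu : IsUnit (1 + (2 : R) • A') := (isNilpotent_two_smul hk A').isUnit_one_add
        refine hu.mul_left_eq_zero.1 ?_
        rw [← hsq, Matrix.smul_mul, mul_add, mul_one]
      · right
        refine ⟨h3, ?_⟩
        obtain ⟨A', hA'⟩ := Red_eq_zero hk (A := A - 1) (by rw [map_sub, h, map_one, sub_self])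
        have hu : IsUnit A := by
          rw [show A = 1 + (2 : R) • A' by rw [← hA']; abel]
          exact (isNilpotent_two_smul hk A').isUnit_one_add
        refine hu.mul_left_eq_zero.1 ?_
        rw [← hsq, Matrix.smul_mul, add_mul, one_mul]
  obtain ⟨B, s, hs, hB⟩ : ∃ (B : M) (s : R), (s = 1 ∨ (s = -1 ∧ 3 ≤ k)) ∧ t = s • (1 : M) + eps k • B := by
    rcases hfour with h | ⟨h3, h⟩
    · obtain ⟨B, hB⟩ := M_of_two hk (A := (2 : R) • A) (by rw [smul_smul, ← h]; norm_num)
      exact ⟨B, 1, Or.inl rfl, by rw [htA, hB, one_smul]⟩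
    · obtain ⟨B, hB⟩ := M_of_two hk (A := (2 : R) • (1 + A)) (by rw [smul_smul, ← h]; norm_num)
      refine ⟨B, -1, Or.inr ⟨rfl, h3⟩, ?_⟩
      rw [← hB, htA]; module
  have hss : s * s = 1 := by rcases hs with rfl | ⟨rfl, -⟩ <;> ring
  have e1 : w * t * w2 = s • (1 : M) + eps k • (w * B * w2) := by
    rw [hB, mul_add, add_mul, Matrix.mul_smul, Matrix.smul_mul, mul_one, hw1, Matrix.mul_smul, Matrix.smul_mul]
  have e2 : w2 * t * w = s • (1 : M) + eps k • (w2 * B * w) := by
    rw [hB, mul_add, add_mul, Matrix.mul_smul, Matrix.smul_mul, mul_one, hw2, Matrix.mul_smul, Matrix.smul_mul]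
  have hprod : s • (1 : M) + eps k • (B + w * B * w2 + w2 * B * w) = 1 := by
    have hmul : ∀ (a b : R) (X Y : M), (a • (1 : M) + eps k • X) * (b • (1 : M) + eps k • Y) =
        (a * b) • (1 : M) + eps k • (b • X + a • Y) := by
      intro a b X Y
      have : eps k • (eps k • (X * Y)) = 0 := by rw [smul_smul, eps_sq hk, zero_smul]
      calc (a • (1 : M) + eps k • X) * (b • (1 : M) + eps k • Y)
          = (a * b) • (1 : M) + eps k • (b • X + a • Y) + eps k • (eps k • (X * Y)) := by
            simp only [mul_add, add_mul, one_mul, mul_one, Matrix.smul_mul, Matrix.mul_smul]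
            module
        _ = _ := by rw [this, add_zero]
    rw [e1, e2, hB, hmul, hmul] at hn
    refine Eq.trans ?_ hn
    rcases hs with rfl | ⟨rfl, -⟩ <;> module
  rcases hs with rfl | ⟨rfl, h3⟩
  · refine ⟨B, ?_, by rw [hB, one_smul]⟩
    have h : eps k • (B + w * B * w2 + w2 * B * w) = 0 := by
      rwa [one_smul, add_eq_left] at hprod
    rw [eps_smul_eq_zero_iff hk] at h
    simpa [map_add, map_mul, Red_om hk, Red_om2 hk, w, w2] using h
  · exfalso
    have h := congrArg (fun X : M => ((2 : R) • X) 0 0) hprod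
    simp only [smul_add, smul_smul, two_eps hk, zero_smul, add_zero] at h
    have h4 : (4 : R) * 1 = 0 := by
      have : (2 * -1 : R) = 2 := by simpa using h
      linear_combination -this
    have := red_of_four hk h3 h4
    rw [map_one] at this
    exact one_ne_zero this

theorem vSet_finite_card : (vSet hk).Finite ∧ (vSet hk).ncard ≤ 4 := by
  classical
  choose lift hlift using Red_surjective hk
  set F := (Finset.univ.filter fun B : M₂ => B + om _ * B * om2 _ + om2 _ * B * om _ = 0).image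
    fun B => 1 + eps k • lift B
  have hsub : vSet hk ⊆ ↑F := by
    rintro t ⟨B, hB, rfl⟩
    rw [Finset.mem_coe, Finset.mem_image]
    refine ⟨Red hk B, by simpa using hB, ?_⟩
    rw [add_right_inj, ← sub_eq_zero, ← smul_sub, eps_smul_eq_zero_iff hk, map_sub, hlift, sub_self]
  refine ⟨F.finite_toSet.subset hsub, (Set.ncard_le_ncard hsub).trans ?_⟩
  rw [Set.ncard_coe_finset]
  exact Finset.card_image_le.trans f2_norm_card.le

/-- An `A₄` containing `om` is determined. -/
theorem mem_iff_of_om {H : Subgroup (GL (Fin 2) R)} (e : ↥H ≃* ↥(alternatingGroup (Fin 4)))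
    {w : ↥H} (hw : ((w : GL (Fin 2) R) : M) = om R) (g : GL (Fin 2) R) :
    g ∈ H ↔ ∃ v : M, v ∈ vSet hk ∧ ((g : M) = v ∨ (g : M) = v * om R ∨ (g : M) = v * om2 R) := by
  classical
  set x := e w with hx
  have hw2 : (((w * w : ↥H) : GL (Fin 2) R) : M) = om2 R := by
    rw [Subgroup.coe_mul, Units.val_mul, hw, om_mul_om]
  have hw3 : w * w * w = 1 := by
    apply Subtype.ext; apply Units.ext
    rw [Subgroup.coe_mul, Units.val_mul, hw2, hw, om2_mul_om]; rfl
  have hx3 : x * x * x = 1 := by rw [hx, ← map_mul, ← map_mul, hw3, map_one]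
  have hx1 : x ≠ 1 := by
    intro h
    rw [hx, map_eq_one_iff e e.injective] at h
    rw [h] at hw
    have h0 := congrFun (congrFun hw 1) 0
    haveI hF : Fact (1 < 2 ^ k) := ⟨Nat.one_lt_two_pow (by omega)⟩
    simp [om] at h0
  let toM : ↥H → M := fun a => ((a : GL (Fin 2) R) : M)
  have hinj : Function.Injective toM := fun a b h => Subtype.ext (Units.ext h)
  have hV : ∀ a : ↥H, a * a = 1 → toM a ∈ vSet hk := by
    intro a ha
    obtain ⟨h1, h2⟩ := a4_act x hx1 hx3 (e a) (by rw [← map_mul, ha, map_one])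
    simp only [hx, ← map_mul, e.injective.eq_iff, map_eq_one_iff e e.injective] at h1 h2
    refine mem_vSet hk ?_ ?_ ?_
    · exact congrArg toM ha
    · have h := congrArg toM h1
      simp only [toM, Subgroup.coe_mul, Units.val_mul, hw] at h ⊢
      rw [← om_mul_om]
      exact h
    · have h := congrArg toM h2
      simp only [toM, Subgroup.coe_mul, Units.val_mul, hw] at h ⊢
      rw [← om_mul_om]
      exact h
  constructor
  · intro hg
    obtain ⟨a, ha, hd⟩ := a4_decomp x hx1 hx3 (e ⟨g, hg⟩)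
    have ha' : e.symm a * e.symm a = 1 := by rw [← map_mul, ha, map_one]
    refine ⟨toM (e.symm a), hV _ ha', ?_⟩
    rcases hd with h | h | h
    · left
      have h' : (⟨g, hg⟩ : ↥H) = e.symm a := by rw [← h, e.symm_apply_apply]
      exact congrArg toM h'
    · right; left
      have h' : (⟨g, hg⟩ : ↥H) = e.symm a * w := e.injective (by rw [map_mul, e.apply_symm_apply, h])
      rw [show (g : M) = toM (e.symm a * w) from congrArg toM h']
      simp only [toM, Subgroup.coe_mul, Units.val_mul, hw]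
    · right; right
      have h' : (⟨g, hg⟩ : ↥H) = e.symm a * (w * w) := e.injective (by rw [map_mul, map_mul, e.apply_symm_apply, h])
      rw [show (g : M) = toM (e.symm a * (w * w)) from congrArg toM h']
      simp only [toM, Subgroup.coe_mul, Units.val_mul, hw, om_mul_om]
  · rintro ⟨v, hv, hg⟩
    have heq : toM '' {a : ↥H | a * a = 1} = vSet hk := by
      refine Set.eq_of_subset_of_ncard_le (Set.image_subset_iff.2 hV) ?_ (vSet_finite_card hk).1
      refine (vSet_finite_card hk).2.trans ?_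
      rw [Set.ncard_image_of_injective _ hinj]
      refine le_of_eq ?_
      rw [← a4_card, ← Set.ncard_coe_finset]
      rw [← Set.ncard_image_of_injective {a : ↥H | a * a = 1} e.injective]
      congr 1
      ext a
      simp only [Finset.coe_filter, Finset.mem_univ, true_and, Set.mem_setOf_eq, Set.mem_image]
      constructor
      · exact fun ha => ⟨e.symm a, by rw [← map_mul, ha, map_one], e.apply_symm_apply a⟩
      · rintro ⟨b, hb, rfl⟩; rw [← map_mul, hb, map_one]
    obtain ⟨a, -, rfl⟩ := heq.symm ▸ hv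
    rcases hg with h | h | h
    · rw [show g = ((a : ↥H) : GL (Fin 2) R) from Units.ext h]; exact a.2
    · rw [show g = ((a * w : ↥H) : GL (Fin 2) R) from Units.ext (by
        rw [h]; simp only [toM, Subgroup.coe_mul, Units.val_mul, hw])]
      exact (a * w).2
    · rw [show g = ((a * (w * w) : ↥H) : GL (Fin 2) R) from Units.ext (by
        rw [h]; simp only [toM, Subgroup.coe_mul, Units.val_mul, hw, om_mul_om])]
      exact (a * (w * w)).2

/-- Some conjugate of an `A₄` contains `om`. -/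
theorem exists_conj_om {H : Subgroup (GL (Fin 2) R)} (e : ↥H ≃* ↥(alternatingGroup (Fin 4))) :
    ∃ g : GL (Fin 2) R, ∃ w ∈ H.map (MulAut.conj g).toMonoidHom, ((w : GL (Fin 2) R) : M) = om R := by
  obtain ⟨y, hy1, hy3⟩ := a4_three
  set x : ↥H := e.symm y
  set X : M := ((x : GL (Fin 2) R) : M) with hX
  have h3 : X * X * X = 1 := by
    have : x * x * x = 1 := by rw [← map_mul, ← map_mul, hy3, map_one]
    exact congrArg (fun a : ↥H => ((a : GL (Fin 2) R) : M)) this
  have h1 : Red hk X ≠ 1 := fun h => hy1 (by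
    have h' : x = 1 := Subtype.ext (Units.ext (eq_one_of_three hk h h3))
    rwa [map_eq_one_iff e.symm e.symm.injective] at h')
  obtain ⟨hd, h10⟩ := f2_three _ (by rw [← map_mul, ← map_mul, h3, map_one]) h1
  have hu : IsUnit (X - 1) := by
    rw [Matrix.isUnit_iff_isUnit_det]
    refine isUnit_of_red hk ?_
    rw [RingHom.map_det]
    rw [show (red hk).mapMatrix (X - 1) = Red hk X - 1 by rw [map_sub, map_one]; rfl]
    exact hd
  have hsum : X * X + X + 1 = 0 := hu.mul_right_eq_zero.1 (by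
    rw [sub_mul, mul_add, mul_add, one_mul, ← mul_assoc, h3, mul_one]; abel)
  set P : M := !![1, X 0 0; 0, X 1 0]
  have hP : IsUnit P := by
    rw [Matrix.isUnit_iff_isUnit_det]
    refine isUnit_of_red hk ?_
    rw [Matrix.det_fin_two_of, mul_zero, sub_zero, one_mul]
    exact h10
  have hXP : X * P = P * om R := by
    have a00 := congrFun (congrFun hsum 0) 0
    have a10 := congrFun (congrFun hsum 1) 0
    simp [Matrix.mul_apply, Fin.sum_univ_two] at a00 a10
    ext i j
    fin_cases i <;> fin_cases j <;> simp [P, om, Matrix.mul_apply, Fin.sum_univ_two]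
    · linear_combination a00
    · linear_combination a10
  refine ⟨hP.unit⁻¹, hP.unit⁻¹ * x * hP.unit, ⟨x, x.2, by simp [MulAut.conj_apply]⟩, ?_⟩
  rw [Units.val_mul, Units.val_mul, mul_assoc]
  show (↑hP.unit⁻¹ : M) * (X * P) = om R
  rw [hXP, ← mul_assoc, IsUnit.val_inv_mul, one_mul]

theorem conjugate (H₁ H₂ : Subgroup (GL (Fin 2) R)) (h₁ : Nonempty (↥H₁ ≃* ↥(alternatingGroup (Fin 4))))
    (h₂ : Nonempty (↥H₂ ≃* ↥(alternatingGroup (Fin 4)))) :
    ∃ g : GL (Fin 2) R, H₂ = H₁.map (MulAut.conj g).toMonoidHom := by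
  obtain ⟨e₁⟩ := h₁
  obtain ⟨e₂⟩ := h₂
  obtain ⟨g₁, w₁, hw₁, hw₁'⟩ := exists_conj_om hk e₁
  obtain ⟨g₂, w₂, hw₂, hw₂'⟩ := exists_conj_om hk e₂
  have key : H₁.map (MulAut.conj g₁).toMonoidHom = H₂.map (MulAut.conj g₂).toMonoidHom := by
    ext g
    rw [mem_iff_of_om hk ((H₁.equivMapOfInjective _ (MulAut.conj g₁).injective).symm.trans e₁) (w := ⟨w₁, hw₁⟩) hw₁' g,
      mem_iff_of_om hk ((H₂.equivMapOfInjective _ (MulAut.conj g₂).injective).symm.trans e₂) (w := ⟨w₂, hw₂⟩) hw₂' g]
  refine ⟨g₂⁻¹ * g₁, ?_⟩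
  rw [show (MulAut.conj (g₂⁻¹ * g₁)).toMonoidHom = (MulAut.conj g₂⁻¹).toMonoidHom.comp (MulAut.conj g₁).toMonoidHom by
    ext a; simp [mul_assoc], ← Subgroup.map_map, key, Subgroup.map_map,
    show (MulAut.conj g₂⁻¹).toMonoidHom.comp (MulAut.conj g₂).toMonoidHom = MonoidHom.id _ by ext a; simp [mul_assoc],
    Subgroup.map_id]

end Cfsg.Agent.Lib.LocalChar.A4GL2
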