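import Cfsg.Agent.Lib.LocalChar.Core

/-! Subnormal subgroups and `O^p`. -/

set_option autoImplicit false
set_option linter.unusedSectionVars false
set_option linter.unusedSimpArgs false

open scoped commutatorElement Pointwise

namespace Cfsg.Agent.Lib.LocalChar

variable {G : Type*} [Group G] {p : ℕ} [hp : Fact p.Prime]

/-- `(u a)ⁿ ∈ uⁿ A` when `u` normalises `A`. -/
theorem mul_pow_mem {A : Subgroup G} {u a : G} (hu : u ∈ Subgroup.normalizer (A : Set G)) (ha : a ∈ A)
    (n : ℕ) : ∃ b ∈ A, (u * a) ^ n = u ^ n * b := by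
  induction n with
  | zero => exact ⟨1, A.one_mem, by simp⟩
  | succ n ih =>
    obtain ⟨b, hb, he⟩ := ih
    refine ⟨u⁻¹ * b * u * a, A.mul_mem ?_ ha, by rw [pow_succ, he, pow_succ]; group⟩
    simpa using conj_mem_of_nz (Subgroup.inv_mem _ hu) hb

/-- A product of a `p`-element normalising `A` with an element of `A`, of `p'`-order, lies in `A`. -/
theorem mem_of_mul_coprime {A : Subgroup G} {u a : G} (hu : u ∈ Subgroup.normalizer (A : Set G))
    (hup : ∃ k : ℕ, u ^ p ^ k = 1) (ha : a ∈ A) (ho : (orderOf (u * a)).Coprime p) : u * a ∈ A := by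
  obtain ⟨k, hk⟩ := hup
  obtain ⟨b, hb, he⟩ := mul_pow_mem hu ha (p ^ k)
  exact mem_of_coprime_of_pow ho ⟨k, by rw [he, hk, one_mul]; exact hb⟩

theorem exists_pow_eq_one {P : Subgroup G} (hP : IsPGroup p P) {x : G} (hx : x ∈ P) :
    ∃ k : ℕ, x ^ p ^ k = 1 :=
  (hP ⟨x, hx⟩).imp fun _ hk => by simpa using congrArg Subtype.val hk

/-- `O_p(G)` normalises `O^p(K)` for every subnormal subgroup `K`. -/
theorem pCore_le_nz_resOf [Finite G] {K : Subgroup G} (hK : K.IsSubnormal) :
    Cfsg.pCore p G ≤ Subgroup.normalizer (resOf p K : Set G) := by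
  have hPn : (Cfsg.pCore p G).Normal := pCore_normal
  induction hK with
  | top => exact le_top.trans (le_nz_resOf ⊤)
  | step A B hle _ hn ih =>
    intro a ha
    refine mem_nz_of_cj_le ?_
    rw [resOf_eq_closure, cj, MonoidHom.map_closure, Subgroup.closure_le, ← resOf_eq_closure]
    rintro _ ⟨x, ⟨hxA, hxo⟩, rfl⟩
    have hxB : a * x * a⁻¹ ∈ B :=
      resOf_le B (conj_mem_of_nz (ih ha) (mem_resOf (hle hxA) hxo))
    set u := a * x * a⁻¹ * x⁻¹ with hu
    have huP : u ∈ Cfsg.pCore p G := by
      have : u = a * (x * a⁻¹ * x⁻¹) := by rw [hu]; group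
      rw [this]
      exact mul_mem ha (hPn.conj_mem _ (inv_mem ha) x)
    have huB : u ∈ B := B.mul_mem hxB (B.inv_mem (hle hxA))
    have he : a * x * a⁻¹ = u * x := by rw [hu]; group
    show a * x * a⁻¹ ∈ resOf p A
    rw [he]
    have ho : (orderOf (u * x)).Coprime p := by rw [← he, orderOf_conj']; exact hxo
    exact mem_resOf (mem_of_mul_coprime (le_nz_pointwise hle hn huB)
      (exists_pow_eq_one pCore_isPGroup huP) hxA ho) ho

/-- A `p`-subgroup `A ≤ N(B)` does not change `O^p`. -/
theorem resOf_sup_pGroup [Finite G] {A B : Subgroup G} (hA : IsPGroup p A)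
    (hn : A ≤ Subgroup.normalizer (B : Set G)) : resOf p (A ⊔ B) = resOf p B := by
  refine le_antisymm (resOf_le_iff.2 fun x hx ho => ?_) (resOf_mono le_sup_right)
  obtain ⟨a, ha, b, hb, rfl⟩ := (mem_sup_iff_of_nz hn).1 hx
  exact mem_resOf (mem_of_mul_coprime (hn ha) (exists_pow_eq_one hA ha) hb ho) ho

theorem isSubnormal_cj {H : Subgroup G} (h : H.IsSubnormal) (g : G) : (cj g H).IsSubnormal :=
  h.map (f := (MulAut.conj g).toMonoidHom) (MulAut.conj g).surjective

theorem isSubnormal_of_isNilpotent {N : Type*} [Group N] [Finite N] [Group.IsNilpotent N]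
    (X : Subgroup N) : X.IsSubnormal := by
  have key : ∀ (n : ℕ) (X : Subgroup N), Nat.card N - Nat.card X = n → X.IsSubnormal := by
    intro n
    induction n using Nat.strong_induction_on with
    | _ n ih =>
      intro X hX
      rcases eq_or_ne X ⊤ with rfl | hne
      · exact Subgroup.IsSubnormal.top
      · have hlt := Group.normalizerCondition_of_isNilpotent (G := N) X hne.lt_top
        refine Subgroup.IsSubnormal.step X _ Subgroup.le_normalizer
          (ih _ ?_ _ rfl) (normal_subgroupOf le_rfl)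
        have h1 : Nat.card X < Nat.card (Subgroup.normalizer (X : Set N)) :=
          lt_of_not_ge fun h => hlt.ne (Subgroup.eq_of_le_of_card_ge hlt.le h)
        have h2 := Subgroup.card_le_card_group (Subgroup.normalizer (X : Set N))
        omega
  exact key _ X rfl

/-- A subgroup containing `O^p(G)` is subnormal. -/
theorem isSubnormal_of_pResidual_le [Finite G] {X : Subgroup G} (h : Cfsg.pResidual p G ≤ X) :
    X.IsSubnormal := by
  haveI : (Cfsg.pResidual p G).Normal := pResidual_normal
  have hq : IsPGroup p (G ⧸ Cfsg.pResidual p G) := by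
    intro x
    induction x using QuotientGroup.induction_on with
    | H y =>
      obtain ⟨k, hk⟩ := pow_mem_resOf (p := p) (Subgroup.mem_top y)
      rw [resOf_top] at hk
      exact ⟨k, (QuotientGroup.eq_one_iff _).2 hk⟩
  haveI : Group.IsNilpotent (G ⧸ Cfsg.pResidual p G) := hq.isNilpotent
  have := (isSubnormal_of_isNilpotent (X.map (QuotientGroup.mk' (Cfsg.pResidual p G)))).comap
    (QuotientGroup.mk' (Cfsg.pResidual p G))
  rwa [Subgroup.comap_map_eq, QuotientGroup.ker_mk', sup_eq_left.2 h] at this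

theorem resOf_subgroupOf (K : Subgroup G) : (resOf p K).subgroupOf K = Cfsg.pResidual p K :=
  Subgroup.comap_map_eq_self_of_injective Subtype.val_injective _

end Cfsg.Agent.Lib.LocalChar
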