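import Cfsg.Agent.Lib.LocalChar.FrakM
import Cfsg.Agent.Lib.LocalChar.Subnormal

/-! An asymmetric `Y_M` makes `O_p(M)` weakly closed in `G`. -/

set_option autoImplicit false
set_option linter.unusedSectionVars false

open scoped commutatorElement Pointwise

namespace Cfsg.Agent.Lib.LocalChar

variable {G : Type*} [Group G] [Finite G] {p : ℕ} [hp : Fact p.Prime]
variable {S : Sylow p G} {Q M : Subgroup G}

theorem frakM_sylow (hSM : (S : Subgroup G) ≤ M) : IsSylowIn p (S : Subgroup G) M :=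
  ⟨hSM, S.isPGroup', fun hd => S.not_dvd_index (hd.trans (Subgroup.relIndex_dvd_index_of_le hSM))⟩

theorem frakM_YL_ne_bot (hSM : (S : Subgroup G) ≤ M) (hM : Cfsg.IsInFrakM p M) :
    Cfsg.largestPReducedOf p M ≠ ⊥ := by
  intro e
  obtain ⟨z, hz, hz1, hc⟩ := exists_fixed (isPGroup_pCoreOf M) (isPGroup_pCoreOf M)
    Subgroup.le_normalizer (frakM_pCore_ne_bot (p := p) hM)
  obtain ⟨k, hk⟩ := exists_pow_eq_one (isPGroup_pCoreOf M) hz
  have h0 := YL_eq_omZ_TL (frakM_sylow hSM) (frakM_charP hM)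
  change Cfsg.largestPReducedOf p M =
    omZ p ((S : Subgroup G) ⊓ Subgroup.centralizer (Cfsg.largestPReducedOf p M : Set G)) at h0
  rw [← frakM_core_eq hSM hM, e] at h0
  have hd : p ∣ orderOf z := by
    obtain ⟨i, -, hi⟩ := (Nat.dvd_prime_pow hp.out).1 (orderOf_dvd_of_pow_eq_one hk)
    rcases i with _ | i
    · exact absurd (orderOf_eq_one_iff.1 (by rwa [pow_zero] at hi)) hz1
    · exact hi ▸ dvd_pow_self p (Nat.succ_ne_zero i)
  obtain ⟨j, hj⟩ := hd
  have h1 : z ^ j ∈ omZ p (Cfsg.pCoreOf p M) := mem_omegaCenter_iff.2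
    ⟨Subgroup.pow_mem _ hz j, fun a ha => (hc a ha).pow_right j,
      by rw [← pow_mul, mul_comm, ← hj, pow_orderOf_eq_one]⟩
  rw [← h0, Subgroup.mem_bot, ← orderOf_dvd_iff_pow_eq_one, hj] at h1
  have hpos : 0 < j := Nat.pos_of_ne_zero fun h => by
    rw [h, mul_zero] at hj; exact (orderOf_pos z).ne' hj
  have := Nat.le_of_dvd hpos h1
  nlinarith [hp.out.two_le]

/-- Moving `Y_M` around by `M` and an element normalising an overgroup of `O_p(M)` in `S`. -/
theorem asym_mem_dag (hQp : IsPGroup p Q) (hQ1 : Q ≠ ⊥) (hQ : Cfsg.IsLarge Q)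
    (hSM : (S : Subgroup G) ≤ M) (hM : Cfsg.IsInFrakM p M)
    (hasym : ¬ Cfsg.IsSymmetricIn (Cfsg.largestPReducedOf p M)) {L : Subgroup G}
    (hOL : Cfsg.pCoreOf p M ≤ L) (hLS : L ≤ (S : Subgroup G)) {n : G}
    (hn : n ∈ Subgroup.normalizer (L : Set G)) : n ∈ dag p M := by
  set Y := Cfsg.largestPReducedOf p M
  set O := Cfsg.pCoreOf p M
  set gens : Set G := (M : Set G) ∪ {n, n⁻¹}
  have hginv : ∀ g ∈ gens, g⁻¹ ∈ gens := by
    rintro g (hg | rfl | rfl)
    · exact Or.inl (M.inv_mem hg)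
    · exact Or.inr (Or.inr rfl)
    · exact Or.inr (Or.inl (inv_inv n))
  have hstep : ∀ g ∈ gens, ∀ X : Subgroup G, X ≤ O → cj g X ≤ (S : Subgroup G) := by
    rintro g hg X hX
    rcases hg with hg | hg
    · exact ((cj_mono hX).trans (cj_eq_of_mem_nz (le_nz_pCoreOf M hg)).le).trans (hOL.trans hLS)
    · have hgn : g ∈ Subgroup.normalizer (L : Set G) := by
        rcases hg with rfl | rfl
        · exact hn
        · exact Subgroup.inv_mem _ hn
      exact ((cj_mono (hX.trans hOL)).trans (cj_eq_of_mem_nz hgn).le).trans hLS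
  have hall : ∀ k : ℕ, ∀ l : List G, l.length = k → (∀ x ∈ l, x ∈ gens) → cj l.prod Y ≤ O := by
    intro k
    induction k with
    | zero =>
      intro l hl _
      rw [List.length_eq_zero_iff.1 hl, List.prod_nil, cj_one]
      exact frakM_YL_le_core hM
    | succ k ih =>
      have hS : ∀ l : List G, l.length = k + 1 → (∀ x ∈ l, x ∈ gens) → cj l.prod Y ≤ (S : Subgroup G) := by
        rintro (_ | ⟨g, l⟩) hl hmem
        · simp at hl
        · rw [List.prod_cons, ← cj_cj]
          exact hstep g (hmem g List.mem_cons_self) _ (ih l (by simpa using hl) fun x hx =>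
            hmem x (List.mem_cons_of_mem g hx))
      intro l hl hmem
      have h1 := hS l hl hmem
      have hl' : cj (l.map fun x => x⁻¹).reverse.prod Y ≤ (S : Subgroup G) :=
        hS _ (by simp [hl]) fun x hx => by
          obtain ⟨y, hy, rfl⟩ := List.mem_map.1 (List.mem_reverse.1 hx)
          exact hginv y (hmem y hy)
      rw [← List.prod_inv_reverse] at hl'
      set u := l.prod
      have hSY : (S : Subgroup G) ≤ Subgroup.normalizer (Y : Set G) :=
        hSM.trans (le_sup_left.trans dag_le_nz)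
      have h2 : Y ≤ Subgroup.normalizer (cj u Y : Set G) := fun y hy => by
        refine mem_nz_of_cj_eq ?_
        have hy' : u⁻¹ * y * u ∈ Subgroup.normalizer (Y : Set G) := by
          have := hSY (cj_le_iff.1 hl' y hy)
          rwa [inv_inv] at this
        rw [cj_cj, show y * u = u * (u⁻¹ * y * u) by group, ← cj_cj, cj_eq_of_mem_nz hy']
      have h3 := asym_commute hasym (h1.trans hSY) h2
      rw [show O = _ from frakM_core_eq hSM hM]
      exact le_inf h1 (Subgroup.le_centralizer_iff.1 h3)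
  set W := Subgroup.closure gens
  have hV : conjClosure W Y ≤ O := by
    refine (Subgroup.closure_le _).2 ?_
    rintro _ ⟨w, hw, y, hy, rfl⟩
    have hsymm : gens ∪ gens⁻¹ = gens :=
      Set.union_eq_left.2 fun g hg => by simpa using hginv _ (Set.mem_inv.1 hg)
    have hw' : w ∈ Submonoid.closure gens := by
      rw [← hsymm, ← Subgroup.closure_toSubmonoid]; exact hw
    obtain ⟨l, hl, rfl⟩ := Submonoid.exists_list_of_mem_closure hw'
    exact cj_le_iff.1 (hall _ l rfl hl) y hy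
  have hMW : M ≤ W := fun m hm => Subgroup.subset_closure (Or.inl hm)
  have hne : conjClosure W Y ≠ ⊥ := fun e =>
    frakM_YL_ne_bot hSM hM (le_bot_iff.1 (e ▸ le_conjClosure W Y))
  exact frakM_nz_le hQp hQ1 hQ hSM hM ((isPGroup_pCoreOf M).to_le hV) hne
    (hMW.trans (le_nz_conjClosure W Y)) (le_nz_conjClosure W Y (Subgroup.subset_closure (Or.inr (Or.inl rfl))))

/-- Conjugates of `O_p(M)` by `M†` inside a `p`-subgroup of `M†` containing it. -/
theorem core_wc_dag (hSM : (S : Subgroup G) ≤ M) (hM : Cfsg.IsInFrakM p M) {R : Subgroup G}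
    (hR : IsPGroup p R) (hRD : R ≤ dag p M) (hOR : Cfsg.pCoreOf p M ≤ R) {d : G} (hd : d ∈ dag p M)
    (hle : cj d (Cfsg.pCoreOf p M) ≤ R) : cj d (Cfsg.pCoreOf p M) = Cfsg.pCoreOf p M := by
  set O := Cfsg.pCoreOf p M
  set Y := Cfsg.largestPReducedOf p M
  set C := Subgroup.centralizer (Y : Set G)
  have hC : dag p M ≤ Subgroup.normalizer (C : Set G) := le_nz_centralizer dag_le_nz
  have hS : IsSylowIn p (S : Subgroup G) (dag p M) :=
    ⟨hSM.trans le_sup_left, S.isPGroup', fun hd => S.not_dvd_index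
      (hd.trans (Subgroup.relIndex_dvd_index_of_le (hSM.trans le_sup_left)))⟩
  have hO := frakM_core_eq hSM hM
  have hSC : IsSylowIn p O C := by
    have := hS.inf (N := C) le_sup_right hC
    rwa [← hO] at this
  have h1 : cj d O ≤ C := (cj_mono ((show O ≤ _ from hO.le).trans inf_le_right)).trans (cj_eq_of_mem_nz (hC hd)).le
  have h2 : R ⊓ C = O := hSC.eq_of_le (hR.to_le inf_le_left) inf_le_right
    (le_inf hOR ((show O ≤ _ from hO.le).trans inf_le_right))
  exact Subgroup.eq_of_le_of_card_ge ((le_inf hle h1).trans h2.le) (card_cj d O).ge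

/-- `N(L) ≤ N(O_p(M)) ≤ M†` for `p`-subgroups `L ⊇ O_p(M)`. -/
theorem asym_nz_le (hQp : IsPGroup p Q) (hQ1 : Q ≠ ⊥) (hQ : Cfsg.IsLarge Q)
    (hSM : (S : Subgroup G) ≤ M) (hM : Cfsg.IsInFrakM p M)
    (hasym : ¬ Cfsg.IsSymmetricIn (Cfsg.largestPReducedOf p M)) {L : Subgroup G} (hL : IsPGroup p L)
    (hOL : Cfsg.pCoreOf p M ≤ L) :
    L ≤ dag p M ∧ Subgroup.normalizer (L : Set G) ≤ dag p M ∧
      Subgroup.normalizer (L : Set G) ≤ Subgroup.normalizer (Cfsg.pCoreOf p M : Set G) := by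
  set O := Cfsg.pCoreOf p M
  have hS : IsSylowIn p (S : Subgroup G) (dag p M) :=
    ⟨hSM.trans le_sup_left, S.isPGroup', fun hd => S.not_dvd_index
      (hd.trans (Subgroup.relIndex_dvd_index_of_le (hSM.trans le_sup_left)))⟩
  have hOS : O ≤ (S : Subgroup G) := pCoreOf_le_sylowIn (frakM_sylow hSM)
  have key : ∀ L : Subgroup G, IsPGroup p L → O ≤ L → L ≤ dag p M →
      Subgroup.normalizer (L : Set G) ≤ dag p M := by
    intro L hL hOL hLD n hn
    obtain ⟨m, hm, hle⟩ := hS.conj_le hL hLD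
    have h1 : cj m O = O :=
      core_wc_dag hSM hM S.isPGroup' (hSM.trans le_sup_left) hOS hm ((cj_mono hOL).trans hle)
    have h2 := asym_mem_dag hQp hQ1 hQ hSM hM hasym (h1.ge.trans (cj_mono hOL)) hle
      (n := m * n * m⁻¹) (mem_nz_of_cj_eq (by
        rw [cj_cj, show m * n * m⁻¹ * m = m * n by group, ← cj_cj, cj_eq_of_mem_nz hn]))
    simpa [mul_assoc] using (dag p M).mul_mem ((dag p M).mul_mem ((dag p M).inv_mem hm) h2) hm
  have hLD : L ≤ dag p M := by
    by_contra hne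
    obtain ⟨u, hu, huL, hun⟩ := exists_mem_nz_of_lt hL
      (lt_of_le_of_ne inf_le_left fun e => hne (inf_eq_left.1 e) : L ⊓ dag p M < L)
    exact huL ⟨hu, key _ (hL.to_le inf_le_left)
      (le_inf hOL ((pCoreOf_le M).trans le_sup_left)) inf_le_right hun⟩
  refine ⟨hLD, key L hL hOL hLD, fun n hn => mem_nz_of_cj_eq ?_⟩
  exact core_wc_dag hSM hM hL hLD hOL (key L hL hOL hLD hn) ((cj_mono hOL).trans (cj_eq_of_mem_nz hn).le)

end Cfsg.Agent.Lib.LocalChar
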