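import Cfsg.Agent.S0182
import Cfsg.Agent.S0340
import Cfsg.Agent.Lib.Zass.Struct
import Cfsg.Agent.Lib.PSLTwo.RecogTwo
import Cfsg.Agent.Lib.Involution.Basic
import Mathlib.GroupTheory.FixedPointFree
import Mathlib.GroupTheory.Transfer

/-!
Finite simple groups in which commuting is transitive on non-identity elements are `PSL(2, 2 ^ f)`.
The involution centraliser `A` is a TI Hall subgroup, `G` acts on the cosets of `N(A)`, and counting the
involutions interchanging two points shows that the action is that of a Zassenhaus group.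
-/

set_option autoImplicit false
set_option linter.unusedSectionVars false

namespace Cfsg.Agent.Lib.LocalChar.CTSimple

open Subgroup MulAction

variable {G : Type*} [Group G]

/-- Commuting is transitive on non-identity elements. -/
def CT (G : Type*) [Group G] : Prop :=
  ∀ a b c : G, a ≠ 1 → b ≠ 1 → c ≠ 1 → Commute a b → Commute b c → Commute a c

/-- The centraliser of an element. -/
abbrev C (x : G) : Subgroup G := Subgroup.centralizer ({x} : Set G)

theorem mem_C {x g : G} : g ∈ C x ↔ Commute g x := Subgroup.mem_centralizer_singleton_iff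

theorem ct_comm (hCT : CT G) {x a b : G} (hx : x ≠ 1) (ha : a ∈ C x) (hb : b ∈ C x) : Commute a b := by
  by_cases ha1 : a = 1
  · subst ha1; exact Commute.one_left b
  by_cases hb1 : b = 1
  · subst hb1; exact Commute.one_right a
  exact hCT a x b ha1 hx hb1 (mem_C.1 ha) (mem_C.1 hb).symm

theorem C_eq (hCT : CT G) {x z : G} (hx : x ≠ 1) (hz : z ≠ 1) (h : z ∈ C x) : C z = C x :=
  le_antisymm
    (fun _g hg => mem_C.2 (ct_comm hCT hz hg (mem_C.2 (mem_C.1 h).symm)))
    (fun _g hg => mem_C.2 (ct_comm hCT hx hg h))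

theorem conj_mem_C (g : G) {x y : G} : g * y * g⁻¹ ∈ C (g * x * g⁻¹) ↔ y ∈ C x := by
  rw [mem_C, mem_C, Commute.conj_iff]

/-- The normaliser. -/
abbrev Nz (t : G) : Subgroup G := Subgroup.normalizer (C t : Set G)

/-- The points. -/
abbrev Pt (t : G) : Type _ := G ⧸ Nz t

/-- The distinguished point. -/
abbrev base (t : G) : Pt t := ((1 : G) : G ⧸ Nz t)

theorem stab_base (t : G) : stabilizer G (base t) = Nz t := MulAction.stabilizer_quotient _

theorem fix_base_iff (t x : G) : x • base t = base t ↔ x ∈ Nz t := by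
  rw [← mem_stabilizer_iff, stab_base]

theorem fix_iff (t g x : G) : x • (g • base t) = g • base t ↔ g⁻¹ * x * g ∈ Nz t := by
  rw [← fix_base_iff, mul_smul, mul_smul, inv_smul_eq_iff]

variable [Finite G]

theorem conj_mem_N (hCT : CT G) {t : G} (ht : t ≠ 1) {g u : G} (hu : u ∈ C t) (hu1 : u ≠ 1)
    (hgu : g * u * g⁻¹ ∈ C t) : g ∈ Nz t := by
  refine Subgroup.mem_normalizer_iff.2 fun h => ?_
  rw [← C_eq hCT ht hu1 hu, ← conj_mem_C g (x := u) (y := h),
    C_eq hCT ht (fun e => hu1 (conj_eq_one_iff.1 e)) hgu, C_eq hCT ht hu1 hu]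

theorem sylow_le (hCT : CT G) {t : G} (ht : t ≠ 1) {p : ℕ} [hp : Fact p.Prime] {z : G} (hz : z ∈ C t)
    (hz1 : z ≠ 1) (P : Sylow p G) (hzP : z ∈ (P : Subgroup G)) : (P : Subgroup G) ≤ C t := by
  haveI : Nontrivial (P : Subgroup G) := ⟨⟨⟨z, hzP⟩, 1, fun e => hz1 (congrArg Subtype.val e)⟩⟩
  haveI := P.isPGroup'.center_nontrivial
  obtain ⟨w, hw⟩ := exists_ne (1 : Subgroup.center (P : Subgroup G))
  have hw1 : ((w : (P : Subgroup G)) : G) ≠ 1 := fun e => hw (Subtype.ext (Subtype.ext e))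
  have hPw : (P : Subgroup G) ≤ C ((w : (P : Subgroup G)) : G) := fun x hx =>
    mem_C.2 (congrArg Subtype.val (Subgroup.mem_center_iff.1 w.2 ⟨x, hx⟩))
  have hwA : ((w : (P : Subgroup G)) : G) ∈ C t := by
    rw [← C_eq hCT ht hz1 hz]; exact mem_C.2 (mem_C.1 (hPw hzP)).symm
  exact hPw.trans (C_eq hCT ht hw1 hwA).le

theorem coprime_index (hCT : CT G) {t : G} (ht : t ≠ 1) : (Nat.card (C t)).Coprime (C t).index := by
  refine Nat.coprime_of_dvd fun p hp h1 h2 => ?_
  haveI := Fact.mk hp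
  obtain ⟨z, hz⟩ := exists_prime_orderOf_dvd_card' p h1
  have hzo : orderOf (z : G) = p := by rw [Subgroup.orderOf_coe]; exact hz
  have hz1 : (z : G) ≠ 1 := fun e => hp.ne_one (by rw [← hzo, e, orderOf_one])
  have hpg : IsPGroup p (Subgroup.zpowers (z : G)) := IsPGroup.of_card (n := 1) (by
    rw [Nat.card_zpowers, hzo, pow_one])
  obtain ⟨P, hP⟩ := hpg.exists_le_sylow
  have hle := sylow_le hCT ht z.2 hz1 P (hP (Subgroup.mem_zpowers _))
  exact P.not_dvd_index (h2.trans (Subgroup.index_dvd_of_le hle))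

theorem card_N (t : G) : Nat.card (Nz t) = Nat.card (C t) * (C t).relIndex (Nz t) := by
  rw [Subgroup.relIndex, ← Nat.card_congr (Subgroup.subgroupOfEquivOfLe (Subgroup.le_normalizer (H := C t))).toEquiv,
    Subgroup.card_mul_index]

theorem mem_A_of_pow (hCT : CT G) {t : G} (ht : t ≠ 1) {y : G} (hy : y ∈ Nz t)
    (hpow : y ^ Nat.card (C t) = 1) : y ∈ C t := by
  have : ((C t).subgroupOf (Nz t)).Normal := Subgroup.normal_in_normalizer
  have h1 : y ^ (C t).relIndex (Nz t) ∈ C t := by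
    have := Subgroup.pow_index_mem ((C t).subgroupOf (Nz t)) ⟨y, hy⟩
    exact this
  have h2 : ((C t).relIndex (Nz t)).Coprime (orderOf y) :=
    ((coprime_index hCT ht).coprime_dvd_right (Subgroup.relIndex_dvd_index_of_le Subgroup.le_normalizer)).symm.coprime_dvd_right
      (orderOf_dvd_of_pow_eq_one hpow)
  obtain ⟨m, hm⟩ := exists_pow_eq_self_of_coprime h2
  rw [← hm]; exact pow_mem h1 m

theorem even_card_C {t : G} (ht : orderOf t = 2) : 2 ∣ Nat.card (C t) := by
  rw [← ht, ← Nat.card_zpowers]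
  exact Subgroup.card_dvd_of_le (Subgroup.zpowers_le.2 (mem_C.2 (Commute.refl t)))

theorem ne_one_of_two {t : G} (ht : orderOf t = 2) : t ≠ 1 := fun e => by
  rw [e, orderOf_one] at ht; omega

theorem invol_mem_A (hCT : CT G) {t : G} (ht : orderOf t = 2) {v : G} (hv : orderOf v = 2)
    (hvN : v ∈ Nz t) : v ∈ C t :=
  mem_A_of_pow hCT (ne_one_of_two ht) hvN (orderOf_dvd_iff_pow_eq_one.1 (hv ▸ even_card_C ht))

theorem exists_commuting {x y : G} (hx : orderOf x = 2) (hy : orderOf y = 2) (h : ¬ IsConj x y) :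
    ∃ z : G, z ≠ 1 ∧ Commute z x ∧ Commute z y := by
  rcases Nat.even_or_odd (orderOf (x * y)) with ⟨i, hi⟩ | ho
  · have hpos := orderOf_pos (x * y)
    refine ⟨(x * y) ^ i, pow_ne_one_of_lt_orderOf (by omega) (by omega), ?_, ?_⟩
    · have hinv : x * (x * y) ^ i * x⁻¹ = (x * y) ^ i := by
        rw [← conj_pow, Involution.conj_prod hx hy, inv_pow]
        refine inv_eq_of_mul_eq_one_right ?_
        rw [← pow_add, ← hi, pow_orderOf_eq_one]
      exact (mul_inv_eq_iff_eq_mul.1 hinv).symm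
    · have hinv : x * (x * y) ^ i * x⁻¹ = (x * y) ^ i := by
        rw [← conj_pow, Involution.conj_prod hx hy, inv_pow]
        refine inv_eq_of_mul_eq_one_right ?_
        rw [← pow_add, ← hi, pow_orderOf_eq_one]
      have hzx : Commute ((x * y) ^ i) x := (mul_inv_eq_iff_eq_mul.1 hinv).symm
      have := hzx.mul_right ((Commute.refl (x * y)).pow_left i)
      rwa [← mul_assoc, Involution.mul_self hx, one_mul] at this
  · obtain ⟨j, hj⟩ := Involution.conj_of_odd hx hy ho
    exact absurd (isConj_iff.2 ⟨_, hj⟩) h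

theorem one_class [IsSimpleGroup G] (hG : ¬ IsMulCommutative G) (hCT : CT G) {t : G} (ht : orderOf t = 2)
    {v : G} (hv : orderOf v = 2) : IsConj t v := by
  by_contra h
  have ht1 := ne_one_of_two ht
  have key : ∀ g : G, g * v * g⁻¹ ∈ C t := by
    intro g
    have ho : orderOf (g * v * g⁻¹) = 2 := by rw [Involution.orderOf_conj]; exact hv
    obtain ⟨z, hz, h1, h2⟩ := exists_commuting ht ho fun e => h (e.trans (isConj_iff.2 ⟨g⁻¹, by group⟩))
    rw [← C_eq hCT ht1 hz (mem_C.2 h1)]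
    exact mem_C.2 h2.symm
  have hle : Subgroup.normalClosure {v} ≤ C t := by
    refine (Subgroup.closure_le _).2 fun x hx => ?_
    obtain ⟨a, ha, hax⟩ := Group.mem_conjugatesOfSet_iff.1 hx
    rw [Set.mem_singleton_iff] at ha
    subst ha
    obtain ⟨g, rfl⟩ := isConj_iff.1 hax
    exact key g
  rcases (Subgroup.normalClosure_normal (s := ({v} : Set G))).eq_bot_or_eq_top with e | e
  · have := Subgroup.subset_normalClosure (s := ({v} : Set G)) rfl
    rw [e] at this
    exact ne_one_of_two hv (Subgroup.mem_bot.1 this)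
  · rw [e] at hle
    exact hG ⟨⟨fun a b => ct_comm hCT ht1 (hle (Subgroup.mem_top a)) (hle (Subgroup.mem_top b))⟩⟩

/-- The pointwise stabiliser of two points. -/
abbrev St (t : G) (γ δ : Pt t) : Subgroup G := stabilizer G γ ⊓ stabilizer G δ

theorem free_A (hCT : CT G) {t : G} (ht : t ≠ 1) {x : G} (hx : x ∈ C t) (hx1 : x ≠ 1) {δ : Pt t}
    (hfix : x • δ = δ) : δ = base t := by
  obtain ⟨g, rfl⟩ := MulAction.exists_smul_eq G (base t) δ
  rw [fix_iff] at hfix
  have hA : g⁻¹ * x * g ∈ C t := mem_A_of_pow hCT ht hfix (orderOf_dvd_iff_pow_eq_one.1 (by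
    rw [show g⁻¹ * x * g = g⁻¹ * x * g⁻¹⁻¹ by rw [inv_inv], Involution.orderOf_conj, ← Nat.card_zpowers]
    exact Subgroup.card_dvd_of_le (Subgroup.zpowers_le.2 hx)))
  have := conj_mem_N hCT ht (g := g⁻¹) hx hx1 (by rw [inv_inv]; exact hA)
  exact (fix_base_iff t g).2 (inv_mem_iff.1 this)

theorem card_le_k (t : G) {K : Subgroup G} (hK : K ≤ Nz t) (hKA : ∀ x ∈ K, x ∈ C t → x = 1) :
    Nat.card K ≤ (C t).relIndex (Nz t) := by
  have h := Nat.card_le_card_of_injective
    (fun p : K × C t => (⟨(p.1 : G) * p.2, mul_mem (hK p.1.2) (Subgroup.le_normalizer p.2.2)⟩ : Nz t))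
    (fun p q e => by
      have e' : (p.1 : G) * p.2 = q.1 * q.2 := congrArg Subtype.val e
      have h1 : (q.1 : G)⁻¹ * p.1 = q.2 * (p.2 : G)⁻¹ := by
        rw [eq_mul_inv_iff_mul_eq, mul_assoc, inv_mul_eq_iff_eq_mul, e']
      have h2 := hKA _ (mul_mem (inv_mem q.1.2) p.1.2) (h1 ▸ mul_mem q.2.2 (inv_mem p.2.2))
      have h3 : (p.1 : G) = q.1 := (inv_mul_eq_one.1 h2).symm
      rw [h3] at e'
      exact Prod.ext (Subtype.ext h3) (Subtype.ext (mul_left_cancel e')))
  rw [Nat.card_prod, card_N, mul_comm] at h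
  exact Nat.le_of_mul_le_mul_left h Nat.card_pos

theorem card_St_le (hCT : CT G) {t : G} (ht : t ≠ 1) {γ δ : Pt t} (hne : γ ≠ δ) :
    Nat.card (St t γ δ) ≤ (C t).relIndex (Nz t) := by
  obtain ⟨g, rfl⟩ := MulAction.exists_smul_eq G (base t) γ
  have hne' : g⁻¹ • δ ≠ base t := fun e => hne (by rw [← e, smul_inv_smul])
  refine le_trans ?_ (card_le_k t (K := St t (base t) (g⁻¹ • δ)) (fun x hx => (fix_base_iff t x).1 hx.1)
    fun x hx hxA => by_contra fun h1 => hne' (free_A hCT ht hxA h1 hx.2))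
  refine Nat.card_le_card_of_injective (fun x => ⟨g⁻¹ * x * g, ?_, ?_⟩) fun x y e => Subtype.ext ?_
  · show (g⁻¹ * (x : G) * g) • base t = base t
    rw [mul_smul, mul_smul, x.2.1, inv_smul_smul]
  · show (g⁻¹ * (x : G) * g) • g⁻¹ • δ = g⁻¹ • δ
    rw [mul_smul, mul_smul, smul_inv_smul, x.2.2]
  · exact mul_left_cancel (mul_right_cancel (congrArg Subtype.val e :))

/-- The involutions mapping one point to another. -/
abbrev Sw (t : G) (γ δ : Pt t) : Type _ := {v : G // orderOf v = 2 ∧ v • γ = δ}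

theorem sw_swap {t : G} {γ δ : Pt t} (v : Sw t γ δ) : (v : G) • δ = γ := by
  exact (congrArg ((v : G) • ·) v.2.2.symm).trans (by
    rw [smul_smul, Involution.mul_self v.2.1, one_smul])

theorem fib_le (hCT : CT G) {t : G} (ht : t ≠ 1) {γ δ : Pt t} (hne : γ ≠ δ) :
    Nat.card (Sw t γ δ) ≤ (C t).relIndex (Nz t) := by
  rcases isEmpty_or_nonempty (Sw t γ δ) with he | ⟨⟨v₀⟩⟩
  · rw [Nat.card_of_isEmpty]; exact Nat.zero_le _
  refine le_trans ?_ (card_St_le hCT ht hne)
  refine Nat.card_le_card_of_injective (fun v => ⟨(v₀ : G) * v, ?_, ?_⟩) fun x y e =>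
    Subtype.ext (mul_left_cancel (congrArg Subtype.val e :))
  · show ((v₀ : G) * v) • γ = γ
    rw [mul_smul, v.2.2, sw_swap v₀]
  · show ((v₀ : G) * v) • δ = δ
    rw [mul_smul, sw_swap v, v₀.2.2]

theorem card_invol [IsSimpleGroup G] (hG : ¬ IsMulCommutative G) (hCT : CT G) {t : G} (ht : orderOf t = 2) :
    Nat.card {v : G // orderOf v = 2} = (C t).index := by
  refine (Nat.card_congr (Equiv.ofBijective (fun q : G ⧸ C t => Quotient.liftOn' q
    (fun g => (⟨g * t * g⁻¹, by rw [Involution.orderOf_conj]; exact ht⟩ : {v : G // orderOf v = 2}))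
    (fun a b h => Subtype.ext ?_)) ⟨?_, ?_⟩)).symm
  · have hc : Commute (a⁻¹ * b) t := mem_C.1 (QuotientGroup.leftRel_apply.1 h)
    calc a * t * a⁻¹ = a * (t * (a⁻¹ * b)) * b⁻¹ := by group
      _ = a * ((a⁻¹ * b) * t) * b⁻¹ := by rw [hc.eq]
      _ = b * t * b⁻¹ := by group
  · intro q q'
    induction q using QuotientGroup.induction_on with | _ a =>
    induction q' using QuotientGroup.induction_on with | _ b =>
    intro e
    have e' : a * t * a⁻¹ = b * t * b⁻¹ := congrArg Subtype.val e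
    refine QuotientGroup.eq.2 (mem_C.2 ?_)
    calc a⁻¹ * b * t = a⁻¹ * (b * t * b⁻¹) * b := by group
      _ = t * (a⁻¹ * b) := by rw [← e']; group
  · intro v
    obtain ⟨g, hg⟩ := isConj_iff.1 (one_class hG hCT ht v.2)
    exact ⟨(g : G ⧸ C t), Subtype.ext hg⟩

theorem fixed_unique [IsSimpleGroup G] (hG : ¬ IsMulCommutative G) (hCT : CT G) {t : G} (ht : orderOf t = 2)
    {v : G} (hv : orderOf v = 2) : ∃! γ : Pt t, v • γ = γ := by
  obtain ⟨g, hg⟩ := isConj_iff.1 (one_class hG hCT ht hv)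
  have htA : t ∈ C t := mem_C.2 (Commute.refl t)
  refine ⟨g • base t, ?_, fun δ hδ => ?_⟩
  · show v • (g • base t) = g • base t
    rw [fix_iff, ← hg, show g⁻¹ * (g * t * g⁻¹) * g = t by group]
    exact Subgroup.le_normalizer htA
  · obtain ⟨g', rfl⟩ := MulAction.exists_smul_eq G (base t) δ
    have h' := (fix_iff t g' v).1 hδ
    have ho : orderOf (g'⁻¹ * v * g') = 2 := by
      rw [show g'⁻¹ * v * g' = g'⁻¹ * v * g'⁻¹⁻¹ by rw [inv_inv], Involution.orderOf_conj]; exact hv
    have := conj_mem_N hCT (ne_one_of_two ht) (g := g'⁻¹ * g) htA (ne_one_of_two ht) (by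
      rw [show g'⁻¹ * g * t * (g'⁻¹ * g)⁻¹ = g'⁻¹ * (g * t * g⁻¹) * g' by group, hg]
      exact invol_mem_A hCT ht ho h')
    have e := (fix_base_iff t (g'⁻¹ * g)).2 this
    rw [mul_smul, inv_smul_eq_iff] at e
    exact e.symm

/-- Every pair of points is interchanged by exactly `k` involutions. -/
theorem card_sw [IsSimpleGroup G] (hG : ¬ IsMulCommutative G) (hCT : CT G) {t : G} (ht : orderOf t = 2)
    {γ δ : Pt t} (hne : γ ≠ δ) : Nat.card (Sw t γ δ) = (C t).relIndex (Nz t) := by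
  classical
  haveI := Fintype.ofFinite (Pt t)
  haveI := Fintype.ofFinite {v : G // orderOf v = 2}
  set k := (C t).relIndex (Nz t) with hk
  set n := Nat.card (Pt t) with hn
  have h1 : Nat.card (Σ v : {v : G // orderOf v = 2}, {γ : Pt t // (v : G) • γ ≠ γ}) =
      (C t).index * (n - 1) := by
    rw [Nat.card_sigma, Finset.sum_const_nat (m := n - 1), Finset.card_univ, ← Nat.card_eq_fintype_card,
      card_invol hG hCT ht]
    intro v _
    rw [Nat.card_eq_fintype_card, Fintype.card_subtype_compl, hn, Nat.card_eq_fintype_card]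
    congr 1
    obtain ⟨c, hc, hu⟩ := fixed_unique hG hCT ht v.2
    exact Fintype.card_eq_one_iff.2 ⟨⟨c, hc⟩, fun y => Subtype.ext (hu _ y.2)⟩
  have e : (Σ v : {v : G // orderOf v = 2}, {γ : Pt t // (v : G) • γ ≠ γ}) ≃
      Σ p : {p : Pt t × Pt t // p.1 ≠ p.2}, Sw t p.1.1 p.1.2 :=
    { toFun := fun x => ⟨⟨(x.2.1, (x.1 : G) • x.2.1), Ne.symm x.2.2⟩, ⟨x.1.1, x.1.2, rfl⟩⟩
      invFun := fun x => ⟨⟨x.2.1, x.2.2.1⟩, ⟨x.1.1.1, fun e => x.1.2 (e.symm.trans x.2.2.2)⟩⟩
      left_inv := fun x => rfl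
      right_inv := by
        rintro ⟨⟨⟨γ', δ'⟩, hp⟩, ⟨v, hv, he⟩⟩
        dsimp only at he ⊢
        subst he
        rfl }
  rw [Nat.card_congr e, Nat.card_sigma, ← Subgroup.relIndex_mul_index (Subgroup.le_normalizer (H := C t)),
    show (Nz t).index = n from rfl] at h1
  have h2 : ∑ _p : {p : Pt t × Pt t // p.1 ≠ p.2}, k = k * n * (n - 1) := by
    rw [Finset.sum_const, smul_eq_mul, Finset.card_univ, ← Nat.card_eq_fintype_card]
    have hp : Nat.card {p : Pt t × Pt t // p.1 ≠ p.2} = n * (n - 1) := by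
      rw [Nat.card_congr (β := Σ γ : Pt t, {δ : Pt t // γ ≠ δ})
        { toFun := fun p => ⟨p.1.1, p.1.2, p.2⟩, invFun := fun p => ⟨(p.1, p.2.1), p.2.2⟩,
          left_inv := fun p => rfl, right_inv := fun p => rfl }, Nat.card_sigma, Finset.sum_const_nat (m := n - 1),
        Finset.card_univ, ← Nat.card_eq_fintype_card, hn]
      intro c _
      rw [Nat.card_eq_fintype_card, Fintype.card_subtype_compl, Fintype.card_subtype_eq', hn,
        Nat.card_eq_fintype_card]
    rw [hp]; ring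
  exact (Finset.sum_eq_sum_iff_of_le (fun p _ => fib_le hCT (ne_one_of_two ht) p.2)).1
    (h1.trans h2.symm) ⟨(γ, δ), hne⟩ (Finset.mem_univ _)

/-- An involution interchanging two points inverts their stabiliser. -/
theorem sw_inverts [IsSimpleGroup G] (hG : ¬ IsMulCommutative G) (hCT : CT G) {t : G} (ht : orderOf t = 2)
    {γ δ : Pt t} (hne : γ ≠ δ) (v : Sw t γ δ) {h : G} (hh : h ∈ St t γ δ) : (v : G) * h * v = h⁻¹ := by
  let φ : Sw t γ δ → St t γ δ := fun w => ⟨(v : G) * w,
    show ((v : G) * w) • γ = γ by rw [mul_smul, w.2.2, sw_swap v],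
    show ((v : G) * w) • δ = δ by rw [mul_smul, sw_swap w, v.2.2]⟩
  have hinj : Function.Injective φ := fun x y e => Subtype.ext (mul_left_cancel (congrArg Subtype.val e :))
  have hsur := (Nat.bijective_iff_injective_and_card φ).2 ⟨hinj, le_antisymm
    (Nat.card_le_card_of_injective φ hinj)
    ((card_St_le hCT (ne_one_of_two ht) hne).trans (card_sw hG hCT ht hne).ge)⟩
  obtain ⟨w, hw⟩ := hsur.2 ⟨h, hh⟩
  have hw' : (v : G) * w = h := congrArg Subtype.val hw
  rw [← hw', mul_inv_rev, Involution.inv_self v.2.1, Involution.inv_self w.2.1, ← mul_assoc,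
    Involution.mul_self v.2.1, one_mul]

theorem card_St [IsSimpleGroup G] (hG : ¬ IsMulCommutative G) (hCT : CT G) {t : G} (ht : orderOf t = 2)
    {γ δ : Pt t} (hne : γ ≠ δ) : Nat.card (St t γ δ) = (C t).relIndex (Nz t) := by
  have hk := card_sw hG hCT ht hne
  have hpos : 0 < (C t).relIndex (Nz t) :=
    Nat.pos_of_ne_zero (Subgroup.index_ne_zero_of_finite (H := (C t).subgroupOf (Nz t)))
  rw [← hk] at hpos
  obtain ⟨⟨v⟩, -⟩ := Nat.card_pos_iff.1 hpos
  refine le_antisymm (card_St_le hCT (ne_one_of_two ht) hne) (hk.ge.trans ?_)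
  exact Nat.card_le_card_of_injective (fun w => ⟨(v : G) * w,
    show ((v : G) * w) • γ = γ by rw [mul_smul, w.2.2, sw_swap v],
    show ((v : G) * w) • δ = δ by rw [mul_smul, sw_swap w, v.2.2]⟩)
    fun x y e => Subtype.ext (mul_left_cancel (congrArg Subtype.val e :))

theorem odd_relIndex (hCT : CT G) {t : G} (ht : orderOf t = 2) : Odd ((C t).relIndex (Nz t)) := by
  rw [← Nat.not_even_iff_odd, even_iff_two_dvd]
  intro h
  have h1 := Nat.dvd_gcd (even_card_C ht)
    (h.trans (Subgroup.relIndex_dvd_index_of_le (Subgroup.le_normalizer (H := C t))))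
  rw [(coprime_index hCT (ne_one_of_two ht)).gcd_eq_one] at h1
  omega

/-- A two-point stabiliser fixes no third point. -/
theorem fix_two [IsSimpleGroup G] (hG : ¬ IsMulCommutative G) (hCT : CT G) {t : G} (ht : orderOf t = 2)
    {γ : Pt t} (hne : γ ≠ base t) {h : G} (hh : h ∈ St t (base t) γ) (hh1 : h ≠ 1) {δ : Pt t}
    (hδ : h • δ = δ) : δ = base t ∨ δ = γ := by
  set α := base t with hα
  have ht1 := ne_one_of_two ht
  have hh2 : h * h ≠ 1 := fun e => by
    have h1 := (orderOf_dvd_of_pow_eq_one (show h ^ 2 = 1 by rw [pow_two, e]))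
    have h2 : orderOf h ∣ Nat.card (St t α γ) := by
      rw [← Nat.card_zpowers]; exact Subgroup.card_dvd_of_le (Subgroup.zpowers_le.2 hh)
    rw [card_St hG hCT ht hne.symm] at h2
    have h3 := Nat.dvd_gcd h1 h2
    rw [(Nat.coprime_two_left.2 (odd_relIndex hCT ht)).gcd_eq_one, Nat.dvd_one, orderOf_eq_one_iff] at h3
    exact hh1 h3
  -- no involution inverting `h` fixes a point fixed by `h`
  have nofix : ∀ u : G, orderOf u = 2 → u * h * u = h⁻¹ → ∀ ε : Pt t, h • ε = ε → u • ε ≠ ε := by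
    intro u hu hui ε hε hue
    obtain ⟨g, rfl⟩ := MulAction.exists_smul_eq G α ε
    set u' := g⁻¹ * u * g with hu'
    set w' := g⁻¹ * (h * u * h⁻¹) * g with hw'
    have ou : orderOf u' = 2 := by
      rw [hu', show g⁻¹ * u * g = g⁻¹ * u * g⁻¹⁻¹ by rw [inv_inv], Involution.orderOf_conj]; exact hu
    have ow : orderOf w' = 2 := by
      rw [hw', show g⁻¹ * (h * u * h⁻¹) * g = g⁻¹ * (h * u * h⁻¹) * g⁻¹⁻¹ by rw [inv_inv], Involution.orderOf_conj,
        Involution.orderOf_conj]
      exact hu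
    have uA : u' ∈ C t := invol_mem_A hCT ht ou ((fix_iff t g u).1 hue)
    have wA : w' ∈ C t := invol_mem_A hCT ht ow ((fix_iff t g _).1 (by
      rw [mul_smul, mul_smul, inv_smul_eq_iff.2 hε.symm, hue, hε]))
    have hprod : w' * u' = g⁻¹ * (h * h) * g := by
      have : h * u * h⁻¹ * u = h * h := by
        calc h * u * h⁻¹ * u = h * (u * (u * h * u) * u) := by rw [hui]; group
          _ = h * ((u * u) * h * (u * u)) := by group
          _ = h * h := by rw [Involution.mul_self hu, one_mul, mul_one]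
      rw [hw', hu', ← this]; group
    have hne1 : g⁻¹ * (h * h) * g ≠ 1 := fun e => hh2 (by
      rw [show g⁻¹ * (h * h) * g = g⁻¹ * (h * h) * g⁻¹⁻¹ by rw [inv_inv]] at e
      exact conj_eq_one_iff.1 e)
    have key : ∀ ε' : Pt t, h • ε' = ε' → ε' = g • α := fun ε' he => by
      have := free_A hCT ht1 (hprod ▸ mul_mem wA uA) hne1 (δ := g⁻¹ • ε') (by
        rw [mul_smul, mul_smul, smul_inv_smul, mul_smul, he, he])
      exact inv_smul_eq_iff.1 this
    exact hne ((key γ hh.2).trans (key α hh.1).symm)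
  have hpos : 0 < (C t).relIndex (Nz t) :=
    Nat.pos_of_ne_zero (Subgroup.index_ne_zero_of_finite (H := (C t).subgroupOf (Nz t)))
  have hexists : ∀ ε : Pt t, ε ≠ α → Nonempty (Sw t α ε) := fun ε hε => by
    have hpos' := hpos
    rw [← card_sw hG hCT ht hε.symm] at hpos'
    exact (Nat.card_pos_iff.1 hpos').1
  obtain ⟨v⟩ := hexists γ hne
  have hvh : (v : G) * h * v = h⁻¹ := sw_inverts hG hCT ht hne.symm v hh
  -- abelian pair stabilisers
  have habel : ∀ ε : Pt t, ε ≠ α → ∀ x ∈ St t α ε, ∀ y ∈ St t α ε, Commute x y := fun ε hε x hx y hy => by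
    obtain ⟨w⟩ := hexists ε hε
    have ix := sw_inverts hG hCT ht hε.symm w hx
    have iy := sw_inverts hG hCT ht hε.symm w hy
    have ixy := sw_inverts hG hCT ht hε.symm w (mul_mem hx hy)
    have : x⁻¹ * y⁻¹ = (x * y)⁻¹ := by
      rw [← ixy, ← ix, ← iy]
      calc (w : G) * x * w * (w * y * w) = w * x * ((w : G) * w) * y * w := by group
        _ = w * (x * y) * w := by rw [Involution.mul_self w.2.1, mul_one]; group
    rw [mul_inv_rev] at this
    exact Commute.inv_inv_iff.1 this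
  -- the centraliser of `h` meets the point stabiliser in the pair stabiliser
  have hBN : C h ⊓ Nz t = St t α γ := by
    refine (Subgroup.eq_of_le_of_card_ge (H := St t α γ) (K := C h ⊓ Nz t) (fun x hx => ⟨mem_C.2 (habel γ hne x hx h hh), (fix_base_iff t x).1 hx.1⟩) ?_).symm
    refine (card_le_k t inf_le_right fun x hx hxA => by_contra fun hx1 => ?_).trans (card_St hG hCT ht hne.symm).ge
    have hhA : h ∈ C t := by
      rw [← C_eq hCT ht1 hx1 hxA]; exact mem_C.2 (mem_C.1 hx.1).symm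
    exact hne (free_A hCT ht1 hhA hh1 hh.2)
  -- `v` inverts the centraliser of `h`
  have ivv : ((v : G))⁻¹ = v := Involution.inv_self v.2.1
  have hconjB : ∀ x ∈ C h, (v : G) * x * v ∈ C h := fun x hx => by
    rw [mem_C]
    have := ((mem_C.1 hx).inv_right).map (MulAut.conj (v : G)).toMonoidHom
    simp only [MulEquiv.coe_toMonoidHom, MulAut.conj_apply, ivv] at this
    rwa [← hvh, show (v : G) * (v * h * v) * v = ((v : G) * v) * h * ((v : G) * v) by group,
      Involution.mul_self v.2.1, one_mul, mul_one] at this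
  let φ : C h →* C h :=
    { toFun := fun x => ⟨(v : G) * x * v, hconjB x x.2⟩
      map_one' := Subtype.ext (by simp [Involution.mul_self v.2.1])
      map_mul' := fun x y => Subtype.ext (by
        show (v : G) * ((x : G) * y) * v = v * x * v * (v * y * v)
        calc (v : G) * ((x : G) * y) * v = v * x * ((v : G) * v) * y * v := by
              rw [Involution.mul_self v.2.1, mul_one]; group
          _ = _ := by group) }
  have hfpf : MonoidHom.FixedPointFree φ := fun x hx => by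
    by_contra hx1
    have hx' : (v : G) * x * v = x := congrArg Subtype.val hx
    have hvx : (v : G) ∈ C (x : G) := by
      rw [mem_C]
      show (v : G) * x = x * v
      nth_rewrite 2 [← hx']
      rw [mul_assoc ((v : G) * x), Involution.mul_self v.2.1, mul_one]
    rw [C_eq hCT hh1 (fun e => hx1 (Subtype.ext e)) x.2, mem_C] at hvx
    rw [hvx.eq, mul_assoc, Involution.mul_self v.2.1, mul_one] at hvh
    exact hh2 (by nth_rewrite 2 [hvh]; exact mul_inv_cancel h)
  have hinv := hfpf.coe_eq_inv_of_involutive (fun x => Subtype.ext (by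
    show (v : G) * (v * x * v) * v = x
    rw [show (v : G) * (v * x * v) * v = ((v : G) * v) * x * ((v : G) * v) by group,
      Involution.mul_self v.2.1, one_mul, mul_one]))
  -- the orbit of `γ` avoids `α`
  have horb : ∀ x ∈ C h, x • γ ≠ α := fun x hx e => by
    have hx' : (v : G) * x * v = x⁻¹ := congrArg Subtype.val (congrFun hinv ⟨x, hx⟩)
    have hsq : x * v * (x * v) = 1 := by
      rw [show x * (v : G) * (x * v) = x * ((v : G) * x * v) by group, hx', mul_inv_cancel]
    have hfix : (x * (v : G)) • α = α := by rw [mul_smul, v.2.2, e]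
    have hinvh : x * (v : G) * h * (x * v) = h⁻¹ := by
      calc x * (v : G) * h * (x * v) = x * ((v : G) * (h * x) * v) := by group
        _ = x * ((v : G) * (x * h) * v) := by rw [(mem_C.1 hx).eq]
        _ = x * ((v : G) * x * v * (v * h * v)) := by
          rw [show (v : G) * x * v * (v * h * v) = v * x * ((v : G) * v) * h * v by group,
            Involution.mul_self v.2.1, mul_one]; group
        _ = h⁻¹ := by rw [hx', hvh, mul_inv_cancel_left]
    by_cases h1 : x * (v : G) = 1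
    · rw [h1, one_mul, mul_one] at hinvh
      exact hh2 (by nth_rewrite 2 [hinvh]; exact mul_inv_cancel h)
    · exact nofix _ (orderOf_eq_prime (by rw [pow_two, hsq]) h1) hinvh α hh.1 hfix
  -- every other fixed point is in the orbit of `γ`
  have hcover : ∀ ε : Pt t, h • ε = ε → ε ≠ α → ∃ w ∈ C h, w • γ = ε := fun ε hε hεne => by
    obtain ⟨u⟩ := hexists ε hεne
    have huh : (u : G) * h * u = h⁻¹ := sw_inverts hG hCT ht hεne.symm u ⟨hh.1, hε⟩
    refine ⟨(u : G) * v, mem_C.2 ?_, by rw [mul_smul, sw_swap v, u.2.2]⟩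
    show (u : G) * v * h = h * (u * v)
    calc (u : G) * v * h = u * ((v : G) * h * (v * v)) := by
          rw [Involution.mul_self v.2.1, mul_one]; group
      _ = u * ((v : G) * h * v) * v := by group
      _ = u * h⁻¹ * v := by rw [hvh]
      _ = u * ((u : G) * h * u) * v := by rw [huh]
      _ = ((u : G) * u) * h * (u * v) := by group
      _ = h * (u * v) := by rw [Involution.mul_self u.2.1, one_mul]
  have hstab : ∀ x ∈ C h, x • γ = γ := by
    intro x hx
    have hxα : h • (x • α) = x • α := by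
      rw [← mul_smul, ← (mem_C.1 hx).eq, mul_smul, hh.1]
    by_cases he : x • α = α
    · have : x ∈ St t α γ := hBN ▸ ⟨hx, (fix_base_iff t x).1 he⟩
      exact this.2
    · obtain ⟨w, hw, hwe⟩ := hcover _ hxα he
      exact absurd (by rw [mul_smul, hwe, inv_smul_smul]) (horb (x⁻¹ * w) (mul_mem (inv_mem hx) hw))
  by_cases he : δ = α
  · exact Or.inl he
  obtain ⟨w, hw, hwe⟩ := hcover δ hδ he
  exact Or.inr (by rw [← hwe, hstab w hw])

theorem one_lt_relIndex [IsSimpleGroup G] (hG : ¬ IsMulCommutative G) (hCT : CT G) {t : G} (ht : orderOf t = 2) :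
    1 < (C t).relIndex (Nz t) := by
  have ht1 := ne_one_of_two ht
  refine Nat.lt_of_le_of_ne (Nat.pos_of_ne_zero (Subgroup.index_ne_zero_of_finite (H := (C t).subgroupOf (Nz t))))
    fun hk => ?_
  have hNA : Nz t ≤ C t := Subgroup.relIndex_eq_one.1 hk.symm
  haveI : Fact (Nat.Prime 2) := ⟨Nat.prime_two⟩
  obtain ⟨P, hP⟩ := (IsPGroup.of_card (p := 2) (G := Subgroup.zpowers t) (n := 1)
    (by rw [Nat.card_zpowers, ht, pow_one])).exists_le_sylow
  have htP : t ∈ (P : Subgroup G) := hP (Subgroup.mem_zpowers t)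
  have htA : t ∈ C t := mem_C.2 (Commute.refl t)
  have hPA := sylow_le hCT ht1 htA ht1 P htP
  have hNP : Subgroup.normalizer ((P : Subgroup G) : Set G) ≤ Subgroup.centralizer ((P : Subgroup G) : Set G) := by
    intro g hg
    have hgA : g ∈ C t :=
      hNA (conj_mem_N hCT ht1 htA ht1 (hPA ((Subgroup.mem_normalizer_iff.1 hg t).1 htP)))
    exact Subgroup.mem_centralizer_iff.2 fun x hx => ct_comm hCT ht1 (hPA hx) hgA
  have hc := MonoidHom.ker_transferSylow_isComplement' P hNP
  rcases (MonoidHom.normal_ker (MonoidHom.transferSylow P hNP)).eq_bot_or_eq_top with e | e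
  · rw [e, Subgroup.isComplement'_bot_left] at hc
    exact hG ⟨⟨fun a b => ct_comm hCT ht1 (hPA (hc ▸ Subgroup.mem_top a)) (hPA (hc ▸ Subgroup.mem_top b))⟩⟩
  · rw [e, Subgroup.isComplement'_top_left] at hc
    rw [hc, Subgroup.mem_bot] at htP
    exact ht1 htP

/-- The action on the cosets of `N(A)` is that of a Zassenhaus group with kernel `A`. -/
theorem zassenhaus [IsSimpleGroup G] (hG : ¬ IsMulCommutative G) (hCT : CT G) {t : G} (ht : orderOf t = 2) :
    IsZassenhausGroup G (Pt t) ∧ ∃ b : Pt t, Zass.IsKernel (C t) (base t) b := by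
  classical
  have ht1 := ne_one_of_two ht
  haveI := Fintype.ofFinite (Pt t)
  set α := base t with hα
  set a := Nat.card (C t) with ha
  set k := (C t).relIndex (Nz t) with hk
  have hk1 : 1 < k := one_lt_relIndex hG hCT ht
  have hNtop : Nz t ≠ ⊤ := fun e => by
    rcases (Subgroup.normalizer_eq_top_iff.1 e).eq_bot_or_eq_top with e' | e'
    · exact ht1 (Subgroup.mem_bot.1 (e' ▸ mem_C.2 (Commute.refl t)))
    · exact hG ⟨⟨fun x y => ct_comm hCT ht1 (e' ▸ Subgroup.mem_top x) (e' ▸ Subgroup.mem_top y)⟩⟩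
  obtain ⟨g₀, hg₀⟩ : ∃ g : G, g ∉ Nz t := by
    by_contra h
    push Not at h
    exact hNtop (Subgroup.eq_top_iff' _ |>.2 h)
  set β := g₀ • α with hβ
  have hβα : β ≠ α := fun e => hg₀ ((fix_base_iff t g₀).1 e)
  -- count the stabilisers inside the point stabiliser
  have hcard : Nat.card {δ : Pt t // δ ≠ α} ≤ a := by
    let f : (Σ δ : {δ : Pt t // δ ≠ α}, {x : St t α δ.1 // (x : G) ≠ 1}) →
        {x : Nz t // x ∉ (C t).subgroupOf (Nz t)} := fun z =>
      ⟨⟨z.2.1, (fix_base_iff t _).1 z.2.1.2.1⟩, fun h => z.2.2 (by_contra fun h1 =>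
        z.1.2 (free_A hCT ht1 (Subgroup.mem_subgroupOf.1 h) h1 z.2.1.2.2))⟩
    have hf : Function.Injective f := by
      rintro ⟨⟨d, hd⟩, ⟨⟨x, hx⟩, hx1⟩⟩ ⟨⟨d', hd'⟩, ⟨⟨y, hy⟩, hy1⟩⟩ e
      have e' : x = y := congrArg (fun z => ((z : Nz t) : G)) (congrArg Subtype.val e :)
      subst e'
      obtain h | h := fix_two hG hCT ht hd hx hx1 hy.2
      · exact absurd h hd'
      · subst h; rfl
    have h := Nat.card_le_card_of_injective f hf
    rw [Nat.card_sigma, Finset.sum_const_nat (m := k - 1)] at h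
    · rw [Finset.card_univ, ← Nat.card_eq_fintype_card] at h
      haveI := Fintype.ofFinite (Nz t)
      rw [show Nat.card {x : Nz t // x ∉ (C t).subgroupOf (Nz t)} = a * k - a by
        rw [Nat.card_eq_fintype_card, Fintype.card_subtype_compl, ← Nat.card_eq_fintype_card,
          ← Nat.card_eq_fintype_card, card_N]
        congr 1
        exact Nat.card_congr (Subgroup.subgroupOfEquivOfLe Subgroup.le_normalizer).toEquiv] at h
      rw [← Nat.mul_sub_one] at h
      exact Nat.le_of_mul_le_mul_right h (by omega)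
    · intro δ _
      haveI := Fintype.ofFinite (St t α δ.1)
      rw [Nat.card_eq_fintype_card, Fintype.card_subtype_compl, ← Nat.card_eq_fintype_card,
        card_St hG hCT ht δ.2.symm]
      congr 1
      exact Fintype.card_eq_one_iff.2 ⟨⟨1, rfl⟩, fun y => Subtype.ext (Subtype.ext y.2)⟩
  have hAfix : ∀ u : C t, (u : G) • α = α := fun u => (fix_base_iff t _).2 (Subgroup.le_normalizer u.2)
  let F : C t → {δ : Pt t // δ ≠ α} := fun u => ⟨(u : G) • β, fun e =>
    hβα (MulAction.injective (u : G) (e.trans (hAfix u).symm))⟩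
  have hFinj : Function.Injective F := fun u u' e => by
    have e' : (u : G) • β = (u' : G) • β := congrArg Subtype.val e
    refine Subtype.ext (inv_mul_eq_one.1 (by_contra fun h1 => ?_)).symm
    exact hβα (free_A hCT ht1 (mul_mem (inv_mem u'.2) u.2) h1 (by rw [mul_smul, e', inv_smul_smul]))
  have hFbij : Function.Bijective F := (Nat.bijective_iff_injective_and_card F).2
    ⟨hFinj, le_antisymm (Nat.card_le_card_of_injective F hFinj) hcard⟩
  have hreg : ∀ y : Pt t, y ≠ α → ∃! u : C t, (u : G) • β = y := fun y hy => by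
    obtain ⟨u, hu⟩ := hFbij.2 ⟨y, hy⟩
    exact ⟨u, congrArg Subtype.val hu, fun u' hu' => hFinj ((Subtype.ext hu').trans hu.symm)⟩
  have h3 : ∀ g : G, ∀ p q r : Pt t, p ≠ q → q ≠ r → p ≠ r → g • p = p → g • q = q → g • r = r → g = 1 := by
    intro g p q r hpq hqr hpr hp hq hr
    obtain ⟨c, rfl⟩ := MulAction.exists_smul_eq G α p
    by_contra hg
    have hfix : ∀ z : Pt t, g • z = z → (c⁻¹ * g * c) • (c⁻¹ • z) = c⁻¹ • z := fun z hz => by
      rw [mul_smul, mul_smul, smul_inv_smul, hz]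
    have hq' : c⁻¹ • q ≠ α := fun e => hpq (by rw [← e, smul_inv_smul])
    have hα' : (c⁻¹ * g * c) • α = α := by rw [mul_smul, mul_smul, hp, inv_smul_smul]
    obtain h | h := fix_two hG hCT ht hq' ⟨hα', hfix q hq⟩
      (fun e => hg (by rw [show g = c * (c⁻¹ * g * c) * c⁻¹ by group, e]; group)) (hfix r hr)
    · exact hpr (inv_smul_eq_iff.1 h).symm
    · exact hqr (MulAction.injective c⁻¹ h).symm
  haveI htwo : MulAction.IsMultiplyPretransitive G (Pt t) 2 := by
    rw [MulAction.is_two_pretransitive_iff]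
    intro p q p' q' hpq hpq'
    obtain ⟨c, rfl⟩ := MulAction.exists_smul_eq G α p
    obtain ⟨c', rfl⟩ := MulAction.exists_smul_eq G α p'
    obtain ⟨u, hu, -⟩ := hreg (c⁻¹ • q) fun e => hpq (by rw [← e, smul_inv_smul])
    obtain ⟨u', hu', -⟩ := hreg (c'⁻¹ • q') fun e => hpq' (by rw [← e, smul_inv_smul])
    refine ⟨c' * u' * (u : G)⁻¹ * c⁻¹, ?_, ?_⟩
    · rw [mul_smul, inv_smul_smul, mul_smul, mul_smul, inv_smul_eq_iff.2 (hAfix u).symm, hAfix u']
    · rw [mul_smul, ← hu, mul_smul, inv_smul_smul, mul_smul, hu', smul_inv_smul]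
  obtain ⟨x, hx, hx1⟩ : ∃ x ∈ St t α β, x ≠ 1 := by
    refine ((St t α β).bot_or_exists_ne_one).resolve_left fun e => ?_
    have := card_St hG hCT ht hβα.symm
    rw [e, Subgroup.card_bot] at this
    omega
  refine ⟨⟨⟨fun {g g'} hgg => ?_⟩, htwo, h3, ⟨x, hx1, α, β, hβα.symm, hx.1, hx.2⟩, fun M hM htr => ⟨α, ?_⟩⟩,
    β, ⟨hβα.symm, fun u hu => hAfix ⟨u, hu⟩, fun g hg u hu =>
      (Subgroup.mem_normalizer_iff.1 ((fix_base_iff t g).1 hg) u).1 hu, hreg⟩⟩
  · obtain ⟨u, hu, hu1⟩ : ∃ u ∈ C t, u ≠ 1 := ⟨t, mem_C.2 (Commute.refl t), ht1⟩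
    have h : g'⁻¹ * g = 1 := h3 _ α β (u • β) hβα.symm
      (fun e => hβα (free_A hCT ht1 hu hu1 e.symm)) (fun e => hβα (MulAction.injective u
        ((hAfix ⟨u, hu⟩).trans e).symm))
      (by rw [mul_smul, hgg, inv_smul_smul]) (by rw [mul_smul, hgg, inv_smul_smul])
      (by rw [mul_smul, hgg, inv_smul_smul])
    exact (inv_mul_eq_one.1 h).symm
  · rcases hM.eq_bot_or_eq_top with e | e
    · exfalso
      obtain ⟨m, hm⟩ := htr.exists_smul_eq α β
      have hm1 : (m : G) = 1 := Subgroup.mem_bot.1 (e ▸ m.2)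
      exact hβα (by rw [← hm]; show (m : G) • α = α; rw [hm1, one_smul])
    · intro hbot
      have hxM : (⟨x, e ▸ Subgroup.mem_top x⟩ : M) ∈ stabilizer M α := hx.1
      have hxB : (⟨x, e ▸ Subgroup.mem_top x⟩ : M) ∈ (⊥ : Subgroup M) := hbot ▸ hxM
      exact hx1 (congrArg Subtype.val (Subgroup.mem_bot.1 hxB))

/-- The classification, with the order of a torus. -/
theorem main_torus [IsSimpleGroup G] (hG : ¬ IsMulCommutative G) (hCT : CT G) :
    ∃ (t : G) (f : ℕ), orderOf t = 2 ∧ 2 ≤ f ∧ (C t).relIndex (Nz t) = 2 ^ f - 1 ∧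
      Nonempty (G ≃* Matrix.ProjectiveSpecialLinearGroup (Fin 2) (GaloisField 2 f)) := by
  classical
  haveI : Fact (Nat.Prime 2) := ⟨Nat.prime_two⟩
  have h2 : 2 ∣ Nat.card G := by
    by_contra h
    have hodd : Odd (Nat.card G) := Nat.not_even_iff_odd.1 (fun e => h e.two_dvd)
    haveI := S0182.result hodd fun x hx a ha b hb => (ct_comm hCT hx ha hb).eq
    exact hG ⟨⟨fun a b => IsSimpleGroup.comm_iff_isSolvable.2 inferInstance a b⟩⟩
  obtain ⟨t, ht⟩ := exists_prime_orderOf_dvd_card' 2 h2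
  have ht1 := ne_one_of_two ht
  haveI := Fintype.ofFinite (Pt t)
  obtain ⟨hZ, β, hK⟩ := zassenhaus hG hCT ht
  have hab : IsMulCommutative (C t) := ⟨⟨fun x y => Subtype.ext (ct_comm hCT ht1 x.2 y.2)⟩⟩
  set a := Nat.card (C t) with ha
  set k := (C t).relIndex (Nz t) with hk
  have hk1 : 1 < k := one_lt_relIndex hG hCT ht
  have hstab : Nat.card ↥(stabilizer G (base t) ⊓ stabilizer G β) = k := card_St hG hCT ht hK.ne
  have hle := (Zass.abelian_kernel_struct hZ hK hab).1
  rw [hstab, ← ha] at hle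
  have hdvd := ZassFrob.card_twoPt_dvd hZ hK.ne
  have hn := hK.card_eq
  rw [hstab, ← hn, ← ha, show a + 1 - 2 = a - 1 by omega] at hdvd
  have heven : 2 ∣ a := even_card_C ht
  have hapos : 0 < a := Nat.card_pos
  have hak : a - 1 = k := by
    obtain ⟨j, hj⟩ := hdvd
    rw [hj, mul_comm] at hle
    have hj2 : j ≤ 2 := Nat.le_of_mul_le_mul_right hle (by omega)
    interval_cases j <;> omega
  have hodd : Odd (Fintype.card (Pt t)) := by
    rw [← Nat.card_eq_fintype_card, ← hn, ← ha]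
    obtain ⟨i, hi⟩ := heven
    exact ⟨i, by omega⟩
  have hS := S0340.sharp3_of_card hZ hK.ne (by rw [hstab, ← hn, ← ha]; omega)
  haveI := hZ.1
  obtain ⟨f, hf0, hcardΩ, -⟩ := Zass.pgl_of_sharp3_odd hS hodd
  rw [← Nat.card_eq_fintype_card, ← hn, ← ha] at hcardΩ
  have hq : a = 2 ^ f := by omega
  have hf : 2 ≤ f := by
    by_contra h
    rw [show f = 1 by omega] at hq
    omega
  haveI := Fintype.ofFinite (GaloisField 2 f)
  have hF : Fintype.card (GaloisField 2 f) = 2 ^ f := by
    rw [← Nat.card_eq_fintype_card, GaloisField.card 2 f (by omega)]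
  refine ⟨t, f, ht, hf, by omega, ?_⟩
  refine PSLTwo.iso_psl_of_two_elements (k := f) (q := a) (by omega) hq ?_ ?_ ?_ (hF.trans hq.symm)
  · rw [← Subgroup.card_mul_index (Nz t), card_N, show (Nz t).index = Nat.card (Pt t) from rfl, ← hn,
      ← ha, ← hk, hak]
    ring
  · intro v hv hvv
    have hvo : orderOf v = 2 := orderOf_eq_prime (by rw [pow_two, hvv]) hv
    obtain ⟨g, hg⟩ := isConj_iff.1 (one_class hG hCT ht hvo)
    refine dvd_of_eq (Nat.card_congr ?_)
    exact
      { toFun := fun x => ⟨g⁻¹ * x * g, (conj_mem_C g).1 (by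
          rw [hg, show g * (g⁻¹ * (x : G) * g) * g⁻¹ = x by group]; exact x.2)⟩
        invFun := fun x => ⟨g * x * g⁻¹, hg ▸ (conj_mem_C g).2 x.2⟩
        left_inv := fun x => Subtype.ext (by group)
        right_inv := fun x => Subtype.ext (by group) }
  · -- the 2-elements lie in conjugates of `A`
    obtain ⟨P, hP⟩ := (IsPGroup.of_card (p := 2) (G := Subgroup.zpowers t) (n := 1)
      (by rw [Nat.card_zpowers, ht, pow_one])).exists_le_sylow
    have htA : t ∈ C t := mem_C.2 (Commute.refl t)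
    have hPA := sylow_le hCT ht1 htA ht1 P (hP (Subgroup.mem_zpowers t))
    have hrep : ∀ γ : Pt t, ∃ g : G, g • base t = γ := fun γ => MulAction.exists_smul_eq G _ γ
    choose rep hrep using hrep
    haveI := Fintype.ofFinite (C t)
    have hcnt : Nat.card (Pt t × {x : C t // (x : G) ≠ 1}) = (a + 1) * (a - 1) := by
      rw [Nat.card_prod, ← hn, Nat.card_eq_fintype_card (α := {x : C t // (x : G) ≠ 1}),
        Fintype.card_subtype_compl, ← Nat.card_eq_fintype_card, ← ha]
      congr 2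
      exact Fintype.card_eq_one_iff.2 ⟨⟨1, rfl⟩, fun y => Subtype.ext (Subtype.ext y.2)⟩
    rw [← hcnt]
    refine Nat.card_le_card_of_surjective (fun z => ⟨rep z.1 * z.2.1 * (rep z.1)⁻¹,
      fun e => z.2.2 (conj_eq_one_iff.1 e), by
        have hpow := congrArg Subtype.val (pow_card_eq_one' (x := z.2.1))
        rw [Subgroup.coe_pow, Subgroup.coe_one, ← ha] at hpow
        rw [conj_pow, hpow, mul_one, mul_inv_cancel]⟩) ?_
    rintro ⟨g, hg1, hgq⟩
    rw [hq] at hgq
    have hgp : IsPGroup 2 (Subgroup.zpowers g) := by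
      obtain ⟨i, -, hi⟩ := (Nat.dvd_prime_pow Nat.prime_two).1 (orderOf_dvd_of_pow_eq_one hgq)
      exact IsPGroup.of_card (n := i) (by rw [Nat.card_zpowers, hi])
    obtain ⟨Q, hQ⟩ := hgp.exists_le_sylow
    obtain ⟨c, hc⟩ := MulAction.exists_smul_eq G P Q
    have hgc : c⁻¹ * g * c ∈ C t := by
      apply hPA
      have := hQ (Subgroup.mem_zpowers g)
      rw [← hc, Sylow.coe_subgroup_smul, Subgroup.mem_pointwise_smul_iff_inv_smul_mem] at this
      simpa [MulAut.conj_apply, mul_assoc] using this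
    set r := rep (c • base t) with hr
    have hrc : r⁻¹ * c ∈ Nz t := by
      rw [← fix_base_iff, mul_smul, inv_smul_eq_iff, hr, hrep]
    have hrA : r⁻¹ * g * r ∈ C t := by
      have := (Subgroup.mem_normalizer_iff.1 hrc (c⁻¹ * g * c)).1 hgc
      rwa [show r⁻¹ * c * (c⁻¹ * g * c) * (r⁻¹ * c)⁻¹ = r⁻¹ * g * r by group] at this
    refine ⟨(c • base t, ⟨⟨r⁻¹ * g * r, hrA⟩, fun e => hg1 ?_⟩), Subtype.ext ?_⟩
    · calc g = r * (r⁻¹ * g * r) * r⁻¹ := by group
        _ = 1 := by rw [show r⁻¹ * g * r = 1 from e, mul_one, mul_inv_cancel]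
    · show r * (r⁻¹ * g * r) * r⁻¹ = g
      group

/-- The classification. -/
theorem main [IsSimpleGroup G] (hG : ¬ IsMulCommutative G) (hCT : CT G) :
    ∃ (F : Type) (_ : Field F) (_ : Fintype F) (f : ℕ), 2 ≤ f ∧ Fintype.card F = 2 ^ f ∧
      Nonempty (G ≃* Matrix.ProjectiveSpecialLinearGroup (Fin 2) F) := by
  obtain ⟨_, f, -, hf, -, he⟩ := main_torus hG hCT
  haveI : Fact (Nat.Prime 2) := ⟨Nat.prime_two⟩
  haveI := Fintype.ofFinite (GaloisField 2 f)
  exact ⟨GaloisField 2 f, inferInstance, inferInstance, f, hf,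
    by rw [← Nat.card_eq_fintype_card, GaloisField.card 2 f (by omega)], he⟩

end Cfsg.Agent.Lib.LocalChar.CTSimple
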