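import Mathlib
import Cfsg.Agent.Lib.LocalChar.Basic
import Cfsg.Agent.Lib.PGroupFrattini

/-! Transfer of a central involution of a Sylow 2-subgroup. -/

set_option autoImplicit false

open scoped commutatorElement Pointwise

namespace Cfsg.Agent.Lib.LocalChar

variable {G : Type*} [Group G] [Finite G]

theorem transfer_central_involution_ne_one {A : Type*} [CommGroup A] (hA : Nat.card A = 2)
    (S : Sylow 2 G) (φ : (S : Subgroup G) →* A) {z : G} (hz : z ∈ (S : Subgroup G))
    (hz2 : z * z = 1) (hzS : ∀ s ∈ (S : Subgroup G), z * s = s * z)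
    (hzN : ∀ n ∈ Subgroup.normalizer ((S : Subgroup G) : Set G), n * z * n⁻¹ = z)
    (hφ : φ ⟨z, hz⟩ ≠ 1) : MonoidHom.transfer φ z ≠ 1 := by
  classical
  haveI : Finite A := Nat.finite_of_card_ne_zero (by omega)
  have := Fintype.ofFinite (G ⧸ (S : Subgroup G))
  let T : (S : Subgroup G).LeftTransversal := default
  set α := T.2.leftQuotientEquiv
  have hα : ∀ q : G ⧸ (S : Subgroup G), ((α q : G) : G ⧸ (S : Subgroup G)) = q := fun q => α.symm_apply_apply q
  have hzinv : z⁻¹ = z := inv_eq_of_mul_eq_one_left hz2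
  have hmem : ∀ q : G ⧸ (S : Subgroup G), (α q : G)⁻¹ * z * (α (z • q) : G) ∈ (S : Subgroup G) := by
    intro q
    have h1 : (((α (z • q) : G)) : G ⧸ (S : Subgroup G)) = ((z * (α q : G) : G) : G ⧸ (S : Subgroup G)) := by
      rw [hα, ← smul_eq_mul, ← MulAction.Quotient.smul_coe, hα] <;> rfl
    have := (S : Subgroup G).inv_mem (QuotientGroup.eq.1 h1)
    have e : ((α (z • q) : G)⁻¹ * (z * (α q : G)))⁻¹ = (α q : G)⁻¹ * z * (α (z • q) : G) := by
      simp [hzinv, mul_assoc]
    rwa [e] at this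
  let f : G ⧸ (S : Subgroup G) → A := fun q => φ ⟨_, hmem q⟩
  have htr : MonoidHom.transfer φ z = ∏ q, f q := by
    rw [MonoidHom.transfer_def φ T]
    simp only [Subgroup.leftTransversals.diff]
    refine Finset.prod_congr (by ext; simp) fun q _ => congrArg φ (Subtype.ext ?_)
    show (α q : G)⁻¹ * ((z • T).2.leftQuotientEquiv q : G) = (α q : G)⁻¹ * z * (α (z • q) : G)
    rw [Subgroup.smul_apply_eq_smul_apply_inv_smul, hzinv, smul_eq_mul, mul_assoc]
  have hpair : ∀ q, f q * f (z • q) = 1 := by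
    intro q
    have hzz : z • z • q = q := by rw [← mul_smul, hz2, one_smul]
    show φ _ * φ _ = 1
    rw [← map_mul, ← map_one φ]
    refine congrArg φ (Subtype.ext ?_)
    show (α q : G)⁻¹ * z * (α (z • q) : G) * ((α (z • q) : G)⁻¹ * z * (α (z • z • q) : G)) = 1
    rw [hzz]
    calc _ = (α q : G)⁻¹ * (z * z) * (α q : G) := by group
      _ = 1 := by rw [hz2]; group
  have hmove : ∏ q ∈ Finset.univ.filter (fun q => ¬ z • q = q), f q = 1 :=
    Finset.prod_involution (fun q _ => z • q) (fun q _ => hpair q)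
      (fun q hq _ => (Finset.mem_filter.1 hq).2)
      (fun q hq => Finset.mem_filter.2 ⟨Finset.mem_univ _, fun h => (Finset.mem_filter.1 hq).2 (by
        rw [← mul_smul, hz2, one_smul] at h; exact h.symm)⟩)
      (fun q _ => by rw [← mul_smul, hz2, one_smul])
  set c := φ ⟨z, hz⟩
  have hc2 : ∀ a : A, a ≠ 1 → a = c := by
    intro a ha
    by_contra hne
    have : ({1, a, c} : Finset A).card ≤ 2 := by
      have := Fintype.ofFinite A
      rw [← hA, Nat.card_eq_fintype_card]
      exact Finset.card_le_univ _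
    rw [Finset.card_eq_three.2 ⟨1, a, c, Ne.symm ha, Ne.symm hφ, hne, rfl⟩] at this
    omega
  -- the fixed cosets contributing `c`
  set D := Finset.univ.filter (fun q : G ⧸ (S : Subgroup G) => z • q = q ∧ f q ≠ 1) with hD
  have hfix : ∏ q ∈ Finset.univ.filter (fun q => z • q = q), f q = c ^ D.card := by
    rw [← Finset.prod_filter_ne_one, Finset.filter_filter, ← hD]
    exact Finset.prod_eq_pow_card fun q hq => hc2 _ (Finset.mem_filter.1 hq).2.2
  -- invariance under `S`
  have hinv : ∀ s : (S : Subgroup G), ∀ q ∈ D, s • q ∈ D := by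
    intro s q hq
    obtain ⟨-, hzq, hfq⟩ := Finset.mem_filter.1 hq
    have hzsq : z • (s • q) = s • q := by
      show z • ((s : G) • q) = (s : G) • q
      rw [← mul_smul, hzS _ s.2, mul_smul, hzq]
    refine Finset.mem_filter.2 ⟨Finset.mem_univ _, hzsq, ?_⟩
    have h1 : (((α (s • q) : G)) : G ⧸ (S : Subgroup G)) = (((s : G) * (α q : G) : G) : G ⧸ (S : Subgroup G)) := by
      rw [hα, ← smul_eq_mul, ← MulAction.Quotient.smul_coe, hα] <;> rfl
    set h : (S : Subgroup G) := ⟨_, QuotientGroup.eq.1 h1⟩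
    have key : f (s • q) = φ h * f q * (φ h)⁻¹ := by
      rw [← map_inv, ← map_mul, ← map_mul]
      refine congrArg φ (Subtype.ext ?_)
      show (α (s • q) : G)⁻¹ * z * (α (z • s • q) : G) =
        (α (s • q) : G)⁻¹ * ((s : G) * (α q : G)) * ((α q : G)⁻¹ * z * (α (z • q) : G)) *
          ((α (s • q) : G)⁻¹ * ((s : G) * (α q : G)))⁻¹
      rw [hzsq, hzq]
      calc (α (s • q) : G)⁻¹ * z * (α (s • q) : G)
          = (α (s • q) : G)⁻¹ * (z * (s : G) * (s : G)⁻¹) * (α (s • q) : G) := by group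
        _ = (α (s • q) : G)⁻¹ * ((s : G) * z * (s : G)⁻¹) * (α (s • q) : G) := by rw [hzS _ s.2]
        _ = _ := by group
    rw [key, mul_comm (φ h), mul_inv_cancel_right]
    exact hfq
  let W : SubMulAction (S : Subgroup G) (G ⧸ (S : Subgroup G)) :=
    { carrier := (D : Set (G ⧸ (S : Subgroup G))), smul_mem' := fun s {q} hq => hinv s q hq }
  have hfixD : ∀ q : G ⧸ (S : Subgroup G), q ∈ MulAction.fixedPoints (S : Subgroup G) (G ⧸ (S : Subgroup G)) → q ∈ D := by
    intro q hq
    have hzq : z • q = q := hq ⟨z, hz⟩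
    refine Finset.mem_filter.2 ⟨Finset.mem_univ _, hzq, ?_⟩
    have hn : (α q : G) ∈ Subgroup.normalizer ((S : Subgroup G) : Set G) :=
      Sylow.mem_fixedPoints_mul_left_cosets_iff_mem_normalizer.1 (by rw [hα]; exact hq)
    have : f q = c := by
      refine congrArg φ (Subtype.ext ?_)
      show (α q : G)⁻¹ * z * (α (z • q) : G) = z
      rw [hzq]
      have := hzN _ (Subgroup.inv_mem _ hn)
      rwa [inv_inv] at this
    rw [this]; exact hφ
  have hcount : D.card % 2 = 1 := by
    have h1 := S.isPGroup'.card_modEq_card_fixedPoints (G ⧸ (S : Subgroup G))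
    have h2 := S.isPGroup'.card_modEq_card_fixedPoints W
    have h3 : Nat.card (MulAction.fixedPoints (S : Subgroup G) W) = Nat.card (MulAction.fixedPoints (S : Subgroup G) (G ⧸ (S : Subgroup G))) :=
      Nat.card_congr
        { toFun := fun q => ⟨q.1.1, fun s => congrArg Subtype.val (q.2 s)⟩
          invFun := fun q => ⟨⟨q.1, hfixD q.1 q.2⟩, fun s => Subtype.ext (q.2 s)⟩
          left_inv := fun q => rfl
          right_inv := fun q => rfl }
    have h4 : Nat.card W = D.card := Nat.card_eq_finsetCard D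
    rw [h4, h3] at h2
    have h5 : ¬ 2 ∣ Nat.card (G ⧸ (S : Subgroup G)) := S.not_dvd_index
    have : D.card % 2 = Nat.card (G ⧸ (S : Subgroup G)) % 2 := h2.trans h1.symm
    omega
  have hc1 : c ^ 2 = 1 := hA ▸ pow_card_eq_one'
  rw [htr, ← Finset.prod_filter_mul_prod_filter_not Finset.univ (fun q => z • q = q), hmove, mul_one,
    hfix, ← Nat.div_add_mod D.card 2, hcount, pow_add, pow_mul, hc1, one_pow, one_mul, pow_one]
  exact hφ

end Cfsg.Agent.Lib.LocalChar
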