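import Cfsg.Agent.Lib.LocalChar.SPE
import Cfsg.Agent.Lib.LocalChar.Norm
import Cfsg.Agent.Lib.LocalChar.PReduced
import Cfsg.Agent.Lib.Char2.Local

/-! Characteristic `p` of local subgroups via centralizers of elements. -/

set_option autoImplicit false
set_option linter.unusedSectionVars false

open scoped commutatorElement Pointwise

namespace Cfsg.Agent.Lib.LocalChar

variable {G : Type*} [Group G] [Finite G] {p : ℕ} [hp : Fact p.Prime]

open Cfsg.Agent.Lib in
theorem gfs_centralizer_iff {z : G} :
    (Cfsg.generalizedFittingSubgroup ↥(Subgroup.centralizer ({z} : Set G)) =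
      Cfsg.pCore p ↥(Subgroup.centralizer ({z} : Set G))) ↔
      Char2.CharP p ↥(Subgroup.centralizer ({z} : Set G)) :=
  Components.gfs_eq_pCore_iff.trans Char2.charP_iff.symm

theorem centralizer_zpowers (z : G) :
    Subgroup.centralizer (Subgroup.zpowers z : Set G) = Subgroup.centralizer ({z} : Set G) := by
  rw [Subgroup.zpowers_eq_closure, Subgroup.centralizer_closure]

/-- Characteristic `p` of `C(z)` passes to `N(X)` for `z` central in the `p`-group `X`. -/
theorem charP_normalizer_of_central {X : Subgroup G} (hX : IsPGroup p X) {z : G} (hz : z ∈ X)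
    (h : Cfsg.Agent.Lib.Char2.CharP p ↥(Subgroup.centralizer ({z} : Set G))) :
    Cfsg.Agent.Lib.Char2.CharP p ↥(Subgroup.normalizer (X : Set G)) := by
  have hle : Subgroup.zpowers z ≤ X := Subgroup.zpowers_le.2 hz
  refine Cfsg.Agent.Lib.Char2.charP_normalizer_of_le hX hle
    (Cfsg.Agent.Lib.Char2.charP_normalizer_of_centralizer (hX.to_le hle) Subgroup.le_normalizer le_rfl
      (Subgroup.centralizer_le_normalizer _) ?_)
  rw [centralizer_zpowers]; exact h

theorem charP_centralizer_conj {z : G} (g : G)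
    (h : Cfsg.Agent.Lib.Char2.CharP p ↥(Subgroup.centralizer ({z} : Set G))) :
    Cfsg.Agent.Lib.Char2.CharP p ↥(Subgroup.centralizer ({g * z * g⁻¹} : Set G)) := by
  have e : cj g (Subgroup.centralizer ({z} : Set G)) = Subgroup.centralizer ({g * z * g⁻¹} : Set G) := by
    ext y
    rw [mem_cj, Subgroup.mem_centralizer_singleton_iff, Subgroup.mem_centralizer_singleton_iff]
    constructor
    · intro h1
      calc y * (g * z * g⁻¹) = g * ((g⁻¹ * y * g) * z) * g⁻¹ := by group
        _ = g * (z * (g⁻¹ * y * g)) * g⁻¹ := by rw [h1]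
        _ = _ := by group
    · intro h1
      calc g⁻¹ * y * g * z = g⁻¹ * (y * (g * z * g⁻¹)) * g := by group
        _ = g⁻¹ * (g * z * g⁻¹ * y) * g := by rw [h1]
        _ = _ := by group
  rw [← e]
  exact Cfsg.Agent.Lib.Char2.charP_of_equiv
    (Subgroup.equivMapOfInjective _ _ (MulAut.conj g).injective) h

/-- An element of order `p` in the centre of a nontrivial `p`-subgroup `R` commuting with `T`. -/
theorem exists_orderP_fixed {R T : Subgroup G} (hR : IsPGroup p R) (hT : IsPGroup p T)
    (hTR : T ≤ Subgroup.normalizer (R : Set G)) (hne : R ≠ ⊥) :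
    ∃ z ∈ R, orderOf z = p ∧ z ∈ Subgroup.centralizer (T : Set G) := by
  obtain ⟨u, hu, hu1, hc⟩ := exists_fixed hR hT hTR hne
  obtain ⟨z, hz, hzo⟩ := exists_orderOf_eq_of_ne_bot (hR.to_le (Subgroup.zpowers_le.2 hu))
    (fun e => hu1 (Subgroup.zpowers_eq_bot.1 e))
  refine ⟨z, Subgroup.zpowers_le.2 hu hz, hzo, ?_⟩
  obtain ⟨i, rfl⟩ := Subgroup.mem_zpowers_iff.1 hz
  exact Subgroup.mem_centralizer_iff.2 fun t ht => ((hc t ht).zpow_right i).eq

/-- Parabolic characteristic via centralizers of central elements of order `p`. -/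
theorem parabolicCharP_iff (S : Sylow p G) :
    Cfsg.IsOfParabolicCharacteristic p G ↔ ∀ z : G, z ≠ 1 → z ∈ (S : Subgroup G) →
      z ∈ Subgroup.centralizer ((S : Subgroup G) : Set G) → z ^ p = 1 →
      Cfsg.Agent.Lib.Char2.CharP p ↥(Subgroup.centralizer ({z} : Set G)) := by
  constructor
  · intro h z hz1 hzS hzc hzp
    obtain ⟨hp', hne⟩ := isPGroup_zpowers_of_orderOf (orderOf_eq_prime hzp hz1)
    have hSN : (S : Subgroup G) ≤ Subgroup.normalizer (Subgroup.zpowers z : Set G) := by
      refine le_trans ?_ (Subgroup.centralizer_le_normalizer _)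
      rw [centralizer_zpowers]
      exact fun s hs => Subgroup.mem_centralizer_singleton_iff.2 (Subgroup.mem_centralizer_iff.1 hzc s hs)
    have h1 := Cfsg.Agent.Lib.Char2.charP_iff.2 (h _ hp' hne ⟨S, hSN⟩)
    set N := Subgroup.normalizer (Subgroup.zpowers z : Set G)
    have hle : Subgroup.centralizer ({z} : Set G) ≤ N :=
      centralizer_zpowers z ▸ Subgroup.centralizer_le_normalizer _
    have hn : N ≤ Subgroup.normalizer (Subgroup.centralizer ({z} : Set G) : Set G) := by
      rw [← centralizer_zpowers]; exact le_nz_centralizer le_rfl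
    exact Cfsg.Agent.Lib.Char2.charP_of_equiv (Subgroup.subgroupOfEquivOfLe hle)
      (Cfsg.Agent.Lib.Char2.charP_subnormal h1 (normal_subgroupOf hn).isSubnormal)
  · intro h R hR hne ⟨T, hT⟩
    obtain ⟨z, hzR, hzo, hzT⟩ := exists_orderP_fixed hR T.isPGroup' hT hne
    have hRT : R ≤ (T : Subgroup G) :=
      le_sup_left.trans (T.is_maximal' (hR.to_sup_of_normal_left' T.isPGroup' hT) le_sup_right).le
    obtain ⟨g, rfl⟩ := MulAction.exists_smul_eq G S T
    have hT' : ((g • S : Sylow p G) : Subgroup G) = cj g (S : Subgroup G) := rfl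
    rw [hT'] at hRT hzT
    set w := g⁻¹ * z * g
    have hwo : orderOf w = p := by
      have := orderOf_conj' g⁻¹ z
      rw [inv_inv] at this
      exact this.trans hzo
    have hwc : w ∈ Subgroup.centralizer ((S : Subgroup G) : Set G) := Subgroup.mem_centralizer_iff.2 fun s hs => by
      have h1 := Subgroup.mem_centralizer_iff.1 hzT _ (conj_mem_cj hs)
      calc s * w = g⁻¹ * (g * s * g⁻¹ * z) * g := by simp only [w]; group
        _ = g⁻¹ * (z * (g * s * g⁻¹)) * g := by rw [h1]
        _ = _ := by simp only [w]; group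
    have h2 := charP_centralizer_conj g (h w (fun e => by
      rw [e, orderOf_one] at hwo; exact hp.out.one_lt.ne hwo) (mem_cj.1 (hRT hzR)) hwc
      (orderOf_dvd_iff_pow_eq_one.1 hwo.dvd))
    rw [show g * w * g⁻¹ = z by simp only [w]; group] at h2
    exact Cfsg.Agent.Lib.Char2.charP_iff.1 (charP_normalizer_of_central hR hzR h2)

end Cfsg.Agent.Lib.LocalChar
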