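import Mathlib
import Cfsg.Prelude.Def_LocalEven

/-! Homomorphisms out of dihedral groups and dihedral sections. -/

set_option autoImplicit false

namespace Cfsg.Agent.Lib.LocalChar.Dihedral

open DihedralGroup

variable {Q : Type*} [Group Q] {n : ℕ}

/-- The rotation part. -/
noncomputable def rot (a : Q) (ha : a ^ n = 1) : ZMod n →+ Additive Q :=
  ZMod.lift n ⟨zmultiplesHom (Additive Q) (Additive.ofMul a), by
    show ((n : ℤ) • Additive.ofMul a) = 0
    rw [natCast_zsmul, ← ofMul_pow, ha, ofMul_one]⟩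

theorem rot_cast (a : Q) (ha : a ^ n = 1) (k : ℤ) : Additive.toMul (rot a ha (k : ZMod n)) = a ^ k := by
  rw [rot, ZMod.lift_coe]
  rfl

theorem conj_rot (a b : Q) (ha : a ^ n = 1) (hab : b * a * b⁻¹ = a⁻¹) (i : ZMod n) :
    b * Additive.toMul (rot a ha i) * b⁻¹ = Additive.toMul (rot a ha (-i)) := by
  obtain ⟨k, rfl⟩ := ZMod.intCast_surjective i
  rw [← Int.cast_neg, rot_cast, rot_cast, ← conj_zpow, hab, inv_zpow, zpow_neg]

/-- The homomorphism given by a rotation and a reflection. -/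
noncomputable def lift (a b : Q) (ha : a ^ n = 1) (hb : b ^ 2 = 1) (hab : b * a * b⁻¹ = a⁻¹) :
    DihedralGroup n →* Q where
  toFun
    | r i => Additive.toMul (rot a ha i)
    | sr i => b * Additive.toMul (rot a ha i)
  map_one' := by
    show Additive.toMul (rot a ha 0) = 1
    rw [map_zero, toMul_zero]
  map_mul' x y := by
    have hA : ∀ i j, Additive.toMul (rot a ha (i + j)) =
        Additive.toMul (rot a ha i) * Additive.toMul (rot a ha j) := fun i j => by rw [map_add, toMul_add]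
    have hb' : b⁻¹ = b := inv_eq_of_mul_eq_one_right (by rwa [pow_two] at hb)
    have hcomm : ∀ i, Additive.toMul (rot a ha i) * b = b * Additive.toMul (rot a ha (-i)) := fun i => by
      have := conj_rot a b ha hab (-i)
      rw [neg_neg] at this
      rw [← this, inv_mul_cancel_right]
    rcases x with i | i <;> rcases y with j | j
    · exact hA i j
    · show b * Additive.toMul (rot a ha (j - i)) = _
      rw [← mul_assoc, hcomm, mul_assoc, ← hA, neg_add_eq_sub]
    · show b * Additive.toMul (rot a ha (i + j)) = _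
      rw [hA, mul_assoc]
    · show Additive.toMul (rot a ha (j - i)) = _
      rw [mul_assoc, ← mul_assoc _ b, hcomm, ← mul_assoc, ← mul_assoc]
      nth_rewrite 1 [← hb']
      rw [inv_mul_cancel, one_mul, ← hA, neg_add_eq_sub]

theorem lift_r (a b : Q) (ha : a ^ n = 1) (hb : b ^ 2 = 1) (hab : b * a * b⁻¹ = a⁻¹) (k : ℤ) :
    lift a b ha hb hab (r (k : ZMod n)) = a ^ k := rot_cast a ha k

theorem lift_sr (a b : Q) (ha : a ^ n = 1) (hb : b ^ 2 = 1) (hab : b * a * b⁻¹ = a⁻¹) (k : ℤ) :
    lift a b ha hb hab (sr (k : ZMod n)) = b * a ^ k := congrArg (b * ·) (rot_cast a ha k)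

/-- A group generated by an element `a` of prime order `p` and an involution inverting it, outside `⟨a⟩`. -/
theorem lift_bijective {p : ℕ} [Fact p.Prime] (a b : Q) (ha : a ^ p = 1) (hb : b ^ 2 = 1)
    (hab : b * a * b⁻¹ = a⁻¹) (ha1 : a ≠ 1) (hba : b ∉ Subgroup.zpowers a)
    (hgen : Subgroup.zpowers a ⊔ Subgroup.zpowers b = ⊤) : Function.Bijective (lift a b ha hb hab) := by
  constructor
  · rw [← MonoidHom.ker_eq_bot_iff, eq_bot_iff]
    rintro (i | i) hx <;> obtain ⟨k, rfl⟩ := ZMod.intCast_surjective i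
    · rw [MonoidHom.mem_ker, lift_r] at hx
      have h1 : (p : ℤ) ∣ k := by
        rw [← orderOf_eq_prime ha ha1]
        exact orderOf_dvd_iff_zpow_eq_one.2 hx
      rw [(ZMod.intCast_zmod_eq_zero_iff_dvd k p).2 h1]
      rfl
    · rw [MonoidHom.mem_ker, lift_sr] at hx
      exact absurd ⟨-k, by simp [eq_inv_of_mul_eq_one_left hx]⟩ hba
  · rw [← MonoidHom.range_eq_top, eq_top_iff, ← hgen]
    refine sup_le (Subgroup.zpowers_le.2 ⟨r ((1 : ℤ) : ZMod p), ?_⟩)
      (Subgroup.zpowers_le.2 ⟨sr ((0 : ℤ) : ZMod p), ?_⟩)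
    · rw [lift_r, zpow_one]
    · rw [lift_sr, zpow_zero, mul_one]

end Cfsg.Agent.Lib.LocalChar.Dihedral
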