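import Cfsg.Agent.Lib.LocalChar.NaturalSLTwo
import Cfsg.Prelude.Def_BaumannBlocks
import Cfsg.Prelude.Def_Transfer
import Mathlib.FieldTheory.Finite.Basic
import Mathlib.Algebra.CharP.Two
import Mathlib.GroupTheory.QuotientGroup.Basic
import Mathlib.Tactic.Module

/-!
Higman: modules and `2`-groups for `SL(2, 2ⁿ)` on which an element of order three is fixed point free.
-/

set_option autoImplicit false

namespace Cfsg.Agent.Lib.LocalChar.FpfSLTwo

open Matrix Cfsg.Agent.Lib.PStab Cfsg.Agent.Lib.LocalChar.NaturalSLTwo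
open scoped MatrixGroups commutatorElement IsMulCommutative

universe u v

section Matrices

variable {F : Type v} [Field F] [CharP F 2]

theorem wt_eq' (t : Fˣ) : wt t = ux (t : F) * uy ((t⁻¹ : Fˣ) : F) * ux (t : F) := by
  rw [wt_eq, CharTwo.neg_eq]

theorem wt_sq : wt (1 : Fˣ) * wt 1 = 1 := by
  refine sl_ext ?_ ?_ ?_ ?_ <;> simp [wt, coe_slMk, mul_apply_two, CharTwo.neg_eq]

theorem wt_ht (t : Fˣ) : wt t = wt 1 * ht t := by rw [ht, mul_inv_cancel_left]

theorem wt_uy (t : Fˣ) (a : F) : wt t * uy a = ux ((t : F) ^ 2 * a) * wt t := by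
  rw [wt_conj_uy, CharTwo.neg_eq]

theorem wt_ux (t : Fˣ) (a : F) : wt t * ux a = uy (((t⁻¹ : Fˣ) : F) ^ 2 * a) * wt t := by
  rw [wt_conj_ux, CharTwo.neg_eq]

theorem wt_one_uy (a : F) : wt 1 * uy a = ux a * wt 1 := by
  rw [wt_uy, Units.val_one, one_pow, one_mul]

theorem wt_one_ux (a : F) : wt 1 * ux a = uy a * wt 1 := by
  rw [wt_ux, inv_one, Units.val_one, one_pow, one_mul]

theorem ht_uy (t : Fˣ) (a : F) : ht t * uy a = uy ((t : F) ^ 2 * a) * ht t := by
  rw [ht, mul_assoc, wt_uy, ← mul_assoc, ← mul_assoc, inv_eq_of_mul_eq_one_right wt_sq, wt_one_ux]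

theorem uy_sq (a : F) : uy a * uy a = 1 := by rw [uy_mul, CharTwo.add_self_eq_zero, uy_zero]

theorem cube (c : Fˣ) : (ux (c : F) * uy ((c⁻¹ : Fˣ) : F)) *
    ((ux (c : F) * uy ((c⁻¹ : Fˣ) : F)) * (ux (c : F) * uy ((c⁻¹ : Fˣ) : F))) = 1 := by
  have h2 : (2 : F) = 0 := CharTwo.two_eq_zero
  refine sl_ext ?_ ?_ ?_ ?_ <;> simp [coe_ux, coe_uy, mul_apply_two] <;> field_simp <;> grind

/-- All elements of order three are conjugate. -/
theorem exists_conj [Finite F] {g : SL(2, F)} (h3 : g ^ 3 = 1) (h1 : g ≠ 1) (c : Fˣ) :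
    ∃ h : SL(2, F), h * g * h⁻¹ = ux (c : F) * uy ((c⁻¹ : Fˣ) : F) := by
  classical
  haveI := Fintype.ofFinite F
  have h2 : (2 : F) = 0 := CharTwo.two_eq_zero
  have hd := det_eq g
  have hcube : g * g * g = 1 := by rw [← h3, pow_three, mul_assoc]
  have e : ∀ i j, ((g * g * g : SL(2, F)) : Matrix (Fin 2) (Fin 2) F) i j =
      ((1 : SL(2, F)) : Matrix (Fin 2) (Fin 2) F) i j := fun i j => by rw [hcube]
  have e00 := e 0 0
  have e01 := e 0 1
  have e10 := e 1 0
  have e11 := e 1 1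
  simp [mul_apply_two] at e00 e01 e10 e11
  set p := (g : Matrix (Fin 2) (Fin 2) F) 0 0 with hp
  set q := (g : Matrix (Fin 2) (Fin 2) F) 0 1 with hq
  set r := (g : Matrix (Fin 2) (Fin 2) F) 1 0 with hr
  set s := (g : Matrix (Fin 2) (Fin 2) F) 1 1 with hs
  have hts : p + s = 1 := by
    by_contra hne
    have ht : (p + s) ^ 2 - 1 ≠ 0 := fun h => by
      have : (p + s - 1) ^ 2 = 0 := by linear_combination h - (p + s - 1) * h2
      exact hne (sub_eq_zero.1 (pow_eq_zero_iff two_ne_zero |>.1 this))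
    have hq0 : q = 0 := mul_left_cancel₀ ht (by linear_combination e01 + q * hd)
    have hr0 : r = 0 := mul_left_cancel₀ ht (by linear_combination e10 + r * hd)
    have hps : p = s := sub_eq_zero.1 (mul_left_cancel₀ ht (by linear_combination e00 - e11 + (p - s) * hd))
    have hp1 : p = 1 := by
      have : (p - 1) ^ 2 = 0 := by linear_combination hd + r * hq0 + p * hps - (p - 1) * h2
      exact sub_eq_zero.1 (pow_eq_zero_iff two_ne_zero |>.1 this)
    exact h1 (sl_ext (by simpa [← hp] using hp1) (by simpa [← hq] using hq0) (by simpa [← hr] using hr0)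
      (by simp [← hs, ← hps, hp1]))
  obtain ⟨u, w, huw⟩ : ∃ u w : F, (c : F) * (r * u ^ 2 + u * w + q * w ^ 2) = 1 := by
    have hc := c.ne_zero
    have sqr : ∀ a : F, ∃ b, a = b * b := fun a => FiniteField.isSquare_of_char_two (ringChar.eq F 2) a
    by_cases hr0 : r = 0
    · by_cases hq0 : q = 0
      · exact ⟨1, (c : F)⁻¹, by rw [hr0, hq0]; field_simp; ring⟩
      · obtain ⟨b, hb⟩ := sqr (((c : F) * q)⁻¹)
        exact ⟨0, b, by rw [sq b, ← hb]; field_simp; ring⟩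
    · obtain ⟨b, hb⟩ := sqr (((c : F) * r)⁻¹)
      exact ⟨b, 0, by rw [sq b, ← hb]; field_simp; ring⟩
  have hs' : s = 1 + p := by linear_combination hts - p * h2
  obtain ⟨P, hP⟩ : ∃ P : SL(2, F), g * P = P * (ux (c : F) * uy ((c⁻¹ : Fˣ) : F)) := by
    refine ⟨slMk u ((c : F) * (p * u + q * w)) w ((c : F) * (r * u + s * w)) ?_, ?_⟩
    · linear_combination huw + (c : F) * u * w * hts - (c : F) * u * w * p * h2 - (c : F) * w ^ 2 * q * h2
    · refine sl_ext ?_ ?_ ?_ ?_ <;>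
        simp [coe_slMk, coe_ux, coe_uy, mul_apply_two, ← hp, ← hq, ← hr, ← hs] <;> field_simp <;> grind
  exact ⟨P⁻¹, by rw [inv_inv, mul_assoc, hP, inv_mul_cancel_left]⟩

end Matrices

section Modules

variable {F : Type v} [Field F] {M : Type u} [AddCommGroup M]

/-- The standard elements of order three act without nonzero fixed vectors. -/
def Fpf (r : SL(2, F) →* AddMonoid.End M) : Prop :=
  ∀ (c : Fˣ) (v : M), r (ux (c : F) * uy ((c⁻¹ : Fˣ) : F)) v = v → v = 0

variable {r : SL(2, F) →* AddMonoid.End M}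

theorem act (x y : SL(2, F)) (v : M) : r (x * y) v = r x (r y v) := by rw [map_mul]; rfl

theorem act_one (v : M) : r 1 v = v := by rw [map_one]; rfl

/-- Fixed vectors of the lower root group of order at most two. -/
def low (r : SL(2, F) →* AddMonoid.End M) : AddSubgroup M where
  carrier := {v | (∀ a, r (uy a) v = v) ∧ v + v = 0}
  zero_mem' := ⟨fun a => map_zero _, add_zero 0⟩
  add_mem' := fun {x y} hx hy => ⟨fun a => by rw [map_add, hx.1 a, hy.1 a],
    by rw [add_add_add_comm, hx.2, hy.2, add_zero]⟩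
  neg_mem' := fun {x} hx => ⟨fun a => by rw [map_neg, hx.1 a], by rw [← neg_add, hx.2, neg_zero]⟩

theorem mem_low {v : M} : v ∈ low r ↔ (∀ a, r (uy a) v = v) ∧ v + v = 0 := Iff.rfl

theorem tors {v : M} (h : v + v = 0) : -v = v := neg_eq_of_add_eq_zero_left h

theorem map_tors (g : SL(2, F)) {v : M} (h : v + v = 0) : r g v + r g v = 0 := by
  rw [← map_add, h, map_zero]

variable [CharP F 2]

theorem inv_wt_one (v : M) : r (wt 1) (r (wt 1) v) = v := by rw [← act, wt_sq, act_one]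

theorem Fpf.sum_three (hf : Fpf r) (c : Fˣ) (v : M) :
    v + r (ux (c : F) * uy ((c⁻¹ : Fˣ) : F)) v +
      r (ux (c : F) * uy ((c⁻¹ : Fˣ) : F)) (r (ux (c : F) * uy ((c⁻¹ : Fˣ) : F)) v) = 0 := by
  refine hf c _ ?_
  have h := cube c
  set X := ux (c : F) * uy ((c⁻¹ : Fˣ) : F)
  rw [map_add, map_add]
  have : r X (r X (r X v)) = v := by rw [← act, ← act, mul_assoc, h, act_one]
  rw [this]
  abel

theorem Fpf.ux_fixed (hf : Fpf r) (c : Fˣ) {y : M} (hy : r (uy ((c⁻¹ : Fˣ) : F)) y = y) :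
    r (ux (c : F)) y = -y - r (wt c) y := by
  have h := hf.sum_three c y
  rw [act _ _ y, hy, act, ← act (ux (c : F)), ← act, ← wt_eq'] at h
  linear_combination (norm := abel) h

theorem Fpf.ux_shift (hf : Fpf r) (c : Fˣ) {y d : M} (hy : r (uy ((c⁻¹ : Fˣ) : F)) y = y + d)
    (hd : r (uy ((c⁻¹ : Fˣ) : F)) d = d) (hd2 : d + d = 0) :
    r (ux (c : F)) y = -y - d - r (wt c) y := by
  have h := hf.sum_three c y
  have hd' := hf.ux_fixed c hd
  rw [act _ _ y, hy, act, map_add, map_add, map_add, ← act, ← act, ← act, ← act,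
    ← wt_eq' c, hd', tors hd2] at h
  have hw := map_tors (r := r) (wt c) hd2
  rw [show r (ux (c : F)) y + (d - r (wt c) d) = r (ux (c : F)) y + d - r (wt c) d by abel] at h
  refine sub_eq_zero.1 ?_
  rw [← h]
  abel

theorem Fpf.ux_low (hf : Fpf r) (c : Fˣ) {y : M} (hy : y ∈ low r) :
    r (ux (c : F)) y = y + r (wt c) y := by
  rw [hf.ux_fixed c (hy.1 _), tors hy.2, sub_eq_add_neg, tors (map_tors _ hy.2)]

theorem ux_wt_low (t : Fˣ) (a : F) {y : M} (hy : y ∈ low r) : r (ux a) (r (wt t) y) = r (wt t) y := by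
  have h := wt_uy t (((t : F) ^ 2)⁻¹ * a)
  rw [mul_inv_cancel_left₀ (pow_ne_zero 2 t.ne_zero)] at h
  rw [← act, ← h, act, hy.1]

theorem ht_low (t : Fˣ) {y : M} (hy : y ∈ low r) : r (ht t) y ∈ low r := by
  refine ⟨fun a => ?_, map_tors _ hy.2⟩
  have h := ht_uy t (((t : F) ^ 2)⁻¹ * a)
  rw [mul_inv_cancel_left₀ (pow_ne_zero 2 t.ne_zero)] at h
  rw [← act, ← h, act, hy.1]

theorem Fpf.disjoint (hf : Fpf r) {p : M} (hp : p ∈ low r) (hp' : r (wt 1) p ∈ low r) : p = 0 := by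
  refine hf 1 p ?_
  rw [act, hp.1, ← inv_wt_one (r := r) p, ux_wt_low 1 _ hp']

theorem Fpf.unique (hf : Fpf r) {p q p' q' : M} (hp : p ∈ low r) (hq : q ∈ low r) (hp' : p' ∈ low r)
    (hq' : q' ∈ low r) (h : r (wt 1) p + q = r (wt 1) p' + q') : p = p' ∧ q = q' := by
  have h1 : r (wt 1) (p - p') = q' - q := by
    rw [map_sub, sub_eq_sub_iff_add_eq_add, h, add_comm]
  have h0 := hf.disjoint (sub_mem hp hp') (h1 ▸ sub_mem hq' hq)
  rw [h0, map_zero] at h1
  exact ⟨sub_eq_zero.1 h0, (sub_eq_zero.1 h1.symm).symm⟩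

/-- The torus makes the small fixed space of the lower root group a vector space. -/
theorem Fpf.exists_module (hf : Fpf r) :
    ∃ _ : Module F (low r), (∀ (c : Fˣ) (y : low r), (((c : F) • y : low r) : M) = r (ht c) (y : M)) ∧
      (∀ (a : F) (y : low r), r (ux a) (y : M) = y + r (wt 1) ((a • y : low r) : M)) ∧
      ∀ (a : F) (y : low r), r (uy a) (r (wt 1) (y : M)) = r (wt 1) (y : M) + ((a • y : low r) : M) := by
  classical
  let fo : Fˣ → AddMonoid.End (low r) := fun t =>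
    (AddMonoidHom.mk' (fun y : low r => (⟨r (ht t) (y : M), ht_low t y.2⟩ : low r)) fun y z =>
      Subtype.ext (map_add (r (ht t)) (y : M) (z : M)) : low r →+ low r)
  let f : F → AddMonoid.End (low r) := fun t => if h : t = 0 then 0 else fo (Units.mk0 t h)
  have fval : ∀ (t : Fˣ) (y : low r), (f (t : F) y : M) = r (ht t) (y : M) := fun t y => by
    have h : f (t : F) = fo t := (dif_neg t.ne_zero).trans (congrArg fo (Units.ext rfl))
    rw [h]; rfl
  have f0 : f 0 = 0 := dif_pos rfl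
  have hfx : ∀ (t : F) (y : low r), r (ux t) (y : M) = y + r (wt 1) (f t y : M) := by
    intro t y
    rcases eq_or_ne t 0 with rfl | ht0
    · rw [f0, ux_zero, act_one]
      show (y : M) = y + r (wt 1) 0
      rw [map_zero, add_zero]
    · obtain ⟨u, rfl⟩ : ∃ u : Fˣ, (u : F) = t := ⟨Units.mk0 t ht0, rfl⟩
      rw [hf.ux_low u y.2, fval, ← act, ← wt_ht]
  have f1 : f 1 = 1 := by
    refine AddMonoidHom.ext fun y => Subtype.ext ?_
    show (f 1 y : M) = (y : M)
    rw [show (1 : F) = ((1 : Fˣ) : F) from Units.val_one.symm, fval, ht, inv_mul_cancel, act_one]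
  have fmul : ∀ s t, f (s * t) = f s * f t := by
    intro s t
    rcases eq_or_ne s 0 with rfl | hs
    · rw [zero_mul, f0, zero_mul]
    rcases eq_or_ne t 0 with rfl | ht0
    · rw [mul_zero, f0, mul_zero]
    obtain ⟨a, rfl⟩ : ∃ u : Fˣ, (u : F) = s := ⟨Units.mk0 s hs, rfl⟩
    obtain ⟨b, rfl⟩ : ∃ u : Fˣ, (u : F) = t := ⟨Units.mk0 t ht0, rfl⟩
    refine AddMonoidHom.ext fun y => Subtype.ext ?_
    show (f ((a : F) * b) y : M) = (f (a : F) (f (b : F) y) : M)
    rw [← Units.val_mul, fval, fval, fval, ht_mul, act]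
  have fadd : ∀ s t, f (s + t) = f s + f t := by
    intro s t
    refine AddMonoidHom.ext fun y => Subtype.ext ?_
    have h1 := hfx (s + t) y
    rw [← ux_mul, act, hfx t y, map_add, hfx s y, ux_wt_low 1 s (f t y).2, add_assoc, ← map_add] at h1
    have := congrArg (r (wt 1)) (add_left_cancel h1)
    rw [inv_wt_one, inv_wt_one] at this
    exact this.symm
  let R : F →+* AddMonoid.End (low r) :=
    { toFun := f, map_one' := f1, map_mul' := fmul, map_zero' := f0, map_add' := fadd }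
  refine ⟨Module.compHom (low r) R, fval, hfx, fun a y => ?_⟩
  rw [← act, ← wt_one_ux, act, hfx, map_add, inv_wt_one]
  rfl

/-- The key computation. -/
theorem Fpf.core (hf : Fpf r) (hF : ∃ c : F, c ≠ 0 ∧ c ≠ 1) [Finite F] {y : M} (hy : r (uy 1) y = y)
    (hY : y + y ∈ low r) (hD : ∀ s, r (uy s) y - y ∈ low r) :
    (∀ s, r (uy s) y = y) ∧ y + y = 0 := by
  classical
  haveI := Fintype.ofFinite F
  obtain ⟨m, hm, -, -⟩ := hf.exists_module
  obtain ⟨D, hDs⟩ : ∃ D : F → low r, ∀ s, (D s : M) = r (uy s) y - y :=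
    ⟨fun s => ⟨_, hD s⟩, fun _ => rfl⟩
  let Y : low r := ⟨y + y, hY⟩
  have hDval : ∀ s, r (uy s) y = y + (D s : M) := fun s => by rw [hDs]; abel
  have Dadd : ∀ s t, D (s + t) = D s + D t := fun s t => Subtype.ext (by
    rw [AddSubgroup.coe_add, hDs (s + t), hDs s]
    rw [← uy_mul, act, hDval t, map_add, (D t).2.1 s]
    abel)
  have D1 : D 1 = 0 := Subtype.ext (by rw [hDs, hy, sub_self]; rfl)
  have hU : ∀ z : low r, z + z = 0 := fun z => Subtype.ext z.2.2
  have h2 : (2 : F) = 0 := CharTwo.two_eq_zero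
  have E : ∀ c : Fˣ, (c : F) • Y + Y + D c + D ((c : F)⁻¹) + (c : F) • D (((c : F)⁻¹) ^ 2) = 0 := by
    intro c
    have A : ∀ t : Fˣ, r (ux (t : F)) y = -y - (D ((t : F)⁻¹) : M) - r (wt t) y := fun t => by
      refine hf.ux_shift t ?_ ((D _).2.1 _) (D _).2.2
      rw [Units.val_inv_eq_inv_val]; exact hDval _
    have A1 : r (ux (1 : F)) y = -y - r (wt 1) y := by
      have := A 1
      rw [Units.val_one, inv_one, D1] at this
      simpa using this
    have B1 : r (ux (c : F)) (r (wt 1) y) = r (wt 1) y + r (wt 1) (D c : M) := by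
      rw [← act, ← wt_one_uy, act, hDval, map_add]
    have B2 : r (ux (1 : F)) (r (wt c) y) = r (wt c) y + r (wt c) (D (((c : F)⁻¹) ^ 2) : M) := by
      have h := wt_uy c (((c : F)⁻¹) ^ 2)
      rw [← mul_pow, mul_inv_cancel₀ c.ne_zero, one_pow] at h
      rw [← act, ← h, act, hDval, map_add]
    have B3 : r (ux (1 : F)) (D ((c : F)⁻¹) : M) = (D ((c : F)⁻¹) : M) + r (wt 1) (D ((c : F)⁻¹) : M) := by
      have := hf.ux_low 1 (D ((c : F)⁻¹)).2
      rwa [Units.val_one] at this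
    have h : r (ux (c : F)) (r (ux 1) y) = r (ux 1) (r (ux (c : F)) y) := by
      rw [← act, ← act, ux_mul, ux_mul, add_comm]
    rw [A1, map_sub, map_neg, A, B1] at h
    rw [map_sub, map_sub, map_neg, A1, B3, B2] at h
    refine Subtype.ext ?_
    have h' : r (wt c) (y + y) + r (wt 1) (y + y) + r (wt 1) (D c : M) + r (wt 1) (D ((c : F)⁻¹) : M) +
        r (wt c) (D (((c : F)⁻¹) ^ 2) : M) = 0 := by
      have e1 := (D ((c : F)⁻¹)).2.2
      have e2 := map_tors (r := r) (wt 1) (D c).2.2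
      have e3 := map_tors (r := r) (wt 1) hY.2
      rw [map_add] at e3
      rw [← sub_eq_zero] at h
      rw [map_add, map_add]
      linear_combination (norm := abel) h - e1 + e2 + e3
    have := congrArg (r (wt 1)) h'
    rw [wt_ht c, act, act, map_add, map_add, map_add, map_add, inv_wt_one, inv_wt_one, inv_wt_one,
      inv_wt_one, inv_wt_one, map_zero, ← hm c Y, ← hm c (D (((c : F)⁻¹) ^ 2))] at this
    exact this
  have S : ∀ c : F, c ≠ 0 → D c + c • D c⁻¹ = (c + 1) • Y := by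
    intro x hx
    obtain ⟨c, rfl⟩ : ∃ c, x = c * c := FiniteField.isSquare_of_char_two (ringChar.eq F 2) x
    have hc : c ≠ 0 := fun h => hx (by rw [h, mul_zero])
    have e1 := E (Units.mk0 c hc)
    have e2 := E (Units.mk0 c hc)⁻¹
    simp only [Units.val_inv_eq_inv_val, Units.val_mk0, inv_inv] at e1 e2
    have e1' := congrArg (fun z => c • z) e1
    have e2' := congrArg (fun z => c • z) e2
    simp only [smul_zero] at e1' e2'
    rw [show c * c = c ^ 2 from (sq c).symm, ← inv_pow]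
    linear_combination (norm := (match_scalars <;> field_simp <;> grind)) e1' + e2'
  have hsq : ∀ c : F, D (c ^ 2) = (c + 1) • D c := by
    intro c
    rcases eq_or_ne c 0 with rfl | hc
    · have D0 : D 0 = 0 := by
        have := Dadd 0 0
        rwa [add_zero, left_eq_add] at this
      rw [zero_pow two_ne_zero, D0, smul_zero]
    · have e1 := E (Units.mk0 c hc)
      have s1 := S c hc
      have s2 := S (c ^ 2) (pow_ne_zero 2 hc)
      simp only [Units.val_mk0] at e1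
      have e1' := congrArg (fun z => c • z) e1
      simp only [smul_zero] at e1'
      rw [← inv_pow] at s2
      linear_combination (norm := (match_scalars <;> field_simp <;> grind)) e1' + s1 + s2
  have hD0 : ∀ c, D c = 0 := by
    intro c
    have e := hsq (c + 1)
    rw [CharTwo.add_sq, one_pow, Dadd, Dadd, D1, hsq c] at e
    linear_combination (norm := (match_scalars <;> grind)) e
  refine ⟨fun s => by rw [hDval, hD0]; exact add_zero y, ?_⟩
  obtain ⟨c, hc0, hc1⟩ := hF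
  have h := S c hc0
  rw [hD0, hD0, smul_zero, add_zero] at h
  have hY0 : Y = 0 := (smul_eq_zero.1 h.symm).resolve_left fun h => hc1 (by
    rw [add_eq_zero_iff_eq_neg.1 h, CharTwo.neg_eq])
  exact congrArg Subtype.val hY0

variable [Finite F]

theorem Fpf.fix_one (hf : Fpf r) (hF : ∃ c : F, c ≠ 0 ∧ c ≠ 1) {v : M} (hv : r (uy 1) v = v)
    (hv2 : v + v = 0) : v ∈ low r := by
  classical
  haveI := Fintype.ofFinite F
  by_contra hn
  suffices h : ∀ s : Finset F, ∃ y, r (uy 1) y = y ∧ y + y = 0 ∧ y ∉ low r ∧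
      ∀ a ∈ s, r (uy a) y - y ∈ low r by
    obtain ⟨y, h1, h2, h3, h4⟩ := h Finset.univ
    exact h3 ⟨(hf.core hF h1 (by rw [h2]; exact zero_mem _) fun a => h4 a (Finset.mem_univ a)).1, h2⟩
  intro s
  induction s using Finset.induction with
  | empty => exact ⟨v, hv, hv2, hn, by simp⟩
  | insert a s _ ih =>
    obtain ⟨y, h1, h2, h3, h4⟩ := ih
    by_cases ha : r (uy a) y - y ∈ low r
    · exact ⟨y, h1, h2, h3, fun b hb => (Finset.mem_insert.1 hb).elim (fun e => e ▸ ha) (h4 b)⟩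
    have hcomm : ∀ b (z : M), r (uy b) (r (uy a) z) = r (uy a) (r (uy b) z) := fun b z => by
      rw [← act, ← act, uy_mul, uy_mul, add_comm]
    refine ⟨r (uy a) y - y, by rw [map_sub, hcomm, h1],
      by rw [sub_add_sub_comm, map_tors _ h2, h2, sub_zero], ha, fun b hb => ?_⟩
    rcases Finset.mem_insert.1 hb with rfl | hb
    · rw [map_sub, ← act, uy_sq, act_one]
      have : y - r (uy b) y - (r (uy b) y - y) = 0 := by
        rw [show y - r (uy b) y - (r (uy b) y - y) = (y + y) - (r (uy b) y + r (uy b) y) by abel, h2,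
          map_tors _ h2, sub_zero]
      rw [this]; exact zero_mem _
    · have h5 := (h4 b hb).1 a
      rw [map_sub] at h5
      rw [map_sub, hcomm, show r (uy a) (r (uy b) y) - r (uy b) y - (r (uy a) y - y) =
        (r (uy a) (r (uy b) y) - r (uy a) y) - (r (uy b) y - y) by abel, h5, sub_self]
      exact zero_mem _

theorem Fpf.exists_sum (hf : Fpf r) (hF : ∃ c : F, c ≠ 0 ∧ c ≠ 1) {v : M} (hv : v + v = 0) :
    ∃ p ∈ low r, ∃ q ∈ low r, v = r (wt 1) p + q := by
  set z := r (ux 1) v - v with hz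
  have hz2 : z + z = 0 := by rw [hz, sub_add_sub_comm, map_tors _ hv, hv, sub_zero]
  have hu : r (ux 1) (r (ux 1) v) = v := by
    rw [← act, ux_mul, CharTwo.add_self_eq_zero, ux_zero, act_one]
  have hzf : r (ux 1) z = z := by
    rw [show r (ux 1) z = -z by rw [hz, map_sub, hu]; abel, tors hz2]
  have hy : r (wt 1) z ∈ low r := hf.fix_one hF (by rw [← act, ← wt_one_ux, act, hzf]) (map_tors _ hz2)
  have hyx := hf.ux_low 1 hy
  rw [Units.val_one, inv_wt_one] at hyx
  have hfix : r (ux 1) (v - r (wt 1) z) = v - r (wt 1) z := by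
    rw [map_sub, hyx, hz]; abel
  have hp : r (wt 1) (v - r (wt 1) z) ∈ low r :=
    hf.fix_one hF (by rw [← act, ← wt_one_ux, act, hfix])
      (map_tors _ (by rw [sub_add_sub_comm, hv, map_tors _ hz2, sub_zero]))
  exact ⟨_, hp, _, hy, by rw [inv_wt_one, sub_add_cancel]⟩

theorem Fpf.exists_decomp [Finite M] (hf : Fpf r) (hF : ∃ c : F, c ≠ 0 ∧ c ≠ 1) (hM : ∀ v : M, v + v = 0) :
    ∃ (k : ℕ) (φ : Fin k → ((Fin 2 → F) →+ M)),
      (∀ i (g : SL(2, F)) c, r g (φ i c) = φ i ((g : Matrix (Fin 2) (Fin 2) F) *ᵥ c)) ∧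
      Function.Bijective fun c : Fin k → Fin 2 → F => ∑ i, φ i (c i) := by
  classical
  obtain ⟨m, hm, hx, hy⟩ := hf.exists_module
  haveI : Module.Finite F (low r) := Module.Finite.of_finite
  set k := Module.finrank F (low r)
  let b := Module.finBasis F (low r)
  let φ : Fin k → ((Fin 2 → F) →+ M) := fun i => AddMonoidHom.mk'
    (fun c => r (wt 1) ((c 0 • b i : low r) : M) + ((c 1 • b i : low r) : M)) fun c d => by
      simp only [Pi.add_apply, add_smul, AddSubgroup.coe_add, map_add]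
      abel
  have φ_ux : ∀ i a c, r (ux a) (φ i c) = φ i ![c 0 + a * c 1, c 1] := by
    intro i a c
    simp only [φ, AddMonoidHom.mk'_apply, Matrix.cons_val_zero, Matrix.cons_val_one, map_add, hx,
      ux_wt_low 1 a (c 0 • b i).2, add_smul, mul_smul, AddSubgroup.coe_add]
    abel
  have φ_uy : ∀ i a c, r (uy a) (φ i c) = φ i ![c 0, a * c 0 + c 1] := by
    intro i a c
    simp only [φ, AddMonoidHom.mk'_apply, Matrix.cons_val_zero, Matrix.cons_val_one, map_add, hy,
      (c 1 • b i).2.1 a, add_smul, mul_smul, AddSubgroup.coe_add]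
    abel
  have φ_equiv : ∀ i (g : SL(2, F)) c, r g (φ i c) = φ i ((g : Matrix (Fin 2) (Fin 2) F) *ᵥ c) := by
    intro i g
    have hm' : Submonoid.closure (Set.range (ux (F := F)) ∪ Set.range uy) = ⊤ := by
      rw [← Subgroup.closure_toSubmonoid_of_finite, closure_ux_uy]; rfl
    have hg : g ∈ Submonoid.closure (Set.range (ux (F := F)) ∪ Set.range uy) := hm' ▸ Submonoid.mem_top g
    induction hg using Submonoid.closure_induction with
    | mem x hx' =>
      intro c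
      rcases hx' with ⟨a, rfl⟩ | ⟨a, rfl⟩
      · rw [φ_ux]
        congr 1
        ext i; fin_cases i <;> simp [coe_ux, Matrix.mulVec, dotProduct, Fin.sum_univ_two]
      · rw [φ_uy]
        congr 1
        ext i; fin_cases i <;> simp [coe_uy, Matrix.mulVec, dotProduct, Fin.sum_univ_two]
    | one =>
      intro c
      rw [act_one]
      show φ i c = φ i ((1 : Matrix (Fin 2) (Fin 2) F) *ᵥ c)
      rw [Matrix.one_mulVec]
    | mul x y _ _ hx' hy' =>
      intro c
      rw [act, hy', hx', Matrix.mulVec_mulVec]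
      rfl
  have htot : ∀ c : Fin k → Fin 2 → F, ∑ i, φ i (c i) =
      r (wt 1) ((∑ i, c i 0 • b i : low r) : M) + ((∑ i, c i 1 • b i : low r) : M) := fun c => by
    rw [AddSubgroup.val_finset_sum, AddSubgroup.val_finset_sum, map_sum, ← Finset.sum_add_distrib]
    rfl
  refine ⟨k, φ, φ_equiv, fun c d h => ?_, fun v => ?_⟩
  · simp only [htot] at h
    obtain ⟨h0, h1⟩ := hf.unique (SetLike.coe_mem _) (SetLike.coe_mem _) (SetLike.coe_mem _) (SetLike.coe_mem _) h
    have g0 := congrArg b.equivFun (Subtype.ext h0 : (∑ i, c i 0 • b i) = ∑ i, d i 0 • b i)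
    have g1 := congrArg b.equivFun (Subtype.ext h1 : (∑ i, c i 1 • b i) = ∑ i, d i 1 • b i)
    simp only [← Module.Basis.equivFun_symm_apply, LinearEquiv.apply_symm_apply] at g0 g1
    funext i j
    fin_cases j
    · exact congrFun g0 i
    · exact congrFun g1 i
  · obtain ⟨p, hp, q, hq, rfl⟩ := hf.exists_sum hF (hM v)
    refine ⟨fun i => ![b.repr ⟨p, hp⟩ i, b.repr ⟨q, hq⟩ i], ?_⟩
    simp only [htot, Matrix.cons_val_zero, Matrix.cons_val_one]
    rw [b.sum_repr, b.sum_repr]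

theorem Fpf.double_eq_zero (hf : Fpf r) (hF : ∃ c : F, c ≠ 0 ∧ c ≠ 1)
    (h4 : ∀ v : M, (v + v) + (v + v) = 0) (v : M) : v + v = 0 := by
  have hb : ∀ q : M, r (uy 1) (q + q) = q + q := by
    intro q
    set y := q + r (uy 1) q with hy
    have hy1 : r (uy 1) y = y := by rw [hy, map_add, ← act, uy_sq, act_one, add_comm]
    have hY : y + y ∈ low r := hf.fix_one hF (by rw [map_add, hy1]) (h4 y)
    have hD : ∀ s, r (uy s) y - y ∈ low r := fun s => hf.fix_one hF
      (by rw [map_sub, ← act, uy_mul, add_comm, ← uy_mul, act, hy1])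
      (by rw [sub_add_sub_comm, ← map_add, hY.1 s, sub_self])
    have h0 := (hf.core hF hy1 hY hD).2
    rw [hy, show q + r (uy 1) q + (q + r (uy 1) q) = (q + q) + r (uy 1) (q + q) by
      rw [map_add]; abel] at h0
    exact (neg_eq_of_add_eq_zero_right h0).symm.trans (tors (h4 q))
  refine hf 1 _ ?_
  rw [inv_one, Units.val_one, act, hb]
  rw [show r (ux (1 : F)) (v + v) = r (wt 1) (r (uy 1) (r (wt 1) (v + v))) by
    rw [← act, ← act, wt_one_uy, mul_assoc, wt_sq, mul_one]]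
  rw [map_add, hb, map_add, inv_wt_one]

theorem Fpf.biadd_eq_zero {N : Type u} [AddCommGroup N] {r' : SL(2, F) →* AddMonoid.End N}
    (hf : Fpf r) (hf' : Fpf r') (hF : ∃ c : F, c ≠ 0 ∧ c ≠ 1) (hM : ∀ v : M, v + v = 0)
    (hN : ∀ v : N, v + v = 0) (β : M →+ M →+ N) (hβ : ∀ g a b, r' g (β a b) = β (r g a) (r g b)) :
    β = 0 := by
  obtain ⟨m, hm, hx, hy⟩ := hf.exists_module
  obtain ⟨m', hm', hx', hy'⟩ := hf'.exists_module
  obtain ⟨c, hc0, hc1⟩ := hF
  have hF : ∃ c : F, c ≠ 0 ∧ c ≠ 1 := ⟨c, hc0, hc1⟩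
  have hmem : ∀ a b : low r, β (a : M) (b : M) ∈ low r' := fun a b =>
    ⟨fun s => by rw [hβ, a.2.1, b.2.1], hN _⟩
  let B : low r → low r → low r' := fun a b => ⟨β (a : M) (b : M), hmem a b⟩
  have P : ∀ (t : Fˣ) (a b : low r), β (r (wt 1) (((t : F) • a : low r) : M)) (b : M) =
      r' (wt 1) (((t : F) • B a b : low r') : N) + (B a b : N) := by
    intro t a b
    obtain ⟨p, hp, q, hq, e⟩ := hf'.exists_sum hF (hN (β (r (wt 1) (((t : F) • a : low r) : M)) (b : M)))
    have e1 := congrArg (r' (uy ((t : F)⁻¹))) e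
    have hyp : r' (uy ((t : F)⁻¹)) (r' (wt 1) p) =
        r' (wt 1) p + (((t : F)⁻¹ • (⟨p, hp⟩ : low r') : low r') : N) := hy' _ ⟨p, hp⟩
    have hxq : r' (ux (t : F)) q = q + r' (wt 1) (((t : F) • (⟨q, hq⟩ : low r') : low r') : N) := hx' _ ⟨q, hq⟩
    rw [hβ, hy, b.2.1, map_add β, AddMonoidHom.add_apply, smul_smul, inv_mul_cancel₀ t.ne_zero, one_smul,
      e, map_add, hyp, hq.1] at e1
    have ep : (((t : F)⁻¹ • (⟨p, hp⟩ : low r') : low r') : N) = (B a b : N) := by
      rw [add_right_comm] at e1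
      exact (add_left_cancel (add_right_cancel e1)).symm
    have ep' : (⟨p, hp⟩ : low r') = (t : F) • B a b := by
      rw [← Subtype.ext ep, smul_smul, mul_inv_cancel₀ t.ne_zero, one_smul]
    have e2 := congrArg (r' (ux (t : F))) e
    rw [hβ, ux_wt_low 1 _ ((t : F) • a).2, hx (t : F) b, map_add, map_add, ux_wt_low 1 _ hp,
      hxq, e, ← add_assoc, ← hβ] at e2
    have hab : β ((((t : F) • a : low r) : M)) ((((t : F) • b : low r) : M)) =
        (((t : F) • (⟨q, hq⟩ : low r') : low r') : N) := by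
      have := congrArg (r' (wt 1)) (add_left_cancel e2)
      rwa [inv_wt_one, inv_wt_one] at this
    have eq' : (⟨q, hq⟩ : low r') = B a b := by
      have h1 : β (((t : F) • a : low r) : M) (((t : F) • b : low r) : M) = (((t : F) • B a b : low r') : N) := by
        rw [hm, hm, hm', hβ]
      exact (smul_right_injective _ t.ne_zero) (Subtype.ext (hab.symm.trans h1))
    rw [e, ← ep', ← eq']
  have hB0 : ∀ a b, B a b = 0 := by
    intro a b
    have h1 := P (Units.mk0 c hc0) a b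
    have h2 := P 1 (c • a) b
    simp only [Units.val_mk0, Units.val_one, one_smul] at h1 h2
    obtain ⟨g1, g2⟩ := hf'.unique (SetLike.coe_mem _) (SetLike.coe_mem _) (SetLike.coe_mem _)
      (SetLike.coe_mem _) (h2.symm.trans h1)
    have g : c • B a b = B a b := (Subtype.ext g1).symm.trans (Subtype.ext g2)
    by_contra hne
    have h3 : (c - 1) • B a b = 0 := by rw [sub_smul, one_smul, g, sub_self]
    exact hne ((smul_eq_zero.1 h3).resolve_left (sub_ne_zero.2 hc1))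
  have h00 : ∀ a b : low r, β (a : M) (b : M) = 0 := fun a b => congrArg Subtype.val (hB0 a b)
  have h10 : ∀ a b : low r, β (r (wt 1) (a : M)) (b : M) = 0 := fun a b => by
    have := P 1 a b
    rwa [Units.val_one, one_smul, one_smul, hB0, ZeroMemClass.coe_zero, map_zero, add_zero] at this
  refine AddMonoidHom.ext fun u => AddMonoidHom.ext fun w => ?_
  obtain ⟨p, hp, q, hq, rfl⟩ := hf.exists_sum hF (hM u)
  obtain ⟨p', hp', q', hq', rfl⟩ := hf.exists_sum hF (hM w)
  have h01 : β q (r (wt 1) p') = 0 := by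
    have := hβ (wt 1) (r (wt 1) q) p'
    rw [inv_wt_one, h10 ⟨q, hq⟩ ⟨p', hp'⟩, map_zero] at this
    exact this.symm
  have h11 : β (r (wt 1) p) (r (wt 1) p') = 0 := by rw [← hβ, h00 ⟨p, hp⟩ ⟨p', hp'⟩, map_zero]
  simp [h01, h11, h00 ⟨q, hq⟩ ⟨q', hq'⟩, h10 ⟨p, hp⟩ ⟨q', hq'⟩]

end Modules

section Groups

variable {F : Type v} [Field F] [CharP F 2] [Finite F] {G : Type u} [Group G]

open QuotientGroup

/-- Conjugation on an abelian normal subgroup. -/
def conjHom (M : Subgroup G) [M.Normal] [IsMulCommutative M] : G →* AddMonoid.End (Additive M) where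
  toFun g := MonoidHom.toAdditive (MulAut.conjNormal g).toMonoidHom
  map_one' := by rw [map_one]; rfl
  map_mul' a b := by rw [map_mul]; rfl

theorem exists_rep {Q : Subgroup G} [Q.Normal] (e : G ⧸ Q ≃* SL(2, F)) (M : Subgroup G) [M.Normal]
    [IsMulCommutative M] (hQM : ∀ q ∈ Q, ∀ m ∈ M, q * m = m * q) :
    ∃ r : SL(2, F) →* AddMonoid.End (Additive M), ∀ (g : G) (m : Additive M),
      ((r (e (g : G ⧸ Q)) m).toMul : G) = g * (m.toMul : G) * g⁻¹ := by
  have hker : Q ≤ (conjHom M).ker := fun q hq => by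
    refine MonoidHom.mem_ker.2 (AddMonoidHom.ext fun m => ?_)
    apply Additive.toMul.injective
    apply Subtype.ext
    show q * (m.toMul : G) * q⁻¹ = (m.toMul : G)
    rw [hQM q hq _ m.toMul.2, mul_inv_cancel_right]
  refine ⟨(QuotientGroup.lift Q (conjHom M) hker).comp e.symm.toMonoidHom, fun g m => ?_⟩
  show ((QuotientGroup.lift Q (conjHom M) hker (e.symm (e g)) m).toMul : G) = _
  rw [MulEquiv.symm_apply_apply]
  rfl

theorem not_mem_of_fpf {Q : Subgroup G} (hQ : IsPGroup 2 Q) {x : G} (hx : orderOf x = 3) : x ∉ Q := by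
  intro h
  obtain ⟨k, hk⟩ := hQ ⟨x, h⟩
  have hd : orderOf x ∣ 2 ^ k := orderOf_dvd_of_pow_eq_one (congrArg Subtype.val hk)
  rw [hx] at hd
  exact absurd (Nat.prime_dvd_prime_iff_eq Nat.prime_three Nat.prime_two |>.1 (Nat.prime_three.dvd_of_dvd_pow hd))
    (by omega)

theorem fpf_of_three {Q : Subgroup G} [Q.Normal] (hQ : IsPGroup 2 Q) (e : G ⧸ Q ≃* SL(2, F)) {x : G}
    (hx : orderOf x = 3) (hfpf : ∀ q ∈ Q, x * q * x⁻¹ = q → q = 1) {M : Subgroup G} [M.Normal]
    [IsMulCommutative M] (hMQ : M ≤ Q) (r : SL(2, F) →* AddMonoid.End (Additive M))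
    (hr : ∀ (g : G) (m : Additive M), ((r (e (g : G ⧸ Q)) m).toMul : G) = g * (m.toMul : G) * g⁻¹) :
    Fpf r := by
  intro c v hv
  have h3 : e (x : G ⧸ Q) ^ 3 = 1 := by
    rw [← map_pow, ← QuotientGroup.mk_pow, ← hx, pow_orderOf_eq_one, QuotientGroup.mk_one, map_one]
  have h1 : e (x : G ⧸ Q) ≠ 1 := fun h => not_mem_of_fpf hQ hx
    ((QuotientGroup.eq_one_iff x).1 ((map_eq_one_iff _ e.injective).1 h))
  obtain ⟨h, hh⟩ := exists_conj h3 h1 c
  rw [← hh, act, act] at hv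
  have hfix : r (e (x : G ⧸ Q)) (r h⁻¹ v) = r h⁻¹ v := by
    have := congrArg (r h⁻¹) hv
    rwa [← act h⁻¹ h, inv_mul_cancel, act_one] at this
  have h0 : r h⁻¹ v = 0 := by
    have h2 := hfpf _ (hMQ (r h⁻¹ v).toMul.2) (by rw [← hr, hfix])
    exact Additive.toMul.injective (Subtype.ext h2)
  rw [← act_one (r := r) v, ← mul_inv_cancel h, act, h0, map_zero]

theorem toMul_add {M : Subgroup G} [IsMulCommutative M] (a b : Additive M) :
    (((a + b).toMul : M) : G) = (a.toMul : G) * (b.toMul : G) := rfl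

theorem add_self_eq_zero {M : Subgroup G} [IsMulCommutative M] (h : ∀ a ∈ M, a ^ 2 = 1) (a : Additive M) :
    a + a = 0 :=
  Additive.toMul.injective (Subtype.ext ((pow_two _).symm.trans (h _ a.toMul.2)))

theorem elementary_aux (hF : ∃ c : F, c ≠ 0 ∧ c ≠ 1) (n : ℕ) :
    ∀ (G : Type u) [Group G] [Finite G] (Q : Subgroup G) [Q.Normal], Nat.card Q = n → IsPGroup 2 Q →
      (G ⧸ Q ≃* SL(2, F)) → ∀ x : G, orderOf x = 3 → (∀ q ∈ Q, x * q * x⁻¹ = q → q = 1) →
        IsElementaryAbelian 2 Q := by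
  induction n using Nat.strong_induction_on with
  | _ n ih =>
    intro G _ _ Q hQn hn hQ e x hx hfpf
    classical
    rcases eq_or_ne Q ⊥ with hbot | hbot
    · subst hbot
      exact ⟨inferInstance, fun a ha => by rw [Subgroup.mem_bot.1 ha, one_pow]⟩
    let K : Subgroup G :=
      { carrier := {z | z ∈ Q ∧ (∀ q ∈ Q, q * z = z * q) ∧ z ^ 2 = 1}
        one_mem' := ⟨one_mem _, fun q _ => by simp, one_pow 2⟩
        mul_mem' := fun {a b} ha hb => ⟨mul_mem ha.1 hb.1,
          fun q hq => by rw [← mul_assoc, ha.2.1 q hq, mul_assoc, hb.2.1 q hq, mul_assoc],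
          by rw [Commute.mul_pow (ha.2.1 b hb.1).symm, ha.2.2, hb.2.2, one_mul]⟩
        inv_mem' := fun {a} ha => ⟨inv_mem ha.1,
          fun q hq => (Commute.inv_right (ha.2.1 q hq : Commute q a)).eq,
          by rw [inv_pow, ha.2.2, inv_one]⟩ }
    have hKQ : K ≤ Q := fun z hz => hz.1
    haveI : K.Normal := ⟨fun z hz g => ⟨hQn.conj_mem z hz.1 g, fun q hq => by
      have h := hz.2.1 _ (hQn.conj_mem q hq g⁻¹)
      rw [inv_inv] at h
      calc q * (g * z * g⁻¹) = g * (g⁻¹ * q * g * z) * g⁻¹ := by group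
        _ = g * (z * (g⁻¹ * q * g)) * g⁻¹ := by rw [h]
        _ = g * z * g⁻¹ * q := by group, by rw [conj_pow, hz.2.2, mul_one, mul_inv_cancel]⟩⟩
    haveI : IsMulCommutative K := ⟨⟨fun a b => Subtype.ext (b.2.2.1 a a.2.1)⟩⟩
    have hK : K ≠ ⊥ := by
      haveI : Nontrivial Q := (Subgroup.nontrivial_iff_ne_bot Q).2 hbot
      haveI := hQ.center_nontrivial
      obtain ⟨z, hz⟩ := exists_ne (1 : Subgroup.center Q)
      obtain ⟨k, hk⟩ := hQ z.1
      have hex : ∃ k, z ^ 2 ^ k = 1 := ⟨k, Subtype.ext hk⟩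
      obtain ⟨j, hj⟩ : ∃ j, Nat.find hex = j + 1 := by
        refine ⟨Nat.find hex - 1, (Nat.succ_pred_eq_of_ne_zero fun h => hz ?_).symm⟩
        simpa [h] using Nat.find_spec hex
      intro hKb
      have hmem : ((z ^ 2 ^ j : Subgroup.center Q).1 : G) ∈ K := by
        refine ⟨(z ^ 2 ^ j).1.2, fun q hq =>
          congrArg Subtype.val (Subgroup.mem_center_iff.1 (z ^ 2 ^ j).2 ⟨q, hq⟩), ?_⟩
        have := Nat.find_spec hex
        rw [hj, pow_succ, pow_mul] at this
        exact congrArg (fun w : Subgroup.center Q => (w.1 : G)) this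
      rw [hKb, Subgroup.mem_bot] at hmem
      exact Nat.find_min hex (by omega : j < Nat.find hex) (Subtype.ext (Subtype.ext hmem))
    -- the quotient by `K`
    let π := QuotientGroup.mk' K
    let Q' := Q.map π
    haveI : Q'.Normal := hQn.map π (QuotientGroup.mk'_surjective K)
    have hker : π.ker = K := QuotientGroup.ker_mk' K
    have hlt : Nat.card Q' < Nat.card Q := by
      have hs : Function.Surjective (π.subgroupMap Q) := π.subgroupMap_surjective Q
      refine lt_of_le_of_ne (Nat.card_le_card_of_surjective _ hs) fun hc => hK ?_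
      have hi : Function.Injective (π.subgroupMap Q) :=
        (hs.bijective_of_nat_card_le hc.ge).1
      refine (Subgroup.eq_bot_iff_forall _).2 fun z hz => ?_
      have := @hi ⟨z, hKQ hz⟩ 1 (Subtype.ext (by
        show π z = π 1
        rw [map_one, ← MonoidHom.mem_ker, hker]; exact hz))
      exact congrArg Subtype.val this
    let e' : (G ⧸ K) ⧸ Q' ≃* SL(2, F) := (QuotientGroup.quotientQuotientEquivQuotient K Q hKQ).trans e
    have hx' : orderOf (π x) = 3 := by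
      haveI : Fact (Nat.Prime 3) := ⟨Nat.prime_three⟩
      refine orderOf_eq_prime (by rw [← map_pow, ← hx, pow_orderOf_eq_one, map_one]) fun h => ?_
      exact not_mem_of_fpf hQ hx (hKQ (hker ▸ MonoidHom.mem_ker.2 h))
    have hfpf' : ∀ q ∈ Q', π x * q * (π x)⁻¹ = q → q = 1 := by
      rintro _ ⟨q, hq, rfl⟩ h
      rw [← map_inv, ← map_mul, ← map_mul] at h
      have hk : q⁻¹ * (x * q * x⁻¹) ∈ K := by
        rw [← hker, MonoidHom.mem_ker, map_mul, h, map_inv, inv_mul_cancel]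
      let ψ : K → K := fun k => ⟨(k : G)⁻¹ * (x * k * x⁻¹),
        mul_mem (inv_mem k.2) (‹K.Normal›.conj_mem _ k.2 x)⟩
      have hψ : Function.Injective ψ := fun a b hab => by
        have h1 : (a : G)⁻¹ * (x * a * x⁻¹) = (b : G)⁻¹ * (x * b * x⁻¹) := congrArg Subtype.val hab
        have h2 : (b : G) * (a : G)⁻¹ = 1 := hfpf _ (hKQ (mul_mem b.2 (inv_mem a.2))) (by
          calc x * ((b : G) * (a : G)⁻¹) * x⁻¹
              = (b : G) * ((b : G)⁻¹ * (x * b * x⁻¹)) * (x * a * x⁻¹)⁻¹ := by group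
            _ = (b : G) * ((a : G)⁻¹ * (x * a * x⁻¹)) * (x * a * x⁻¹)⁻¹ := by rw [h1]
            _ = (b : G) * (a : G)⁻¹ := by group)
        exact Subtype.ext (mul_inv_eq_one.1 h2).symm
      obtain ⟨k, hk'⟩ := Finite.surjective_of_injective hψ ⟨_, hk⟩
      have h1 : (k : G)⁻¹ * (x * k * x⁻¹) = q⁻¹ * (x * q * x⁻¹) := congrArg Subtype.val hk'
      have h2 : q * (k : G)⁻¹ = 1 := hfpf _ (mul_mem hq (inv_mem (hKQ k.2))) (by
        calc x * (q * (k : G)⁻¹) * x⁻¹ = q * (q⁻¹ * (x * q * x⁻¹)) * (x * k * x⁻¹)⁻¹ := by group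
          _ = q * ((k : G)⁻¹ * (x * k * x⁻¹)) * (x * k * x⁻¹)⁻¹ := by rw [h1]
          _ = q * (k : G)⁻¹ := by group)
      rw [← MonoidHom.mem_ker, hker, mul_inv_eq_one.1 h2]
      exact k.2
    obtain ⟨hQ'c, hQ'e⟩ := ih (Nat.card Q') (hn ▸ hlt) (G ⧸ K) Q' rfl (hQ.map π) e' (π x) hx' hfpf'
    haveI := hQ'c
    have hsq : ∀ a ∈ Q, a ^ 2 ∈ K := fun a ha => by
      rw [← hker, MonoidHom.mem_ker, map_pow]
      exact hQ'e _ ⟨a, ha, rfl⟩
    have hcomm : ∀ a ∈ Q, ∀ b ∈ Q, ⁅a, b⁆ ∈ K := fun a ha b hb => by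
      rw [← hker, MonoidHom.mem_ker, map_commutatorElement, commutatorElement_eq_one_iff_mul_comm]
      exact congrArg Subtype.val (hQ'c.is_comm.comm ⟨π a, a, ha, rfl⟩ ⟨π b, b, hb, rfl⟩)
    have hcentral : ∀ q ∈ Q, ∀ k ∈ K, q * k = k * q := fun q hq k hk => hk.2.1 q hq
    obtain ⟨rK, hrK⟩ := exists_rep e K hcentral
    have hfK := fpf_of_three hQ e hx hfpf hKQ rK hrK
    obtain ⟨rQ, hrQ⟩ := exists_rep e' Q' (fun a ha b hb =>
      congrArg Subtype.val (hQ'c.is_comm.comm ⟨a, ha⟩ ⟨b, hb⟩))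
    have hfQ := fpf_of_three (hQ.map π) e' hx' hfpf' le_rfl rQ hrQ
    -- the commutator pairing
    choose lift hliftQ hlift using fun a : Q' => a.2
    have hwd : ∀ a ∈ Q, ∀ k ∈ K, ∀ b ∈ Q, ⁅a * k, b⁆ = ⁅a, b⁆ ∧ ⁅b, a * k⁆ = ⁅b, a⁆ := by
      intro a _ k hk b hb
      have hc : b * k = k * b := hk.2.1 b hb
      have h1 : ⁅a * k, b⁆ = ⁅a, b⁆ := by
        rw [commutatorElement_def, commutatorElement_def, _root_.mul_inv_rev]
        calc a * k * b * (k⁻¹ * a⁻¹) * b⁻¹ = a * (k * b) * k⁻¹ * a⁻¹ * b⁻¹ := by group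
          _ = a * (b * k) * k⁻¹ * a⁻¹ * b⁻¹ := by rw [hc]
          _ = a * b * a⁻¹ * b⁻¹ := by group
      exact ⟨h1, by rw [← commutatorElement_inv, h1, commutatorElement_inv]⟩
    have hwd' : ∀ (a b : Q'), ∀ a₀ ∈ Q, ∀ b₀ ∈ Q, π a₀ = a → π b₀ = b → ⁅lift a, lift b⁆ = ⁅a₀, b₀⁆ := by
      intro a b a₀ ha₀ b₀ hb₀ ea eb
      have hka : a₀⁻¹ * lift a ∈ K := by
        rw [← hker, MonoidHom.mem_ker, map_mul, map_inv, ea, hlift, inv_mul_cancel]
      have hkb : b₀⁻¹ * lift b ∈ K := by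
        rw [← hker, MonoidHom.mem_ker, map_mul, map_inv, eb, hlift, inv_mul_cancel]
      rw [show lift a = a₀ * (a₀⁻¹ * lift a) by group, (hwd a₀ ha₀ _ hka _ (hliftQ b)).1,
        show lift b = b₀ * (b₀⁻¹ * lift b) by group, (hwd b₀ hb₀ _ hkb _ ha₀).2]
    have hmulL : ∀ a ∈ Q, ∀ a₁ ∈ Q, ∀ b ∈ Q, ⁅a * a₁, b⁆ = ⁅a, b⁆ * ⁅a₁, b⁆ := by
      intro a ha a₁ ha₁ b hb
      have hz := hcomm a₁ ha₁ b hb
      have h' : a * ⁅a₁, b⁆ = ⁅a₁, b⁆ * a := hz.2.1 a ha
      calc ⁅a * a₁, b⁆ = a * ⁅a₁, b⁆ * b * a⁻¹ * b⁻¹ := by simp only [commutatorElement_def]; group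
        _ = ⁅a₁, b⁆ * a * b * a⁻¹ * b⁻¹ := by rw [h']
        _ = ⁅a₁, b⁆ * ⁅a, b⁆ := by simp only [commutatorElement_def]; group
        _ = ⁅a, b⁆ * ⁅a₁, b⁆ := hz.2.1 _ (hKQ (hcomm a ha b hb)) |>.symm
    have hmulR : ∀ a ∈ Q, ∀ b ∈ Q, ∀ b₁ ∈ Q, ⁅a, b * b₁⁆ = ⁅a, b⁆ * ⁅a, b₁⁆ := by
      intro a ha b hb b₁ hb₁
      rw [← commutatorElement_inv, hmulL b hb b₁ hb₁ a ha, _root_.mul_inv_rev, commutatorElement_inv,
        commutatorElement_inv]
      exact (hcomm a ha b hb).2.1 _ (hKQ (hcomm a ha b₁ hb₁))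
    let β : Additive Q' →+ Additive Q' →+ Additive K :=
      AddMonoidHom.mk' (fun a => AddMonoidHom.mk'
        (fun b => Additive.ofMul (⟨⁅lift a.toMul, lift b.toMul⁆, hcomm _ (hliftQ _) _ (hliftQ _)⟩ : K))
        fun b b₁ => by
          refine Additive.toMul.injective (Subtype.ext ?_)
          show ⁅lift a.toMul, lift (b.toMul * b₁.toMul)⁆ = ⁅lift a.toMul, lift b.toMul⁆ * ⁅lift a.toMul, lift b₁.toMul⁆
          rw [hwd' a.toMul (b.toMul * b₁.toMul) _ (hliftQ _) _ (mul_mem (hliftQ b.toMul) (hliftQ b₁.toMul)) (hlift _)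
            (by rw [map_mul, hlift, hlift]; rfl), hmulR _ (hliftQ _) _ (hliftQ _) _ (hliftQ _)])
        fun a a₁ => by
          refine AddMonoidHom.ext fun b => Additive.toMul.injective (Subtype.ext ?_)
          show ⁅lift (a.toMul * a₁.toMul), lift b.toMul⁆ = ⁅lift a.toMul, lift b.toMul⁆ * ⁅lift a₁.toMul, lift b.toMul⁆
          rw [hwd' (a.toMul * a₁.toMul) b.toMul _ (mul_mem (hliftQ a.toMul) (hliftQ a₁.toMul)) _ (hliftQ _)
            (by rw [map_mul, hlift, hlift]; rfl) (hlift _), hmulL _ (hliftQ _) _ (hliftQ _) _ (hliftQ _)]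
    have hβ : β = 0 := by
      refine hfQ.biadd_eq_zero hfK hF (add_self_eq_zero hQ'e) (add_self_eq_zero fun a ha => ha.2.2) β ?_
      intro g a b
      obtain ⟨g₀, rfl⟩ := e.surjective g
      obtain ⟨g₀, rfl⟩ := QuotientGroup.mk'_surjective Q g₀
      refine Additive.toMul.injective (Subtype.ext ?_)
      show ((rK (e (g₀ : G ⧸ Q)) (β a b)).toMul : G) = _
      rw [hrK]
      show g₀ * ⁅lift a.toMul, lift b.toMul⁆ * g₀⁻¹ =
        ⁅lift (rQ (e (g₀ : G ⧸ Q)) a).toMul, lift (rQ (e (g₀ : G ⧸ Q)) b).toMul⁆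
      have he : e' ((π g₀ : G ⧸ K) : (G ⧸ K) ⧸ Q') = e (g₀ : G ⧸ Q) := rfl
      have himg : ∀ c : Additive Q', π (g₀ * lift c.toMul * g₀⁻¹) = ((rQ (e (g₀ : G ⧸ Q)) c).toMul : G ⧸ K) := by
        intro c
        rw [← he, hrQ, map_mul, map_mul, map_inv, hlift]
      rw [hwd' _ _ _ (hQn.conj_mem _ (hliftQ _) g₀) _ (hQn.conj_mem _ (hliftQ _) g₀) (himg a) (himg b),
        conjugate_commutatorElement]
    have hab : ∀ a ∈ Q, ∀ b ∈ Q, a * b = b * a := by
      intro a ha b hb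
      have h := DFunLike.congr_fun (DFunLike.congr_fun hβ (Additive.ofMul ⟨π a, a, ha, rfl⟩))
        (Additive.ofMul ⟨π b, b, hb, rfl⟩)
      have h' : ⁅lift ⟨π a, a, ha, rfl⟩, lift ⟨π b, b, hb, rfl⟩⁆ = 1 :=
        congrArg (fun z : Additive K => (z.toMul : G)) h
      rw [hwd' _ _ a ha b hb rfl rfl] at h'
      exact commutatorElement_eq_one_iff_mul_comm.1 h'
    haveI : IsMulCommutative Q := ⟨⟨fun a b => Subtype.ext (hab a a.2 b b.2)⟩⟩
    obtain ⟨r, hr⟩ := exists_rep e Q hab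
    have hf := fpf_of_three hQ e hx hfpf le_rfl r hr
    refine ⟨inferInstance, fun a ha => ?_⟩
    have h4 : ∀ v : Additive Q, (v + v) + (v + v) = 0 := fun v => Additive.toMul.injective (Subtype.ext (by
      show ((v.toMul : G) * v.toMul) * ((v.toMul : G) * v.toMul) = 1
      rw [← pow_two, ← pow_two]; exact (hsq _ v.toMul.2).2.2))
    have := congrArg (fun z : Additive Q => (z.toMul : G)) (hf.double_eq_zero hF h4 (Additive.ofMul ⟨a, ha⟩))
    rw [pow_two]
    exact this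

/-- Higman's theorem. -/
theorem higman [Finite G] {Q : Subgroup G} [Q.Normal] (hQ : IsPGroup 2 Q) (hF : ∃ c : F, c ≠ 0 ∧ c ≠ 1)
    (e : G ⧸ Q ≃* SL(2, F)) (x : G) (hx : orderOf x = 3) (hfpf : ∀ q ∈ Q, x * q * x⁻¹ = q → q = 1) :
    IsElementaryAbelian 2 Q ∧
      ∃ (k : ℕ) (V : Fin k → Subgroup G), (∀ i, V i ≤ Q ∧ (V i).Normal ∧
        ActsAsSL2OnSection F ⊤ ⊤ (V i) ⊥) ∧ iSupIndep V ∧ ⨆ i, V i = Q := by
  classical
  have hel : IsElementaryAbelian 2 Q := elementary_aux hF _ G Q rfl hQ e x hx hfpf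
  refine ⟨hel, ?_⟩
  haveI := hel.1
  obtain ⟨r, hr⟩ := exists_rep e Q fun a ha b hb => congrArg Subtype.val (hel.1.is_comm.comm ⟨a, ha⟩ ⟨b, hb⟩)
  have hf := fpf_of_three hQ e hx hfpf le_rfl r hr
  obtain ⟨k, φ, hφ, hbij⟩ := hf.exists_decomp hF (add_self_eq_zero hel.2)
  let Φ : Multiplicative (Fin k → Fin 2 → F) →* G := MonoidHom.mk'
    (fun c => ((∑ i, φ i (c.toAdd i)).toMul : G)) fun c d => by
      rw [← toMul_add, ← Finset.sum_add_distrib]
      simp only [← map_add]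
      rfl
  have hΦ : Function.Injective Φ := fun c d h => Multiplicative.toAdd.injective
    (hbij.1 (Additive.toMul.injective (Subtype.ext h)))
  let ι : Fin k → Multiplicative (Fin 2 → F) →* Multiplicative (Fin k → Fin 2 → F) := fun i =>
    AddMonoidHom.toMultiplicative (AddMonoidHom.single (fun _ => Fin 2 → F) i)
  have hsingle : ∀ i c, Φ (ι i c) = ((φ i c.toAdd).toMul : G) := fun i c => by
    show ((∑ j, φ j ((Pi.single i c.toAdd : Fin k → Fin 2 → F) j)).toMul : G) = _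
    rw [Finset.sum_eq_single i (fun j _ hj => by rw [Pi.single_eq_of_ne hj, map_zero]) (by simp),
      Pi.single_eq_same]
  have hι : ∀ i, Function.Injective (Φ.comp (ι i)) := fun i =>
    hΦ.comp fun c d h => Multiplicative.toAdd.injective (Pi.single_injective i (congrArg Multiplicative.toAdd h))
  let V : Fin k → Subgroup G := fun i => (Φ.comp (ι i)).range
  have hconj : ∀ i (g : G) c, g * Φ (ι i c) * g⁻¹ = Φ (ι i (Multiplicative.ofAdd
      ((e (g : G ⧸ Q) : Matrix (Fin 2) (Fin 2) F) *ᵥ c.toAdd))) := fun i g c => by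
    rw [hsingle, hsingle, toAdd_ofAdd, ← hφ, hr]
  have hVn : ∀ i, (V i).Normal := fun i => ⟨by
    rintro _ ⟨c, rfl⟩ g
    exact ⟨_, (hconj i g c).symm⟩⟩
  refine ⟨k, V, fun i => ⟨?_, hVn i, fun g _ => ?_, bot_le,
    (e.toMonoidHom.comp (QuotientGroup.mk' Q)).comp (⊤ : Subgroup G).subtype,
    (MonoidHom.ofInjective (hι i)).symm.toMonoidHom, ?_, ?_, fun u => ?_, fun g u => ?_⟩, ?_, ?_⟩
  · rintro _ ⟨c, rfl⟩
    exact SetLike.coe_mem _
  · rw [Subgroup.normalizer_eq_top_iff.2 (hVn i)]; exact Subgroup.mem_top g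
  · refine MonoidHom.range_eq_top.2 fun s => ?_
    obtain ⟨g, hg⟩ := (e.surjective.comp (QuotientGroup.mk'_surjective Q)) s
    exact ⟨⟨g, Subgroup.mem_top g⟩, hg⟩
  · exact (MonoidHom.ofInjective (hι i)).symm.surjective
  · rw [Subgroup.mem_bot, OneMemClass.coe_eq_one]
    exact map_eq_one_iff _ (MonoidHom.ofInjective (hι i)).symm.injective
  · obtain ⟨c, rfl⟩ := (MonoidHom.ofInjective (hι i)).surjective u
    refine ⟨MonoidHom.ofInjective (hι i) (Multiplicative.ofAdd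
      ((e ((g : G) : G ⧸ Q) : Matrix (Fin 2) (Fin 2) F) *ᵥ c.toAdd)), (hconj i g c).symm, ?_⟩
    simp only [MulEquiv.coe_toMonoidHom, MulEquiv.symm_apply_apply]
    rfl
  · intro i
    rw [disjoint_iff_inf_le]
    rintro z ⟨⟨c, rfl⟩, hz⟩
    let T : Subgroup G :=
      (MonoidHom.ker (AddMonoidHom.toMultiplicative (Pi.evalAddMonoidHom (fun _ => Fin 2 → F) i))).map Φ
    have hle : (⨆ (j : Fin k) (_ : j ≠ i), V j) ≤ T := by
      refine iSup₂_le fun j hj => ?_
      rintro _ ⟨d, rfl⟩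
      exact ⟨ι j d, MonoidHom.mem_ker.2 (Multiplicative.toAdd.injective (Pi.single_eq_of_ne hj.symm _)), rfl⟩
    obtain ⟨d, hd, hde⟩ := hle hz
    rw [Subgroup.mem_bot]
    have hd' : d.toAdd i = 0 := congrArg Multiplicative.toAdd (MonoidHom.mem_ker.1 hd)
    rw [hΦ hde] at hd'
    have hc : c = 1 := Multiplicative.toAdd.injective ((Pi.single_eq_same i _).symm.trans hd')
    rw [hc, map_one]
  · refine le_antisymm (iSup_le fun i => ?_) fun q hq => ?_
    · rintro _ ⟨c, rfl⟩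
      exact SetLike.coe_mem _
    · let S : AddSubgroup (Additive Q) :=
        Subgroup.toAddSubgroup ((⨆ i, V i).comap Q.subtype)
      obtain ⟨c, hc⟩ := hbij.2 (Additive.ofMul ⟨q, hq⟩)
      have hmem : (∑ i, φ i (c i)) ∈ S := sum_mem fun i _ => by
        show ((φ i (c i)).toMul : G) ∈ ⨆ i, V i
        exact Subgroup.mem_iSup_of_mem i ⟨Multiplicative.ofAdd (c i), hsingle i _⟩
      simp only [hc] at hmem
      exact hmem

end Groups

end Cfsg.Agent.Lib.LocalChar.FpfSLTwo
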