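import Cfsg.Agent.Lib.LocalChar.Asymmetric
import Cfsg.Agent.Lib.LocalChar.ThreeSub
import Cfsg.Agent.Lib.LocalChar.Subnormal

/-! The family `ℌ(O_p(M))`. -/

set_option autoImplicit false
set_option linter.unusedSectionVars false

open scoped commutatorElement Pointwise

namespace Cfsg.Agent.Lib.LocalChar

variable {G : Type*} [Group G] [Finite G] {p : ℕ} [hp : Fact p.Prime]

theorem pCoreOf_le_pCoreOf_of_subnormal {Z L : Subgroup G} (hZL : Z ≤ L)
    (hs : (Z.subgroupOf L).IsSubnormal) : Cfsg.pCoreOf p Z ≤ Cfsg.pCoreOf p L := by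
  intro x hx
  refine ⟨⟨x, hZL (pCoreOf_le Z hx)⟩, pCoreOf_le_of_subnormal (p := p) hs ?_, rfl⟩
  refine le_pCoreOf (p := p) (N := (Cfsg.pCoreOf p Z).subgroupOf L) (H := Z.subgroupOf L) ?_ ?_ ?_ hx
  · exact fun y hy => pCoreOf_le Z hy
  · exact le_nz_iff.2 fun k hk y hy =>
      conj_mem_of_nz (H := Cfsg.pCoreOf p Z) (g := (k : G)) (h := (y : G)) (le_nz_pCoreOf Z hk) hy
  · exact isPGroup_subgroupOf (isPGroup_pCoreOf Z)

/-- A normal `p`-subgroup containing all `p`-subgroups gives `p`-closure. -/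
theorem isPClosed_of_normal {A : Type*} [Group A] (f : A →* G) (hf : Function.Injective f) {U : Subgroup G}
    (hU : IsPGroup p U) (hn : f.range ≤ Subgroup.normalizer (U : Set G))
    (hall : ∀ X : Subgroup G, IsPGroup p X → X ≤ f.range → X ≤ U) : Cfsg.IsPClosed p A := by
  intro P
  have h1 : IsPGroup p (U.comap f) := hU.comap_of_injective f hf
  have h2 : (P : Subgroup A) ≤ U.comap f :=
    Subgroup.map_le_iff_le_comap.1 (hall _ (P.isPGroup'.map f) (Subgroup.map_le_range f _))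
  rw [← P.is_maximal' h1 h2]
  exact ⟨fun x hx a => by
    rw [Subgroup.mem_comap, map_mul, map_mul, map_inv]
    exact conj_mem_of_nz (hn ⟨a, rfl⟩) hx⟩

variable {S : Sylow p G} {Q M H : Subgroup G}

theorem frakH_eq (hH : Cfsg.IsInFrakH p M H) {P : Subgroup G} (hPH : P ≤ H)
    (hO : Cfsg.pCoreOf p M ≤ P) (hsub : (P.subgroupOf H).IsSubnormal) : P = H := by
  by_contra hne
  exact hH.2.2.1 ((hH.2.2.2 P hO (lt_of_le_of_ne hPH hne)).trans (pCoreOf_le_pCoreOf_of_subnormal hPH hsub))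

theorem frakH_resOf_sup (hH : Cfsg.IsInFrakH p M H) : resOf p H ⊔ Cfsg.pCoreOf p M = H := by
  refine frakH_eq hH (sup_le (resOf_le H) hH.2.1) le_sup_right (isSubnormal_of_pResidual_le (p := p) ?_)
  rw [← resOf_subgroupOf]
  exact fun x hx => Subgroup.mem_sup_left (show (x : G) ∈ resOf p H from hx)

theorem frakH_closure_sup (hM : Cfsg.IsInFrakM p M) (hH : Cfsg.IsInFrakH p M H) :
    conjClosure H (Cfsg.largestPReducedOf p M) ⊔ Cfsg.pCoreOf p M = H ∧
      resOf p H ⊔ Cfsg.largestPReducedOf p M = conjClosure H (Cfsg.largestPReducedOf p M) := by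
  set Y := Cfsg.largestPReducedOf p M
  set O := Cfsg.pCoreOf p M
  set V := conjClosure H Y
  have hYO : Y ≤ O := frakM_YL_le_core hM
  have hOH : O ≤ H := hH.2.1
  have hVH : V ≤ H := conjClosure_le (hYO.trans hOH) Subgroup.le_normalizer
  have hHV : H ≤ Subgroup.normalizer (V : Set G) := le_nz_conjClosure H Y
  have h1 : V ⊔ O = H := by
    by_contra hne
    have hY := hH.2.2.2 _ le_sup_right (lt_of_le_of_ne (sup_le hVH hOH) hne)
    refine hH.2.2.1 (le_trans (le_inf hY (le_conjClosure H Y)) ?_)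
    refine le_trans (le_pCoreOf (H := V) inf_le_right ?_ ((isPGroup_pCoreOf _).to_le inf_le_left))
      (pCoreOf_mono_normal hVH hHV)
    exact le_nz_inf (le_sup_left.trans (le_nz_pCoreOf _)) Subgroup.le_normalizer
  have hOV : O ≤ Subgroup.normalizer (V : Set G) := hOH.trans hHV
  have hR : resOf p H ≤ V := by
    have := resOf_sup_pGroup (p := p) (isPGroup_pCoreOf M) hOV
    rw [show Cfsg.pCoreOf p M ⊔ V = H by rw [sup_comm]; exact h1] at this
    exact this.le.trans (resOf_le V)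
  refine ⟨h1, le_antisymm (sup_le hR (le_conjClosure H Y)) (conjClosure_le le_sup_right ?_)⟩
  have hHR : H ≤ Subgroup.normalizer (resOf p H : Set G) := Subgroup.le_normalizer.trans (nz_le_nz_resOf H)
  conv_lhs => rw [← frakH_resOf_sup hH]
  exact sup_le (le_sup_left.trans Subgroup.le_normalizer)
    (le_nz_sup (hOH.trans hHR) ((pCoreOf_le M).trans (isPRedOf_YL M).nz))

theorem frakH_commutator (hM : Cfsg.IsInFrakM p M) (hH : Cfsg.IsInFrakH p M H) :
    ⁅resOf p H, Cfsg.largestPReducedOf p M⁆ = resOf p H := by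
  set Y := Cfsg.largestPReducedOf p M
  set O := Cfsg.pCoreOf p M
  set R := resOf p H
  set X := ⁅R, Y⁆
  have hOH : O ≤ H := hH.2.1
  have hYH : Y ≤ H := (frakM_YL_le_core hM).trans hOH
  have hHR : H ≤ Subgroup.normalizer (R : Set G) := Subgroup.le_normalizer.trans (nz_le_nz_resOf H)
  have hXR : X ≤ R := commutator_le_left_of_nz (hYH.trans hHR)
  have hHX : H ≤ Subgroup.normalizer (X : Set G) := by
    conv_lhs => rw [← frakH_resOf_sup hH]
    exact sup_le (left_le_nz_commutator R Y)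
      (le_nz_commutator (hOH.trans hHR) ((pCoreOf_le M).trans (isPRedOf_YL M).nz))
  refine le_antisymm hXR ?_
  have hRY : R ≤ Subgroup.normalizer ((X ⊔ Y : Subgroup G) : Set G) := fun r hr => mem_nz_of_cj_le (by
    show (X ⊔ Y).map _ ≤ _
    rw [Subgroup.map_sup]
    refine sup_le ((cj_eq_of_mem_nz (hHX (resOf_le H hr))).le.trans le_sup_left) (cj_le_iff.2 fun y hy => ?_)
    rw [show r * y * r⁻¹ = ⁅r, y⁆ * y by simp [commutatorElement_def, mul_assoc]]
    exact Subgroup.mul_mem_sup (Subgroup.commutator_mem_commutator hr hy) hy)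
  have hV : conjClosure H Y ≤ X ⊔ Y := by
    refine conjClosure_le le_sup_right ?_
    conv_lhs => rw [← frakH_resOf_sup hH]
    exact sup_le hRY (le_nz_sup (hOH.trans hHX) ((pCoreOf_le M).trans (isPRedOf_YL M).nz))
  have h2 : R ≤ Y ⊔ X := (le_sup_left.trans ((frakH_closure_sup hM hH).2.le)).trans (hV.trans (sup_comm X Y).le)
  calc R = resOf p R := (resOf_idem H).symm
    _ ≤ resOf p (Y ⊔ X) := resOf_mono h2
    _ = resOf p X := resOf_sup_pGroup (isPGroup_of_isEA (isPRedOf_YL M).ea) (hYH.trans hHX)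
    _ ≤ X := resOf_le X

end Cfsg.Agent.Lib.LocalChar
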