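import Cfsg.Agent.Lib.LocalChar.Core

/-! Groups minimal over an elementary abelian subgroup `Y` with small Sylow subgroups modulo `O_p`:
the fixed-point structure on `O_p`. -/

set_option autoImplicit false
set_option linter.unusedSectionVars false
set_option linter.unusedSimpArgs false
set_option linter.style.haveILetI false

open scoped commutatorElement Pointwise

namespace Cfsg.Agent.Lib.LocalChar

variable {H : Type*} [Group H] {p : ℕ}

/-- The standing hypotheses on `Y` in `H` (an abstract form of membership in `𝔏_G(Y_M)`). -/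
structure FLCtx (p : ℕ) {H : Type*} [Group H] (Y : Subgroup H) : Prop where
  comm : ∀ a ∈ Y, ∀ b ∈ Y, Commute a b
  expo : ∀ y ∈ Y, y ^ p = 1
  clo : ∀ N : Subgroup H, N.Normal → Y ≤ N → N = ⊤
  core : ∀ N : Subgroup H, N.Normal → Y ⊓ Cfsg.pCore p H ≤ N → Cfsg.pCore p H ≤ N
  coreNz : Cfsg.pCore p H ≤ Subgroup.normalizer (Y : Set H)
  ne_top : Subgroup.normalizer (Y : Set H) ≠ ⊤
  maxl : ∀ X : Subgroup H, Y ≤ X → X ≠ ⊤ → X ≤ Subgroup.normalizer (Y : Set H)

/-- Some Sylow `p`-subgroup of the quotient has at most `|Ȳ|` solutions of `x ^ p = 1`. -/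
def FLSmall (p : ℕ) {K : Type*} [Group K] (U : Subgroup K) : Prop :=
  ∃ P : Sylow p K, Nat.card {x : K // x ∈ (P : Subgroup K) ∧ x ^ p = 1} ≤ Nat.card U

/-- Every nontrivial element of order prime to `p` is a product of two elements of order `p`, or
is the central square of `s t s` for two braided non-commuting elements of order `p`. -/
def FLReal (p : ℕ) (K : Type*) [Group K] : Prop :=
  ∀ x : K, x ≠ 1 → (orderOf x).Coprime p →
    (∃ s t : K, s ^ p = 1 ∧ t ^ p = 1 ∧ x = s * t) ∨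
      (p ≠ 2 ∧ x ∈ Subgroup.center K ∧ ∃ s t : K, s ^ p = 1 ∧ t ^ p = 1 ∧ ¬ Commute s t ∧
        s * t * s * s * (s * t * s)⁻¹ = t ∧ x = s * t * s * (s * t * s))

theorem cj_map {K : Type*} [Group K] (π : H →* K) (g : H) (Y : Subgroup H) :
    (cj g Y).map π = cj (π g) (Y.map π) := by
  rw [cj, cj, Subgroup.map_map, Subgroup.map_map]
  congr 1
  ext x; simp

variable [hp : Fact p.Prime] [Finite H] {Y : Subgroup H} {K : Type*} [Group K] {π : H →* K}

theorem finite_of_surj (hπ : Function.Surjective π) : Finite K := Finite.of_surjective π hπ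

theorem FLCtx.isPGroup (c : FLCtx p Y) : IsPGroup p Y := fun y =>
  ⟨1, Subtype.ext (by simpa using c.expo y y.2)⟩

theorem FLCtx.not_le_core (c : FLCtx p Y) : ¬ Y ≤ Cfsg.pCore p H := fun h => by
  haveI := pCore_normal (G := H) (p := p)
  exact c.ne_top (top_le_iff.1 ((c.clo _ inferInstance h).ge.trans c.coreNz))

theorem no_normal_pgroup (hπ : Function.Surjective π) (hker : π.ker = Cfsg.pCore p H) {N : Subgroup K}
    (hN : N.Normal) (hNp : IsPGroup p N) : N = ⊥ := by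
  have h1 : IsPGroup p (N.comap π) := hNp.comap_of_ker_isPGroup π (by rw [hker]; exact pCore_isPGroup)
  have h2 : N.comap π ≤ π.ker := hker ▸ le_pCore (hN.comap π) h1
  rw [eq_bot_iff]
  intro x hx
  obtain ⟨g, rfl⟩ := hπ x
  exact h2 (show g ∈ N.comap π from hx)

theorem no_central_pelt (hπ : Function.Surjective π) (hker : π.ker = Cfsg.pCore p H) {z : K}
    (hz : z ∈ Subgroup.center K) (hzp : z ^ p = 1) : z = 1 := by
  have hn : (Subgroup.zpowers z).Normal := ⟨fun x hx g => by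
    have hxc : x ∈ Subgroup.center K := Subgroup.zpowers_le.2 hz hx
    rw [Subgroup.mem_center_iff.1 hxc g, mul_inv_cancel_right]; exact hx⟩
  have hpg : IsPGroup p (Subgroup.zpowers z) := fun x => ⟨1, by
    obtain ⟨n, hn⟩ := Subgroup.mem_zpowers_iff.1 x.2
    apply Subtype.ext
    simp only [pow_one, SubgroupClass.coe_pow, OneMemClass.coe_one, ← hn]
    rw [← zpow_natCast, zpow_comm, zpow_natCast, hzp, one_zpow]⟩
  have := no_normal_pgroup hπ hker hn hpg
  exact Subgroup.mem_bot.1 (this ▸ Subgroup.mem_zpowers z)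

theorem FLCtx.mem_img_of (c : FLCtx p Y) (hπ : Function.Surjective π) (hQ : FLSmall p (Y.map π))
    {P : Sylow p K} (hP : Y.map π ≤ P) {x : K} (hx : x ∈ (P : Subgroup K)) (hxp : x ^ p = 1) :
    x ∈ Y.map π := by
  haveI := finite_of_surj hπ
  obtain ⟨P0, h0⟩ := hQ
  obtain ⟨k, rfl⟩ := MulAction.exists_smul_eq K P0 P
  have hU : ∀ u ∈ Y.map π, u ^ p = 1 := by
    rintro _ ⟨y, hy, rfl⟩; rw [← map_pow, c.expo y hy, map_one]
  have hmem : ∀ y : K, y ∈ ((k • P0 : Sylow p K) : Subgroup K) ↔ k⁻¹ * y * k ∈ (P0 : Subgroup K) := by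
    intro y; exact mem_cj (H := (P0 : Subgroup K))
  let e : {u : K // u ∈ Y.map π} → {x : K // x ∈ (P0 : Subgroup K) ∧ x ^ p = 1} := fun u =>
    ⟨k⁻¹ * u.1 * k, (hmem _).1 (hP u.2), by
      have := conj_pow (i := p) (a := k⁻¹) (b := u.1)
      simpa [hU _ u.2] using this⟩
  have he : Function.Injective e := fun u v h => Subtype.ext
    (mul_left_cancel (mul_right_cancel (congrArg Subtype.val h)))
  obtain ⟨u, hu⟩ := (Nat.bijective_iff_injective_and_card e).2
    ⟨he, le_antisymm (Nat.card_le_card_of_injective e he) h0⟩ |>.2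
    ⟨k⁻¹ * x * k, (hmem _).1 hx, by
      have := conj_pow (i := p) (a := k⁻¹) (b := x)
      simpa [hxp] using this⟩
  have := mul_left_cancel (mul_right_cancel (congrArg Subtype.val hu))
  exact this ▸ u.2

theorem FLCtx.mem_img_of_nz (c : FLCtx p Y) (hπ : Function.Surjective π) (hQ : FLSmall p (Y.map π))
    {x : K} (hx : x ∈ Subgroup.normalizer (Y.map π : Set K)) (hxp : x ^ p = 1) : x ∈ Y.map π := by
  haveI := finite_of_surj hπ
  have hz : IsPGroup p (Subgroup.zpowers x) := fun y => ⟨1, by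
    obtain ⟨n, hn⟩ := Subgroup.mem_zpowers_iff.1 y.2
    apply Subtype.ext
    simp only [pow_one, SubgroupClass.coe_pow, OneMemClass.coe_one, ← hn]
    rw [← zpow_natCast, zpow_comm, zpow_natCast, hxp, one_zpow]⟩
  obtain ⟨P, hP⟩ := (hz.to_sup_of_normal_right' (c.isPGroup.map π) (Subgroup.zpowers_le.2 hx)).exists_le_sylow
  exact c.mem_img_of hπ hQ (le_sup_right.trans hP) (hP (le_sup_left (α := Subgroup K) (Subgroup.mem_zpowers x))) hxp

theorem FLCtx.nz_comap_le (c : FLCtx p Y) (hπ : Function.Surjective π) (hker : π.ker = Cfsg.pCore p H) :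
    (Subgroup.normalizer (Y.map π : Set K)).comap π ≤ Subgroup.normalizer (Y : Set H) := by
  refine c.maxl _ (fun y hy => Subgroup.le_normalizer (Subgroup.mem_map_of_mem π hy)) fun htop => ?_
  have hn : (Y.map π).Normal := Subgroup.normalizer_eq_top_iff.1 (top_le_iff.1 fun k _ => by
    obtain ⟨g, rfl⟩ := hπ k
    exact (htop ▸ Subgroup.mem_top g : g ∈ (Subgroup.normalizer (Y.map π : Set K)).comap π))
  have := no_normal_pgroup hπ hker hn (c.isPGroup.map π)
  exact c.not_le_core fun y hy => hker ▸ Subgroup.mem_bot.1 (this ▸ Subgroup.mem_map_of_mem π hy)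

theorem FLCtx.gen (c : FLCtx p Y) (hπ : Function.Surjective π) (hker : π.ker = Cfsg.pCore p H)
    (hQ : FLSmall p (Y.map π)) {g : H} (hg : cj g Y ≠ Y) : Y ⊔ cj g Y = ⊤ := by
  haveI := finite_of_surj hπ
  by_contra h
  have h1 := c.maxl _ le_sup_left h
  have h2 : cj (π g) (Y.map π) ≤ Y.map π := by
    rw [← cj_map]
    rintro _ ⟨w, hw, rfl⟩
    refine c.mem_img_of_nz hπ hQ ?_ ?_
    · have hsub : π.range.map (MonoidHom.id K) ≤ ⊤ := le_top
      exact Subgroup.le_normalizer_map π (Subgroup.mem_map_of_mem π (h1 (le_sup_right (α := Subgroup H) hw)))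
    · obtain ⟨y, hy, rfl⟩ := hw
      rw [← map_pow, ← map_pow, c.expo y hy, map_one, map_one]
  exact hg (cj_eq_of_mem_nz (c.nz_comap_le hπ hker (mem_nz_of_cj_le h2)))

theorem FLCtx.gen_cj (c : FLCtx p Y) (hπ : Function.Surjective π) (hker : π.ker = Cfsg.pCore p H)
    (hQ : FLSmall p (Y.map π)) {a b : H} (hab : cj a Y ≠ cj b Y) : cj a Y ⊔ cj b Y = ⊤ := by
  have h := c.gen hπ hker hQ (g := a⁻¹ * b) fun h => hab (by rw [← h, cj_cj, mul_inv_cancel_left, h])
  have h' := congrArg (Subgroup.map (MulAut.conj a).toMonoidHom) h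
  rw [Subgroup.map_sup, Subgroup.map_top_of_surjective _ (MulAut.conj a).surjective] at h'
  rwa [show (cj (a⁻¹ * b) Y).map (MulAut.conj a).toMonoidHom = cj b Y by
    show cj a (cj (a⁻¹ * b) Y) = cj b Y
    rw [cj_cj, mul_inv_cancel_left]] at h'

/-- the subgroup `Y ∩ Z(H)` -/
abbrev flZ (Y : Subgroup H) : Subgroup H := Y ⊓ Subgroup.center H

theorem flZ_normal : (flZ Y).Normal := ⟨fun x hx g => by
  rw [Subgroup.mem_center_iff.1 hx.2 g, mul_inv_cancel_right]; exact hx⟩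

theorem flZ_le_cj (a : H) : flZ Y ≤ cj a Y := fun x hx => mem_cj.2 (by
  rw [mul_assoc, ← Subgroup.mem_center_iff.1 hx.2 a, inv_mul_cancel_left]; exact hx.1)

theorem FLCtx.flZ_le_core (c : FLCtx p Y) : flZ Y ≤ Cfsg.pCore p H :=
  le_pCore flZ_normal (c.isPGroup.to_le inf_le_left)

theorem FLCtx.comm_cj (c : FLCtx p Y) {a x y : H} (hx : x ∈ cj a Y) (hy : y ∈ cj a Y) : Commute x y := by
  obtain ⟨u, hu, rfl⟩ := hx
  obtain ⟨v, hv, rfl⟩ := hy
  exact (c.comm u hu v hv).map _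

theorem FLCtx.expo_cj (c : FLCtx p Y) {a x : H} (hx : x ∈ cj a Y) : x ^ p = 1 := by
  obtain ⟨y, hy, rfl⟩ := hx
  rw [← map_pow, c.expo y hy, map_one]

theorem FLCtx.coreNz_cj (c : FLCtx p Y) (a : H) :
    Cfsg.pCore p H ≤ Subgroup.normalizer (cj a Y : Set H) := by
  rw [le_nz_iff]
  intro k hk x hx
  rw [mem_cj] at hx ⊢
  have hk' : a⁻¹ * k * a ∈ Cfsg.pCore p H := by
    simpa using (pCore_normal (G := H) (p := p)).conj_mem k hk a⁻¹
  simpa [mul_assoc] using conj_mem_of_nz (c.coreNz hk') hx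

theorem FLCtx.inter_le (c : FLCtx p Y) (hπ : Function.Surjective π) (hker : π.ker = Cfsg.pCore p H)
    (hQ : FLSmall p (Y.map π)) {a b x : H} (hab : cj a Y ≠ cj b Y) (ha : x ∈ cj a Y) (hb : x ∈ cj b Y) :
    x ∈ flZ Y := by
  have hc : x ∈ Subgroup.center H := by
    have : (⊤ : Subgroup H) ≤ Subgroup.centralizer {x} := by
      rw [← c.gen_cj hπ hker hQ hab]
      refine sup_le (fun y hy => ?_) fun y hy => ?_
      · exact Subgroup.mem_centralizer_singleton_iff.2 (c.comm_cj hy ha).eq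
      · exact Subgroup.mem_centralizer_singleton_iff.2 (c.comm_cj hy hb).eq
    exact Subgroup.mem_center_iff.2 fun g => Subgroup.mem_centralizer_singleton_iff.1 (this (Subgroup.mem_top g))
  refine ⟨?_, hc⟩
  have := mem_cj.1 ha
  rwa [mul_assoc, ← Subgroup.mem_center_iff.1 hc a, inv_mul_cancel_left] at this

theorem FLCtx.ti (c : FLCtx p Y) (hπ : Function.Surjective π) (hker : π.ker = Cfsg.pCore p H)
    (hQ : FLSmall p (Y.map π)) {a b x y : H} (hab : cj a Y ≠ cj b Y) (hx : x ∈ cj a Y) (hy : y ∈ cj b Y)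
    (he : π x = π y) : x ∈ Cfsg.pCore p H := by
  rw [← hker]
  have hxp : π x ^ p = 1 := by rw [← map_pow, c.expo_cj hx, map_one]
  refine no_central_pelt hπ hker ?_ hxp
  have h : (⊤ : Subgroup H) ≤ (Subgroup.centralizer {π x}).comap π := by
    rw [← c.gen_cj hπ hker hQ hab]
    refine sup_le (fun w hw => ?_) fun w hw => ?_
    · exact Subgroup.mem_centralizer_singleton_iff.2 (by rw [← map_mul, ← map_mul, (c.comm_cj hw hx).eq])
    · exact Subgroup.mem_centralizer_singleton_iff.2 (by rw [he, ← map_mul, ← map_mul, (c.comm_cj hw hy).eq])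
  refine Subgroup.mem_center_iff.2 fun k => ?_
  obtain ⟨g, rfl⟩ := hπ k
  exact Subgroup.mem_centralizer_singleton_iff.1 (h (Subgroup.mem_top g))

theorem FLCtx.exists_moved (c : FLCtx p Y) (d : H) : ∃ g : H, cj g Y ≠ cj d Y := by
  by_contra h
  push Not at h
  refine c.ne_top (top_le_iff.1 fun g _ => mem_nz_of_cj_eq ?_)
  rw [h g, ← h 1, cj_one]

theorem FLCtx.core_decomp (c : FLCtx p Y) (hπ : Function.Surjective π) (hker : π.ker = Cfsg.pCore p H)
    (hQ : FLSmall p (Y.map π)) {a b : H} (hab : cj a Y ≠ cj b Y) {x : H} (hx : x ∈ Cfsg.pCore p H) :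
    ∃ u ∈ cj a Y ⊓ Cfsg.pCore p H, ∃ v ∈ cj b Y ⊓ Cfsg.pCore p H, x = u * v := by
  set A := Cfsg.pCore p H
  haveI : A.Normal := pCore_normal
  have hnA : ∀ d, A ≤ Subgroup.normalizer ((cj d Y ⊓ A : Subgroup H) : Set H) := fun d =>
    le_nz_inf (c.coreNz_cj d) Subgroup.le_normalizer
  have hcomm : ∀ d y, y ∈ cj d Y → ∀ u ∈ A, ⁅y, u⁆ ∈ cj d Y ⊓ A := by
    intro d y hy u hu
    refine ⟨?_, ?_⟩
    · rw [show ⁅y, u⁆ = y * (u * y⁻¹ * u⁻¹) by simp [commutatorElement_def, mul_assoc]]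
      exact Subgroup.mul_mem _ hy (conj_mem_of_nz (c.coreNz_cj d hu) (Subgroup.inv_mem _ hy))
    · rw [commutatorElement_def]
      exact A.mul_mem (Subgroup.Normal.conj_mem ‹A.Normal› u hu y) (A.inv_mem hu)
  set D := (cj a Y ⊓ A) ⊔ (cj b Y ⊓ A)
  have hDA : D ≤ A := sup_le inf_le_right inf_le_right
  have hDn : D.Normal := Subgroup.normalizer_eq_top_iff.1 (top_le_iff.1 (by
    rw [← c.gen_cj hπ hker hQ hab]
    refine sup_le ?_ ?_ <;> (rw [le_nz_iff]; intro y hy u hu)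
    · rw [show y * u * y⁻¹ = ⁅y, u⁆ * u by simp [commutatorElement_def]]
      exact D.mul_mem (le_sup_left (α := Subgroup H) (hcomm a y hy u (hDA hu))) hu
    · rw [show y * u * y⁻¹ = ⁅y, u⁆ * u by simp [commutatorElement_def]]
      exact D.mul_mem (le_sup_right (α := Subgroup H) (hcomm b y hy u (hDA hu))) hu))
  have hYD : Y ⊓ A ≤ D := fun y hy => by
    have h1 : a * y * a⁻¹ ∈ D := le_sup_left (α := Subgroup H)
      ⟨conj_mem_cj hy.1, Subgroup.Normal.conj_mem ‹A.Normal› y hy.2 a⟩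
    simpa [mul_assoc] using hDn.conj_mem _ h1 a⁻¹
  exact (mem_sup_iff_of_nz (inf_le_right.trans (hnA b))).1 (c.core D hDn hYD hx)

theorem FLCtx.core_comm (c : FLCtx p Y) (hπ : Function.Surjective π) (hker : π.ker = Cfsg.pCore p H)
    (hQ : FLSmall p (Y.map π)) [(flZ Y).Normal] {x y : H} (hx : x ∈ Cfsg.pCore p H) (hy : y ∈ Cfsg.pCore p H) :
    Commute (QuotientGroup.mk' (flZ Y) x) (QuotientGroup.mk' (flZ Y) y) := by
  obtain ⟨g, hg⟩ := c.exists_moved 1
  obtain ⟨u, hu, v, hv, rfl⟩ := c.core_decomp hπ hker hQ hg hx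
  obtain ⟨u', hu', v', hv', rfl⟩ := c.core_decomp hπ hker hQ hg hy
  have hmix : ∀ {r s : H}, r ∈ cj g Y ⊓ Cfsg.pCore p H → s ∈ cj 1 Y ⊓ Cfsg.pCore p H →
      Commute (QuotientGroup.mk' (flZ Y) r) (QuotientGroup.mk' (flZ Y) s) := by
    intro r s hr hs
    rw [← commutatorElement_eq_one_iff_commute, ← map_commutatorElement, ← MonoidHom.mem_ker,
      QuotientGroup.ker_mk']
    refine c.inter_le hπ hker hQ hg ?_ ?_
    · rw [show ⁅r, s⁆ = r * (s * r⁻¹ * s⁻¹) by simp [commutatorElement_def, mul_assoc]]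
      exact Subgroup.mul_mem _ hr.1 (conj_mem_of_nz (c.coreNz_cj g hs.2) (Subgroup.inv_mem _ hr.1))
    · rw [commutatorElement_def]
      exact Subgroup.mul_mem _ (conj_mem_of_nz (c.coreNz_cj 1 hr.2) hs.1) (Subgroup.inv_mem _ hs.1)
  rw [map_mul, map_mul]
  exact ((((c.comm_cj hu.1 hu'.1).map _).mul_right (hmix hu hv'))).mul_left
    ((hmix hu' hv).symm.mul_right ((c.comm_cj hv.1 hv'.1).map _))

theorem FLCtx.mem_cj_of_fixed (c : FLCtx p Y) (hπ : Function.Surjective π) (hker : π.ker = Cfsg.pCore p H)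
    (hQ : FLSmall p (Y.map π)) {d y a : H} (hy : y ∈ cj d Y) (hyA : y ∉ Cfsg.pCore p H)
    (ha : a ∈ Cfsg.pCore p H) (hfix : ⁅y, a⁆ ∈ flZ Y) : a ∈ cj d Y := by
  haveI : (flZ Y).Normal := flZ_normal
  set q := QuotientGroup.mk' (flZ Y)
  obtain ⟨g, hg⟩ := c.exists_moved d
  obtain ⟨u, hu, v, hv, rfl⟩ := c.core_decomp hπ hker hQ hg.symm ha
  refine Subgroup.mul_mem _ hu.1 ?_
  have hyv : Commute (q y) (q v) := by
    have h1 : Commute (q y) (q (u * v)) := by
      rw [← commutatorElement_eq_one_iff_commute, ← map_commutatorElement, ← MonoidHom.mem_ker,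
        QuotientGroup.ker_mk']
      exact hfix
    rw [map_mul] at h1
    simpa using (((c.comm_cj hy hu.1).map q).inv_right.mul_right h1)
  set T := (Subgroup.centralizer {q v}).comap q
  have hTg : cj g Y ≤ T := fun w hw =>
    Subgroup.mem_centralizer_singleton_iff.2 ((c.comm_cj hw hv.1).map q).eq
  have hTy : y ∈ T := Subgroup.mem_centralizer_singleton_iff.2 hyv.eq
  by_cases hT : T = ⊤
  · have hcent : ∀ x : H, ⁅x, v⁆ ∈ Subgroup.center H := by
      intro x
      have hx : x ∈ T := hT ▸ Subgroup.mem_top x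
      have h1 := Subgroup.mem_centralizer_singleton_iff.1 hx
      have h2 : ⁅x, v⁆ ∈ flZ Y := by
        rw [← QuotientGroup.ker_mk' (flZ Y), MonoidHom.mem_ker, map_commutatorElement,
          commutatorElement_eq_one_iff_commute]
        exact h1
      exact h2.2
    have hCn : (Subgroup.centralizer {v}).Normal := ⟨fun z hz x => by
      rw [Subgroup.mem_centralizer_singleton_iff] at hz ⊢
      have hk := Subgroup.mem_center_iff.1 (hcent x⁻¹) z
      have hv' : x⁻¹ * v * x = ⁅x⁻¹, v⁆ * v := by simp [commutatorElement_def]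
      have h3 : z * (x⁻¹ * v * x) = (x⁻¹ * v * x) * z := by
        rw [hv', ← mul_assoc, hk, mul_assoc, hz, mul_assoc]
      calc x * z * x⁻¹ * v = x * (z * (x⁻¹ * v * x)) * x⁻¹ := by group
        _ = x * ((x⁻¹ * v * x) * z) * x⁻¹ := by rw [h3]
        _ = v * (x * z * x⁻¹) := by group⟩
    have hY : Y ≤ Subgroup.centralizer {v} := fun w hw => by
      have h1 : g * w * g⁻¹ ∈ Subgroup.centralizer {v} :=
        Subgroup.mem_centralizer_singleton_iff.2 (c.comm_cj (conj_mem_cj hw) hv.1).eq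
      simpa [mul_assoc] using hCn.conj_mem _ h1 g⁻¹
    have hvc : v ∈ Subgroup.center H := Subgroup.mem_center_iff.2 fun x =>
      Subgroup.mem_centralizer_singleton_iff.1 (c.clo _ hCn hY ▸ Subgroup.mem_top x)
    refine flZ_le_cj d ⟨?_, hvc⟩
    have := mem_cj.1 hv.1
    rwa [mul_assoc, ← Subgroup.mem_center_iff.1 hvc g, inv_mul_cancel_left] at this
  · exfalso
    -- `T` lies in the normaliser of `cj g Y`
    have h1 : cj g⁻¹ T ≤ Subgroup.normalizer (Y : Set H) := by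
      refine c.maxl _ (fun w hw => mem_cj.2 (hTg (by simpa [mem_cj, mul_assoc] using hw))) fun h => hT ?_
      rw [← cj_one T, ← mul_inv_cancel g, ← cj_cj, h]
      exact Subgroup.map_top_of_surjective _ (MulAut.conj g).surjective
    have hyn : g⁻¹ * y * g ∈ Subgroup.normalizer (Y : Set H) :=
      h1 (by simpa [mem_cj, mul_assoc] using hTy)
    have hy' : π (g⁻¹ * y * g) ∈ Y.map π := c.mem_img_of_nz hπ hQ
      (Subgroup.le_normalizer_map π (Subgroup.mem_map_of_mem π hyn))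
      (by rw [← map_pow, show g⁻¹ * y * g = g⁻¹ * y * g⁻¹⁻¹ by simp, conj_pow, c.expo_cj hy]; simp)
    obtain ⟨w, hw, hwe⟩ := hy'
    refine hyA (c.ti hπ hker hQ hg.symm hy (conj_mem_cj hw) ?_)
    rw [map_mul, map_mul, hwe]; simp [mul_assoc]

theorem FLCtx.lift (c : FLCtx p Y) (hπ : Function.Surjective π) (hker : π.ker = Cfsg.pCore p H)
    (hQ : FLSmall p (Y.map π)) {x : K} (hx : x ^ p = 1) (hx1 : x ≠ 1) :
    ∃ d y, y ∈ cj d Y ∧ y ∉ Cfsg.pCore p H ∧ π y = x := by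
  haveI := finite_of_surj hπ
  have hz : IsPGroup p (Subgroup.zpowers x) := fun y => ⟨1, by
    obtain ⟨n, hn⟩ := Subgroup.mem_zpowers_iff.1 y.2
    apply Subtype.ext
    simp only [pow_one, SubgroupClass.coe_pow, OneMemClass.coe_one, ← hn]
    rw [← zpow_natCast, zpow_comm, zpow_natCast, hx, one_zpow]⟩
  obtain ⟨P, hP⟩ := hz.exists_le_sylow
  obtain ⟨P1, hP1⟩ := (c.isPGroup.map π).exists_le_sylow
  obtain ⟨k, rfl⟩ := MulAction.exists_smul_eq K P1 P
  obtain ⟨d, rfl⟩ := hπ k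
  have hx' : (π d)⁻¹ * x * π d ∈ (P1 : Subgroup K) :=
    (mem_cj (H := (P1 : Subgroup K))).1 (hP (Subgroup.mem_zpowers x))
  obtain ⟨w, hw, hwe⟩ := c.mem_img_of hπ hQ hP1 hx' (by
    have := conj_pow (i := p) (a := (π d)⁻¹) (b := x)
    simpa [hx] using this)
  refine ⟨d, d * w * d⁻¹, conj_mem_cj hw, fun hm => hx1 ?_, ?_⟩
  · rw [← hker, MonoidHom.mem_ker, map_mul, map_mul, hwe] at hm
    simpa [mul_assoc] using hm
  · rw [map_mul, map_mul, hwe]; simp [mul_assoc]

variable [hZn : (flZ Y).Normal]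

local notation "qq" => QuotientGroup.mk' (flZ Y)

theorem flZ_iff {a b : H} : ⁅a, b⁆ ∈ flZ Y ↔ Commute (qq a) (qq b) := by
  rw [← commutatorElement_eq_one_iff_commute, ← map_commutatorElement, ← MonoidHom.mem_ker,
    QuotientGroup.ker_mk']

theorem FLCtx.comm_right (c : FLCtx p Y) {d y a : H} (hy : y ∈ cj d Y) (ha : a ∈ Cfsg.pCore p H) :
    ⁅y, a⁆ ∈ cj d Y ⊓ Cfsg.pCore p H := by
  refine ⟨?_, ?_⟩
  · rw [show ⁅y, a⁆ = y * (a * y⁻¹ * a⁻¹) by simp [commutatorElement_def, mul_assoc]]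
    exact Subgroup.mul_mem _ hy (conj_mem_of_nz (c.coreNz_cj d ha) (Subgroup.inv_mem _ hy))
  · rw [commutatorElement_def]
    exact Subgroup.mul_mem _ ((pCore_normal (G := H) (p := p)).conj_mem a ha y) (Subgroup.inv_mem _ ha)

theorem FLCtx.prod_case (c : FLCtx p Y) (hπ : Function.Surjective π) (hker : π.ker = Cfsg.pCore p H)
    (hQ : FLSmall p (Y.map π)) {d e s t a : H} (hde : cj d Y ≠ cj e Y) (hs : s ∈ cj d Y) (ht : t ∈ cj e Y)
    (hsA : s ∉ Cfsg.pCore p H) (htA : t ∉ Cfsg.pCore p H) (ha : a ∈ Cfsg.pCore p H)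
    (hfix : ⁅s * t, a⁆ ∈ flZ Y) : a ∈ flZ Y := by
  have hw := c.comm_right ht ha
  have h1 : ⁅t, a⁆ ∈ cj d Y := by
    have hsw : s * ⁅t, a⁆ * s⁻¹ ∈ cj d Y := by
      rw [show s * ⁅t, a⁆ * s⁻¹ = ⁅s * t, a⁆ * ⁅s, a⁆⁻¹ by simp [commutatorElement_def, mul_assoc]]
      exact Subgroup.mul_mem _ (flZ_le_cj d hfix) (Subgroup.inv_mem _ (c.comm_right hs ha).1)
    simpa [mul_assoc] using Subgroup.mul_mem _ (Subgroup.mul_mem _ (Subgroup.inv_mem _ hs) hsw) hs
  have hwZ := c.inter_le hπ hker hQ hde h1 hw.1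
  have hsZ : ⁅s, a⁆ ∈ flZ Y := by
    rw [show ⁅s, a⁆ = (s * ⁅t, a⁆ * s⁻¹)⁻¹ * ⁅s * t, a⁆ by simp [commutatorElement_def, mul_assoc]]
    exact Subgroup.mul_mem _ (Subgroup.inv_mem _ (hZn.conj_mem _ hwZ s)) hfix
  exact c.inter_le hπ hker hQ hde (c.mem_cj_of_fixed hπ hker hQ hs hsA ha hsZ)
    (c.mem_cj_of_fixed hπ hker hQ ht htA ha hwZ)

theorem FLCtx.square_inverts (c : FLCtx p Y) (hπ : Function.Surjective π) (hker : π.ker = Cfsg.pCore p H)
    (hQ : FLSmall p (Y.map π)) {d e s t α w : H} (hde : cj d Y ≠ cj e Y) (hs : s ∈ cj d Y) (ht : t ∈ cj e Y)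
    (htA : t ∉ Cfsg.pCore p H) (hα : α ∈ Cfsg.pCore p H)
    (hbr : s * t * s * s * (s * t * s)⁻¹ = t * α) (hw : w ∈ cj d Y ⊓ Cfsg.pCore p H) :
    qq (s * t * s * (s * t * s)) * qq w * (qq (s * t * s * (s * t * s)))⁻¹ = (qq w)⁻¹ := by
  set n := s * t * s with hn
  obtain ⟨g, hgdef⟩ : ∃ g, g = ⁅t, w⁆ := ⟨_, rfl⟩
  have hg := c.comm_right ht hw.2
  rw [← hgdef] at hg
  obtain ⟨f, hfdef⟩ : ∃ f, f = ⁅s, g⁆ := ⟨_, rfl⟩
  have hf := c.comm_right hs hg.2
  rw [← hfdef] at hf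
  have hsw : qq s * qq w * (qq s)⁻¹ = qq w := by
    rw [((c.comm_cj hs hw.1).map qq).eq, mul_inv_cancel_right]
  have htg : qq t * qq g * (qq t)⁻¹ = qq g := by
    rw [((c.comm_cj ht hg.1).map qq).eq, mul_inv_cancel_right]
  have htw : qq t * qq w * (qq t)⁻¹ = qq g * qq w := by
    simp [hgdef, map_commutatorElement, commutatorElement_def]
  have hsg : qq s * qq g * (qq s)⁻¹ = qq f * qq g := by
    simp [hfdef, map_commutatorElement, commutatorElement_def]
  have hnw : qq n * qq w * (qq n)⁻¹ = qq f * qq g * qq w := by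
    rw [show qq n * qq w * (qq n)⁻¹ =
        qq s * (qq t * (qq s * qq w * (qq s)⁻¹) * (qq t)⁻¹) * (qq s)⁻¹ by rw [hn, map_mul, map_mul]; group,
      hsw, htw, show qq s * (qq g * qq w) * (qq s)⁻¹ = (qq s * qq g * (qq s)⁻¹) * (qq s * qq w * (qq s)⁻¹)
        by group, hsg, hsw]
  have hV : ∀ {x y : H}, x ∈ Cfsg.pCore p H → y ∈ Cfsg.pCore p H → Commute (qq x) (qq y) :=
    fun hx hy => c.core_comm hπ hker hQ hx hy
  -- `n w n⁻¹` lies in the conjugate containing `t`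
  have hnwe : n * w * n⁻¹ ∈ cj e Y := by
    have hmem : n * w * n⁻¹ ∈ Cfsg.pCore p H := (pCore_normal (G := H) (p := p)).conj_mem w hw.2 n
    refine c.mem_cj_of_fixed hπ hker hQ ht htA hmem (flZ_iff.2 ?_)
    have h1 : Commute (qq (t * α)) (qq (n * w * n⁻¹)) := by
      refine Commute.map ?_ qq
      rw [← hbr]
      exact (Commute.conj_iff n).2 (c.comm_cj hs hw.1)
    rw [map_mul] at h1
    simpa using h1.mul_left (hV hα hmem).inv_left
  have hfw : f * w ∈ flZ Y := by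
    refine c.inter_le hπ hker hQ hde (Subgroup.mul_mem _ hf.1 hw.1) ?_
    have h1 : (n * w * n⁻¹) * g⁻¹ ∈ cj e Y := Subgroup.mul_mem _ hnwe (Subgroup.inv_mem _ hg.1)
    have h2 : qq (f * w) = qq ((n * w * n⁻¹) * g⁻¹) := by
      rw [map_mul, map_mul qq (n * w * n⁻¹), map_mul qq (n * w), map_mul qq n, map_inv, map_inv, hnw,
        mul_assoc (qq f), (hV hg.2 hw.2).eq]
      group
    have h3 : ((n * w * n⁻¹) * g⁻¹)⁻¹ * (f * w) ∈ flZ Y := (QuotientGroup.eq).1 h2.symm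
    have h4 := Subgroup.mul_mem _ h1 (flZ_le_cj e h3)
    rwa [mul_inv_cancel_left] at h4
  have hfw' : qq f = (qq w)⁻¹ := by
    refine eq_inv_of_mul_eq_one_left ?_
    rw [← map_mul, ← MonoidHom.mem_ker, QuotientGroup.ker_mk']; exact hfw
  have hnw' : qq n * qq w * (qq n)⁻¹ = qq g := by
    rw [hnw, hfw', mul_assoc, (hV hg.2 hw.2).eq, inv_mul_cancel_left]
  have hng : qq n * qq g * (qq n)⁻¹ = (qq w)⁻¹ := by
    rw [show qq n * qq g * (qq n)⁻¹ =
        qq s * (qq t * (qq s * qq g * (qq s)⁻¹) * (qq t)⁻¹) * (qq s)⁻¹ by rw [hn, map_mul, map_mul]; group,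
      hsg, hfw', show qq t * ((qq w)⁻¹ * qq g) * (qq t)⁻¹ =
        (qq t * qq w * (qq t)⁻¹)⁻¹ * (qq t * qq g * (qq t)⁻¹) by group, htw, htg,
      mul_inv_rev, inv_mul_cancel_right,
      show qq s * (qq w)⁻¹ * (qq s)⁻¹ = (qq s * qq w * (qq s)⁻¹)⁻¹ by group, hsw]
  rw [show qq (n * n) * qq w * (qq (n * n))⁻¹ = qq n * (qq n * qq w * (qq n)⁻¹) * (qq n)⁻¹ by
    rw [map_mul]; group, hnw', hng]

theorem FLCtx.central_case (c : FLCtx p Y) (hπ : Function.Surjective π) (hker : π.ker = Cfsg.pCore p H)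
    (hQ : FLSmall p (Y.map π)) (hp2 : p ≠ 2) {d e s t α β a : H} (hde : cj d Y ≠ cj e Y) (hs : s ∈ cj d Y)
    (ht : t ∈ cj e Y) (hsA : s ∉ Cfsg.pCore p H) (htA : t ∉ Cfsg.pCore p H) (hα : α ∈ Cfsg.pCore p H)
    (hbr : s * t * s * s * (s * t * s)⁻¹ = t * α) (hβ : β ∈ Cfsg.pCore p H)
    (hz : s * t * s * (s * t * s) * s * (s * t * s * (s * t * s))⁻¹ = s * β)
    (ha : a ∈ Cfsg.pCore p H) (hfix : ⁅s * t * s * (s * t * s), a⁆ ∈ flZ Y) : a ∈ flZ Y := by
  set z := s * t * s * (s * t * s) with hzdef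
  have hkey : ∀ {w}, w ∈ cj d Y ⊓ Cfsg.pCore p H → Commute (qq z) (qq w) → w ∈ flZ Y := by
    intro w hw hcw
    have h := c.square_inverts hπ hker hQ hde hs ht htA hα hbr hw
    rw [← hzdef, hcw.eq, mul_inv_cancel_right] at h
    have h2 : qq w ^ 2 = 1 := by rw [pow_two]; nth_rewrite 1 [h]; exact inv_mul_cancel _
    have hp' : qq w ^ p = 1 := by rw [← map_pow, c.expo_cj hw.1, map_one]
    have h1 : qq w = 1 := eq_one_of_pow_coprime (p := p) (n := 2)
      ((Nat.coprime_primes Nat.prime_two hp.out).2 (Ne.symm hp2)) ⟨1, by simpa using hp'⟩ h2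
    rwa [← MonoidHom.mem_ker, QuotientGroup.ker_mk'] at h1
  have hza : Commute (qq z) (qq a) := flZ_iff.1 hfix
  have hzs : qq z * qq s * (qq z)⁻¹ = qq s * qq β := by
    rw [← map_mul, ← map_inv, ← map_mul, hz, map_mul]
  have hw : ⁅s, a⁆ ∈ flZ Y := by
    refine hkey (c.comm_right hs ha) ?_
    have hab : Commute (qq a) (qq β) := c.core_comm hπ hker hQ ha hβ
    have : qq z * qq ⁅s, a⁆ * (qq z)⁻¹ = qq ⁅s, a⁆ := by
      rw [map_commutatorElement, conjugate_commutatorElement, hzs, hza.eq, mul_inv_cancel_right]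
      simp only [commutatorElement_def]
      rw [mul_inv_rev, mul_assoc (qq s) (qq β) (qq a), ← hab.eq]
      group
    exact eq_mul_inv_iff_mul_eq.1 this.symm |>.symm
  have had : a ∈ cj d Y := c.mem_cj_of_fixed hπ hker hQ hs hsA ha hw
  exact hkey ⟨had, ha⟩ hza

/-- Elements whose order is not a power of `p` act on `O_p(H)/(Y ∩ Z(H))` without fixed points. -/
theorem FLCtx.fixed_point_free (c : FLCtx p Y) (hπ : Function.Surjective π) (hker : π.ker = Cfsg.pCore p H)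
    (hQ : FLSmall p (Y.map π)) (hR : FLReal p K) {h a : H} (hh : ¬ ∃ k : ℕ, orderOf h = p ^ k)
    (ha : a ∈ Cfsg.pCore p H) (hfix : ⁅h, a⁆ ∈ flZ Y) : a ∈ flZ Y := by
  obtain ⟨u, b, -, hb, hub, ⟨i, hi⟩, hbo⟩ := exists_ppart (p := p) h
  have hb1 : b ≠ 1 := fun hb => hh ⟨i, by rw [hub, hb, mul_one, hi]⟩
  have hbfix : Commute (qq b) (qq a) := by
    obtain ⟨n, rfl⟩ := Subgroup.mem_zpowers_iff.1 hb
    rw [map_zpow]
    exact (flZ_iff.1 hfix).zpow_left n
  have hπb : π b ≠ 1 := fun hm => hb1 (eq_one_of_isPGroup_of_coprime (pCore_isPGroup (G := H))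
    (by rw [← hker]; exact MonoidHom.mem_ker.2 hm) hbo)
  have hbo' : (orderOf (π b)).Coprime p := Nat.Coprime.coprime_dvd_left (orderOf_map_dvd π b) hbo
  have hne : ∀ {x : K}, x ^ p = 1 → x ≠ π b := fun {x} hx hxe =>
    hπb (eq_one_of_pow_coprime hbo' ⟨1, by rw [pow_one, ← hxe]; exact hx⟩ (pow_orderOf_eq_one _))
  have hlift : ∀ {x y : H}, π x = π y → x⁻¹ * y ∈ Cfsg.pCore p H := fun {x y} h => by
    rw [← hker, MonoidHom.mem_ker, map_mul, map_inv, h, inv_mul_cancel]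
  -- transport the fixed point to a lift
  have htr : ∀ {x : H}, π x = π b → ⁅x, a⁆ ∈ flZ Y := by
    intro x hx
    rw [flZ_iff]
    have h1 : Commute (qq (b * (b⁻¹ * x))) (qq a) := by
      rw [map_mul]; exact hbfix.mul_left (c.core_comm hπ hker hQ (hlift hx.symm) ha)
    rwa [mul_inv_cancel_left] at h1
  rcases hR (π b) hπb hbo' with ⟨s, t, hs, ht, he⟩ | ⟨hp2, hcen, s, t, hs, ht, hst, hbr, he⟩
  · have hs1 : s ≠ 1 := fun h => hne ht (by rw [he, h, one_mul])
    have ht1 : t ≠ 1 := fun h => hne hs (by rw [he, h, mul_one])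
    obtain ⟨d, S, hS, hSA, rfl⟩ := c.lift hπ hker hQ hs hs1
    obtain ⟨e, T, hT, hTA, rfl⟩ := c.lift hπ hker hQ ht ht1
    refine c.prod_case hπ hker hQ (fun hde => ?_) hS hT hSA hTA ha (htr (by rw [map_mul, he]))
    have hST : S * T ∈ cj d Y := Subgroup.mul_mem _ hS (hde ▸ hT)
    exact hne (x := π (S * T)) (by rw [← map_pow, c.expo_cj hST, map_one]) (by rw [map_mul, he])
  · have hs1 : s ≠ 1 := fun h => hst (h ▸ Commute.one_left t)
    have ht1 : t ≠ 1 := fun h => hst (h ▸ Commute.one_right s)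
    obtain ⟨d, S, hS, hSA, rfl⟩ := c.lift hπ hker hQ hs hs1
    obtain ⟨e, T, hT, hTA, rfl⟩ := c.lift hπ hker hQ ht ht1
    refine c.central_case hπ hker hQ hp2 (fun hde => hst ((c.comm_cj hS (hde ▸ hT)).map π)) hS hT hSA hTA
      (α := T⁻¹ * (S * T * S * S * (S * T * S)⁻¹)) ?_ (by rw [mul_inv_cancel_left])
      (β := S⁻¹ * (S * T * S * (S * T * S) * S * (S * T * S * (S * T * S))⁻¹)) ?_
      (by rw [mul_inv_cancel_left]) ha (htr (by simp only [map_mul]; rw [he]))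
    · exact hlift (by simp only [map_mul, map_inv]; rw [hbr])
    · refine hlift ?_
      simp only [map_mul, map_inv]
      rw [← he, ← Subgroup.mem_center_iff.1 hcen (π S), mul_inv_cancel_right]

/-- If `|Ȳ| = 2` the quotient is dihedral of twice odd order. -/
theorem FLCtx.props_of_two {Y : Subgroup H} (c : FLCtx 2 Y) (hπ : Function.Surjective π)
    (hker : π.ker = Cfsg.pCore 2 H) (hU : Nat.card (Y.map π) = 2) :
    FLSmall 2 (Y.map π) ∧ FLReal 2 K := by
  haveI : Fact (Nat.Prime 2) := ⟨Nat.prime_two⟩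
  haveI := finite_of_surj hπ
  obtain ⟨g, hg⟩ : ∃ g : H, ¬ cj g Y ≤ Subgroup.normalizer (Y : Set H) := by
    by_contra h
    push Not at h
    refine c.ne_top (top_le_iff.1 ?_)
    rw [← c.clo (Subgroup.normalClosure (Y : Set H)) inferInstance Subgroup.le_normalClosure,
      Subgroup.normalClosure, Subgroup.closure_le]
    intro x hx
    obtain ⟨y, hy, hyx⟩ := Group.mem_conjugatesOfSet_iff.1 hx
    obtain ⟨k, rfl⟩ := isConj_iff.1 hyx
    exact h k (conj_mem_cj hy)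
  have htop : Y ⊔ cj g Y = ⊤ := by
    by_contra h
    exact hg (le_sup_right.trans (c.maxl _ le_sup_left h))
  haveI : Nontrivial (Y.map π : Subgroup K) :=
    Finite.one_lt_card_iff_nontrivial.1 (by rw [hU]; exact one_lt_two)
  obtain ⟨⟨u, huU⟩, hu⟩ := exists_ne (1 : (Y.map π : Subgroup K))
  have hu1 : u ≠ 1 := fun h => hu (Subtype.ext h)
  have hUmem : ∀ w ∈ Y.map π, w = 1 ∨ w = u := by
    intro w hw
    by_contra h
    push Not at h
    haveI := Fintype.ofFinite (Y.map π : Subgroup K)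
    classical
    have h3 : ({1, ⟨u, huU⟩, ⟨w, hw⟩} : Finset (Y.map π : Subgroup K)).card ≤ 2 := by
      rw [← hU, Nat.card_eq_fintype_card]; exact Finset.card_le_univ _
    rw [Finset.card_insert_of_notMem (by simp [Subtype.ext_iff, Ne.symm hu1, Ne.symm h.1]),
      Finset.card_insert_of_notMem (by simp [Subtype.ext_iff, Ne.symm h.2])] at h3
    simp at h3
  have huu : u * u = 1 := by
    obtain ⟨y, hy, rfl⟩ := huU
    rw [← pow_two, ← map_pow, c.expo y hy, map_one]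
  set u' := π g * u * (π g)⁻¹
  have hu'u' : u' * u' = 1 := by
    simp only [u']
    rw [show π g * u * (π g)⁻¹ * (π g * u * (π g)⁻¹) = π g * (u * u) * (π g)⁻¹ by group, huu]
    group
  set x := u * u' with hx
  set N := Subgroup.zpowers x
  have hux : u * x * u⁻¹ = x⁻¹ := by
    rw [inv_eq_of_mul_eq_one_right huu, hx, mul_inv_rev, inv_eq_of_mul_eq_one_right huu,
      inv_eq_of_mul_eq_one_right hu'u', ← mul_assoc, huu, one_mul]
  have hun : Subgroup.zpowers u ≤ Subgroup.normalizer (N : Set K) := by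
    rw [Subgroup.zpowers_le]
    refine mem_nz_of_cj_le (cj_le_iff.2 fun w hw => ?_)
    obtain ⟨n, rfl⟩ := Subgroup.mem_zpowers_iff.1 hw
    rw [← conj_zpow, hux]
    exact Subgroup.zpow_mem _ (Subgroup.inv_mem _ (Subgroup.mem_zpowers x)) n
  have hgen : ∀ k : K, (∃ n : ℤ, k = x ^ n) ∨ ∃ n : ℤ, k = x ^ n * u := by
    intro k
    obtain ⟨h, rfl⟩ := hπ k
    have h1 : π h ∈ N ⊔ Subgroup.zpowers u := by
      have hle : (Y ⊔ cj g Y).map π ≤ N ⊔ Subgroup.zpowers u := by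
        rw [Subgroup.map_sup, cj_map]
        refine sup_le (fun w hw => ?_) fun w hw => ?_
        · rcases hUmem w hw with h | h <;> rw [h]
          · exact Subgroup.one_mem _
          · exact le_sup_right (α := Subgroup K) (Subgroup.mem_zpowers u)
        · rcases hUmem _ (mem_cj.1 hw) with h | h
          · rw [show w = π g * ((π g)⁻¹ * w * π g) * (π g)⁻¹ by group, h, mul_one, mul_inv_cancel]
            exact Subgroup.one_mem _
          · rw [show w = π g * ((π g)⁻¹ * w * π g) * (π g)⁻¹ by group, h,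
              show π g * u * (π g)⁻¹ = u * x by rw [hx, ← mul_assoc, huu, one_mul]]
            exact Subgroup.mul_mem _ (le_sup_right (α := Subgroup K) (Subgroup.mem_zpowers u))
              (le_sup_left (α := Subgroup K) (Subgroup.mem_zpowers x))
      exact hle (Subgroup.mem_map_of_mem π (htop ▸ Subgroup.mem_top h))
    obtain ⟨a, ha, b, hb, hab⟩ := (mem_sup_iff_of_nz' hun).1 h1
    obtain ⟨n, rfl⟩ := Subgroup.mem_zpowers_iff.1 ha
    obtain ⟨m, rfl⟩ := Subgroup.mem_zpowers_iff.1 hb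
    rcases Int.even_or_odd m with ⟨r, rfl⟩ | ⟨r, rfl⟩
    · left; exact ⟨n, by rw [hab, zpow_add, ← (Commute.refl u).mul_zpow, huu, one_zpow, mul_one]⟩
    · right; exact ⟨n, by
        rw [hab, zpow_add, two_mul, zpow_add, ← (Commute.refl u).mul_zpow, huu, one_zpow, one_mul, zpow_one]⟩
  have hodd : (orderOf x).Coprime 2 := by
    rw [Nat.coprime_two_right]
    by_contra hev
    rw [Nat.not_odd_iff_even] at hev
    obtain ⟨r, hr⟩ := hev
    have hpos := orderOf_pos x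
    have hz2 : (x ^ r) ^ 2 = 1 := by rw [← pow_mul, mul_two, ← hr, pow_orderOf_eq_one]
    have hzc : x ^ r ∈ Subgroup.center K := by
      refine Subgroup.mem_center_iff.2 fun k => ?_
      have hxr : Commute (x ^ r) u := by
        have : u * x ^ r * u⁻¹ = x ^ r := by
          rw [← conj_pow, hux, inv_pow, inv_eq_of_mul_eq_one_right (by rw [← pow_two]; exact hz2)]
        exact (mul_inv_eq_iff_eq_mul.1 this).symm
      rcases hgen k with ⟨n, rfl⟩ | ⟨n, rfl⟩
      · exact ((Commute.refl x).pow_left r).zpow_right n |>.eq.symm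
      · exact (((Commute.refl x).pow_left r).zpow_right n).mul_right hxr |>.eq.symm
    have := orderOf_dvd_of_pow_eq_one (no_central_pelt (p := 2) hπ hker hzc hz2)
    have := Nat.le_of_dvd (by omega) this
    omega
  have hsq : ∀ n : ℤ, (x ^ n * u) * (x ^ n * u) = 1 := fun n => by
    rw [show x ^ n * u * (x ^ n * u) = x ^ n * (u * x ^ n * u⁻¹) * (u * u) by group, huu, mul_one,
      ← conj_zpow, hux, inv_zpow, mul_inv_cancel]
  have hxn : ∀ n : ℤ, (orderOf (x ^ n)).Coprime 2 := fun n =>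
    Nat.Coprime.coprime_dvd_left (orderOf_dvd_of_mem_zpowers (Subgroup.mem_zpowers_iff.2 ⟨n, rfl⟩)) hodd
  refine ⟨?_, fun b hb hbo => Or.inl ?_⟩
  · obtain ⟨P, hP⟩ := (c.isPGroup.map π).exists_le_sylow
    refine ⟨P, ?_⟩
    have hsub : ∀ w, w ∈ (P : Subgroup K) → w ^ 2 = 1 → w ∈ Y.map π := by
      intro w hwP hw
      rcases hgen w with ⟨n, rfl⟩ | ⟨n, rfl⟩
      · rw [eq_one_of_pow_coprime (hxn n) ⟨1, by simpa using hw⟩ (pow_orderOf_eq_one _)]
        exact Subgroup.one_mem _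
      · have : x ^ n ∈ (P : Subgroup K) := by
          simpa using Subgroup.mul_mem _ hwP (Subgroup.inv_mem _ (hP huU))
        rw [eq_one_of_isPGroup_of_coprime P.2 this (hxn n), one_mul]
        exact huU
    exact Nat.card_le_card_of_injective (fun w => ⟨w.1, hsub _ w.2.1 w.2.2⟩)
      fun v w hvw => Subtype.ext (congrArg (fun t : (Y.map π : Subgroup K) => (t : K)) hvw)
  · rcases hgen b with ⟨n, rfl⟩ | ⟨n, rfl⟩
    · refine ⟨u, u * x ^ n, by rw [pow_two, huu], ?_, by rw [← mul_assoc, huu, one_mul]⟩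
      rw [pow_two, show u * x ^ n * (u * x ^ n) = (u * x ^ n * u⁻¹) * (u * u) * x ^ n by group, huu, mul_one,
        ← conj_zpow, hux, inv_zpow, inv_mul_cancel]
    · exact absurd (eq_one_of_pow_coprime hbo ⟨1, by rw [pow_one, pow_two]; exact hsq n⟩ (pow_orderOf_eq_one _)) hb

end Cfsg.Agent.Lib.LocalChar
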