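import Cfsg.Agent.Lib.LocalChar.FrakLModels
import Cfsg.Agent.Lib.LocalChar.PReduced
import Cfsg.Agent.Lib.Suz.Bridge

/-! A member `L` of `𝔏_G(Y_M)` satisfies `FLCtx`, with a quotient that is small, real and has
irreducible normaliser action on the image of `Y_M`. -/

set_option autoImplicit false
set_option linter.unusedSectionVars false
set_option linter.style.haveILetI false
set_option linter.unusedSimpArgs false
set_option linter.unreachableTactic false
set_option linter.unusedTactic false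

open scoped commutatorElement Pointwise MatrixGroups
open Matrix

namespace Cfsg.Agent.Lib.LocalChar

/-- The normaliser of `U` acts irreducibly on `U`. -/
def FLIrr {K : Type*} [Group K] (U : Subgroup K) : Prop :=
  ∀ V : Subgroup K, V ≤ U → V ≠ ⊥ → Subgroup.normalizer (U : Set K) ≤ Subgroup.normalizer (V : Set K) → V = U

theorem irr_of_card_two {K : Type*} [Group K] [Finite K] {U : Subgroup K} (h : Nat.card U = 2) : FLIrr U := by
  intro V hV hV1 _
  refine Subgroup.eq_of_le_of_card_ge hV ?_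
  haveI := Subgroup.nontrivial_iff_ne_bot V |>.2 hV1
  have := Finite.one_lt_card (α := V)
  omega

section transfer

variable {K : Type*} [Group K] [Finite K] {p : ℕ} [Fact p.Prime]

theorem irr_transfer {U U0 : Subgroup K} (hU : IsPGroup p U)
    (hmem : ∀ P : Sylow p K, U ≤ P → ∀ x ∈ (P : Subgroup K), x ^ p = 1 → x ∈ U)
    (hU0 : IsPGroup p U0) (hexp : ∀ x ∈ U0, x ^ p = 1) (hcard : Nat.card U ≤ Nat.card U0)
    (hirr : FLIrr U0) : FLIrr U := by
  obtain ⟨P, hP⟩ := hU.exists_le_sylow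
  obtain ⟨P1, hP1⟩ := hU0.exists_le_sylow
  obtain ⟨k, rfl⟩ := MulAction.exists_smul_eq K P1 P
  have hle : cj k U0 ≤ U := cj_le_iff.2 fun x hx => hmem _ hP _
    (show k * x * k⁻¹ ∈ cj k (P1 : Subgroup K) from conj_mem_cj (hP1 hx))
    (by rw [conj_pow, hexp x hx, mul_one, mul_inv_cancel])
  have he : cj k U0 = U := Subgroup.eq_of_le_of_card_ge hle (by rw [card_cj]; exact hcard)
  intro V hV hV1 hn
  have hback : cj k (cj k⁻¹ V) = V := by rw [cj_cj, mul_inv_cancel, cj_one]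
  have h0 : cj k⁻¹ V = U0 := by
    refine hirr _ ?_ ?_ ?_
    · refine (cj_mono hV).trans ?_
      rw [← he, cj_cj, inv_mul_cancel, cj_one]
    · intro h; rw [h] at hback; exact hV1 (hback.symm.trans (Subgroup.map_bot _))
    · intro g hg
      have h1 : k * g * k⁻¹ ∈ Subgroup.normalizer (U : Set K) := by
        refine mem_nz_of_cj_eq ?_
        rw [← he, cj_cj, show k * g * k⁻¹ * k = k * g by group, ← cj_cj, cj_eq_of_mem_nz hg]
      refine mem_nz_of_cj_eq ?_
      rw [cj_cj, show g * k⁻¹ = k⁻¹ * (k * g * k⁻¹) by group, ← cj_cj, cj_eq_of_mem_nz (hn h1)]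
  rw [← hback, h0, he]

end transfer

section SL

variable {F : Type*} [Field F] [Fintype F] {p : ℕ} [hp : Fact p.Prime]

private def slU (a : F) : SL(2, F) := ⟨!![1, a; 0, 1], by simp [Matrix.det_fin_two]⟩

private def slD (c : Fˣ) : SL(2, F) := ⟨!![(c : F), 0; 0, ((c⁻¹ : Fˣ) : F)], by simp [Matrix.det_fin_two]⟩

private theorem slD_coe (c : Fˣ) : (slD c : Matrix (Fin 2) (Fin 2) F) = !![(c : F), 0; 0, ((c⁻¹ : Fˣ) : F)] := rfl

private theorem slU_coe (a : F) : (slU a : Matrix (Fin 2) (Fin 2) F) = !![1, a; 0, 1] := rfl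

private theorem slU_add (a b : F) : slU a * slU b = slU (a + b) := by
  ext i j
  fin_cases i <;> fin_cases j <;> simp [slU_coe, Matrix.mul_apply, Fin.sum_univ_two]
  ring

private theorem slU_zero : slU (0 : F) = 1 := by
  ext i j; fin_cases i <;> fin_cases j <;> simp [slU_coe]

private theorem slD_conj (c : Fˣ) (a : F) : slD c * slU a * (slD c)⁻¹ = slU ((c : F) ^ 2 * a) := by
  rw [mul_inv_eq_iff_eq_mul]
  ext i j
  fin_cases i <;> fin_cases j <;> simp [slU_coe, slD_coe, Matrix.mul_apply, Fin.sum_univ_two]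
  field_simp

private def slU0 : Subgroup SL(2, F) where
  carrier := Set.range slU
  one_mem' := ⟨0, slU_zero⟩
  mul_mem' := by rintro _ _ ⟨a, rfl⟩ ⟨b, rfl⟩; exact ⟨a + b, (slU_add a b).symm⟩
  inv_mem' := by
    rintro _ ⟨a, rfl⟩
    exact ⟨-a, eq_inv_of_mul_eq_one_right (by rw [slU_add, add_neg_cancel, slU_zero])⟩

private theorem slU_inj : Function.Injective (slU (F := F)) := fun a b h => by
  simpa [slU_coe] using congrArg (fun m : SL(2, F) => (m : Matrix (Fin 2) (Fin 2) F) 0 1) h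

private theorem slU0_irr : FLIrr (slU0 (F := F)) := by
  intro V hV hV1 hn
  have hd : ∀ (c : F) (a : F), slU a ∈ V → slU (c ^ 2 * a) ∈ V := by
    intro c a ha
    rcases eq_or_ne c 0 with rfl | hc
    · rw [zero_pow two_ne_zero, zero_mul, slU_zero]; exact V.one_mem
    have hmem : slD (Units.mk0 c hc) ∈ Subgroup.normalizer ((slU0 (F := F)) : Set SL(2, F)) := by
      refine mem_nz_of_cj_le (cj_le_iff.2 ?_)
      rintro _ ⟨b, rfl⟩
      exact ⟨_, (slD_conj _ b).symm⟩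
    have := conj_mem_of_nz (hn hmem) ha
    rwa [slD_conj] at this
  obtain ⟨v, hv, hv1⟩ : ∃ v ∈ V, v ≠ 1 := by
    by_contra h; push Not at h; exact hV1 ((Subgroup.eq_bot_iff_forall V).2 h)
  obtain ⟨a, rfl⟩ := hV hv
  have ha : a ≠ 0 := fun h => hv1 (by rw [h, slU_zero])
  refine le_antisymm hV ?_
  rintro _ ⟨b, rfl⟩
  by_cases h2 : (2 : F) = 0
  · haveI : CharP F 2 := CharTwo.of_one_ne_zero_of_two_eq_zero one_ne_zero h2
    obtain ⟨c, hc⟩ := (FiniteField.isSquare_of_char_two (ringChar.eq F 2) (b / a))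
    have := hd c a hv
    rwa [pow_two, ← hc, div_mul_cancel₀ _ ha] at this
  · have h1 := hd ((b / a + 1) / 2) a hv
    have h1' := hd ((b / a - 1) / 2) a hv
    have h3 := V.mul_mem h1 (V.inv_mem h1')
    rw [show (slU (((b / a - 1) / 2) ^ 2 * a))⁻¹ = slU (-(((b / a - 1) / 2) ^ 2 * a)) from
      inv_eq_of_mul_eq_one_right (by rw [slU_add, add_neg_cancel, slU_zero]), slU_add] at h3
    convert h3 using 2
    field_simp
    ring

theorem sl2_irr [CharP F p] (n : ℕ) (hn : Fintype.card F = p ^ n) (U : Subgroup SL(2, F)) (hU : IsPGroup p U)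
    (hcard : Nat.card U = Fintype.card F)
    (hmem : ∀ P : Sylow p SL(2, F), U ≤ P → ∀ x ∈ (P : Subgroup SL(2, F)), x ^ p = 1 → x ∈ U) : FLIrr U := by
  have hc : Nat.card (slU0 (F := F)) = Fintype.card F := by
    rw [← Nat.card_eq_fintype_card]
    exact (Nat.card_congr (Equiv.ofInjective _ slU_inj)).symm
  refine irr_transfer hU hmem (IsPGroup.of_card (n := n) (hc.trans hn)) ?_ (hcard.trans hc.symm).le slU0_irr
  rintro _ ⟨a, rfl⟩
  have hpow : ∀ k : ℕ, slU a ^ k = slU (k * a) := by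
    intro k
    induction k with
    | zero => simp [slU_zero]
    | succ k ih => rw [pow_succ, ih, slU_add]; push_cast; ring_nf
  rw [hpow, CharP.cast_eq_zero F p, zero_mul, slU_zero]

end SL

section Sz

open Cfsg.Agent.Lib.Suz

variable {F : Type*} [Field F] [Fintype F] [CharP F 2] {m : ℕ} (c : Suz.Ctx F m)

include c

theorem sz_irr (U : Subgroup ↥(Cfsg.Sz F m)) (hU : IsPGroup 2 U) (hcard : Nat.card U = Fintype.card F)
    (hmem : ∀ P : Sylow 2 ↥(Cfsg.Sz F m), U ≤ P → ∀ x ∈ (P : Subgroup ↥(Cfsg.Sz F m)), x ^ 2 = 1 → x ∈ U) :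
    FLIrr U := by
  haveI : Fact (Nat.Prime 2) := ⟨Nat.prime_two⟩
  let U0 : Subgroup ↥(Cfsg.Sz F m) :=
    { carrier := Set.range fun b => Suz.uG c 0 b
      one_mem' := ⟨0, Suz.uG_zero c⟩
      mul_mem' := by
        rintro _ _ ⟨a, rfl⟩ ⟨b, rfl⟩
        exact ⟨a + b, by simp [Suz.uG_mul]⟩
      inv_mem' := by
        rintro _ ⟨a, rfl⟩
        refine ⟨a, (inv_eq_of_mul_eq_one_right ?_).symm⟩
        rw [Suz.uG_sq, zero_mul, Suz.uG_zero] }
  have hexp : ∀ x ∈ U0, x ^ 2 = 1 := by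
    rintro _ ⟨a, rfl⟩; rw [pow_two, Suz.uG_sq, zero_mul, Suz.uG_zero]
  have hc : Nat.card U0 = Fintype.card F := by
    rw [← Nat.card_eq_fintype_card]
    exact (Nat.card_congr (Equiv.ofInjective _ fun a b h => (Suz.uG_inj c h).2)).symm
  refine irr_transfer hU hmem (fun x => ⟨1, Subtype.ext (by simpa using hexp _ x.2)⟩) hexp
    (hcard.trans hc.symm).le fun V hV hV1 hn => ?_
  obtain ⟨v, hv, hv1⟩ : ∃ v ∈ V, v ≠ 1 := by
    by_contra h; push Not at h; exact hV1 ((Subgroup.eq_bot_iff_forall V).2 h)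
  obtain ⟨a, rfl⟩ := hV hv
  have ha : a ≠ 0 := fun h => hv1 (by rw [h]; exact Suz.uG_zero c)
  refine le_antisymm hV ?_
  rintro _ ⟨b, rfl⟩
  rcases eq_or_ne b 0 with rfl | hb
  · simp [Suz.uG_zero]
  obtain ⟨-, ⟨h, hh⟩, -⟩ := Suz.theta_units_surj c (b / a) (div_ne_zero hb ha)
  have hmem' : Suz.tHom c h ∈ Subgroup.normalizer (U0 : Set ↥(Cfsg.Sz F m)) := by
    refine mem_nz_of_cj_le (cj_le_iff.2 ?_)
    rintro _ ⟨r, rfl⟩
    exact ⟨_, (by simp only [Suz.tHom_conj_uG, mul_zero]; rfl)⟩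
  have := conj_mem_of_nz (hn hmem') hv
  simpa [Suz.tHom_conj_uG, hh, div_mul_cancel₀ _ ha] using this

end Sz

variable {G : Type*} [Group G] [Finite G] {p : ℕ} [Fact p.Prime]

theorem frakL_nz_iff {Y L : Subgroup G} (hYL : Y ≤ L) (g : ↥L) :
    g ∈ Subgroup.normalizer ((Y.subgroupOf L : Subgroup ↥L) : Set ↥L) ↔ (g : G) ∈ Subgroup.normalizer (Y : Set G) := by
  rw [mem_nz, mem_nz]
  constructor
  · intro hg x
    constructor
    · intro hx; exact (hg ⟨x, hYL hx⟩).1 hx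
    · intro hx
      have hxL : x ∈ L := by
        simpa [mul_assoc] using L.mul_mem (L.mul_mem (L.inv_mem g.2) (hYL hx)) g.2
      exact (hg ⟨x, hxL⟩).2 hx
  · intro hg x; exact hg x

/-- A member of `𝔏_G(Y_M)` with its quotient. -/
theorem frakL_member {M L : Subgroup G} (hL : Cfsg.IsInFrakL p M L) :
    FLCtx p ((Cfsg.largestPReducedOf p M).subgroupOf L) ∧
      ∃ (K : Type) (_ : Group K) (π : ↥L →* K), Function.Surjective π ∧ π.ker = Cfsg.pCore p ↥L ∧
        FLSmall p (((Cfsg.largestPReducedOf p M).subgroupOf L).map π) ∧ FLReal p K ∧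
        FLIrr (((Cfsg.largestPReducedOf p M).subgroupOf L).map π) := by
  obtain ⟨hYL, hA, hAN, ⟨hclo, -⟩, -, ⟨hlt, hmax⟩, hcase⟩ := hL
  set Y := Cfsg.largestPReducedOf p M
  set Y' := Y.subgroupOf L with hY'
  haveI hAn : (Cfsg.pCore p ↥L).Normal := pCore_normal
  have hea : Cfsg.IsElementaryAbelian p Y := (isPRedOf_YL (p := p) M).ea
  have hAA : Cfsg.pCore p ↥L = Subgroup.normalClosure
      (((Y ⊓ Cfsg.pCoreOf p L).subgroupOf L : Subgroup ↥L) : Set ↥L) :=
    Subgroup.map_injective Subtype.coe_injective hA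
  have c : FLCtx p Y' := by
    refine ⟨fun a ha b hb => Subtype.ext (comm_of_isMulCommutative hea.1 ha hb),
      fun y hy => Subtype.ext (by simpa using hea.2 _ hy),
      fun N hN hYN => top_le_iff.1 (hclo.ge.trans (Subgroup.normalClosure_le_normal hYN)),
      fun N hN hYN => ?_, fun a ha => (frakL_nz_iff hYL a).2 (hAN ⟨a, ha, rfl⟩), fun htop => ?_, fun X hX hXt => ?_⟩
    · rw [hAA]
      refine Subgroup.normalClosure_le_normal fun x hx => hYN ⟨hx.1, ?_⟩
      rw [← pCoreOf_subgroupOf]; exact hx.2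
    · refine hlt.ne (le_antisymm inf_le_left fun g hg => ⟨hg, (frakL_nz_iff hYL ⟨g, hg⟩).1 ?_⟩)
      rw [htop]; exact Subgroup.mem_top _
    · intro g hg
      have h1 : X.map L.subtype < L := by
        refine lt_of_le_of_ne (Subgroup.map_subtype_le _) fun h => hXt ?_
        rw [← Subgroup.map_subtype_inj, h, ← MonoidHom.range_eq_map, Subgroup.range_subtype]
      exact (frakL_nz_iff hYL g).2 (hmax (X.map L.subtype) (fun y hy => ⟨⟨y, hYL hy⟩, hX hy, rfl⟩) h1 ⟨g, hg, rfl⟩).2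
  refine ⟨c, ?_⟩
  have hrel : (Y ⊓ Cfsg.pCoreOf p L).relIndex Y = (Cfsg.pCore p ↥L).relIndex Y' := by
    rw [Subgroup.inf_relIndex_left, ← pCoreOf_subgroupOf (p := p) L, hY', Subgroup.relIndex_subgroupOf hYL]
  have hker : ∀ {K : Type} [Group K] (e : ↥L ⧸ Cfsg.pCore p ↥L ≃* K),
      (e.toMonoidHom.comp (QuotientGroup.mk' (Cfsg.pCore p ↥L))).ker = Cfsg.pCore p ↥L := by
    intro K _ e; ext x; simp [MonoidHom.mem_ker]
  have hsurj : ∀ {K : Type} [Group K] (e : ↥L ⧸ Cfsg.pCore p ↥L ≃* K),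
      Function.Surjective (e.toMonoidHom.comp (QuotientGroup.mk' (Cfsg.pCore p ↥L))) :=
    fun e => e.surjective.comp (QuotientGroup.mk'_surjective _)
  have hcard : ∀ {K : Type} [Group K] (π : ↥L →* K), π.ker = Cfsg.pCore p ↥L →
      Nat.card (Y'.map π) = (Y ⊓ Cfsg.pCoreOf p L).relIndex Y := by
    intro K _ π hk; rw [hrel, ← hk, Subgroup.relIndex_ker]
  have hpg : ∀ {K : Type} [Group K] [Finite K] (π : ↥L →* K), π.ker = Cfsg.pCore p ↥L →
      ∃ n, Nat.card (Y'.map π) = p ^ n ∧ n ≠ 0 := by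
    intro K _ _ π hk
    obtain ⟨n, hn⟩ := IsPGroup.iff_card.1 (c.isPGroup.map π)
    refine ⟨n, hn, fun h0 => c.not_le_core ?_⟩
    rw [h0, pow_zero, Subgroup.card_eq_one, Subgroup.map_eq_bot_iff, hk] at hn
    exact hn
  rcases hcase with ⟨F, _, _, hq, ⟨e⟩⟩ | ⟨rfl, F, _, _, m, hFm, hq, ⟨e⟩⟩ | ⟨rfl, r, hr, hr2, ⟨e⟩⟩
  · have hc := hcard _ (hker e)
    haveI := finite_of_surj (hsurj e)
    obtain ⟨n, hn, hn0⟩ := hpg _ (hker e)
    have hqn : Fintype.card F = p ^ n := by rw [hq, ← hc, hn]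
    haveI : CharP F p := charP_of_card_eq_prime_pow hqn
    have hs := sl2_small n hqn hn0 _ (by rw [hc, hq])
    exact ⟨_, _, _, hsurj e, hker e, hs, sl2_real, sl2_irr n hqn _ (c.isPGroup.map _) (by rw [hc, hq])
      fun P hP x hx hxp => c.mem_img_of (hsurj e) hs hP hx hxp⟩
  · have hc := hcard _ (hker e)
    haveI := finite_of_surj (hsurj e)
    rcases Nat.eq_zero_or_pos m with rfl | hm
    · have h2c := show Nat.card _ = 2 by rw [hc, ← hq, hFm]; norm_num
      obtain ⟨h1, h2⟩ := c.props_of_two (hsurj e) (hker e) h2c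
      exact ⟨_, _, _, hsurj e, hker e, h1, h2, irr_of_card_two h2c⟩
    · have cc : Cfsg.Agent.Lib.Suz.Ctx F m := ⟨hm, hFm⟩
      haveI := Cfsg.Agent.Lib.Suz.charP_two cc
      let e' := e.trans (Cfsg.Agent.Lib.Suz.lieEquiv cc).symm
      have hc' := hcard _ (hker e')
      have hs := sz_small cc _ (by rw [hc', hq])
      exact ⟨_, _, _, hsurj e', hker e', hs, sz_real cc, sz_irr cc _ (c.isPGroup.map _) (by rw [hc', hq])
        fun P hP x hx hxp => c.mem_img_of (hsurj e') hs hP hx hxp⟩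
  · haveI : NeZero r := ⟨hr.ne_zero⟩
    haveI := finite_of_surj (hsurj e)
    obtain ⟨n, hn, hn0⟩ := hpg _ (hker e)
    have hd : 2 ^ n ∣ 2 * r := by
      rw [← hn, ← DihedralGroup.nat_card]; exact Subgroup.card_subgroup_dvd_card _
    have hn1 : n = 1 := by
      by_contra hne
      have h4 : 2 * 2 ∣ 2 * r := (show 2 ^ 2 ∣ 2 ^ n from pow_dvd_pow 2 (by omega)).trans hd
      exact hr2 ((Nat.prime_dvd_prime_iff_eq Nat.prime_two hr).1 ((Nat.mul_dvd_mul_iff_left (by norm_num)).1 h4)).symm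
    have h2c : Nat.card (Y'.map _) = 2 := hn.trans (by rw [hn1]; norm_num)
    obtain ⟨h1, h2⟩ := c.props_of_two (hsurj e) (hker e) h2c
    exact ⟨_, _, _, hsurj e, hker e, h1, h2, irr_of_card_two h2c⟩

end Cfsg.Agent.Lib.LocalChar
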