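import Cfsg.Agent.Lib.LocalChar.FrakL
import Cfsg.Agent.Lib.Classical.Order
import Cfsg.Agent.Lib.Suz.Partition

/-! The quotients `SL₂(q)` and `Sz(q)` of the members of `𝔏`: small Sylow subgroups and
factorisation of elements of order prime to `p`. -/

set_option autoImplicit false
set_option linter.unusedSectionVars false
set_option linter.style.haveILetI false
set_option linter.unusedSimpArgs false
set_option linter.unreachableTactic false
set_option linter.unusedTactic false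

open scoped commutatorElement Pointwise MatrixGroups
open Matrix

namespace Cfsg.Agent.Lib.LocalChar

section SL

variable {F : Type*} [Field F] [Fintype F] {p : ℕ} [hp : Fact p.Prime]

private def flU (a : F) : SL(2, F) := ⟨!![1, a; 0, 1], by simp [Matrix.det_fin_two]⟩

private def flL (a : F) : SL(2, F) := ⟨!![1, 0; a, 1], by simp [Matrix.det_fin_two]⟩

private theorem flU_coe (a : F) : (flU a : Matrix (Fin 2) (Fin 2) F) = !![1, a; 0, 1] := rfl

private theorem flL_coe (a : F) : (flL a : Matrix (Fin 2) (Fin 2) F) = !![1, 0; a, 1] := rfl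

private theorem flU_pow (a : F) : ∀ n : ℕ, flU a ^ n = flU (n * a)
  | 0 => by rw [pow_zero]; ext i j; fin_cases i <;> fin_cases j <;> simp [flU_coe]
  | n + 1 => by
    rw [pow_succ, flU_pow a n]
    ext i j
    fin_cases i <;> fin_cases j <;> simp [flU_coe, Matrix.mul_apply, Fin.sum_univ_two, Matrix.vecMul, dotProduct]
    ring

private theorem flL_pow (a : F) : ∀ n : ℕ, flL a ^ n = flL (n * a)
  | 0 => by rw [pow_zero]; ext i j; fin_cases i <;> fin_cases j <;> simp [flL_coe]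
  | n + 1 => by
    rw [pow_succ, flL_pow a n]
    ext i j
    fin_cases i <;> fin_cases j <;> simp [flL_coe, Matrix.mul_apply, Fin.sum_univ_two, Matrix.vecMul, dotProduct]
    ring

theorem sl2_small (n : ℕ) (hn : Fintype.card F = p ^ n) (hn0 : n ≠ 0) (U : Subgroup SL(2, F))
    (hU : Fintype.card F ≤ Nat.card U) : FLSmall p U := by
  obtain ⟨P⟩ : Nonempty (Sylow p SL(2, F)) := inferInstance
  refine ⟨P, le_trans ?_ hU⟩
  refine le_trans (Nat.card_le_card_of_injective (fun w : {x : SL(2, F) // x ∈ (P : Subgroup SL(2, F)) ∧ x ^ p = 1} =>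
    (⟨w.1, w.2.1⟩ : ↥(P : Subgroup SL(2, F)))) fun v w h => Subtype.ext (congrArg (fun t : ↥(P : Subgroup SL(2, F)) => (t : SL(2, F))) h)) ?_
  obtain ⟨k, hk⟩ := IsPGroup.iff_card.1 P.2
  have hd : Nat.card P ∣ Fintype.card F * (Fintype.card F ^ 2 - 1) := by
    rw [← Classical.card_SL_two]; exact Subgroup.card_subgroup_dvd_card _
  have hpq : p ∣ Fintype.card F := hn ▸ dvd_pow_self p hn0
  have hco : (Nat.card P).Coprime (Fintype.card F ^ 2 - 1) := by
    rw [hk]
    refine Nat.Coprime.pow_left k (hp.out.coprime_iff_not_dvd.2 fun h => hp.out.one_lt.ne' ?_)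
    have h1 : p ∣ Fintype.card F ^ 2 := dvd_pow hpq two_ne_zero
    have hpos : 1 ≤ Fintype.card F ^ 2 := Nat.one_le_pow _ _ Fintype.card_pos
    have := Nat.dvd_sub h1 h
    rw [Nat.sub_sub_self hpos] at this
    exact Nat.dvd_one.1 this
  exact Nat.le_of_dvd Fintype.card_pos (hco.dvd_of_dvd_mul_right hd)

theorem sl2_real [CharP F p] : FLReal p SL(2, F) := by
  intro x hx hxo
  have hu : ∀ a : F, flU a ^ p = 1 := fun a => by
    rw [flU_pow, CharP.cast_eq_zero F p, zero_mul]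
    ext i j; fin_cases i <;> fin_cases j <;> simp [flU_coe]
  have hl : ∀ a : F, flL a ^ p = 1 := fun a => by
    rw [flL_pow, CharP.cast_eq_zero F p, zero_mul]
    ext i j; fin_cases i <;> fin_cases j <;> simp [flL_coe]
  have key : ∀ g : SL(2, F), ((g * x * g⁻¹ : SL(2, F)) : Matrix (Fin 2) (Fin 2) F) 1 1 = 1 →
      ∃ s t : SL(2, F), s ^ p = 1 ∧ t ^ p = 1 ∧ x = s * t := by
    intro g hg
    set y := g * x * g⁻¹ with hy
    have hdet := y.det_coe
    rw [Matrix.det_fin_two, hg, mul_one] at hdet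
    have hyf : y = flU (y.1 0 1) * flL (y.1 1 0) := by
      ext i j
      fin_cases i <;> fin_cases j <;> simp [flU_coe, flL_coe, Matrix.mul_apply, Fin.sum_univ_two, Matrix.vecMul, dotProduct, hg]
      linear_combination hdet
    refine ⟨g⁻¹ * flU (y.1 0 1) * g⁻¹⁻¹, g⁻¹ * flL (y.1 1 0) * g⁻¹⁻¹, ?_, ?_, ?_⟩
    · rw [conj_pow, hu, mul_one, mul_inv_cancel]
    · rw [conj_pow, hl, mul_one, mul_inv_cancel]
    · calc x = g⁻¹ * y * g⁻¹⁻¹ := by rw [hy]; group
        _ = g⁻¹ * (flU (y.1 0 1) * flL (y.1 1 0)) * g⁻¹⁻¹ := by rw [← hyf]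
        _ = _ := by group
  have hL : ∀ s : F, ((flL s * x * (flL s)⁻¹ : SL(2, F)) : Matrix (Fin 2) (Fin 2) F) 1 1 = x.1 1 1 + s * x.1 0 1 := by
    intro s
    simp [flL_coe, Matrix.SpecialLinearGroup.coe_inv, Matrix.mul_apply, Fin.sum_univ_two, Matrix.vecMul, dotProduct, Matrix.adjugate_fin_two]
    ring
  have hU : ∀ s : F, ((flU s * x * (flU s)⁻¹ : SL(2, F)) : Matrix (Fin 2) (Fin 2) F) 1 1 = x.1 1 1 - s * x.1 1 0 := by
    intro s
    simp [flU_coe, Matrix.SpecialLinearGroup.coe_inv, Matrix.mul_apply, Fin.sum_univ_two, Matrix.vecMul, dotProduct, Matrix.adjugate_fin_two]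
    ring
  by_cases hb : x.1 0 1 = 0
  swap
  · exact Or.inl (key _ (by rw [hL ((1 - x.1 1 1) / x.1 0 1), div_mul_cancel₀ _ hb, add_sub_cancel]))
  by_cases hc : x.1 1 0 = 0
  swap
  · exact Or.inl (key _ (by rw [hU ((x.1 1 1 - 1) / x.1 1 0), div_mul_cancel₀ _ hc, sub_sub_cancel]))
  by_cases had : x.1 0 0 = x.1 1 1
  swap
  · left
    set x' := flU 1 * x * (flU 1)⁻¹ with hx'
    have hb' : x'.1 0 1 = x.1 1 1 - x.1 0 0 := by
      simp [hx', flU_coe, Matrix.SpecialLinearGroup.coe_inv, Matrix.mul_apply, Fin.sum_univ_two, Matrix.vecMul, dotProduct,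
        Matrix.adjugate_fin_two, hb, hc]
      ring
    have hb0 : x'.1 0 1 ≠ 0 := by rw [hb']; exact sub_ne_zero.2 (Ne.symm had)
    refine key (flL ((1 - x'.1 1 1) / x'.1 0 1) * flU 1) ?_
    rw [show flL ((1 - x'.1 1 1) / x'.1 0 1) * flU 1 * x * (flL ((1 - x'.1 1 1) / x'.1 0 1) * flU 1)⁻¹ =
      flL ((1 - x'.1 1 1) / x'.1 0 1) * x' * (flL ((1 - x'.1 1 1) / x'.1 0 1))⁻¹ by rw [hx']; group]
    simp [flL_coe, Matrix.SpecialLinearGroup.coe_inv, Matrix.mul_apply, Fin.sum_univ_two, Matrix.vecMul, dotProduct, Matrix.adjugate_fin_two]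
    field_simp
    ring
  -- the scalar case
  have hdet := x.det_coe
  rw [Matrix.det_fin_two, hb, hc, ← had, zero_mul, sub_zero] at hdet
  rcases mul_self_eq_one_iff.1 hdet with h1 | h1
  · refine absurd ?_ hx
    ext i j; fin_cases i <;> fin_cases j <;> simp [hb, hc, h1, ← had]
  have hxe : (x : Matrix (Fin 2) (Fin 2) F) = -1 := by
    ext i j; fin_cases i <;> fin_cases j <;> simp [hb, hc, h1, ← had]
  refine Or.inr ⟨?_, ?_, flU 1, flL (-1), hu 1, hl (-1), ?_, ?_, ?_⟩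
  · rintro rfl
    refine hx ?_
    haveI : CharP F 2 := by assumption
    ext i j; fin_cases i <;> fin_cases j <;> simp [hb, hc, h1, ← had, CharTwo.neg_eq]
  · refine Subgroup.mem_center_iff.2 fun k => Subtype.ext ?_
    simp [hxe]
  · intro h
    have := congrArg (fun m : SL(2, F) => (m : Matrix (Fin 2) (Fin 2) F) 0 0) h.eq
    simp [flU_coe, flL_coe, Matrix.mul_apply, Fin.sum_univ_two, Matrix.vecMul, dotProduct] at this
  · rw [mul_inv_eq_iff_eq_mul]
    ext i j
    fin_cases i <;> fin_cases j <;> simp [flU_coe, flL_coe, Matrix.mul_apply, Fin.sum_univ_two, Matrix.vecMul, dotProduct]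
  · ext i j
    rw [hxe]
    fin_cases i <;> fin_cases j <;> simp [flU_coe, flL_coe, Matrix.mul_apply, Fin.sum_univ_two, Matrix.vecMul, dotProduct]

end SL

section Sz

open Cfsg.Agent.Lib.Suz

variable {F : Type*} [Field F] [Fintype F] [CharP F 2] {m : ℕ} (c : Suz.Ctx F m)

include c

theorem sz_small (U : Subgroup ↥(Cfsg.Sz F m)) (hU : Fintype.card F ≤ Nat.card U) : FLSmall 2 U := by
  obtain ⟨P, hP⟩ := Suz.exists_sylow c
  refine ⟨P, le_trans ?_ hU⟩
  rw [← Nat.card_eq_fintype_card]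
  have hmem : ∀ w : {x : ↥(Cfsg.Sz F m) // x ∈ (P : Subgroup ↥(Cfsg.Sz F m)) ∧ x ^ 2 = 1},
      ∃ b, w.1 = Suz.uG c 0 b := by
    rintro ⟨w, hw, hw2⟩
    obtain ⟨a, b, rfl⟩ := (Suz.mem_uSub c).1 (hP ▸ hw)
    rw [pow_two, Suz.uG_sq, ← Suz.uG_zero c] at hw2
    have := (Suz.uG_inj c hw2).2
    rcases mul_eq_zero.1 this with h | h
    · exact ⟨b, congrArg (fun r => Suz.uG c r b) h⟩
    · exact ⟨b, congrArg (fun r => Suz.uG c r b) ((map_eq_zero _).1 h)⟩
  choose f hf using hmem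
  exact Nat.card_le_card_of_injective f fun v w h => Subtype.ext (by rw [hf v, hf w, h])

theorem sz_real : FLReal 2 ↥(Cfsg.Sz F m) := by
  haveI : Fact (Nat.Prime 2) := ⟨Nat.prime_two⟩
  intro x hx hxo
  left
  suffices ∃ t : ↥(Cfsg.Sz F m), t * t = 1 ∧ t * x * t⁻¹ = x⁻¹ by
    obtain ⟨t, ht, htx⟩ := this
    refine ⟨t, t * x, by rw [pow_two, ht], ?_, by rw [← mul_assoc, ht, one_mul]⟩
    rw [pow_two, show t * x * (t * x) = (t * x * t⁻¹) * (t * t) * x by group, htx, ht]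
    group
  suffices ∀ k y : ↥(Cfsg.Sz F m), x = k * y * k⁻¹ → (∃ t, t * t = 1 ∧ t * y * t⁻¹ = y⁻¹) →
      ∃ t : ↥(Cfsg.Sz F m), t * t = 1 ∧ t * x * t⁻¹ = x⁻¹ by
    by_cases hfree : Suz.IsFree x
    · obtain ⟨a, b, ha, hb, hcover, hNa, hNb, hca, hcb⟩ := Suz.exists_tori c
      obtain ⟨z, hz, hN, hk⟩ : ∃ z, Suz.IsFree z ∧
          Nat.card (Subgroup.normalizer (Suz.cz z : Set ↥(Cfsg.Sz F m))) = 4 * Nat.card (Suz.cz z) ∧
          x ∈ Suz.fset (Suz.cz z) := by
        rcases hcover x hfree with h | h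
        · exact ⟨a, ha, hNa, h⟩
        · exact ⟨b, hb, hNb, h⟩
      obtain ⟨-, k, hk⟩ := hk
      set y := k⁻¹ * x * k
      refine this k y (by simp [y, mul_assoc]) ?_
      have hy : Suz.cz y = Suz.cz z := by
        have h1 := Suz.cz_conj k⁻¹ x
        rw [inv_inv, hk] at h1
        refine h1.trans ?_
        show cj k⁻¹ (cj k (Suz.cz z)) = _
        rw [cj_cj, inv_mul_cancel, cj_one]
      have hyz : y ∈ Suz.cz z := hy ▸ Suz.mem_cz_self y
      obtain ⟨⟨t, htn⟩, ht⟩ := exists_prime_orderOf_dvd_card'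
        (G := Subgroup.normalizer (Suz.cz z : Set ↥(Cfsg.Sz F m))) 2 (hN ▸ dvd_mul_of_dvd_left (by norm_num) _)
      rw [Subgroup.orderOf_mk] at ht
      have ht2 : t * t = 1 := by rw [← pow_two, ← ht, pow_orderOf_eq_one]
      refine ⟨t, ht2, ?_⟩
      have hty : t * y * t⁻¹ ∈ Suz.cz z := conj_mem_of_nz htn hyz
      by_contra hne
      have hw : y * (t * y * t⁻¹) ≠ 1 := fun h => hne (eq_inv_of_mul_eq_one_right h)
      have hwz := Subgroup.mul_mem _ hyz hty
      have htw : t ∈ Suz.cz z := by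
        rw [← Suz.cz_eq_of_mem c hz hwz hw]
        refine Subgroup.mem_centralizer_singleton_iff.2 ?_
        have hcm := Suz.free_cz_comm c hz hyz hty
        calc t * (y * (t * y * t⁻¹)) = t * (t * y * t⁻¹ * y) := by rw [hcm]
          _ = (t * t) * (y * t⁻¹ * y) := by group
          _ = y * t⁻¹ * y := by rw [ht2, one_mul]
          _ = y * (t * y * t⁻¹) * t := by rw [inv_eq_of_mul_eq_one_right ht2]; simp [mul_assoc, ht2]
      have h1 : 2 ∣ Nat.card (Suz.cz z) := ht ▸ Subgroup.orderOf_dvd_natCard _ htw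
      have h2 : Nat.card (Suz.cz z) ∣ Fintype.card F ^ 2 + 1 := (Suz.card_cz_dvd c hz).1
      have h3 := Suz.even_card c
      have h4 : 2 ∣ Fintype.card F ^ 2 := dvd_pow h3 two_ne_zero
      have := h1.trans h2
      omega
    · rcases Suz.not_free_cases c hfree with ⟨k, u, hu, e⟩ | ⟨k, h, e⟩
      · refine absurd (eq_one_of_pow_coprime hxo ⟨2, ?_⟩ (pow_orderOf_eq_one x)) hx
        rw [e, conj_pow, show (2 : ℕ) ^ 2 = 4 by norm_num, Suz.four_of_fix_inf c hu, mul_one, mul_inv_cancel]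
      · refine this k _ e ⟨Suz.wG c, Suz.wG_mul_self c, ?_⟩
        rw [Suz.wG_inv, Suz.wG_conj_tHom, map_inv]
  rintro k y rfl ⟨t, ht, hty⟩
  refine ⟨k * t * k⁻¹, ?_, ?_⟩
  · rw [show k * t * k⁻¹ * (k * t * k⁻¹) = k * (t * t) * k⁻¹ by group, ht]; group
  · rw [show k * t * k⁻¹ * (k * y * k⁻¹) * (k * t * k⁻¹)⁻¹ = k * (t * y * t⁻¹) * k⁻¹ by group, hty]
    group

end Sz

end Cfsg.Agent.Lib.LocalChar
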