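import Cfsg.Agent.Lib.LocalChar.YL
import Cfsg.Agent.Lib.LocalChar.Subnormal

/-! `T_L = C_T(Y_L)` and the factorisation `L = N_L(T_L) C_L(Y_L)`. -/

set_option autoImplicit false
set_option linter.unusedSectionVars false
set_option linter.unusedSimpArgs false

open scoped commutatorElement Pointwise

namespace Cfsg.Agent.Lib.LocalChar

variable {G : Type*} [Group G] [Finite G] {p : ℕ} [hp : Fact p.Prime]

theorem IsSylowIn.mono {P K H : Subgroup G} (h : IsSylowIn p P H) (hPK : P ≤ K) (hKH : K ≤ H) :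
    IsSylowIn p P K := by
  refine ⟨hPK, h.2.1, fun hd => h.2.2 ?_⟩
  rw [← Subgroup.relIndex_mul_relIndex _ _ _ hPK hKH]
  exact hd.mul_right _

theorem IsPRedOf.red_of_factor {V L N D : Subgroup G} (h : IsPRedOf p V L) (hN : N ≤ L)
    (hL : L ≤ N ⊔ Subgroup.centralizer (V : Set G)) (hD : D ≤ N)
    (hn : N ≤ Subgroup.normalizer (D : Set G))
    (hpow : ∀ d ∈ D, ∃ k : ℕ, d ^ p ^ k ∈ Subgroup.centralizer (V : Set G)) :
    D ≤ Subgroup.centralizer (V : Set G) := by
  set C := Subgroup.centralizer (V : Set G)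
  have hLC : L ≤ Subgroup.normalizer (C : Set G) := le_nz_centralizer h.nz
  set E := D ⊔ (L ⊓ C)
  have hCn : L ≤ Subgroup.normalizer ((L ⊓ C : Subgroup G) : Set G) :=
    le_nz_inf Subgroup.le_normalizer hLC
  have hE : L ≤ Subgroup.normalizer (E : Set G) := by
    intro l hl
    obtain ⟨n, hn', c, hc, rfl⟩ := (mem_sup_iff_of_nz (hN.trans hLC)).1 (hL hl)
    have hcL : c ∈ L := by simpa using L.mul_mem (L.inv_mem (hN hn')) hl
    exact Subgroup.mul_mem _ (le_nz_sup hn (hN.trans hCn) hn')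
      (Subgroup.le_normalizer (Subgroup.mem_sup_right ⟨hcL, hc⟩))
  refine le_sup_left.trans (h.red E (sup_le (hD.trans hN) inf_le_left) hE fun x hx => ?_)
  obtain ⟨a, ha, c, hc, rfl⟩ := (mem_sup_iff_of_nz ((hD.trans hN).trans hCn)).1 hx
  obtain ⟨k, hk⟩ := hpow a ha
  obtain ⟨b, hb, he⟩ := mul_pow_mem (hLC (hN (hD ha))) hc.2 (p ^ k)
  exact ⟨k, by rw [he]; exact C.mul_mem hk hb⟩

section

variable {L T : Subgroup G}

theorem isSylowIn_centralizer_YL (hT : IsSylowIn p T L) :
    IsSylowIn p (T ⊓ Subgroup.centralizer (YL p L : Set G))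
      (L ⊓ Subgroup.centralizer (YL p L : Set G)) := by
  have := hT.inf (N := L ⊓ Subgroup.centralizer (YL p L : Set G)) inf_le_left
    (le_nz_inf Subgroup.le_normalizer (le_nz_centralizer (isPRedOf_YL L).nz))
  rwa [← inf_assoc, inf_eq_left.2 hT.1] at this

theorem le_nz_TL (hT : IsSylowIn p T L) :
    T ≤ Subgroup.normalizer ((T ⊓ Subgroup.centralizer (YL p L : Set G) : Subgroup G) : Set G) :=
  le_nz_inf Subgroup.le_normalizer (hT.1.trans (le_nz_centralizer (isPRedOf_YL L).nz))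

theorem le_factor_TL (hT : IsSylowIn p T L) :
    L ≤ (L ⊓ Subgroup.normalizer ((T ⊓ Subgroup.centralizer (YL p L : Set G) : Subgroup G) : Set G)) ⊔
      Subgroup.centralizer (YL p L : Set G) := by
  have h := (isSylowIn_centralizer_YL hT).frattini' (H := L) inf_le_left
    (le_nz_inf Subgroup.le_normalizer (le_nz_centralizer (isPRedOf_YL L).nz))
  exact h.ge.trans (sup_le (inf_le_right.trans le_sup_right) le_sup_left)

theorem pCoreOf_nz_TL (hT : IsSylowIn p T L) :
    Cfsg.pCoreOf p (L ⊓ Subgroup.normalizer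
        ((T ⊓ Subgroup.centralizer (YL p L : Set G) : Subgroup G) : Set G)) =
      T ⊓ Subgroup.centralizer (YL p L : Set G) := by
  set T0 := T ⊓ Subgroup.centralizer (YL p L : Set G)
  set N := L ⊓ Subgroup.normalizer (T0 : Set G)
  have h0 : T0 ≤ Cfsg.pCoreOf p N :=
    le_pCoreOf (le_inf (inf_le_left.trans hT.1) Subgroup.le_normalizer) inf_le_right
      (hT.2.1.to_le inf_le_left)
  have h1 : Cfsg.pCoreOf p N ≤ Subgroup.centralizer (YL p L : Set G) :=
    (isPRedOf_YL L).red_of_factor inf_le_left (le_factor_TL hT) (pCoreOf_le N) (le_nz_pCoreOf N)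
      fun d hd => (exists_pow_eq_one (isPGroup_pCoreOf N) hd).imp fun k hk => by
        rw [hk]; exact Subgroup.one_mem _
  exact (isSylowIn_centralizer_YL hT).eq_of_le (isPGroup_pCoreOf N)
    (le_inf ((pCoreOf_le N).trans inf_le_left) h1) h0

theorem pCoreOf_le_TL (hT : IsSylowIn p T L) :
    Cfsg.pCoreOf p L ≤ T ⊓ Subgroup.centralizer (YL p L : Set G) :=
  le_inf (pCoreOf_le_sylowIn hT) (isPRedOf_YL L).pCore_centralizes

theorem YL_eq_omZ_TL (hT : IsSylowIn p T L) (hL : IsCharPOf p L) :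
    YL p L = omZ p (T ⊓ Subgroup.centralizer (YL p L : Set G)) := by
  set Y := YL p L
  have hY := isPRedOf_YL (p := p) L
  set T0 := T ⊓ Subgroup.centralizer (Y : Set G)
  have hYT : Y ≤ omZ p T0 := fun y hy => mem_omegaCenter_iff.2
    ⟨pCoreOf_le_TL hT (hY.le_pCore hy),
      fun t ht => (Subgroup.mem_centralizer_iff.1 ht.2 y hy).symm, hY.ea.2 y hy⟩
  refine le_antisymm hYT ?_
  set N := L ⊓ Subgroup.normalizer (T0 : Set G)
  have hTN : T ≤ N := le_inf hT.1 (le_nz_TL hT)
  have hT0 : T0 ≤ N := inf_le_left.trans hTN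
  have hS : IsSylowIn p T0 (N ⊓ Subgroup.centralizer (Y : Set G)) :=
    (isSylowIn_centralizer_YL hT).mono (le_inf hT0 inf_le_right) (inf_le_inf_right _ inf_le_left)
  refine conjClosure_le_YL (R := N) ⟨(omZ_le _).trans hT0,
    (inf_le_right : N ≤ _).trans (nz_le_nz_omZ T0), isEA_omegaCenter T0, fun D hD hn hpow => ?_⟩
    hL hT hTN inf_le_left
  have h1 : D ≤ Subgroup.centralizer (Y : Set G) :=
    hY.red_of_factor inf_le_left (le_factor_TL hT) hD hn fun d hd =>
      (hpow d hd).imp fun k hk => Subgroup.centralizer_le hYT hk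
  have hS' := hS.inf (le_inf hD h1) (inf_le_left.trans hn)
  rw [← hS'.resOf_sup]
  exact sup_le (resOf_le_iff.2 fun x hx ho => mem_of_coprime_of_pow ho (hpow x hx))
    (inf_le_left.trans (centralizes_omZ_self T0))

end

end Cfsg.Agent.Lib.LocalChar
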