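import Cfsg.Agent.Lib.LocalChar.LargeCore
import Cfsg.Agent.Lib.LocalChar.YFactor

/-! The basic property `M ∈ 𝔐(S)`. -/

set_option autoImplicit false
set_option linter.unusedSectionVars false

open scoped commutatorElement Pointwise

namespace Cfsg.Agent.Lib.LocalChar

variable {G : Type*} [Group G] [Finite G] {p : ℕ} [hp : Fact p.Prime]

/-- `M† = M C(Y_M)`. -/
abbrev dag (p : ℕ) (M : Subgroup G) : Subgroup G :=
  M ⊔ Subgroup.centralizer (Cfsg.largestPReducedOf p M : Set G)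

theorem dag_le_nz {M : Subgroup G} :
    dag p M ≤ Subgroup.normalizer (Cfsg.largestPReducedOf p M : Set G) :=
  sup_le (isPRedOf_YL M).nz (Subgroup.centralizer_le_normalizer _)

theorem frakM_charP {M : Subgroup G} (hM : Cfsg.IsInFrakM p M) : IsCharPOf p M :=
  inf_le_right.trans hM.1.2

theorem frakM_pCore_ne_bot {M : Subgroup G} (hM : Cfsg.IsInFrakM p M) : Cfsg.pCoreOf p M ≠ ⊥ :=
  pCoreOf_ne_bot hM.1.1

variable {S : Sylow p G} {Q M : Subgroup G}

/-- `N(X) ≤ M†` for nontrivial normal `p`-subgroups `X` of `M`. -/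
theorem frakM_nz_le (hQp : IsPGroup p Q) (hQ1 : Q ≠ ⊥) (hQ : Cfsg.IsLarge Q)
    (hSM : (S : Subgroup G) ≤ M) (hM : Cfsg.IsInFrakM p M) {X : Subgroup G} (hX : IsPGroup p X)
    (hne : X ≠ ⊥) (hn : M ≤ Subgroup.normalizer (X : Set G)) :
    Subgroup.normalizer (X : Set G) ≤ dag p M := by
  set N := Subgroup.normalizer (X : Set G)
  have hO : Cfsg.pCoreOf p N ≠ ⊥ := fun e => hne (le_bot_iff.1
    (e ▸ le_pCoreOf Subgroup.le_normalizer le_rfl hX))
  have hN : N ∈ Cfsg.charPSubgroups p G :=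
    ⟨fun e => hO (by rw [Cfsg.pCoreOf, e, Subgroup.map_bot]),
      large_parabolic_centralizer hQp hQ1 hQ ⟨S, hSM.trans hn⟩ hO⟩
  obtain ⟨X', ⟨hX', hNX⟩, hmax⟩ :=
    (Set.toFinite {L : Subgroup G | L ∈ Cfsg.charPSubgroups p G ∧ N ≤ L}).exists_maximal ⟨N, hN, le_rfl⟩
  have := hM.2.2.1 X' ⟨hX', fun L hL hle => le_antisymm (hmax ⟨hL, hNX.trans hle⟩ hle) hle⟩ (hn.trans hNX)
  exact hNX.trans this.le

/-- `O_p(M) = S ∩ C(Y_M)`. -/
theorem frakM_core_eq (hSM : (S : Subgroup G) ≤ M) (hM : Cfsg.IsInFrakM p M) :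
    Cfsg.pCoreOf p M = (S : Subgroup G) ⊓ Subgroup.centralizer (Cfsg.largestPReducedOf p M : Set G) := by
  set C := M ⊓ Subgroup.centralizer (Cfsg.largestPReducedOf p M : Set G)
  have hS : IsSylowIn p (S : Subgroup G) M := ⟨hSM, S.isPGroup', fun hd => S.not_dvd_index
    (hd.trans (Subgroup.relIndex_dvd_index_of_le hSM))⟩
  refine le_antisymm (pCoreOf_le_TL hS) ?_
  have hCn : M ≤ Subgroup.normalizer (C : Set G) :=
    le_nz_inf Subgroup.le_normalizer (le_nz_centralizer (isPRedOf_YL M).nz)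
  have hP := hS.inf inf_le_left hCn
  have hle : (S : Subgroup G) ⊓ C ≤ Cfsg.pCoreOf p C := by
    refine le_pCoreOf inf_le_right ?_ (S.isPGroup'.to_le inf_le_left)
    have h := hM.2.2.2.2.1 hP.sylow
    rw [IsSylowIn.sylow_coe hP] at h
    exact le_nz_pointwise inf_le_right h
  refine le_trans (le_of_eq ?_) (hle.trans (pCoreOf_mono_normal inf_le_left hCn))
  rw [← inf_assoc, inf_eq_left.2 hSM]

theorem frakM_YL_le_core (hM : Cfsg.IsInFrakM p M) :
    Cfsg.largestPReducedOf p M ≤ Cfsg.pCoreOf p M := (isPRedOf_YL M).le_pCore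

/-- Conjugates of `Y_M` normalising each other commute when `Y_M` is asymmetric. -/
theorem asym_commute {Y : Subgroup G} (hasym : ¬ Cfsg.IsSymmetricIn Y) {g : G}
    (h1 : cj g Y ≤ Subgroup.normalizer (Y : Set G)) (h2 : Y ≤ Subgroup.normalizer (cj g Y : Set G)) :
    Y ≤ Subgroup.centralizer (cj g Y : Set G) := by
  rw [← Subgroup.commutator_eq_bot_iff_le_centralizer]
  by_contra hne
  exact hasym ⟨g, hne, le_inf (commutator_le_left_of_nz h1)
    (Subgroup.commutator_comm Y (cj g Y) ▸ commutator_le_left_of_nz h2)⟩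

end Cfsg.Agent.Lib.LocalChar
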