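import Cfsg.Agent.Lib.LocalChar.Asymmetric
import Cfsg.Agent.Lib.LocalChar.YL

/-! Existence of subgroups with the basic property above a member of `𝓛(S)`. -/

set_option autoImplicit false
set_option linter.unusedSectionVars false
set_option linter.style.haveILetI false

open scoped commutatorElement Pointwise

namespace Cfsg.Agent.Lib.LocalChar

variable {G : Type*} [Group G] [Finite G] {p : ℕ} [hp : Fact p.Prime] {S : Sylow p G}

/-- Every overgroup of `S` with nontrivial `O_p` lies in `𝓛`. -/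
def ParabolicLoc (S : Sylow p G) : Prop :=
  ∀ X : Subgroup G, (S : Subgroup G) ≤ X → Cfsg.pCoreOf p X ≠ ⊥ →
    Subgroup.centralizer (Cfsg.pCoreOf p X : Set G) ≤ Cfsg.pCoreOf p X

theorem parabolicLoc_of_large {Q : Subgroup G} (hQp : IsPGroup p Q) (hQ1 : Q ≠ ⊥) (hQ : Cfsg.IsLarge Q)
    (S : Sylow p G) : ParabolicLoc S := fun _ hX hne =>
  large_parabolic_centralizer hQp hQ1 hQ ⟨S, hX⟩ hne

theorem parabolicLoc_of_parabolicChar (hG : Cfsg.IsOfParabolicCharacteristic p G) (S : Sylow p G) :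
    ParabolicLoc S := by
  intro X hX hne
  set R := Cfsg.pCoreOf p X
  have hXN : X ≤ Subgroup.normalizer (R : Set G) := le_nz_pCoreOf X
  have hN := charP_iff.1 (hG R (isPGroup_pCoreOf X) hne ⟨S, hX.trans hXN⟩)
  have hSN : IsSylowIn p (S : Subgroup G) (Subgroup.normalizer (R : Set G)) :=
    IsSylowIn.of_le S (hX.trans hXN)
  have h1 : Cfsg.pCoreOf p (Subgroup.normalizer (R : Set G)) ≤ R :=
    le_pCoreOf ((pCoreOf_le_sylowIn hSN).trans hX) (hXN.trans (le_nz_pCoreOf _)) (isPGroup_pCoreOf _)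
  exact fun c hc => h1 (hN ⟨Subgroup.centralizer_le_normalizer _ hc, Subgroup.centralizer_le h1 hc⟩)

theorem charP_of_loc (hloc : ParabolicLoc S) {X : Subgroup G} (hX : (S : Subgroup G) ≤ X)
    (hne : Cfsg.pCoreOf p X ≠ ⊥) : IsCharPOf p X :=
  inf_le_right.trans (hloc X hX hne)

theorem mem_charP_iff {X : Subgroup G} :
    X ∈ Cfsg.charPSubgroups p G ↔ Cfsg.pCoreOf p X ≠ ⊥ ∧
      Subgroup.centralizer (Cfsg.pCoreOf p X : Set G) ≤ Cfsg.pCoreOf p X :=
  ⟨fun h => ⟨pCoreOf_ne_bot h.1, h.2⟩,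
    fun h => ⟨fun e => h.1 (by rw [Cfsg.pCoreOf, e, Subgroup.map_bot]), h.2⟩⟩

theorem pCoreOf_ne_bot_of_le {X X' : Subgroup G} (hle : X ≤ X') (hS : (S : Subgroup G) ≤ X)
    (hne : Cfsg.pCoreOf p X' ≠ ⊥) : Cfsg.pCoreOf p X ≠ ⊥ := fun e =>
  hne (le_bot_iff.1 (e ▸ le_pCoreOf ((pCoreOf_le_sylowIn (IsSylowIn.of_le S (hS.trans hle))).trans hS)
    (hle.trans (le_nz_pCoreOf X')) (isPGroup_pCoreOf X')))

theorem YL_mono_parabolic (hloc : ParabolicLoc S) {X X' : Subgroup G} (hle : X ≤ X')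
    (hS : (S : Subgroup G) ≤ X) (hne : Cfsg.pCoreOf p X' ≠ ⊥) : YL p X ≤ YL p X' :=
  conjClosure_le_YL (isPRedOf_YL X) (charP_of_loc hloc (hS.trans hle) hne)
    (IsSylowIn.of_le S (hS.trans hle)) hS hle

theorem YL_ne_bot_parabolic (hloc : ParabolicLoc S) {X : Subgroup G} (hS : (S : Subgroup G) ≤ X)
    (hne : Cfsg.pCoreOf p X ≠ ⊥) : YL p X ≠ ⊥ := by
  intro e
  have hle := omZ_le_YL (IsSylowIn.of_le S hS) (charP_of_loc hloc hS hne)
  rw [e] at hle
  have hSne : (S : Subgroup G) ≠ ⊥ := fun e' =>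
    hne (le_bot_iff.1 (e' ▸ pCoreOf_le_sylowIn (IsSylowIn.of_le S hS)))
  obtain ⟨z, hz, hz1, hc⟩ := exists_fixed S.isPGroup' S.isPGroup' Subgroup.le_normalizer hSne
  obtain ⟨k, hk⟩ := exists_pow_eq_one S.isPGroup' hz
  obtain ⟨i, -, hi⟩ := (Nat.dvd_prime_pow hp.out).1 (orderOf_dvd_of_pow_eq_one hk)
  rcases i with _ | i
  · exact hz1 (orderOf_eq_one_iff.1 (by rwa [pow_zero] at hi))
  have h1 : z ^ p ^ i ∈ omZ p (S : Subgroup G) := mem_omegaCenter_iff.2
    ⟨Subgroup.pow_mem _ hz _, fun a ha => (hc a ha).pow_right _,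
      by rw [← pow_mul, ← pow_succ, ← hi, pow_orderOf_eq_one]⟩
  have h2 := orderOf_dvd_of_pow_eq_one (Subgroup.mem_bot.1 (hle h1))
  rw [hi] at h2
  have := Nat.le_of_dvd (pow_pos hp.out.pos _) h2
  exact absurd (Nat.pow_lt_pow_right hp.out.one_lt (Nat.lt_succ_self i)) this.not_gt

/-- Among the supplements over `S` of a subgroup, a minimal one. -/
theorem exists_minimal_supplement {X C : Subgroup G} (hS : (S : Subgroup G) ≤ X) :
    ∃ K, (S : Subgroup G) ≤ K ∧ K ≤ X ∧ X ≤ K ⊔ C ∧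
      ∀ K', (S : Subgroup G) ≤ K' → K' ≤ K → X ≤ K' ⊔ C → K' = K := by
  obtain ⟨K, ⟨h1, h2, h3⟩, hmin⟩ :=
    (Set.toFinite {K : Subgroup G | (S : Subgroup G) ≤ K ∧ K ≤ X ∧ X ≤ K ⊔ C}).exists_minimal
      ⟨X, hS, le_rfl, le_sup_left⟩
  exact ⟨K, h1, h2, h3, fun K' a b c => le_antisymm b (hmin ⟨a, b.trans h2, c⟩ b)⟩

/-- In a minimal supplement `K` to `C`, the Sylow subgroup of `K ∩ C` is normal. -/
theorem minimal_supplement_le_nz {X C K : Subgroup G} (hSK : (S : Subgroup G) ≤ K) (hKX : K ≤ X)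
    (hXK : X ≤ K ⊔ C) (hC : K ≤ Subgroup.normalizer (C : Set G))
    (hmin : ∀ K', (S : Subgroup G) ≤ K' → K' ≤ K → X ≤ K' ⊔ C → K' = K) :
    K ≤ Subgroup.normalizer (((S : Subgroup G) ⊓ C : Subgroup G) : Set G) := by
  set P := (S : Subgroup G) ⊓ C
  have hP : IsSylowIn p P (K ⊓ C) := by
    have := (IsSylowIn.of_le S hSK).inf (N := K ⊓ C) inf_le_left (le_nz_inf Subgroup.le_normalizer hC)
    rwa [← inf_assoc, inf_eq_left.2 hSK] at this
  have hf := hP.frattini' (H := K) inf_le_left (le_nz_inf Subgroup.le_normalizer hC)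
  have hK' : K ⊓ Subgroup.normalizer (P : Set G) = K := by
    refine hmin _ (le_inf hSK (le_nz_inf Subgroup.le_normalizer (hSK.trans hC))) inf_le_left
      (hXK.trans (sup_le ?_ le_sup_right))
    exact hf.ge.trans (sup_le (inf_le_right.trans le_sup_right) le_sup_left)
  exact (inf_eq_left.1 hK')

theorem minimal_supplement_YL (hloc : ParabolicLoc S) {L K : Subgroup G} (hSL : (S : Subgroup G) ≤ L)
    (hL : Cfsg.pCoreOf p L ≠ ⊥) (hSK : (S : Subgroup G) ≤ K)
    (h1 : L ≤ K ⊔ Subgroup.centralizer (YL p L : Set G))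
    (h2 : K ≤ L ⊔ Subgroup.centralizer (YL p L : Set G))
    (hmin : ∀ K', (S : Subgroup G) ≤ K' → K' ≤ K →
      L ⊔ Subgroup.centralizer (YL p L : Set G) ≤ K' ⊔ Subgroup.centralizer (YL p L : Set G) → K' = K) :
    YL p K = YL p L := by
  set Y := YL p L
  set C := Subgroup.centralizer (Y : Set G)
  have hYS : Y ≤ (S : Subgroup G) := (isPRedOf_YL L).le_pCore.trans (pCoreOf_le_sylowIn (IsSylowIn.of_le S hSL))
  have e : K ⊔ C = L ⊔ C := le_antisymm (sup_le h2 le_sup_right) (sup_le h1 le_sup_right)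
  have hY : IsPRedOf p Y K := (isPRedOf_YL L).transfer (hYS.trans hSK) e
  have hY1 : Y ≠ ⊥ := YL_ne_bot_parabolic hloc hSL hL
  have hK : Cfsg.pCoreOf p K ≠ ⊥ := fun e => hY1 (le_bot_iff.1 (e ▸ hY.le_pCore))
  have hn := minimal_supplement_le_nz (X := L ⊔ C) hSK (le_sup_left.trans e.le) e.ge (le_nz_centralizer hY.nz) hmin
  refine le_antisymm ?_ hY.le_YL
  set P := (S : Subgroup G) ⊓ C
  have hPK : P ≤ Cfsg.pCoreOf p K := le_pCoreOf (inf_le_left.trans hSK) hn (S.isPGroup'.to_le inf_le_left)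
  have hOP : Cfsg.pCoreOf p K ≤ P := le_inf (pCoreOf_le_sylowIn (IsSylowIn.of_le S hSK)) hY.pCore_centralizes
  rw [show Y = omZ p P from YL_eq_omZ_TL (IsSylowIn.of_le S hSL) (charP_of_loc hloc hSL hL)]
  have hV := isPRedOf_YL (p := p) K
  intro v hv
  exact mem_omegaCenter_iff.2 ⟨hOP (hV.le_pCore hv),
    fun a ha => (Subgroup.mem_centralizer_iff.1 (hV.pCore_centralizes (hPK ha)) v hv).symm,
    hV.ea.2 v hv⟩

/-- MSS existence lemma. -/
theorem exists_frakM (hloc : ParabolicLoc S) {L : Subgroup G} (hSL : (S : Subgroup G) ≤ L)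
    (hL : L ∈ Cfsg.charPSubgroups p G) :
    ∃ M Ls : Subgroup G, (S : Subgroup G) ≤ M ∧ Cfsg.IsInFrakM p M ∧ (S : Subgroup G) ≤ Ls ∧ Ls ≤ M ∧
      Ls ∈ Cfsg.charPSubgroups p G ∧
      L ⊔ Subgroup.centralizer (YL p L : Set G) = Ls ⊔ Subgroup.centralizer (YL p L : Set G) ∧
      YL p L = YL p Ls ∧ YL p Ls ≤ YL p M := by
  classical
  have hLne := (mem_charP_iff.1 hL).1
  set Y := YL p L
  set C := Subgroup.centralizer (Y : Set G)
  have hY1 : Y ≠ ⊥ := YL_ne_bot_parabolic hloc hSL hLne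
  have hYS : Y ≤ (S : Subgroup G) := (isPRedOf_YL L).le_pCore.trans (pCoreOf_le_sylowIn (IsSylowIn.of_le S hSL))
  have hmem : ∀ {X : Subgroup G}, (S : Subgroup G) ≤ X → Cfsg.pCoreOf p X ≠ ⊥ → X ∈ Cfsg.charPSubgroups p G :=
    fun hX hne => mem_charP_iff.2 ⟨hne, hloc _ hX hne⟩
  -- good maximal members
  set P : Subgroup G → Prop := fun X => X ∈ Cfsg.maxCharPSubgroups p G ∧ (S : Subgroup G) ≤ X ∧
    ∃ K, (S : Subgroup G) ≤ K ∧ K ≤ X ∧ L ⊔ C = K ⊔ C
  have hex : ∃ X, P X := by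
    have h0 : L ⊔ C ∈ Cfsg.charPSubgroups p G := by
      refine hmem (hSL.trans le_sup_left) fun e => hY1 (le_bot_iff.1 (e ▸ le_pCoreOf ?_ ?_ (isPGroup_of_isEA (isPRedOf_YL L).ea)))
      · exact (isPRedOf_YL L).le.trans le_sup_left
      · exact sup_le (isPRedOf_YL L).nz (Subgroup.centralizer_le_normalizer _)
    obtain ⟨X, ⟨hX, hle⟩, hmax⟩ :=
      (Set.toFinite {X : Subgroup G | X ∈ Cfsg.charPSubgroups p G ∧ L ⊔ C ≤ X}).exists_maximal ⟨_, h0, le_rfl⟩
    exact ⟨X, ⟨hX, fun X' h h' => le_antisymm (hmax ⟨h, hle.trans h'⟩ h') h'⟩,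
      hSL.trans (le_sup_left.trans hle), L, hSL, le_sup_left.trans hle, rfl⟩
  obtain ⟨M1, hM1P, hM1max⟩ := Set.exists_max_image {X | P X} (fun X => Nat.card (YL p X)) (Set.toFinite _) hex
  obtain ⟨hM1, hSM1, K, hSK, hKM1, hKe⟩ := hM1P
  have hM1ne := (mem_charP_iff.1 hM1.1).1
  -- a member has the centraliser of its `Y`
  have hCX : ∀ {X : Subgroup G}, X ∈ Cfsg.maxCharPSubgroups p G → (S : Subgroup G) ≤ X →
      Subgroup.centralizer (YL p X : Set G) ≤ X := by
    intro X hX hSX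
    have hne := (mem_charP_iff.1 hX.1).1
    refine le_sup_right.trans (hX.2 (X ⊔ _) (hmem (hSX.trans le_sup_left) fun e => YL_ne_bot_parabolic hloc hSX hne
      (le_bot_iff.1 (e ▸ le_pCoreOf ((isPRedOf_YL X).le.trans le_sup_left) ?_ (isPGroup_of_isEA (isPRedOf_YL X).ea))))
      le_sup_left).le
    exact sup_le (isPRedOf_YL X).nz (Subgroup.centralizer_le_normalizer _)
  set Y1 := YL p M1
  set C1 := Subgroup.centralizer (Y1 : Set G)
  have hC1 : C1 ≤ M1 := hCX hM1 hSM1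
  have hM1C : M1 ≤ Subgroup.normalizer (C1 : Set G) := le_nz_centralizer (isPRedOf_YL M1).nz
  obtain ⟨M, hSM, hMM1, hsup, hMmin⟩ := exists_minimal_supplement (C := C1) hSM1
  have hMe : M ⊔ C1 = M1 := le_antisymm (sup_le hMM1 hC1) hsup
  have hMne : Cfsg.pCoreOf p M ≠ ⊥ := pCoreOf_ne_bot_of_le hMM1 hSM hM1ne
  have hY1S : Y1 ≤ (S : Subgroup G) := (isPRedOf_YL M1).le_pCore.trans (pCoreOf_le_sylowIn (IsSylowIn.of_le S hSM1))
  have hYM : YL p M = Y1 := le_antisymm (YL_mono_parabolic hloc hMM1 hSM hM1ne)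
    ((isPRedOf_YL M1).transfer (hY1S.trans hSM) (by rw [hMe]; exact (sup_eq_left.2 hC1).symm)).le_YL
  -- the subgroup `Ls`
  obtain ⟨K0, hSK0, hK0K, hK0e, hK0min⟩ := exists_minimal_supplement (C := C) hSK
  have hK0 : YL p K0 = Y := minimal_supplement_YL hloc hSL hLne hSK0
    (le_sup_left.trans (hKe.le.trans (sup_le hK0e le_sup_right))) (hK0K.trans (le_sup_left.trans hKe.ge))
    fun K' a b c => hK0min K' a b ((le_sup_left.trans hKe.ge).trans c)
  have hYY1 : Y ≤ Y1 := hK0 ▸ YL_mono_parabolic hloc (hK0K.trans hKM1) hSK0 hM1ne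
  have hC1C : C1 ≤ C := Subgroup.centralizer_le hYY1
  set X0 := M ⊓ (K0 ⊔ C1)
  have hX0 : L ⊔ C ≤ X0 ⊔ C := by
    rw [hKe]
    refine sup_le ((hK0e.trans (sup_le ?_ le_sup_right))) le_sup_right
    intro k hk
    obtain ⟨m, hm, c, hc, rfl⟩ := (mem_sup_iff_of_nz (hMM1.trans hM1C)).1 (hMe.ge (hK0K.trans hKM1 hk))
    refine Subgroup.mul_mem_sup ⟨hm, ?_⟩ (hC1C hc)
    simpa using (K0 ⊔ C1).mul_mem (Subgroup.mem_sup_left hk) ((K0 ⊔ C1).inv_mem (Subgroup.mem_sup_right hc))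
  have hX0L : X0 ≤ L ⊔ C := by
    refine inf_le_right.trans (sup_le ?_ (hC1C.trans le_sup_right))
    exact hK0K.trans (le_sup_left.trans hKe.ge)
  obtain ⟨Ls, hSLs, hLsX0, hLse, hLsmin⟩ := exists_minimal_supplement (C := C)
    (le_inf hSM (hSK0.trans le_sup_left) : (S : Subgroup G) ≤ X0)
  have hLse' : L ⊔ C = Ls ⊔ C := le_antisymm (hX0.trans (sup_le hLse le_sup_right))
    (sup_le (hLsX0.trans hX0L) le_sup_right)
  have hYLs : YL p Ls = Y := minimal_supplement_YL hloc hSL hLne hSLs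
    (le_sup_left.trans hLse'.le) (le_sup_left.trans hLse'.ge)
    fun K' a b c => hLsmin K' a b (hX0L.trans c)
  have hLsM : Ls ≤ M := hLsX0.trans inf_le_left
  -- uniqueness of the maximal member over `M`
  have hdag : M ⊔ Subgroup.centralizer (Cfsg.largestPReducedOf p M : Set G) = M1 := by
    show M ⊔ Subgroup.centralizer (YL p M : Set G) = M1
    rw [hYM]; exact hMe
  refine ⟨M, Ls, hSM, ⟨hmem hSM hMne, ?_, ?_, ?_, ?_, ?_⟩, hSLs, hLsM,
    hmem hSLs (pCoreOf_ne_bot_of_le hLsM hSLs hMne), hLse', hYLs.symm, ?_⟩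
  · rw [hdag]; exact hM1
  · intro X hX hMX
    rw [hdag]
    have hSX := hSM.trans hMX
    have hle : Y1 ≤ YL p X := hYM ▸ YL_mono_parabolic hloc hMX hSM (mem_charP_iff.1 hX.1).1
    have hcard := hM1max X ⟨hX, hSX, Ls, hSLs, hLsM.trans hMX, hLse'⟩
    have he : Y1 = YL p X := Subgroup.eq_of_le_of_card_ge hle hcard
    refine hM1.2 X hX.1 (hMe ▸ sup_le hMX ?_)
    show Subgroup.centralizer (Y1 : Set G) ≤ X
    rw [he]; exact hCX hX hSX
  · rw [hdag]; exact hYM
  · rw [show (Cfsg.largestPReducedOf p M : Subgroup G) = Y1 from hYM]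
    have hn := minimal_supplement_le_nz hSM hMM1 hsup (hMM1.trans hM1C) hMmin
    intro T
    have hP : IsSylowIn p ((S : Subgroup G) ⊓ C1) (M ⊓ C1) := by
      have := (IsSylowIn.of_le S hSM).inf (N := M ⊓ C1) inf_le_left (le_nz_inf Subgroup.le_normalizer (hMM1.trans hM1C))
      rwa [← inf_assoc, inf_eq_left.2 hSM] at this
    haveI hnorm : (hP.sylow : Subgroup ↥(M ⊓ C1)).Normal := by
      rw [hP.sylow_coe]; exact normal_subgroupOf (inf_le_left.trans hn)
    haveI := Sylow.unique_of_normal hP.sylow hnorm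
    rw [Subsingleton.elim T hP.sylow]
    exact hnorm
  · set q := QuotientGroup.mk' (Cfsg.pCore p ↥M)
    set N := (M ⊓ Subgroup.centralizer (Cfsg.largestPReducedOf p M : Set G)).subgroupOf M
    refine le_iInf₂ fun Z (hZ : IsCoatom Z) => ?_
    by_contra hne
    have hn := minimal_supplement_le_nz hSM hMM1 hsup (hMM1.trans hM1C) hMmin
    haveI : N.Normal := normal_subgroupOf (le_nz_inf Subgroup.le_normalizer (le_nz_centralizer (isPRedOf_YL M).nz))
    have hNeq : N = (M ⊓ C1).subgroupOf M := by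
      show (M ⊓ Subgroup.centralizer (YL p M : Set G)).subgroupOf M = _
      rw [hYM]
    have htop : Z.comap q ⊔ N = ⊤ := by
      rw [eq_top_iff]
      have h1 : (Z ⊔ N.map q).comap q = Z.comap q ⊔ N := by
        conv_rhs => rw [← sup_eq_left.2 (show q.ker ≤ Z.comap q ⊔ N from le_sup_of_le_left (Subgroup.ker_le_comap q Z))]
        rw [← Subgroup.comap_map_eq, Subgroup.map_sup, Subgroup.map_comap_eq_self_of_surjective (QuotientGroup.mk'_surjective _)]
      rw [← h1, hZ.2 (Z ⊔ N.map q) (left_lt_sup.2 hne), Subgroup.comap_top]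
    set Z' := Z.comap q
    have hkerZ : Cfsg.pCore p ↥M ≤ Z' := fun x hx => Subgroup.mem_comap.2 (by
      rw [show q x = 1 from (QuotientGroup.eq_one_iff x).2 hx]; exact Z.one_mem)
    have hS : IsSylowIn p (S : Subgroup G) M := IsSylowIn.of_le S hSM
    have hPsyl : IsSylowIn p ((S : Subgroup G) ⊓ C1) (M ⊓ C1) := by
      have := hS.inf (N := M ⊓ C1) inf_le_left (le_nz_inf Subgroup.le_normalizer (hMM1.trans hM1C))
      rwa [← inf_assoc, inf_eq_left.2 hSM] at this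
    -- the index of `Z'` is prime to `p`
    have hindex : ¬ p ∣ Z'.index := by
      intro hd
      have hNi : N.relIndex Z' = N.index := by
        rw [← Subgroup.relIndex_sup_right (H := Z') (K := N), htop, Subgroup.relIndex_top_right]
      have h1 : (Z' ⊓ N).relIndex Z' * Z'.index = (Z' ⊓ N).relIndex N * N.index :=
        (Subgroup.relIndex_mul_index inf_le_left).trans (Subgroup.relIndex_mul_index inf_le_right).symm
      rw [Subgroup.inf_relIndex_left, Subgroup.inf_relIndex_right, hNi, mul_comm] at h1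
      have h2 : Z'.index = Z'.relIndex N := Nat.eq_of_mul_eq_mul_right
        (Nat.pos_of_ne_zero Subgroup.index_ne_zero_of_finite) h1
      have hPZ : ((S : Subgroup G) ⊓ C1).subgroupOf M ≤ Z' := by
        refine le_trans (fun x hx => ?_) hkerZ
        rw [← pCoreOf_subgroupOf]
        exact le_pCoreOf (inf_le_left.trans hSM) hn (S.isPGroup'.to_le inf_le_left) hx
      refine hPsyl.2.2 ?_
      rw [← Subgroup.relIndex_subgroupOf (H := (S : Subgroup G) ⊓ C1) (inf_le_left : M ⊓ C1 ≤ M), ← hNeq]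
      exact (h2 ▸ hd).trans (Subgroup.relIndex_dvd_of_le_left _ hPZ)
    set X := Z'.map M.subtype
    have hXM : X ≤ M := Subgroup.map_subtype_le _
    have hsupX : X ⊔ (M ⊓ C1) = M := by
      have := congrArg (Subgroup.map M.subtype) htop
      rw [Subgroup.map_sup, hNeq, Subgroup.map_subgroupOf_eq_of_le inf_le_left, ← MonoidHom.range_eq_map,
        Subgroup.range_subtype] at this
      exact this
    have hndvd : ¬ p ∣ X.relIndex M := by
      rw [Subgroup.relIndex, Subgroup.subgroupOf, Subgroup.comap_map_eq_self_of_injective Subtype.coe_injective]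
      exact hindex
    obtain ⟨T, hT⟩ := exists_isSylowIn (p := p) X
    have hTM : IsSylowIn p T M := ⟨hT.1.trans hXM, hT.2.1, fun hd => by
      rw [← Subgroup.relIndex_mul_relIndex _ _ _ hT.1 hXM] at hd
      exact (hp.out.dvd_mul.1 hd).elim hT.2.2 hndvd⟩
    obtain ⟨m, hm, he⟩ := hTM.conj_eq hS
    have hcM : ∀ {x : G}, x ∈ M → cj x M = M := fun hx => cj_eq_of_mem_nz (Subgroup.le_normalizer hx)
    have hX' : cj m⁻¹ X = M := by
      refine hMmin _ ?_ ((cj_mono hXM).trans (hcM (M.inv_mem hm)).le) (hsup.trans (sup_le ?_ le_sup_right))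
      · have h2 := cj_mono (g := m⁻¹) hT.1
        rw [← he, cj_cj, inv_mul_cancel, cj_one] at h2
        exact h2
      · conv_lhs => rw [← hcM (M.inv_mem hm), ← hsupX]
        show (X ⊔ (M ⊓ C1)).map _ ≤ _
        rw [Subgroup.map_sup]
        refine sup_le_sup le_rfl ?_
        exact (cj_eq_of_mem_nz (le_nz_inf Subgroup.le_normalizer (hMM1.trans hM1C) (M.inv_mem hm))).le.trans inf_le_right
    have hXe : X = M := by
      rw [← cj_one X, ← mul_inv_cancel m, ← cj_cj, hX', hcM hm]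
    have hZ't : Z' = ⊤ := by
      rw [← Subgroup.map_subtype_inj]
      exact hXe.trans (by rw [← MonoidHom.range_eq_map, Subgroup.range_subtype])
    refine hZ.1 ?_
    rw [← Subgroup.map_comap_eq_self_of_surjective (QuotientGroup.mk'_surjective _) Z]
    exact (congrArg (Subgroup.map q) hZ't).trans (Subgroup.map_top_of_surjective _ (QuotientGroup.mk'_surjective _))
  · exact hYLs.le.trans (hYY1.trans hYM.ge)

end Cfsg.Agent.Lib.LocalChar
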