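import Cfsg.Agent.Lib.LocalChar.Core

/-! The Frattini subgroup of a `p`-group. -/

set_option autoImplicit false
set_option linter.unusedSectionVars false
set_option linter.style.haveILetI false

open scoped commutatorElement Pointwise

namespace Cfsg.Agent.Lib.LocalChar

variable {P : Type*} [Group P] {p : ℕ} [hp : Fact p.Prime]

theorem normal_of_commutator_le {K : Subgroup P} (h : commutator P ≤ K) : K.Normal :=
  ⟨fun x hx g => by
    have : g * x * g⁻¹ = ⁅g, x⁆ * x := by simp [commutatorElement_def]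
    rw [this]
    exact K.mul_mem (h (Subgroup.commutator_mem_commutator (Subgroup.mem_top g) (Subgroup.mem_top x))) hx⟩

/-- A subgroup containing all `p`-th powers and all commutators contains the Frattini subgroup. -/
theorem frattini_le_of_pow_commutator [Finite P] {F : Subgroup P} (hpow : ∀ a : P, a ^ p ∈ F)
    (hcom : commutator P ≤ F) : frattini P ≤ F := by
  intro x hx
  by_contra hxF
  obtain ⟨K, ⟨hFK, hxK⟩, hmax⟩ :=
    (Set.toFinite {K : Subgroup P | F ≤ K ∧ x ∉ K}).exists_maximal ⟨F, le_rfl, hxF⟩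
  haveI : K.Normal := normal_of_commutator_le (hcom.trans hFK)
  have htop : K ⊔ Subgroup.zpowers x = ⊤ := by
    rw [eq_top_iff]
    intro y _
    by_cases hy : y ∈ K
    · exact Subgroup.mem_sup_left hy
    have hxy : x ∈ K ⊔ Subgroup.zpowers y := by
      by_contra hc
      exact hy (hmax (y := K ⊔ Subgroup.zpowers y) ⟨hFK.trans le_sup_left, hc⟩ le_sup_left
        (Subgroup.mem_sup_right (Subgroup.mem_zpowers y)))
    obtain ⟨k, hk, z, hz, rfl⟩ := Subgroup.mem_sup_of_normal_left.1 hxy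
    obtain ⟨i, rfl⟩ := hz
    dsimp only at *
    have hnd : ¬ (p : ℤ) ∣ i := by
      rintro ⟨j, rfl⟩
      refine hxK (K.mul_mem hk ?_)
      rw [zpow_mul, zpow_natCast]
      exact K.zpow_mem (hFK (hpow y)) j
    obtain ⟨a, b, hab⟩ : IsCoprime (i : ℤ) (p : ℤ) :=
      ((Nat.prime_iff_prime_int.1 hp.out).coprime_iff_not_dvd.2 hnd).symm
    have h1 : y ^ i ∈ K ⊔ Subgroup.zpowers (k * y ^ i) := by
      have := Subgroup.mul_mem_sup (K.inv_mem hk) (Subgroup.mem_zpowers (k * y ^ i))
      simpa using this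
    have h2 : y ^ (p : ℤ) ∈ K ⊔ Subgroup.zpowers (k * y ^ i) :=
      Subgroup.mem_sup_left (by rw [zpow_natCast]; exact hFK (hpow y))
    have : y = (y ^ i) ^ a * (y ^ (p : ℤ)) ^ b := by
      rw [← zpow_mul, ← zpow_mul, ← zpow_add, mul_comm i, mul_comm (p : ℤ), hab, zpow_one]
    have h3 := mul_mem (zpow_mem h1 a) (zpow_mem h2 b)
    rwa [← this] at h3
  have hco : IsCoatom K := by
    refine ⟨fun h => hxK (h ▸ Subgroup.mem_top x), fun L hL => ?_⟩
    by_contra hne
    have hxL : x ∉ L := fun h => hne (top_le_iff.1 (htop ▸ sup_le hL.le (Subgroup.zpowers_le.2 h)))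
    exact hL.not_ge (hmax ⟨hFK.trans hL.le, hxL⟩ hL.le)
  exact hxK (frattini_le_coatom hco hx)

end Cfsg.Agent.Lib.LocalChar
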