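import Mathlib

/-!
A pair of a full cycle of prime power length and a conjugate of an even permutation whose product is not a
`p`-element and which generate a group that is not solvable.
-/

set_option autoImplicit false

namespace Cfsg.Agent.Lib.LocalChar.FreePair

open Equiv Equiv.Perm MulAction
open scoped Pointwise

/-- The product is not a `p`-element and the pair generates a group that is not solvable. -/
def Good {X : Type*} [Group X] (p : ℕ) (u v : X) : Prop :=
  (¬ ∃ k : ℕ, orderOf (u * v) = p ^ k) ∧ ¬ Group.IsSolvable ↥(Subgroup.closure ({u, v} : Set X))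

section PGroup

variable {p : ℕ} [hp : Fact p.Prime]

lemma succ_le_pow (h3 : 3 ≤ p) : ∀ b, 1 ≤ b → b + 2 ≤ p ^ b := by
  intro b hb
  induction b, hb using Nat.le_induction with
  | base => simpa using h3
  | succ b _ ih => calc b + 1 + 2 ≤ (b + 2) * 3 := by omega
      _ ≤ p ^ b * p := Nat.mul_le_mul ih h3
      _ = p ^ (b + 1) := (pow_succ p b).symm

variable {K : Type*} [Group K] [Finite K] {α : Type*} [MulAction K α] [FaithfulSMul K α]

lemma exists_elem_normal [Group.IsSolvable K] [IsPreprimitive K α] [Fintype α] {a : ℕ} (ha : 1 ≤ a)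
    (hcard : Fintype.card α = p ^ a) :
    ∃ N : Subgroup K, N.Normal ∧ (∀ x ∈ N, x ^ p = 1) ∧ (∀ x ∈ N, ∀ y ∈ N, x * y = y * x) ∧ Nat.card N = p ^ a ∧
      (∀ x y : α, ∃ n ∈ N, n • x = y) ∧ ∀ x ∈ N, ∀ z : α, x • z = z → x = 1 := by
  classical
  have hnt : Nontrivial α := by
    rw [← Fintype.one_lt_card_iff_nontrivial, hcard]
    exact Nat.one_lt_pow (by omega) hp.out.one_lt
  have trans_of : ∀ N : Subgroup K, N.Normal → N ≠ ⊥ → ∀ x y : α, ∃ n ∈ N, n • x = y := by
    intro N hN hne x y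
    have : IsPretransitive N α := by
      refine IsQuasiPreprimitive.isPretransitive_of_normal (G := K) fun hfix => hne ?_
      rw [eq_bot_iff]
      intro n hn
      refine eq_of_smul_eq_smul (α := α) fun z => ?_
      have hz : z ∈ fixedPoints N α := hfix ▸ Set.mem_univ z
      rw [one_smul]
      exact hz ⟨n, hn⟩
    obtain ⟨n, hn⟩ := exists_smul_eq N x y
    exact ⟨n, n.2, hn⟩
  obtain ⟨k₀, hk₀⟩ := (isSolvable_def (G := K)).1 inferInstance
  have hKne : (⊤ : Subgroup K) ≠ ⊥ := by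
    intro h
    obtain ⟨x, y, hxy⟩ := exists_pair_ne α
    obtain ⟨g, hg⟩ := exists_smul_eq K x y
    have : g = 1 := Subgroup.mem_bot.1 (h ▸ Subgroup.mem_top g)
    rw [this, one_smul] at hg
    exact hxy hg
  have hex : ∃ k, derivedSeries K k = ⊥ := ⟨k₀, hk₀⟩
  have hf0 : Nat.find hex ≠ 0 := fun h => by
    have h' := Nat.find_spec hex
    rw [h, derivedSeries_zero] at h'
    exact hKne h'
  obtain ⟨j, hj⟩ := Nat.exists_eq_succ_of_ne_zero hf0
  set A := derivedSeries K j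
  have hAne : A ≠ ⊥ := Nat.find_min hex (by omega)
  have hAcomm : ∀ x ∈ A, ∀ y ∈ A, x * y = y * x := fun x hx y hy => by
    have h' := Nat.find_spec hex
    rw [hj, derivedSeries_succ] at h'
    have h2 := Subgroup.commutator_mem_commutator hx hy
    rw [h', Subgroup.mem_bot, commutatorElement_eq_one_iff_commute] at h2
    exact h2
  have hAn : A.Normal := derivedSeries_normal K j
  have hAreg : ∀ x ∈ A, ∀ z : α, x • z = z → x = 1 := by
    intro x hx z hz
    refine eq_of_smul_eq_smul (α := α) fun y => ?_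
    obtain ⟨n, hn, rfl⟩ := trans_of A hAn hAne z y
    rw [one_smul, smul_smul, hAcomm x hx n hn, mul_smul, hz]
  have hAcard : Nat.card A = p ^ a := by
    rw [← hcard, ← Nat.card_eq_fintype_card]
    obtain ⟨z⟩ := (inferInstance : Nonempty α)
    refine Nat.card_congr (Equiv.ofBijective (fun x : A => (x : K) • z) ⟨fun x y h => ?_, fun y => ?_⟩)
    · have h' : (((y⁻¹ * x : A)) : K) • z = z := by
        simp only [Subgroup.coe_mul, Subgroup.coe_inv, mul_smul]
        rw [show (x : K) • z = (y : K) • z from h, inv_smul_smul]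
      have h2 : y⁻¹ * x = 1 := Subtype.ext (hAreg _ (y⁻¹ * x : A).2 z h')
      exact (inv_mul_eq_one.1 h2).symm
    · obtain ⟨n, hn, hnz⟩ := trans_of A hAn hAne z y
      exact ⟨⟨n, hn⟩, hnz⟩
  let E : Subgroup K :=
    { carrier := {x | x ∈ A ∧ x ^ p = 1}
      one_mem' := ⟨A.one_mem, one_pow p⟩
      mul_mem' := fun {x y} hx hy => ⟨A.mul_mem hx.1 hy.1, by
        rw [(show Commute x y from hAcomm x hx.1 y hy.1).mul_pow, hx.2, hy.2, one_mul]⟩
      inv_mem' := fun {x} hx => ⟨A.inv_mem hx.1, by rw [inv_pow, hx.2, inv_one]⟩ }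
  have hEn : E.Normal := ⟨fun x hx g => ⟨hAn.conj_mem x hx.1 g, by rw [conj_pow, hx.2, mul_one, mul_inv_cancel]⟩⟩
  have hEne : E ≠ ⊥ := by
    have : Fintype A := Fintype.ofFinite A
    obtain ⟨x, hx⟩ := exists_prime_orderOf_dvd_card' (G := A) p (by rw [hAcard]; exact dvd_pow_self p (by omega))
    intro hbot
    have hxE : (x : K) ∈ E := ⟨x.2, by rw [← hx, ← Subgroup.orderOf_coe x, pow_orderOf_eq_one]⟩
    rw [hbot, Subgroup.mem_bot] at hxE
    rw [← Subgroup.orderOf_coe x, hxE, orderOf_one] at hx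
    exact hp.out.one_lt.ne hx
  have hexp : ∀ x ∈ A, x ^ p = 1 := by
    intro x hx
    obtain ⟨z⟩ := (inferInstance : Nonempty α)
    obtain ⟨e, he, hez⟩ := trans_of E hEn hEne z (x • z)
    have h1 : x⁻¹ * e = 1 := hAreg _ (A.mul_mem (A.inv_mem hx) he.1) z (by rw [mul_smul, hez, inv_smul_smul])
    rw [inv_mul_eq_one] at h1
    exact h1 ▸ he.2
  exact ⟨A, hAn, hexp, hAcomm, hAcard, trans_of A hAn hAne, hAreg⟩

lemma unipotent_aux (h3 : 3 ≤ p) {b : ℕ} (hb : 1 ≤ b) {M : Type*} [AddCommGroup M] [Finite M]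
    [Module (ZMod p) M] (hcard : Nat.card M = p ^ (b + 1)) (f₀ : M →+ M)
    (hfL : ∀ x, f₀^[p ^ (b + 1)] x = x) :
    (∀ x, f₀^[p ^ b] x = x) ∧ ∀ x, ∑ j ∈ Finset.range (p ^ b), f₀^[j] x = 0 := by
  let f : Module.End (ZMod p) M := f₀.toZModLinearMap p
  have hit : ∀ (i : ℕ) (x : M), (f ^ i) x = f₀^[i] x := fun i x => by rw [Module.End.pow_apply]; rfl
  have hfL' : f ^ p ^ (b + 1) = 1 := LinearMap.ext fun x => by rw [hit, hfL]; rfl
  have hsubpow : ∀ c, (f - 1) ^ p ^ c = f ^ p ^ c - 1 := by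
    intro c
    have hpoly : ((Polynomial.X : Polynomial (ZMod p)) - 1) ^ p ^ c = Polynomial.X ^ p ^ c - 1 := by
      rw [sub_pow_char_pow, one_pow]
    have := congrArg (Polynomial.aeval f) hpoly
    simpa using this
  have hfin : Module.finrank (ZMod p) M = b + 1 := by
    have h1 := Module.natCard_eq_pow_finrank (K := ZMod p) (V := M)
    rw [hcard, Nat.card_zmod] at h1
    exact (Nat.pow_right_injective hp.out.two_le h1).symm
  have hnil : ∀ k, b + 1 ≤ k → (f - 1) ^ k = 0 := by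
    intro k hk
    have hker := Module.End.ker_pow_le_ker_pow_finrank (f - 1) (p ^ (b + 1))
    rw [hsubpow, hfL', sub_self, LinearMap.ker_zero, top_le_iff, LinearMap.ker_eq_top, hfin] at hker
    rw [← Nat.sub_add_cancel hk, pow_add, hker, mul_zero]
  have hq : b + 2 ≤ p ^ b := succ_le_pow h3 b hb
  have hfq : f ^ p ^ b = 1 := by
    rw [← sub_eq_zero, ← hsubpow]
    exact hnil _ (by omega)
  have hsum : ∑ j ∈ Finset.range (p ^ b), f ^ j = 0 := by
    have hpoly : ((Polynomial.X : Polynomial (ZMod p)) - 1) ^ (p ^ b - 1) =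
        ∑ j ∈ Finset.range (p ^ b), Polynomial.X ^ j := by
      have hne : (Polynomial.X : Polynomial (ZMod p)) - 1 ≠ 0 := by
        simpa using Polynomial.X_sub_C_ne_zero (1 : ZMod p)
      apply mul_right_cancel₀ hne
      rw [geom_sum_mul, ← pow_succ, show p ^ b - 1 + 1 = p ^ b by omega, sub_pow_char_pow, one_pow]
    have := congrArg (Polynomial.aeval f) hpoly
    simp only [map_pow, map_sub, map_one, Polynomial.aeval_X, map_sum] at this
    rw [← this]
    exact hnil _ (by omega)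
  refine ⟨fun x => ?_, fun x => ?_⟩
  · rw [← hit, hfq]; rfl
  · simp only [← hit]
    rw [← LinearMap.sum_apply, hsum]
    rfl

lemma unipotent_iterate (h3 : 3 ≤ p) {b : ℕ} (hb : 1 ≤ b) {M : Type*} [AddCommGroup M] [Finite M]
    (hexp : ∀ x : M, p • x = 0) (hcard : Nat.card M = p ^ (b + 1)) (f₀ : M →+ M)
    (hfL : ∀ x, f₀^[p ^ (b + 1)] x = x) :
    (∀ x, f₀^[p ^ b] x = x) ∧ ∀ x, ∑ j ∈ Finset.range (p ^ b), f₀^[j] x = 0 :=
  @unipotent_aux p hp h3 b hb M _ _ (AddCommGroup.zmodModule hexp) hcard f₀ hfL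

/-- No element of a solvable primitive group of degree `p ^ a`, `a ≥ 2`, `p` odd, has order `p ^ a`. -/
lemma pow_eq_one_of_primitive [Group.IsSolvable K] [IsPreprimitive K α] [Fintype α] (h3 : 3 ≤ p) {b : ℕ} (hb : 1 ≤ b)
    (hcard : Fintype.card α = p ^ (b + 1)) (u : K) (hu : u ^ p ^ (b + 1) = 1) : u ^ p ^ b = 1 := by
  classical
  obtain ⟨N, hN, hexp, hcomm, hNcard, htr, hreg⟩ := exists_elem_normal (K := K) (by omega) hcard
  obtain ⟨z⟩ : Nonempty α := Fintype.card_pos_iff.1 (by rw [hcard]; exact pow_pos hp.out.pos _)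
  obtain ⟨e, he, hez⟩ := htr z (u • z)
  set h := e⁻¹ * u
  have hhz : h • z = z := by rw [mul_smul, ← hez, inv_smul_smul]
  have heh : u = e * h := (mul_inv_cancel_left e u).symm
  letI : CommGroup N := { (inferInstance : Group N) with mul_comm := fun x y => Subtype.ext (hcomm x x.2 y y.2) }
  let cj : N →* N :=
    { toFun := fun x => ⟨h * x * h⁻¹, hN.conj_mem _ x.2 h⟩
      map_one' := Subtype.ext (by simp)
      map_mul' := fun x y => Subtype.ext (by simp [mul_assoc]) }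
  let f : Additive N →+ Additive N := MonoidHom.toAdditive cj
  have hfp : ∀ (i : ℕ) (x : Additive N),
      ((Additive.toMul (f^[i] x) : N) : K) = h ^ i * (Additive.toMul x : N) * (h ^ i)⁻¹ := by
    intro i
    induction i with
    | zero => intro x; simp
    | succ i ih =>
      intro x
      rw [Function.iterate_succ_apply',
        show ((Additive.toMul (f (f^[i] x)) : N) : K) = h * ((Additive.toMul (f^[i] x) : N) : K) * h⁻¹ from rfl,
        ih, pow_succ']
      group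
  have hprod : ∀ i : ℕ, u ^ i =
      ((Additive.toMul (∑ j ∈ Finset.range i, f^[j] (Additive.ofMul ⟨e, he⟩)) : N) : K) * h ^ i := by
    intro i
    induction i with
    | zero => simp
    | succ i ih =>
      rw [pow_succ, ih, Finset.sum_range_succ, toMul_add, Subgroup.coe_mul, hfp, toMul_ofMul, heh, pow_succ]
      group
  have hcu : ∀ (i : ℕ) (x : K), x ∈ N → u ^ i * x * (u ^ i)⁻¹ = h ^ i * x * (h ^ i)⁻¹ := by
    intro i x hx
    rw [hprod i]
    generalize hs : ((Additive.toMul (∑ j ∈ Finset.range i, f^[j] (Additive.ofMul ⟨e, he⟩)) : N) : K) = s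
    have hsN : s ∈ N := hs ▸ Subtype.prop _
    rw [mul_inv_rev, show s * h ^ i * x * ((h ^ i)⁻¹ * s⁻¹) = s * (h ^ i * x * (h ^ i)⁻¹) * s⁻¹ by group,
      hcomm s hsN _ (hN.conj_mem x hx _), mul_inv_cancel_right]
  obtain ⟨hfq, hsum⟩ := unipotent_iterate h3 hb (M := Additive N)
    (fun x => Additive.toMul.injective (Subtype.ext (by simpa using hexp _ (Additive.toMul x).2)))
    (by rw [Nat.card_congr Additive.toMul, hNcard]) f fun x => Additive.toMul.injective (Subtype.ext (by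
      rw [hfp, ← hcu _ _ (Additive.toMul x).2, hu]; simp))
  have hu' : u ^ p ^ b = h ^ p ^ b := by
    rw [hprod, hsum]
    simp
  rw [hu']
  refine eq_of_smul_eq_smul (α := α) fun y => ?_
  obtain ⟨n, hn, rfl⟩ := htr z y
  have hhq : h ^ p ^ b • z = z := by
    have : ∀ k : ℕ, h ^ k • z = z := fun k => by
      induction k with
      | zero => simp
      | succ k ih => rw [pow_succ, mul_smul, hhz, ih]
    exact this _
  have h1 := hfp (p ^ b) (Additive.ofMul (⟨n, hn⟩ : N))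
  rw [hfq] at h1
  simp only [toMul_ofMul] at h1
  rw [one_smul, smul_smul, show h ^ p ^ b * n = n * h ^ p ^ b from eq_mul_inv_iff_mul_eq.1 h1 |>.symm, mul_smul, hhq]

/-- In a solvable group of prime degree, products of `p`-elements are `p`-elements. -/
lemma mul_pow_eq_one_of_prime [Group.IsSolvable K] [IsPretransitive K α] [Fintype α] (hcard : Fintype.card α = p)
    (u v : K) {i j : ℕ} (hu : u ^ p ^ i = 1) (hv : v ^ p ^ j = 1) : (u * v) ^ p = 1 := by
  classical
  haveI : IsPreprimitive K α := IsPreprimitive.of_prime_card (by rw [Nat.card_eq_fintype_card, hcard]; exact hp.out)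
  obtain ⟨N, hN, hexp, -, hNcard, -, -⟩ := exists_elem_normal (K := K) (p := p) le_rfl (by rw [hcard, pow_one])
  have hSp : IsPGroup p N := IsPGroup.of_card hNcard
  have hdiv : Nat.card K ∣ (Fintype.card α).factorial := by
    rw [← Fintype.card_perm, ← Nat.card_eq_fintype_card]
    exact Subgroup.card_dvd_of_injective (MulAction.toPermHom K α) toPerm_injective
  have hidx : ¬ p ∣ N.index := by
    intro hd
    have h2 : p * p ∣ Nat.card K := by
      rw [← Subgroup.card_mul_index N, hNcard, pow_one]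
      exact Nat.mul_dvd_mul_left p hd
    have h3 := h2.trans hdiv
    rw [hcard] at h3
    obtain ⟨k, hk⟩ : ∃ k, p = k + 1 := ⟨p - 1, (Nat.succ_pred_eq_of_pos hp.out.pos).symm⟩
    rw [show p.factorial = p * k.factorial by rw [hk, Nat.factorial_succ],
      Nat.mul_dvd_mul_iff_left hp.out.pos, hp.out.dvd_factorial] at h3
    omega
  have hmem : ∀ (x : K) (i : ℕ), x ^ p ^ i = 1 → x ∈ N := by
    intro x i hx
    rw [← QuotientGroup.eq_one_iff]
    have h1 : orderOf (x : K ⧸ N) ∣ p ^ i := orderOf_dvd_of_pow_eq_one (by rw [← QuotientGroup.mk_pow, hx]; rfl)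
    have h2 : orderOf (x : K ⧸ N) ∣ N.index := orderOf_dvd_natCard _
    exact orderOf_eq_one_iff.1 (Nat.eq_one_of_dvd_coprimes ((hp.out.coprime_iff_not_dvd.2 hidx).pow_left i) h1 h2)
  exact hexp _ (N.mul_mem (hmem u i hu) (hmem v j hv))

end PGroup

section Cycle

variable {α : Type*} [Fintype α] [DecidableEq α] {p : ℕ} [hp : Fact p.Prime]

lemma not_pow_of_swap (h2 : p ≠ 2) {c : Perm α} {x y : α} (hxy : x ≠ y) (h1 : c x = y) (h2' : c y = x) :
    ¬ ∃ k : ℕ, orderOf c = p ^ k := by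
  rintro ⟨k, hk⟩
  obtain ⟨j, hj⟩ := (hp.out.odd_of_ne_two h2).pow (n := k)
  have hc2 : ∀ i : ℕ, (c ^ (2 * i)) x = x := fun i => by
    induction i with
    | zero => simp
    | succ i ih => rw [show 2 * (i + 1) = 2 * i + 1 + 1 by ring, pow_succ, pow_succ, Perm.mul_apply, Perm.mul_apply, h1, h2', ih]
  have h3 := pow_orderOf_eq_one c
  rw [hk, hj] at h3
  have h4 := congrArg (fun σ : Perm α => σ x) h3
  simp only [pow_succ', Perm.mul_apply, hc2, h1, Perm.one_apply] at h4
  exact hxy h4.symm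

lemma exists_even_map {k : ℕ} (hk : k + 2 ≤ Fintype.card α) (x y : Fin k → α) (hx : Function.Injective x)
    (hy : Function.Injective y) : ∃ g : Perm α, g ∈ alternatingGroup α ∧ ∀ i, g (x i) = y i := by
  haveI := alternatingGroup.isMultiplyPretransitive α
  haveI : IsMultiplyPretransitive (alternatingGroup α) α k :=
    isMultiplyPretransitive_of_le (n := Nat.card α - 2) (by rw [Nat.card_eq_fintype_card]; omega) (Nat.sub_le _ _)
  obtain ⟨g, hg⟩ := exists_smul_eq (alternatingGroup α) (⟨x, hx⟩ : Fin k ↪ α) ⟨y, hy⟩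
  exact ⟨g, g.2, fun i => congrArg (fun f : Fin k ↪ α => f i) hg⟩

lemma conj_apply_of (g w : Perm α) {x y x' y' : α} (hx : g x = x') (hy : g y = y') (hw : w x = y) :
    (g * w * g⁻¹) x' = y' := by
  rw [← hx, ← hy, ← hw]; simp

variable {b : ℕ} {u : Perm α} {a₀ : α} (hu : u.IsCycleOn (↑(Finset.univ : Finset α)))
  (hcard : Fintype.card α = p ^ (b + 1))

include hu

lemma pt_inj {i j : ℕ} (hi : i < Fintype.card α) (hj : j < Fintype.card α) (h : (u ^ i) a₀ = (u ^ j) a₀) : i = j := by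
  have h' := (hu.pow_apply_eq_pow_apply (Finset.mem_univ a₀)).1 h
  rw [Finset.card_univ] at h'
  exact Nat.ModEq.eq_of_lt_of_lt h' hi hj

lemma pow_card : u ^ Fintype.card α = 1 :=
  Equiv.ext fun x => (hu.pow_apply_eq (Finset.mem_univ x)).2 (by rw [Finset.card_univ])

lemma exists_pt (x : α) : ∃ i, i < Fintype.card α ∧ (u ^ i) a₀ = x := by
  obtain ⟨i, hi, h⟩ := hu.exists_pow_eq (Finset.mem_univ a₀) (Finset.mem_univ x)
  exact ⟨i, by rwa [Finset.card_univ] at hi, h⟩

include hcard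

lemma exists_period {G : Subgroup (Perm α)} (huG : u ∈ G) {B : Set α} (hB : IsBlock G B)
    (hne : ¬ B.Subsingleton) (hun : B ≠ Set.univ) :
    ∃ d : ℕ, p ∣ d ∧ d ∣ p ^ b ∧ ∀ i j : ℕ, i ≤ j → (u ^ i) a₀ ∈ B → ((u ^ j) a₀ ∈ B ↔ d ∣ j - i) := by
  set u' : G := ⟨u, huG⟩ with hu'
  set d := MulAction.period u' B with hd
  have hsm : ∀ (i : ℕ) (x : α), (u' ^ i) • x = (u ^ i) x := fun i x => by simp [u', Subgroup.smul_def]
  have hshift : ∀ i j : ℕ, i ≤ j → (u ^ i) a₀ ∈ B → ((u ^ j) a₀ ∈ B ↔ (u' ^ (j - i)) • B = B) := by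
    intro i j hij hi
    have hji : (u' ^ (j - i)) • (u ^ i) a₀ = (u ^ j) a₀ := by
      rw [hsm, ← Perm.mul_apply, ← pow_add, Nat.sub_add_cancel hij]
    constructor
    · intro hj
      by_contra hne'
      exact Set.disjoint_left.1 (hB.disjoint_smul_of_ne hne') (hji ▸ Set.smul_mem_smul_set hi) hj
    · intro h
      rw [← h, ← hji]
      exact Set.smul_mem_smul_set hi
  have key : ∀ i j : ℕ, i ≤ j → (u ^ i) a₀ ∈ B → ((u ^ j) a₀ ∈ B ↔ d ∣ j - i) := fun i j hij hi =>
    (hshift i j hij hi).trans pow_smul_eq_iff_period_dvd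
  have hdL : d ∣ p ^ (b + 1) := by
    refine pow_smul_eq_iff_period_dvd.1 ?_
    rw [← hcard, show u' ^ Fintype.card α = 1 from Subtype.ext (by simp [u', pow_card hu]), one_smul]
  obtain ⟨c, hc, hdc⟩ := (Nat.dvd_prime_pow hp.out).1 hdL
  obtain ⟨x, hx, y, hy, hxy⟩ := Set.not_subsingleton_iff.1 hne
  obtain ⟨i, hi, rfl⟩ := exists_pt hu (a₀ := a₀) x
  obtain ⟨j, hj, rfl⟩ := exists_pt hu (a₀ := a₀) y
  refine ⟨d, ?_, ?_, key⟩
  · rw [hdc]
    refine dvd_pow_self p fun hc0 => hun (Set.eq_univ_of_forall fun z => ?_)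
    obtain ⟨k, hk, rfl⟩ := exists_pt hu (a₀ := a₀) z
    have h1 : ∀ n : ℕ, (u' ^ n) • B = B := fun n => pow_smul_eq_iff_period_dvd.2 (by rw [← hd, hdc, hc0, pow_zero]; exact one_dvd n)
    have hk' : (u ^ (k + Fintype.card α)) a₀ = (u ^ k) a₀ := by rw [pow_add, pow_card hu, mul_one]
    rw [← hk', hshift i _ (by omega) hx]
    exact h1 _
  · rw [hdc]
    refine Nat.pow_dvd_pow p ?_
    by_contra hcb
    have hcb' : c = b + 1 := by omega
    subst hcb'
    rcases le_total i j with hij | hij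
    · have := (key i j hij hx).1 hy
      rw [hdc] at this
      have := Nat.eq_zero_of_dvd_of_lt this (by omega)
      exact hxy (by rw [show i = j by omega])
    · have := (key j i hij hy).1 hx
      rw [hdc] at this
      have := Nat.eq_zero_of_dvd_of_lt this (by omega)
      exact hxy (by rw [show i = j by omega])

omit hcard

/-- Primitivity from a witness pair in one class modulo `p ^ b` whose images are in different classes modulo `p`. -/
lemma primitive_of_witness (hcard : Fintype.card α = p ^ (b + 1)) {v : Perm α} {G : Subgroup (Perm α)} (huG : u ∈ G)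
    (hvG : v ∈ G) {x₁ z₁ z₂ : ℕ}
    (h1 : v ((u ^ x₁) a₀) = (u ^ z₁) a₀) (h2 : v ((u ^ (x₁ + p ^ b)) a₀) = (u ^ z₂) a₀)
    (hz : z₁ ≤ z₂ ∧ ¬ p ∣ z₂ - z₁ ∨ z₂ ≤ z₁ ∧ ¬ p ∣ z₁ - z₂) : IsPreprimitive G α := by
  haveI : IsPretransitive G α := ⟨fun x y => by
    obtain ⟨i, -, rfl⟩ := exists_pt hu (a₀ := a₀) x
    obtain ⟨j, -, rfl⟩ := exists_pt hu (a₀ := a₀) y
    refine ⟨⟨u ^ j * (u ^ i)⁻¹, G.mul_mem (G.pow_mem huG j) (G.inv_mem (G.pow_mem huG i))⟩, ?_⟩
    simp [Subgroup.smul_def]⟩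
  refine IsPreprimitive.of_isTrivialBlock_base ((u ^ x₁) a₀) fun {B} hxB hB => ?_
  by_contra htriv
  rw [IsTrivialBlock, not_or] at htriv
  obtain ⟨d, -, hdm, hd⟩ := exists_period hu hcard huG hB htriv.1 htriv.2 (a₀ := a₀)
  have hyB : (u ^ (x₁ + p ^ b)) a₀ ∈ B := (hd x₁ _ (Nat.le_add_right _ _) hxB).2 (by simpa using hdm)
  set v' : G := ⟨v, hvG⟩
  have hn : ¬ (v' • B).Subsingleton ∧ v' • B ≠ Set.univ := by
    constructor
    · intro h; exact htriv.1 (Set.subsingleton_of_image (MulAction.injective v') B h)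
    · intro h; exact htriv.2 (by rw [← inv_smul_smul v' B, h, Set.smul_set_univ])
  obtain ⟨d', hpd', -, hd'⟩ := exists_period hu hcard huG (hB.translate v') hn.1 hn.2 (a₀ := a₀)
  have m1 : (u ^ z₁) a₀ ∈ v' • B := h1 ▸ Set.smul_mem_smul_set (a := v') hxB
  have m2 : (u ^ z₂) a₀ ∈ v' • B := h2 ▸ Set.smul_mem_smul_set (a := v') hyB
  rcases hz with ⟨hle, hnd⟩ | ⟨hle, hnd⟩
  · exact hnd (hpd'.trans ((hd' _ _ hle m1).1 m2))
  · exact hnd (hpd'.trans ((hd' _ _ hle m2).1 m1))

/-- The group is not solvable. -/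
lemma not_solvable_of_witness (h3 : 3 ≤ p) (hcard : Fintype.card α = p ^ (b + 1)) {v : Perm α} {j : ℕ}
    (hv : v ^ p ^ j = 1) (hnp : ¬ ∃ k : ℕ, orderOf (u * v) = p ^ k) {x₁ z₁ z₂ : ℕ}
    (hw : 1 ≤ b → v ((u ^ x₁) a₀) = (u ^ z₁) a₀ ∧ v ((u ^ (x₁ + p ^ b)) a₀) = (u ^ z₂) a₀ ∧
      (z₁ ≤ z₂ ∧ ¬ p ∣ z₂ - z₁ ∨ z₂ ≤ z₁ ∧ ¬ p ∣ z₁ - z₂)) :
    ¬ Group.IsSolvable ↥(Subgroup.closure ({u, v} : Set (Perm α))) := by
  intro hs
  set G := Subgroup.closure ({u, v} : Set (Perm α))
  have huG : u ∈ G := Subgroup.subset_closure (by simp)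
  have hvG : v ∈ G := Subgroup.subset_closure (by simp)
  haveI : IsPretransitive G α := ⟨fun x y => by
    obtain ⟨i, -, rfl⟩ := exists_pt hu (a₀ := a₀) x
    obtain ⟨j, -, rfl⟩ := exists_pt hu (a₀ := a₀) y
    refine ⟨⟨u ^ j * (u ^ i)⁻¹, G.mul_mem (G.pow_mem huG j) (G.inv_mem (G.pow_mem huG i))⟩, ?_⟩
    simp [Subgroup.smul_def]⟩
  have hu' : u ^ p ^ (b + 1) = 1 := hcard ▸ pow_card hu
  rcases Nat.eq_zero_or_pos b with rfl | hb
  · have := mul_pow_eq_one_of_prime (K := G) (α := α) (p := p) (by simpa using hcard) ⟨u, huG⟩ ⟨v, hvG⟩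
      (i := 1) (j := j) (Subtype.ext (by simpa using hu')) (Subtype.ext (by simpa using hv))
    have h' : (u * v) ^ p = 1 := congrArg Subtype.val this
    obtain ⟨k, -, hk⟩ := (Nat.dvd_prime_pow hp.out).1 (show orderOf (u * v) ∣ p ^ 1 by rw [pow_one]; exact orderOf_dvd_of_pow_eq_one h')
    exact hnp ⟨k, hk⟩
  · obtain ⟨g1, g2, g3⟩ := hw hb
    haveI := primitive_of_witness hu hcard huG hvG g1 g2 g3
    have h1 := congrArg Subtype.val (pow_eq_one_of_primitive (K := G) (α := α) h3 hb hcard ⟨u, huG⟩ (Subtype.ext (by simpa using hu')))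
    have h2 : (u ^ p ^ b) a₀ = (u ^ 0) a₀ := by
      rw [show u ^ p ^ b = 1 by simpa using h1]; simp
    have hlt : p ^ b < Fintype.card α := by rw [hcard]; exact Nat.pow_lt_pow_right hp.out.one_lt (by omega)
    exact (pow_pos hp.out.pos b).ne' (pt_inj hu hlt (by omega) h2)

end Cycle

end Cfsg.Agent.Lib.LocalChar.FreePair
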