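import Cfsg.Agent.Lib.LocalChar.JMax

/-! An admissible pair: a 2-group `P` normalising a good component `K`, with small `Ω₁(Z(J(P)))`. -/

set_option autoImplicit false
set_option linter.unusedSectionVars false
open scoped commutatorElement
open Subgroup (centralizer normalizer zpowers)

namespace Cfsg.Agent.Lib.LocalChar.JComp

variable {G : Type*} [Group G] [Finite G] {P K : Subgroup G}

local notation "𝐉" T:max => Cfsg.thompsonSubgroupOf 2 T

/-- The hypotheses on an incident pair of the amalgam. -/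
structure Adm (P K : Subgroup G) : Prop where
  p2 : IsPGroup 2 P
  good : Good P K
  norm : P ≤ normalizer (K : Set G)
  cen : P ≤ centralizer (zJ P : Set G)
  four : Nat.card ↥(zJ P) ≤ 4
  syl : ∀ L : Subgroup G, Cfsg.IsTwoLocal L → K ⊔ P ≤ L → IsSylowIn 2 P L

/-- The group `N(K) ∩ C(C)` of a vertex. -/
abbrev lGrp (K C : Subgroup G) : Subgroup G := normalizer (K : Set G) ⊓ centralizer (C : Set G)

theorem isSylowIn_between {P L H : Subgroup G} (h : IsSylowIn 2 P H) (hPL : P ≤ L) (hLH : L ≤ H) :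
    IsSylowIn 2 P L := by
  obtain ⟨P', hP', hle⟩ := exists_isSylowIn_ge (p := 2) h.2.1 hPL
  exact h.eq_of_le hP'.2.1 (hP'.1.trans hLH) hle ▸ hP'

theorem Single.conj_apply (h : Single P K) (g : G) : Single (cj g P) (cj g K) := fun K' hK' hle => by
  have h1 := component_cj g⁻¹ hK'
  rw [cj_inv_cj] at h1
  have h2 : cj g⁻¹ K' ≤ normalizer (K : Set G) := by
    have := cj_mono (g := g⁻¹) hle
    rwa [show cj g⁻¹ (normalizer (cj g K : Set G)) = normalizer (cj g⁻¹ (cj g K) : Set G) from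
      Subgroup.map_equiv_normalizer_eq _ (MulAut.conj g⁻¹), cj_inv_cj] at this
  have := congrArg (cj g) (h _ h1 h2)
  rwa [cj_cj_inv] at this

/-- An element normalising a four-group and fixing `r` either fixes `w` or moves it to `r * w`. -/
theorem conj_four {W : Subgroup G} (hW : Nat.card W = 4) (hW2 : ∀ w ∈ W, w * w = 1) {r w : G}
    (hr : r ∈ W) (hr1 : r ≠ 1) (hw : w ∈ W) (hw1 : w ≠ 1) (hwr : w ≠ r) {p : G}
    (hpW : p ∈ normalizer (W : Set G)) (hpr : Commute p r) :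
    p * w * p⁻¹ = w ∨ p * w * p⁻¹ = r * w := by
  have h00 : r * w ≠ 1 := fun h => hwr (by
    have h2 := hW2 r hr
    rw [← h] at h2
    exact (mul_left_cancel h2).symm)
  have hsub : ({1, r, w, r * w} : Set G) ⊆ (W : Set G) := by
    rintro _ (rfl | rfl | rfl | rfl)
    exacts [W.one_mem, hr, hw, W.mul_mem hr hw]
  have hcard : ({1, r, w, r * w} : Set G).ncard = 4 := by
    rw [Set.ncard_insert_of_notMem, Set.ncard_insert_of_notMem, Set.ncard_pair]
    · simpa using hr1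
    · simp [hwr.symm, hw1]
    · simp [hr1.symm, hw1.symm, h00.symm]
  have he := Set.eq_of_subset_of_ncard_le hsub
    (by rw [hcard, ← Nat.card_coe_set_eq]; exact hW.le) (Set.toFinite _)
  have hm : p * w * p⁻¹ ∈ ({1, r, w, r * w} : Set G) := he.symm ▸ conj_mem_of_nz hpW hw
  simp only [Set.mem_insert_iff, Set.mem_singleton_iff] at hm
  rcases hm with h | h | h | h
  · exact absurd (conj_eq_one_iff.1 h) hw1
  · refine absurd ?_ hwr
    calc w = p⁻¹ * (p * w * p⁻¹) * p := by group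
      _ = p⁻¹ * (r * p) := by rw [h]; group
      _ = r := by rw [← hpr.eq]; group
  · exact Or.inl h
  · exact Or.inr h

theorem cent_four {W : Subgroup G} (hW : Nat.card W = 4) (hW2 : ∀ w ∈ W, w * w = 1) {r w : G}
    (hr : r ∈ W) (hr1 : r ≠ 1) (hw : w ∈ W) (hw1 : w ≠ 1) (hwr : w ≠ r) {p : G}
    (hpr : Commute p r) (hpw : Commute p w) : p ∈ centralizer (W : Set G) := by
  refine Subgroup.mem_centralizer_iff.2 fun v hv => ?_
  by_cases h1 : v = 1
  · simp [h1]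
  by_cases h2 : v = r
  · exact h2 ▸ hpr.eq.symm
  by_cases h3 : v = w
  · exact h3 ▸ hpw.eq.symm
  have h00 : r * w ≠ 1 := fun h => hwr (by
    have h2 := hW2 r hr
    rw [← h] at h2
    exact (mul_left_cancel h2).symm)
  by_cases h4 : v = r * w
  · exact h4 ▸ (hpr.mul_right hpw).eq.symm
  exfalso
  have hsub : ({1, r, w, r * w, v} : Set G) ⊆ (W : Set G) := by
    rintro _ (rfl | rfl | rfl | rfl | rfl)
    exacts [W.one_mem, hr, hw, W.mul_mem hr hw, hv]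
  have h5 := Set.ncard_le_ncard hsub (Set.toFinite _)
  rw [Set.ncard_insert_of_notMem, Set.ncard_insert_of_notMem, Set.ncard_insert_of_notMem, Set.ncard_pair,
    ← Nat.card_coe_set_eq] at h5
  · change 2 + 1 + 1 + 1 ≤ Nat.card W at h5
    omega
  · exact Ne.symm h4
  · simp [hr1, Ne.symm h3]
  · simp [Ne.symm hwr, Ne.symm h2, hw1]
  · simp [Ne.symm hr1, Ne.symm hw1, Ne.symm h00, Ne.symm h1]

namespace Adm

variable (h : Adm P K)
include h

theorem comp : Cfsg.IsJComponent P K := h.good.1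

theorem W_le_P : Cfsg.wOf K ≤ P := (W_le_J h.comp h.p2).trans (thompsonOf_le P)

theorem zJ_le_P : zJ P ≤ P := (zJ_le P).trans (thompsonOf_le P)

theorem P_le_L : P ≤ lGrp K (zc P K) :=
  le_inf h.norm (h.cen.trans (Subgroup.centralizer_le inf_le_left))

theorem K_le_L : K ≤ lGrp K (zc P K) :=
  le_inf Subgroup.le_normalizer (le_sup_left.trans (zc_cent h.comp))

theorem L_le_nzW : lGrp K (zc P K) ≤ normalizer (Cfsg.wOf K : Set G) :=
  inf_le_left.trans (nzK_le_nzW h.comp)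

theorem nW_local : Cfsg.IsTwoLocal (normalizer (Cfsg.wOf K : Set G)) :=
  ⟨_, Thompson.isPGroup_of_elementary (W_elem h.comp), W_ne_bot h.comp, rfl⟩

theorem sylow_nW : IsSylowIn 2 P (normalizer (Cfsg.wOf K : Set G)) :=
  h.syl _ h.nW_local (sup_le (h.K_le_L.trans h.L_le_nzW) (h.P_le_L.trans h.L_le_nzW))

theorem nW_over : normalizer (Cfsg.wOf K : Set G) ∈ Cfsg.jOvergroups P :=
  (h.good.2 _ h.nW_local (H_le_nzW h.comp) P (isSylowTwoIn_iff.2 h.sylow_nW) (thompsonOf_le P)).2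

theorem sylow_L : IsSylowIn 2 P (lGrp K (zc P K)) := isSylowIn_between h.sylow_nW h.P_le_L h.L_le_nzW

theorem wl_cases {p w : G} (hp : p ∈ P) (hw : w ∈ Cfsg.wOf K) (hwl : w ∉ wl P K) {r : G}
    (hr : r ∈ wl P K) (hr1 : r ≠ 1) : p * w * p⁻¹ = w ∨ p * w * p⁻¹ = r * w :=
  conj_four h.comp.2.2.2.2.1 h.comp.2.2.2.2.2 hr.2 hr1 hw (fun e => hwl (e ▸ Subgroup.one_mem _))
    (fun e => hwl (e ▸ hr)) ((h.P_le_L.trans h.L_le_nzW) hp)
    (Subgroup.mem_centralizer_iff.1 (h.cen hp) r hr.1).symm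

theorem cent_of_fix {g w : G} (hgl : ∀ r ∈ wl P K, Commute g r) (hw : w ∈ Cfsg.wOf K) (hwl : w ∉ wl P K)
    (hc : Commute g w) : g ∈ centralizer (Cfsg.wOf K : Set G) := by
  obtain ⟨r, hr, hr1, -, -⟩ := exists_gen_two (card_wl h.comp h.p2)
  exact cent_four h.comp.2.2.2.2.1 h.comp.2.2.2.2.2 hr.2 hr1 hw (fun e => hwl (e ▸ Subgroup.one_mem _))
    (fun e => hwl (e ▸ hr)) (hgl r hr) hc

theorem exists_not_line : ∃ w ∈ Cfsg.wOf K, w ∉ wl P K := by
  refine SetLike.not_le_iff_exists.1 fun hle => ?_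
  have := Subgroup.card_le_of_le hle
  rw [h.comp.2.2.2.2.1, card_wl h.comp h.p2] at this
  omega

theorem moves {p w : G} (hp : p ∈ P) (hpc : p ∉ centralizer (Cfsg.wOf K : Set G)) (hw : w ∈ Cfsg.wOf K)
    (hwl : w ∉ wl P K) {r : G} (hr : r ∈ wl P K) (hr1 : r ≠ 1) : p * w * p⁻¹ = r * w :=
  (h.wl_cases hp hw hwl hr hr1).resolve_left fun e => hpc (h.cent_of_fix
    (fun s hs => (Subgroup.mem_centralizer_iff.1 (h.cen hp) s hs.1).symm) hw hwl (mul_inv_eq_iff_eq_mul.1 e))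

theorem exists_mover : ∃ p ∈ P, p ∉ centralizer (Cfsg.wOf K : Set G) := by
  obtain ⟨j, hj, hjc⟩ := SetLike.not_le_iff_exists.1 (not_J_le_centW h.comp)
  exact ⟨j, thompsonOf_le P hj, hjc⟩

theorem L_decomp {x : G} (hx : x ∈ lGrp K (zc P K)) :
    ∃ k ∈ K, ∃ p ∈ P, ∃ y ∈ lGrp K (zc P K) ⊓ centralizer (Cfsg.wOf K : Set G), x = k * p * y := by
  obtain ⟨r, hr, hr1, -, -⟩ := exists_gen_two (card_wl h.comp h.p2)
  obtain ⟨w, hw, hwl⟩ := h.exists_not_line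
  obtain ⟨z, hz, hz3⟩ := exists_three h.comp
  have hzW : ∀ {v : G}, v ∈ Cfsg.wOf K → z * v * z⁻¹ ∈ Cfsg.wOf K := fun hv =>
    conj_mem_of_nz (H_le_nzW h.comp (Subgroup.mem_sup_left hz)) hv
  obtain ⟨k, hk, hky⟩ : ∃ k ∈ K, Commute (k⁻¹ * x) r := by
    have hxr : x * r * x⁻¹ ∈ Cfsg.wOf K := conj_mem_of_nz (h.L_le_nzW hx) hr.2
    have hxr1 : x * r * x⁻¹ ≠ 1 := fun e => hr1 (conj_eq_one_iff.1 e)
    set a := z * r * z⁻¹
    have ha : a ∈ Cfsg.wOf K := hzW hr.2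
    have ha1 : a ≠ 1 := fun e => hr1 (conj_eq_one_iff.1 e)
    have har : a ≠ r := fun e => hr1 (fix_free h.comp hz hz3 hr.2 (mul_inv_eq_iff_eq_mul.1 e))
    have key : ∀ v ∈ Cfsg.wOf K, v = 1 ∨ v = r ∨ v = a ∨ v = z * a * z⁻¹ := by
      set b := z * a * z⁻¹
      have hb : b ∈ Cfsg.wOf K := hzW ha
      have hb1 : b ≠ 1 := fun e => ha1 (conj_eq_one_iff.1 e)
      have hba : b ≠ a := fun e => ha1 (fix_free h.comp hz hz3 ha (mul_inv_eq_iff_eq_mul.1 e))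
      have hbr : b ≠ r := fun e => by
        have h3 : z ^ 3 = 1 := hz3 ▸ pow_orderOf_eq_one z
        have e2 : z * b * z⁻¹ = z ^ 3 * r * (z ^ 3)⁻¹ := by
          simp only [b, a, pow_succ, pow_zero, one_mul]; group
        rw [h3, inv_one, mul_one, one_mul, e] at e2
        exact har e2
      intro v hv
      have hsub : ({1, r, a, b} : Set G) ⊆ (Cfsg.wOf K : Set G) := by
        rintro _ (rfl | rfl | rfl | rfl)
        exacts [Subgroup.one_mem _, hr.2, ha, hb]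
      have hcard : ({1, r, a, b} : Set G).ncard = 4 := by
        rw [Set.ncard_insert_of_notMem, Set.ncard_insert_of_notMem, Set.ncard_pair]
        · exact hba.symm
        · simp [har.symm, hbr.symm]
        · simp [hr1.symm, ha1.symm, hb1.symm]
      have he := Set.eq_of_subset_of_ncard_le hsub
        (by rw [hcard, ← Nat.card_coe_set_eq]; exact h.comp.2.2.2.2.1.le) (Set.toFinite _)
      have : v ∈ ({1, r, a, b} : Set G) := he.symm ▸ hv
      simpa using this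
    have conv : ∀ k : G, x * r * x⁻¹ = k * r * k⁻¹ → Commute (k⁻¹ * x) r := fun k e => by
      show k⁻¹ * x * r = r * (k⁻¹ * x)
      calc k⁻¹ * x * r = k⁻¹ * (x * r * x⁻¹) * x := by group
        _ = _ := by rw [e]; group
    rcases key _ hxr with e | e | e | e
    · exact absurd e hxr1
    · exact ⟨1, K.one_mem, conv 1 (by rw [e]; group)⟩
    · exact ⟨z, hz, conv z e⟩
    · exact ⟨z * z, K.mul_mem hz hz, conv _ (by rw [e]; simp only [a]; group)⟩
  set y := k⁻¹ * x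
  have hyL : y ∈ lGrp K (zc P K) := Subgroup.mul_mem _ (Subgroup.inv_mem _ (h.K_le_L hk)) hx
  have hfix : ∀ {g : G}, Commute g r → ∀ s ∈ wl P K, Commute g s := fun {g} hg s hs => by
    by_cases hs1 : s = 1
    · exact hs1 ▸ Commute.one_right g
    · exact eq_of_card_two (card_wl h.comp h.p2) hs hs1 hr hr1 ▸ hg
  rcases conj_four h.comp.2.2.2.2.1 h.comp.2.2.2.2.2 hr.2 hr1 hw (fun e => hwl (e ▸ Subgroup.one_mem _))
    (fun e => hwl (e ▸ hr)) (h.L_le_nzW hyL) hky with e | e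
  · exact ⟨k, hk, 1, P.one_mem, y, ⟨hyL, h.cent_of_fix (hfix hky) hw hwl (mul_inv_eq_iff_eq_mul.1 e)⟩,
      by simp only [y]; group⟩
  · obtain ⟨p, hp, hpc⟩ := h.exists_mover
    have hpr : Commute p r := (Subgroup.mem_centralizer_iff.1 (h.cen hp) r hr.1).symm
    refine ⟨k, hk, p, hp, p⁻¹ * y, ⟨Subgroup.mul_mem _ (Subgroup.inv_mem _ (h.P_le_L hp)) hyL,
      h.cent_of_fix (hfix (hpr.inv_left.mul_left hky)) hw hwl ?_⟩, by simp only [y]; group⟩
    show p⁻¹ * y * w = w * (p⁻¹ * y)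
    have e2 := h.moves hp hpc hw hwl hr hr1
    calc p⁻¹ * y * w = p⁻¹ * (y * w * y⁻¹) * y := by group
      _ = p⁻¹ * (p * w * p⁻¹) * y := by rw [e, e2]
      _ = _ := by group

section

variable (am : Amb G)
include am

theorem centW_le_nzP : lGrp K (zc P K) ⊓ centralizer (Cfsg.wOf K : Set G) ≤ normalizer (P : Set G) := by
  obtain ⟨S, hS⟩ := h.p2.exists_le_sylow
  have hZ : Cfsg.omegaCenterOf (S : Subgroup G) ≤ zJ P :=
    (omZ_sylow_le am h.nW_over hS).trans (omZ_le_zJ P)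
  rintro c ⟨hcL, hcW⟩
  have hcS : c ∈ normalizer ((S : Subgroup G) : Set G) := am.cen S (Subgroup.mem_centralizer_iff.2 fun z hz => by
    obtain ⟨q, hq, r, hr, rfl⟩ := zJ_mem h.comp h.p2 (hZ hz)
    have h1 : Commute c q := (Subgroup.mem_centralizer_iff.1 hcL.2 q hq).symm
    have h2 : Commute c r := (Subgroup.mem_centralizer_iff.1 hcW r hr.2).symm
    exact (h1.mul_right h2).eq.symm)
  have e : (S : Subgroup G) ⊓ lGrp K (zc P K) = P :=
    h.sylow_L.eq_of_le (S.isPGroup'.to_le inf_le_left) inf_le_right (le_inf hS h.P_le_L)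
  exact mem_nz_of_cj_le (cj_le_iff.2 fun p hp => e.le ⟨conj_mem_of_nz hcS (hS hp),
    Subgroup.mul_mem _ (Subgroup.mul_mem _ hcL (h.P_le_L hp)) (Subgroup.inv_mem _ hcL)⟩)

theorem core_eq : Cfsg.pCoreOf 2 (lGrp K (zc P K)) = P ⊓ centralizer (Cfsg.wOf K : Set G) := by
  set L := lGrp K (zc P K)
  obtain ⟨x, hxK, hx⟩ := exists_three h.comp
  refine le_antisymm (le_inf (pCoreOf_le_sylowIn h.sylow_L)
    (two_group_cent h.comp hxK hx (isPGroup_pCoreOf L) (le_nz_pCoreOf L (h.K_le_L hxK))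
      ((pCoreOf_le L).trans h.L_le_nzW))) ?_
  have hD : L ≤ normalizer ((L ⊓ centralizer (Cfsg.wOf K : Set G) : Subgroup G) : Set G) :=
    le_nz_inf Subgroup.le_normalizer (le_nz_centralizer h.L_le_nzW)
  have hsyl := h.sylow_L.inf (inf_le_left : L ⊓ centralizer (Cfsg.wOf K : Set G) ≤ L) hD
  refine le_trans (le_inf inf_le_left (le_inf (inf_le_left.trans h.P_le_L) inf_le_right)) ?_
  exact normal_sylow_le_core inf_le_left hD hsyl
    (le_nz_inf (h.centW_le_nzP am) Subgroup.le_normalizer)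

theorem two_le_core {R : Subgroup G} (hR : IsPGroup 2 R)
    (hle : R ≤ lGrp K (zc P K) ⊓ centralizer (Cfsg.wOf K : Set G)) :
    R ≤ Cfsg.pCoreOf 2 (lGrp K (zc P K)) := by
  set L := lGrp K (zc P K)
  have hD : L ≤ normalizer ((L ⊓ centralizer (Cfsg.wOf K : Set G) : Subgroup G) : Set G) :=
    le_nz_inf Subgroup.le_normalizer (le_nz_centralizer h.L_le_nzW)
  have hsyl := h.sylow_L.inf (inf_le_left : L ⊓ centralizer (Cfsg.wOf K : Set G) ≤ L) hD
  obtain ⟨x, hx, hxR⟩ := hsyl.conj_le hR hle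
  intro g hg
  have h1 : x * g * x⁻¹ ∈ Cfsg.pCoreOf 2 L := by
    rw [h.core_eq am]
    exact ⟨(hxR (conj_mem_cj hg)).1, (hxR (conj_mem_cj hg)).2.2⟩
  have := conj_mem_of_nz (le_nz_pCoreOf L (L.inv_mem hx.1)) h1
  simpa [mul_assoc] using this

theorem core_le_P : Cfsg.pCoreOf 2 (lGrp K (zc P K)) ≤ P := (h.core_eq am).le.trans inf_le_left

theorem relIndex_core : (Cfsg.pCoreOf 2 (lGrp K (zc P K))).relIndex P = 2 := by
  rw [h.core_eq am, Subgroup.inf_relIndex_left, Subgroup.relIndex, Subgroup.index_eq_two_iff]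
  obtain ⟨p, hp, hpc⟩ := h.exists_mover
  obtain ⟨r, hr, hr1, -, -⟩ := exists_gen_two (card_wl h.comp h.p2)
  obtain ⟨w, hw, hwl⟩ := h.exists_not_line
  refine ⟨⟨p, hp⟩, fun b => ?_⟩
  have hiff : ∀ q ∈ P, q ∈ centralizer (Cfsg.wOf K : Set G) ↔ q * w * q⁻¹ = w := fun q hq =>
    ⟨fun hc => by rw [← Subgroup.mem_centralizer_iff.1 hc w hw, mul_inv_cancel_right],
      fun e => h.cent_of_fix (fun s hs => (Subgroup.mem_centralizer_iff.1 (h.cen hq) s hs.1).symm) hw hwl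
        (mul_inv_eq_iff_eq_mul.1 e)⟩
  simp only [Subgroup.mem_subgroupOf, Subgroup.coe_mul]
  rw [hiff _ (P.mul_mem b.2 hp), hiff _ b.2]
  have hr2 : r * r = 1 := h.comp.2.2.2.2.2 r hr.2
  have hbr : Commute (b : G) r := (Subgroup.mem_centralizer_iff.1 (h.cen b.2) r hr.1).symm
  have e : (b : G) * p * w * ((b : G) * p)⁻¹ = r * ((b : G) * w * (b : G)⁻¹) := by
    calc (b : G) * p * w * ((b : G) * p)⁻¹ = (b : G) * (p * w * p⁻¹) * (b : G)⁻¹ := by group
      _ = ((b : G) * r) * w * (b : G)⁻¹ := by rw [h.moves hp hpc hw hwl hr hr1]; group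
      _ = _ := by rw [hbr.eq]; group
  rw [e]
  rcases h.wl_cases b.2 hw hwl hr hr1 with h' | h' <;> rw [h']
  · exact Or.inr ⟨rfl, fun h'' => hr1 (mul_eq_right.1 h'')⟩
  · refine Or.inl ⟨?_, fun h'' => hr1 (mul_eq_right.1 h'')⟩
    rw [← mul_assoc, hr2, one_mul]

theorem card_core : Nat.card P = Nat.card ↥(Cfsg.pCoreOf 2 (lGrp K (zc P K))) * 2 := by
  rw [← card_mul_relIndex' (h.core_le_P am), h.relIndex_core am]

theorem mul_mem_core {p q : G} (hp : p ∈ P) (hpc : p ∉ centralizer (Cfsg.wOf K : Set G)) (hq : q ∈ P)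
    (hqc : q ∉ centralizer (Cfsg.wOf K : Set G)) : p * q ∈ centralizer (Cfsg.wOf K : Set G) := by
  obtain ⟨r, hr, hr1, -, -⟩ := exists_gen_two (card_wl h.comp h.p2)
  obtain ⟨w, hw, hwl⟩ := h.exists_not_line
  refine h.cent_of_fix (fun s hs => (Subgroup.mem_centralizer_iff.1 (h.cen (P.mul_mem hp hq)) s hs.1).symm)
    hw hwl (mul_inv_eq_iff_eq_mul.1 ?_)
  calc p * q * w * (p * q)⁻¹ = p * (q * w * q⁻¹) * p⁻¹ := by group
    _ = (p * r) * w * p⁻¹ := by rw [h.moves hq hqc hw hwl hr hr1]; group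
    _ = r * (p * w * p⁻¹) := by
      rw [(Subgroup.mem_centralizer_iff.1 (h.cen hp) r hr.1).symm]; group
    _ = w := by
      rw [h.moves hp hpc hw hwl hr hr1, ← mul_assoc, h.comp.2.2.2.2.2 r hr.2, one_mul]

theorem comm_mem_core {p q : G} (hp : p ∈ P) (hq : q ∈ P) :
    p * q * p⁻¹ * q⁻¹ ∈ Cfsg.pCoreOf 2 (lGrp K (zc P K)) := by
  haveI : ((Cfsg.pCoreOf 2 (lGrp K (zc P K))).subgroupOf P).Normal :=
    normal_subgroupOf (h.P_le_L.trans (le_nz_pCoreOf _))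
  have hidx : ((Cfsg.pCoreOf 2 (lGrp K (zc P K))).subgroupOf P).index = 2 := h.relIndex_core am
  have : (⟨p, hp⟩ * ⟨q, hq⟩ * (⟨p, hp⟩)⁻¹ * (⟨q, hq⟩)⁻¹ : P) ∈
      (Cfsg.pCoreOf 2 (lGrp K (zc P K))).subgroupOf P := by
    simp only [Subgroup.mul_mem_iff_of_index_two hidx, inv_mem_iff]
    tauto
  exact Subgroup.mem_subgroupOf.1 this

theorem K_core_le : K ⊔ Cfsg.pCoreOf 2 (lGrp K (zc P K)) ≤ lGrp K (zc P K) :=
  sup_le h.K_le_L (pCoreOf_le _)

theorem two_mem_KP {g : G} (hg : g ∈ lGrp K (zc P K)) (hg2 : ∃ n : ℕ, g ^ 2 ^ n = 1) : g ∈ K ⊔ P := by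
  have hR : IsPGroup 2 ↥(zpowers g) := by
    obtain ⟨n, hn⟩ := hg2
    obtain ⟨k, -, hk⟩ := (Nat.dvd_prime_pow Nat.prime_two).1 (orderOf_dvd_of_pow_eq_one hn)
    exact IsPGroup.of_card (n := k) (by rw [Nat.card_zpowers, hk])
  obtain ⟨x, hx, hxR⟩ := h.sylow_L.conj_le hR (Subgroup.zpowers_le.2 hg)
  obtain ⟨k, hk, p, hp, y, hy, e⟩ := h.L_decomp (Subgroup.inv_mem _ hx)
  have h1 : x * g * x⁻¹ ∈ P := hxR (conj_mem_cj (Subgroup.mem_zpowers g))
  have h2 : y * (x * g * x⁻¹) * y⁻¹ ∈ P := conj_mem_of_nz (h.centW_le_nzP am hy) h1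
  have h3 : g = k * (p * (y * (x * g * x⁻¹) * y⁻¹) * p⁻¹) * k⁻¹ := by
    calc g = x⁻¹ * (x * g * x⁻¹) * (x⁻¹)⁻¹ := by group
      _ = _ := by rw [e]; group
  rw [h3]
  exact Subgroup.mul_mem _ (Subgroup.mul_mem _ (Subgroup.mem_sup_left hk)
    (Subgroup.mem_sup_right (P.mul_mem (P.mul_mem hp h2) (P.inv_mem hp))))
    (Subgroup.inv_mem _ (Subgroup.mem_sup_left hk))

theorem comm_two {a b : G} (ha : a ∈ lGrp K (zc P K)) (ha2 : ∃ n : ℕ, a ^ 2 ^ n = 1)
    (hb : b ∈ lGrp K (zc P K)) (hb2 : ∃ n : ℕ, b ^ 2 ^ n = 1) :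
    a * b * a⁻¹ * b⁻¹ ∈ K ⊔ Cfsg.pCoreOf 2 (lGrp K (zc P K)) := by
  obtain ⟨k, hk, p, hp, rfl⟩ := (mem_sup_iff_of_nz' h.norm).1 (h.two_mem_KP am ha ha2)
  obtain ⟨k', hk', q, hq, rfl⟩ := (mem_sup_iff_of_nz' h.norm).1 (h.two_mem_KP am hb hb2)
  have e : k * p * (k' * q) * (k * p)⁻¹ * (k' * q)⁻¹ =
      k * (p * k' * p⁻¹) * ((p * q * p⁻¹ * q⁻¹) * (q * k⁻¹ * q⁻¹)) * k'⁻¹ := by group
  rw [e]
  have hK : ∀ {g : G}, g ∈ K → g ∈ K ⊔ Cfsg.pCoreOf 2 (lGrp K (zc P K)) := fun hg =>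
    Subgroup.mem_sup_left hg
  exact Subgroup.mul_mem _ (Subgroup.mul_mem _ (Subgroup.mul_mem _ (hK hk)
    (hK (conj_mem_of_nz (h.norm hp) hk'))) (Subgroup.mul_mem _ (Subgroup.mem_sup_right (h.comm_mem_core am hp hq))
      (hK (conj_mem_of_nz (h.norm hq) (K.inv_mem hk))))) (K.inv_mem hk' |> hK)

theorem odd_mem_K {g : G} (hg : g ∈ K ⊔ Cfsg.pCoreOf 2 (lGrp K (zc P K))) (ho : Odd (orderOf g)) :
    g ∈ K := by
  rw [sup_comm, mem_sup_iff_of_nz ((pCoreOf_le _).trans inf_le_left)] at hg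
  obtain ⟨q, hq, k, hk, rfl⟩ := hg
  exact mem_of_mul_coprime (p := 2) (((pCoreOf_le _).trans inf_le_left) hq)
    (exists_pow_eq_one (isPGroup_pCoreOf _) hq) hk (Nat.coprime_two_right.2 ho)

end

/-- `Z = C × W` is central in `O₂`. -/
theorem Z_le_core (am : Amb G) : zc P K ⊔ Cfsg.wOf K ≤ Cfsg.pCoreOf 2 (lGrp K (zc P K)) := by
  rw [h.core_eq am]
  refine sup_le (le_inf ((inf_le_left : zc P K ≤ zJ P).trans h.zJ_le_P) ?_)
    (le_inf h.W_le_P fun w hw => Subgroup.mem_centralizer_iff.2 fun u hu => (W_comm h.comp hu hw).eq)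
  exact fun z hz => Subgroup.mem_centralizer_iff.2 fun w hw =>
    ((mem_omegaCenter_iff.1 hz.1).2.1 w (W_le_J h.comp h.p2 hw)).eq

theorem core_le_centZ (am : Amb G) :
    Cfsg.pCoreOf 2 (lGrp K (zc P K)) ≤ centralizer ((zc P K ⊔ Cfsg.wOf K : Subgroup G) : Set G) :=
  Subgroup.le_centralizer_iff.1 (sup_le
    (Subgroup.le_centralizer_iff.1 ((pCoreOf_le _).trans inf_le_right))
    (Subgroup.le_centralizer_iff.1 ((h.core_eq am).le.trans inf_le_right)))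

theorem zJ_le_Z : zJ P ≤ zc P K ⊔ Cfsg.wOf K := fun z hz => by
  obtain ⟨q, hq, r, hr, rfl⟩ := zJ_mem h.comp h.p2 hz
  exact Subgroup.mul_mem _ (Subgroup.mem_sup_left hq) (Subgroup.mem_sup_right hr.2)

theorem Z_mem {z : G} (hz : z ∈ zc P K ⊔ Cfsg.wOf K) : ∃ q ∈ zc P K, ∃ w ∈ Cfsg.wOf K, z = q * w := by
  refine (mem_sup_iff_of_nz ?_).1 hz
  exact fun q hq => centralizer_le_nz _ (Subgroup.mem_centralizer_iff.2 fun w hw =>
    ((mem_omegaCenter_iff.1 hq.1).2.1 w (W_le_J h.comp h.p2 hw)).eq)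

theorem comm_Z {z p : G} (hz : z ∈ zc P K ⊔ Cfsg.wOf K) (hp : p ∈ P) :
    p * z * p⁻¹ * z⁻¹ ∈ wl P K := by
  obtain ⟨q, hq, w, hw, rfl⟩ := h.Z_mem hz
  have hpq : Commute p q := (Subgroup.mem_centralizer_iff.1 (h.cen hp) q hq.1).symm
  have e : p * (q * w) * p⁻¹ * (q * w)⁻¹ = q * (p * w * p⁻¹ * w⁻¹) * q⁻¹ := by
    rw [show p * (q * w) = q * (p * w) by rw [← mul_assoc, hpq.eq, mul_assoc]]; group
  obtain ⟨r, hr, hr1, -, -⟩ := exists_gen_two (card_wl h.comp h.p2)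
  have hcr : Commute q r := Thompson.commute_of_elementary (zJ_elem P) hq.1 hr.1
  rw [e]
  by_cases hwl : w ∈ wl P K
  · rw [(Subgroup.mem_centralizer_iff.1 (h.cen hp) w hwl.1).symm, mul_inv_cancel_right, mul_inv_cancel,
      mul_one, mul_inv_cancel]
    exact Subgroup.one_mem _
  rcases h.wl_cases hp hw hwl hr hr1 with e' | e' <;> rw [e']
  · rw [mul_inv_cancel, mul_one, mul_inv_cancel]
    exact Subgroup.one_mem _
  · rw [mul_inv_cancel_right, hcr.eq, mul_inv_cancel_right]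
    exact hr

theorem Z_mem_conj {z : G} (hz : z ∈ zc P K ⊔ Cfsg.wOf K) : ∃ k ∈ K, z ∈ zJ (cj k P) := by
  obtain ⟨q, hq, w, hw, rfl⟩ := h.Z_mem hz
  obtain ⟨r, hr, hr1, -, hline⟩ := exists_gen_two (card_wl h.comp h.p2)
  obtain ⟨x, hx, hx3⟩ := exists_three h.comp
  have hfix : ∀ {k : G}, k ∈ K → ∀ {w' : G}, w' ∈ wl P K → q * (k * w' * k⁻¹) ∈ zJ (cj k P) :=
    fun {k} hk {w'} hw' => by
      rw [zJ_cj]
      have h2 : Commute k q := Subgroup.mem_centralizer_iff.1 hq.2 k hk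
      have := conj_mem_cj (g := k) ((zJ P).mul_mem hq.1 hw'.1)
      rwa [show k * (q * w') * k⁻¹ = q * (k * w' * k⁻¹) by
        rw [show k * (q * w') = q * (k * w') by rw [← mul_assoc, h2.eq, mul_assoc]]; group] at this
  by_cases hwl : w ∈ wl P K
  · exact ⟨1, K.one_mem, by simpa using hfix K.one_mem hwl⟩
  -- the conjugates of the line by powers of `x`
  have hmem : ∀ i : ℕ, x ^ i * r * (x ^ i)⁻¹ ∈ Cfsg.wOf K := fun i =>
    conj_mem_of_nz (H_le_nzW h.comp (Subgroup.mem_sup_left (K.pow_mem hx i))) hr.2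
  suffices hex : w = x * r * x⁻¹ ∨ w = x ^ 2 * r * (x ^ 2)⁻¹ by
    rcases hex with rfl | rfl
    · exact ⟨x, hx, hfix hx hr⟩
    · exact ⟨x ^ 2, K.pow_mem hx 2, hfix (K.pow_mem hx 2) hr⟩
  have hx1 := hmem 1
  have hx2 := hmem 2
  rw [pow_one] at hx1
  have n1 : x * r * x⁻¹ ≠ r := fun e => hr1 (fix_free h.comp hx hx3 hr.2 (mul_inv_eq_iff_eq_mul.1 e))
  have n2 : x ^ 2 * r * (x ^ 2)⁻¹ ≠ x * r * x⁻¹ := fun e => n1 (by
    have := congrArg (fun t => x⁻¹ * t * x) e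
    simpa [pow_two, mul_assoc] using this)
  have n3 : x ^ 2 * r * (x ^ 2)⁻¹ ≠ r := fun e => n1 (by
    have h3 : x ^ 3 = 1 := hx3 ▸ pow_orderOf_eq_one x
    have e2 : x * (x ^ 2 * r * (x ^ 2)⁻¹) * x⁻¹ = x ^ 3 * r * (x ^ 3)⁻¹ := by
      simp only [pow_succ, pow_zero, one_mul]; group
    rw [h3, e] at e2
    simpa using e2)
  by_contra hex
  push Not at hex
  have hsub : ({1, r, x * r * x⁻¹, x ^ 2 * r * (x ^ 2)⁻¹, w} : Set G) ⊆ (Cfsg.wOf K : Set G) := by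
    rintro _ (rfl | rfl | rfl | rfl | rfl)
    exacts [Subgroup.one_mem _, hr.2, hx1, hx2, hw]
  have h5 := Set.ncard_le_ncard hsub (Set.toFinite _)
  rw [Set.ncard_insert_of_notMem, Set.ncard_insert_of_notMem, Set.ncard_insert_of_notMem, Set.ncard_pair,
    ← Nat.card_coe_set_eq] at h5
  · change 2 + 1 + 1 + 1 ≤ Nat.card ↥(Cfsg.wOf K) at h5
    rw [h.comp.2.2.2.2.1] at h5
    omega
  · exact hex.2.symm
  · simp [n2.symm, hex.1.symm]
  · have : r ≠ w := fun e => hwl (e ▸ hr)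
    simp [n1.symm, n3.symm, this]
  · have h1 : (1 : G) ≠ x * r * x⁻¹ := fun e => hr1 (conj_eq_one_iff.1 e.symm)
    have h2 : (1 : G) ≠ x ^ 2 * r * (x ^ 2)⁻¹ := fun e => hr1 (conj_eq_one_iff.1 e.symm)
    have h4 : (1 : G) ≠ w := fun e => hwl (e ▸ Subgroup.one_mem _)
    simp [hr1.symm, h1, h2, h4]

theorem nzK_eq_L (am : Amb G) (hs : Single P K) : normalizer (K : Set G) = lGrp K (zc P K) := by
  refine (inf_eq_left.2 ?_).symm
  rw [normalizer_eq am h.p2 h.good.zero]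
  refine le_of_components' am h.nW_over ?_ fun K' hK' hK'L => ?_
  · rintro g ⟨hg, hgJ⟩
    have hgK : g ∈ normalizer (K : Set G) := (normalizer_eq am h.p2 h.good.zero).ge hg
    have hn : normalizer (𝐉 P : Set G) ⊓ normalizer (K : Set G) ≤ normalizer (zc P K : Set G) :=
      le_nz_inf (inf_le_left.trans (nzJ_le_nz_zJ P)) (le_nz_centralizer inf_le_right)
    have := hn ⟨hgJ, hgK⟩
    rcases (show Nat.card ↥(zc P K) = 1 ∨ Nat.card ↥(zc P K) = 2 by
      have := h.four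
      have := card_zJ h.comp h.p2
      have := Nat.card_pos (α := ↥(zc P K))
      omega) with e | e
    · rw [Subgroup.card_eq_one.1 e]
      exact Subgroup.mem_centralizer_iff.2 fun q hq => by simp [Subgroup.mem_bot.1 hq]
    · exact nz_le_cent_two e this
  · rw [hs K' hK' ((normalizer_eq am h.p2 h.good.zero).ge.trans' hK'L)]
    exact le_sup_left.trans (zc_cent h.comp)

end Adm

end Cfsg.Agent.Lib.LocalChar.JComp
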