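import Cfsg.Agent.Lib.LocalChar.JClaim

/-! The amalgam has two adjacent vertices with `W_v ≰ Q_u`. -/

set_option autoImplicit false
set_option linter.unusedSectionVars false
open scoped commutatorElement
open Subgroup (centralizer normalizer zpowers)

namespace Cfsg.Agent.Lib.LocalChar.JComp

variable {G : Type*} [Group G] [Finite G]

local notation "𝐉" T:max => Cfsg.thompsonSubgroupOf 2 T

namespace Geo

variable {Γ : Geo G}

/-- No separating walk has length at least 3. -/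
theorem not_three (am : Amb G) {b : ℕ} (hb3 : 3 ≤ b) (hb : Below Γ b) {f : ℕ → Vtx G} {E : ℕ → Subgroup G}
    (hw : Walk Γ b f E) (hne : ¬ (f 0).Z ≤ (f b).Q) : False := by
  obtain ⟨hC2, hSgl, -, x, hxL, hline, hadj, hne'⟩ := claim am (by omega) hb hw hne
  obtain ⟨e, r, heZ, -, hec, -, -, -⟩ := step_two am (by omega) hb hw hne
  have h0 := hw 0 (by omega)
  obtain ⟨n, rfl⟩ : ∃ n, b = n + 2 := ⟨b - 2, by omega⟩
  change ¬ (Vtx.act x (f 1)).Z ≤ (f (n + 1)).Q at hne'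
  set v := f 0 with hv
  set β := Vtx.act x (f 1) with hβ
  set P' := cj x (E 0)
  have hw1 : Walk Γ (n + 2) (fun i => Nat.casesOn i β f) (fun i => Nat.casesOn i P' E) := by
    rintro (_ | i) hi
    · exact hadj.symm am
    · exact hw i (by omega)
  obtain ⟨-, -, -, -, -, -, -, hlines'⟩ := step_two am (by omega) hb hw1 hne'
  change wl (E n) (f (n + 1)).K = wl P' β.K at hlines'
  rw [hline] at hlines'
  have hn := hw n (by omega)
  have hl : Γ.Adj (E (n + 1)) (f (n + 1)) (f (n + 2)) := hw (n + 1) (by omega)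
  set P := E n
  have hCle : centralizer (v.C : Set G) ≤ normalizer (v.K : Set G) := by
    rw [h0.1.2]
    exact Good.cent_le am h0.1.ad.p2 h0.1.ad.good (h0.1.2 ▸ hC2)
  have hCP : v.C ≤ zJ P := hlines' ▸ inf_le_left
  have hPC : P ≤ centralizer (v.C : Set G) := hn.2.1.ad.cen.trans (Subgroup.centralizer_le hCP)
  have hinc : Γ.Inc P v := h0.1.of_card hn.2.1.ad.p2 (le_inf (hPC.trans hCle) hPC) (hn.2.1.card_eq h0.1)
  have hneq : f (n + 1) ≠ v := fun h => by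
    have h1 := low_rev am hb hw (i := n + 1) (j := n + 2) (by omega) le_rfl (by omega) heZ
    rw [h, h0.1.Q_eq am] at h1
    exact hec h1.2
  have hSv := hSgl P hinc
  have hnorm : ¬ (f (n + 1)).K ≤ normalizer (v.K : Set G) := fun h =>
    hneq (eq_of_K am hinc hn.2.1 hSgl (hSv _ hn.2.1.ad.comp h).symm).symm
  have hSn : Γ.Sgl (f (n + 1)) := hn.2.1.Sgl_of fun X hX hXle => by
    by_contra hne2
    obtain ⟨-, h2⟩ := Good.nz_line am hinc.ad.p2 hn.2.1.ad.good hX (Ne.symm hne2) hXle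
    rw [hlines'] at h2
    have h3 : X ≤ centralizer (v.C : Set G) :=
      (le_sup_left.trans (zc_cent hX)).trans (Subgroup.centralizer_le h2)
    rw [hSv X hX (h3.trans hCle)] at hXle
    exact hnorm (Good.mutual am hinc.ad.p2 hn.2.1.ad.good hinc.ad.comp hXle)
  have hadj2 : Γ.Adj P v (f (n + 1)) := ⟨hinc, hn.2.1, hnorm, fun _ => hSgl, fun _ => hSn⟩
  have hw2 : Walk Γ 2 (fun i => Nat.casesOn i β (fun j => Nat.casesOn j v fun _ => f (n + 1)))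
      (fun i => Nat.casesOn i P' fun _ => P) := by
    rintro (_ | _ | i) hi
    · exact hadj.symm am
    · exact hadj2
    · omega
  have := hb 2 (by omega) (by omega) _ _ hw2
  exact hne' this

/-- Three consecutive vertices with `Z_a ≰ Q_d`. -/
def Crit (Γ : Geo G) (a c d : Vtx G) : Prop :=
  (∃ P, Γ.Adj P a c) ∧ (∃ R, Γ.Adj R c d) ∧ ¬ a.Z ≤ d.Q

theorem Crit.walk {a c d : Vtx G} {P R : Subgroup G} (h1 : Γ.Adj P a c) (h2 : Γ.Adj R c d) :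
    Walk Γ 2 (fun i => Nat.casesOn i a (fun j => Nat.casesOn j c fun _ => d))
      (fun i => Nat.casesOn i P fun _ => R) := by
  rintro (_ | _ | i) hi
  · exact h1
  · exact h2
  · omega

section

variable (am : Amb G) (hb : Below Γ 2)
include am hb

theorem Crit.symm {a c d : Vtx G} (h : Crit Γ a c d) : Crit Γ d c a := by
  obtain ⟨⟨P, h1⟩, ⟨R, h2⟩, hne⟩ := h
  refine ⟨⟨R, h2.symm am⟩, ⟨P, h1.symm am⟩, fun hle => ?_⟩
  obtain ⟨e, r, he, -, hec, -, -, -⟩ := step_two am le_rfl hb (Crit.walk h1 h2) hne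
  have := hle he
  rw [h1.1.Q_eq am] at this
  exact hec this.2

theorem Crit.forward {a c d : Vtx G} (h : Crit Γ a c d) {P : Subgroup G} (h1 : Γ.Adj P a c) :
    Nat.card ↥a.C = 2 ∧ wl P c.K = a.C ∧
      ∃ x ∈ a.L, Γ.Adj (cj x P) a (Vtx.act x c) ∧ Crit Γ (Vtx.act x c) a c := by
  obtain ⟨-, ⟨R, h2⟩, hne⟩ := h
  obtain ⟨hC, -, hl, x, hx, -, hadj, hne'⟩ := claim am le_rfl hb (Crit.walk h1 h2) hne
  exact ⟨hC, hl, x, hx, hadj, ⟨_, hadj.symm am⟩, ⟨P, h1⟩, hne'⟩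

theorem Crit.back {a c d : Vtx G} (h : Crit Γ a c d) {P : Subgroup G} (h1 : Γ.Adj P a c) :
    wl P a.K = c.C := by
  obtain ⟨-, -, x, hx, hadj, hcrit⟩ := Crit.forward am hb h h1
  obtain ⟨-, h2, -⟩ := Crit.forward am hb hcrit (hadj.symm am)
  have h3 : wl (cj x P) (cj x a.K) = cj x c.C := by
    rwa [cj_eq_of_mem_nz hx.1]
  rw [wl_cj] at h3
  have := congrArg (cj x⁻¹) h3
  rwa [cj_inv_cj, cj_inv_cj] at this

theorem Crit.lines {a c d : Vtx G} (h : Crit Γ a c d) {R : Subgroup G} (h2 : Γ.Adj R c d) :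
    wl R c.K = d.C ∧ wl R d.K = c.C :=
  ⟨(Crit.forward am hb (Crit.symm am hb h) (h2.symm am)).2.1, Crit.back am hb (Crit.symm am hb h) (h2.symm am)⟩

theorem Crit.ne {a c d : Vtx G} (h : Crit Γ a c d) : a ≠ d := fun e => by
  obtain ⟨⟨P, h1⟩, -, hne⟩ := h
  exact hne (e ▸ h1.1.Z_le_Q am)

theorem Crit.low {P : Subgroup G} {a c : Vtx G} (h : Γ.Adj P a c) : a.Z ≤ c.Q := by
  have := hb 1 le_rfl (by norm_num) (fun i => Nat.casesOn i a fun _ => c) (fun _ => P)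
    (by rintro (_ | i) hi
        · exact h
        · omega)
  exact this

theorem Crit.act {a c d : Vtx G} (h : Crit Γ a c d) (g : G) :
    Crit Γ (Vtx.act g a) (Vtx.act g c) (Vtx.act g d) := by
  obtain ⟨⟨P, h1⟩, ⟨R, h2⟩, hne⟩ := h
  refine ⟨⟨_, h1.act g⟩, ⟨_, h2.act g⟩, fun hle => hne ?_⟩
  rw [Vtx.Z_act, Vtx.Q_act] at hle
  exact (Subgroup.map_le_map_iff_of_injective (MulAut.conj g).injective).1 hle

/-- The commutator relation along five vertices. -/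
theorem five {v0 v1 v2 v3 v4 : Vtx G} (h0 : Crit Γ v0 v1 v2) (h1 : Crit Γ v1 v2 v3) (h2 : Crit Γ v2 v3 v4)
    {c0 c2 c4 : G} (hc0 : c0 ∈ v0.C) (hc01 : c0 ≠ 1) (hc2 : c2 ∈ v2.C) (hc21 : c2 ≠ 1)
    (hc4 : c4 ∈ v4.C) (hc41 : c4 ≠ 1) : c4 * c0 * c4⁻¹ = c2 * c0 := by
  obtain ⟨P0, hP0⟩ := h0.1
  obtain ⟨P1, hP1⟩ := h0.2.1
  obtain ⟨P2, hP2⟩ := h2.1
  obtain ⟨P3, hP3⟩ := h2.2.1
  obtain ⟨hC0, hl0, -⟩ := Crit.forward am hb h0 hP0
  obtain ⟨hl1, hl1'⟩ := Crit.lines am hb h0 hP1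
  obtain ⟨hC2, hl2, -⟩ := Crit.forward am hb h2 hP2
  obtain ⟨hl3, -⟩ := Crit.lines am hb h2 hP3
  have hC4 : Nat.card ↥v4.C = 2 := by rw [← hl3]; exact card_wl hP3.1.ad.comp hP3.1.ad.p2
  have h20 : v0.C ≠ v2.C := fun e => Crit.ne am hb h0 (eq_of_C am hP0.1 hP1.2.1 hC0 e)
  have h24 : v2.C ≠ v4.C := fun e => Crit.ne am hb h2 (eq_of_C am hP2.1 hP3.2.1 hC2 e)
  have hne24 : c2 ≠ c4 := fun e => h24 (eq_of_two_two hC2 hC4 hc2 (e ▸ hc4) hc21)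
  have h4Z : c4 ∈ v3.Z := Subgroup.mem_sup_right (hl3.ge hc4).2
  have h4P : c4 ∈ P1 := hP1.2.1.Q_le am (Crit.low am hb (hP2.symm am) h4Z)
  have h2W3 : c2 ∈ Cfsg.wOf v3.K := (hl2.ge hc2).2
  have hc4c : c4 ∉ centralizer (Cfsg.wOf v1.K : Set G) := fun hcen => by
    refine (Crit.symm am hb h1).2.2 (sup_le ?_ ?_)
    · have hle : v3.C ≤ v2.Z := hP2.2.1.C_le_zJ.trans hP2.1.zJ_le_Z
      exact hle.trans (Crit.low am hb (hP1.symm am))
    · refine four_le hP3.1.ad.comp.2.2.2.2.1 h2W3 (hl3.ge hc4).2 ?_ ?_ hc21 hc41 hne24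
      · exact Crit.low am hb (hP1.symm am) (Subgroup.mem_sup_left hc2)
      · exact hP1.1.mem_Q am h4P hcen
  have h0W : c0 ∈ Cfsg.wOf v1.K := (hl0.ge hc0).2
  have h0l : c0 ∉ wl P1 v1.K := fun h => h20 (eq_of_two_two hC0 hC2 hc0 (hl1.le h) hc01)
  exact hP1.1.ad.moves h4P hc4c h0W h0l (hl1.ge hc2) hc21

/-- The relation along six vertices. -/
theorem six {v0 v1 v2 a c d : Vtx G} (hp3 : Crit Γ v0 v1 v2) (hp2 : Crit Γ v1 v2 a) (hp1 : Crit Γ v2 a c)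
    (h : Crit Γ a c d) {c0 c2 g : G} (h0 : c0 ∈ v0.C) (h01 : c0 ≠ 1) (h2 : c2 ∈ v2.C) (h21 : c2 ≠ 1)
    (h5 : g ∈ d.C) (h51 : g ≠ 1) : g * c0 * g * c0 * g * c0 * g * c0 = c2 := by
  obtain ⟨P0, hP0⟩ := hp3.1
  obtain ⟨P1, hP1⟩ := hp3.2.1
  obtain ⟨P2, hP2⟩ := hp2.2.1
  obtain ⟨P3, hP3⟩ := h.1
  obtain ⟨P4, hP4⟩ := h.2.1
  obtain ⟨hC0, -, -⟩ := Crit.forward am hb hp3 hP0
  obtain ⟨hC1, hl12, -⟩ := Crit.forward am hb hp2 hP1
  obtain ⟨hC2, -, -⟩ := Crit.forward am hb hp1 hP2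
  obtain ⟨hC3, -, -⟩ := Crit.forward am hb h hP3
  obtain ⟨hl45, -⟩ := Crit.lines am hb h hP4
  obtain ⟨hl23, -⟩ := Crit.lines am hb hp2 hP2
  have hC5 : Nat.card ↥d.C = 2 := by rw [← hl45]; exact card_wl hP4.1.ad.comp hP4.1.ad.p2
  obtain ⟨c1, h1, h11, -, -⟩ := exists_gen_two hC1
  obtain ⟨c3, h3, h31, -, -⟩ := exists_gen_two hC3
  have hgsq : g * g = 1 := by
    rw [← pow_two]; exact (zJ_elem P4).2 g (hP4.2.1.C_le_zJ h5)
  have hc0sq : c0 * c0 = 1 := by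
    rw [← pow_two]; exact (zJ_elem P0).2 c0 (hP0.1.C_le_zJ h0)
  have hc2sq : c2 * c2 = 1 := by
    rw [← pow_two]; exact (zJ_elem P2).2 c2 (hP2.1.C_le_zJ h2)
  have hgi : g⁻¹ = g := inv_eq_of_mul_eq_one_right hgsq
  have h0i : c0⁻¹ = c0 := inv_eq_of_mul_eq_one_right hc0sq
  have hgP : g ∈ P2 := hP2.2.1.Q_le am
    (Crit.low am hb (hP3.symm am) (Subgroup.mem_sup_right (hl45.ge h5).2))
  have hgL : g ∈ v2.L := hP2.1.P_le_L hgP
  set v1' := Vtx.act g v1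
  set v0' := Vtx.act g v0
  have hA := five am hb hp2 hp1 h h1 h11 h3 h31 h5 h51
  obtain ⟨τ, hτ, hτc⟩ := hP1.2.1.ad.exists_mover
  have hτL1 : τ ∈ v1.L := hP1.1.P_le_L hτ
  have hτL2 : τ ∈ v2.L := hP1.2.1.P_le_L hτ
  have h1W : c1 ∈ wl P1 v2.K := hl12.ge h1
  have h3W : c3 ∈ Cfsg.wOf v2.K := (hl23.ge h3).2
  have h13 : v1.C ≠ a.C := fun e => Crit.ne am hb hp2 (eq_of_C am hP1.1 hP3.1 hC1 e)
  have h3l : c3 ∉ wl P1 v2.K := fun hh => h13 (eq_of_two_two hC1 hC3 (hl12.le hh) h3 h31)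
  have hτ3 : τ * c3 * τ⁻¹ = c1 * c3 := hP1.2.1.ad.moves hτ hτc h3W h3l h1W h11
  have hcomm : c1 * c3 = c3 * c1 := (W_comm hP1.2.1.ad.comp h1W.2 h3W).eq
  have hv1' : Vtx.act τ a = v1' := by
    refine eq_of_C am (hP2.2.1.act τ) (hP1.1.act g) (by show Nat.card ↥(cj τ a.C) = 2; rw [card_cj, hC3]) ?_
    refine eq_of_two_two ((card_cj τ _).trans hC3) ((card_cj g _).trans hC1) (a := c1 * c3) ?_ ?_ ?_
    · rw [← hτ3]; exact conj_mem_cj h3
    · rw [hcomm, ← hA]; exact conj_mem_cj h1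
    · exact fun e => h31 (conj_eq_one_iff.1 (hτ3.trans e))
  have hc1' : Crit Γ v1 v2 v1' := by
    have := Crit.act am hb hp2 τ
    rwa [Vtx.act_eq_of_L hτL1, Vtx.act_eq_of_L hτL2, hv1'] at this
  have hc2' : Crit Γ v2 v1' v0' := by
    have := Crit.act am hb (Crit.symm am hb hp3) g
    rwa [Vtx.act_eq_of_L hgL] at this
  have hB := five am hb hp3 hc1' hc2' h0 h01 h2 h21 (show g * c0 * g⁻¹ ∈ v0'.C from conj_mem_cj h0)
    (fun e => h01 (conj_eq_one_iff.1 e))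
  have eB : g * c0 * g⁻¹ * c0 * (g * c0 * g⁻¹)⁻¹ = c2 * c0 := hB
  rw [mul_inv_rev, mul_inv_rev, inv_inv, hgi, h0i] at eB
  have e := congrArg (· * c0) eB
  rw [mul_assoc c2, hc0sq, mul_one] at e
  rw [← e]
  simp only [mul_assoc]

/-- No separating walk has length 2. -/
theorem not_two {a c d : Vtx G} (h : Crit Γ a c d) : False := by
  obtain ⟨P, hP⟩ := h.1
  obtain ⟨hC3, -, x, -, hadj, hp1⟩ := Crit.forward am hb h hP
  obtain ⟨hC2, -, y, -, hadj2, hp2⟩ := Crit.forward am hb hp1 (hadj.symm am)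
  obtain ⟨-, -, z, -, hadj3, hp3⟩ := Crit.forward am hb hp2 (hadj2.symm am)
  obtain ⟨hC0, -, -⟩ := Crit.forward am hb hp3 (hadj3.symm am)
  obtain ⟨R, hR⟩ := h.2.1
  obtain ⟨hC5, -, -⟩ := Crit.forward am hb (Crit.symm am hb h) (hR.symm am)
  obtain ⟨c0, h0, h01, -, -⟩ := exists_gen_two hC0
  obtain ⟨c2, h2, h21, -, -⟩ := exists_gen_two hC2
  obtain ⟨c3, h3, h31, -, -⟩ := exists_gen_two hC3
  obtain ⟨g, h5, h51, -, -⟩ := exists_gen_two hC5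
  have eA := six am hb hp3 hp2 hp1 h h0 h01 h2 h21 h5 h51
  have eB := six am hb (Crit.symm am hb h) (Crit.symm am hb hp1) (Crit.symm am hb hp2) (Crit.symm am hb hp3)
    h5 h51 h3 h31 h0 h01
  have hg2 : g * g = 1 := by rw [← pow_two]; exact (zJ_elem R).2 g (hR.2.1.C_le_zJ h5)
  have h02 : c0 * c0 = 1 := by
    rw [← pow_two]; exact (zJ_elem _).2 c0 (hadj3.2.1.C_le_zJ h0)
  have h22 : c2 * c2 = 1 := by
    rw [← pow_two]; exact (zJ_elem _).2 c2 (hadj.2.1.C_le_zJ h2)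
  have e : c2 * c3 = 1 := by
    rw [← eA, ← eB]
    have k1 : ∀ y : G, c0 * (c0 * y) = y := fun y => by rw [← mul_assoc, h02, one_mul]
    have k2 : ∀ y : G, g * (g * y) = y := fun y => by rw [← mul_assoc, hg2, one_mul]
    simp only [mul_assoc, k1, k2, hg2]
  have e23 : c2 = c3 := by
    rw [eq_inv_of_mul_eq_one_right e]
    exact (inv_eq_of_mul_eq_one_right h22).symm
  exact hadj.symm am |>.ne (eq_of_C am hadj.2.1 hP.1 hC2 (eq_of_two_two hC2 hC3 h2 (e23 ▸ h3) h21))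

end

/-- The amalgam theorem: some edge has `W_v ≰ Q_u` and `W_u ≰ Q_v`. -/
theorem exists_short (am : Amb G) {Γ : Geo G} {P : Subgroup G} {v u : Vtx G} (h : Γ.Adj P v u) :
    ∃ (P : Subgroup G) (a c : Vtx G), Γ.Adj P a c ∧ ¬ Cfsg.wOf a.K ≤ c.Q ∧ ¬ Cfsg.wOf c.K ≤ a.Q := by
  obtain ⟨n, f, E, hn, hw, hne, hbel⟩ := exists_critical am h
  rcases (show n = 1 ∨ n = 2 ∨ 3 ≤ n by omega) with rfl | rfl | h3
  · have h1 := hw 0 (by omega)
    simp only [Nat.zero_add] at h1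
    have hW : ¬ Cfsg.wOf (f 0).K ≤ (f 1).Q := fun hle =>
      hne (sup_le ((h1.1.C_le_zJ.trans h1.2.1.zJ_le_Z).trans (h1.2.1.Z_le_Q am)) hle)
    refine ⟨E 0, f 0, f 1, h1, hW, fun hle => hW fun w hw' => ?_⟩
    refine h1.2.1.mem_Q am (h1.1.ad.W_le_P hw') (Subgroup.mem_centralizer_iff.2 fun z hz => ?_)
    exact (Subgroup.mem_centralizer_iff.1 (h1.1.Q_cent_Z am (hle hz)) w (Subgroup.mem_sup_right hw')).symm
  · exact (not_two am hbel (a := f 0) (c := f 1) (d := f 2) ⟨⟨_, hw 0 (by omega)⟩, ⟨_, hw 1 (by omega)⟩, hne⟩).elim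
  · exact (not_three am h3 hbel hw hne).elim

end Geo

end Cfsg.Agent.Lib.LocalChar.JComp
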