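import Cfsg.Agent.Lib.LocalChar.JSmall

/-! The two sources of the geometry: a maximal straddling group, and a Sylow subgroup. -/

set_option autoImplicit false
set_option linter.unusedSectionVars false
open scoped commutatorElement
open Subgroup (centralizer normalizer zpowers)

namespace Cfsg.Agent.Lib.LocalChar.JComp

variable {G : Type*} [Group G] [Finite G] {M T K : Subgroup G}

local notation "𝐉" T:max => Cfsg.thompsonSubgroupOf 2 T

theorem mem_sylow_of_nz (S : Sylow 2 G) {R : Subgroup G} (hR : IsPGroup 2 R)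
    (hn : R ≤ normalizer ((S : Subgroup G) : Set G)) : R ≤ (S : Subgroup G) :=
  le_sup_right.trans (S.3 (S.isPGroup'.to_sup_of_normal_left' hR hn) le_sup_left).le

theorem mem_sylow_of_two (S : Sylow 2 G) {g : G} (hn : g ∈ normalizer ((S : Subgroup G) : Set G))
    (h2 : ∃ n : ℕ, g ^ 2 ^ n = 1) : g ∈ (S : Subgroup G) := by
  obtain ⟨n, hn2⟩ := h2
  obtain ⟨k, -, hk⟩ := (Nat.dvd_prime_pow Nat.prime_two).1 (orderOf_dvd_of_pow_eq_one hn2)
  exact mem_sylow_of_nz S (IsPGroup.of_card (n := k) (by rw [Nat.card_zpowers, hk])) (Subgroup.zpowers_le.2 hn)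
    (Subgroup.mem_zpowers g)

theorem Adm.conj_apply {P : Subgroup G} (h : Adm P K) (g : G) : Adm (cj g P) (cj g K) where
  p2 := isPGroup_cj h.p2
  good := h.good.cj_apply g
  norm := by
    rw [← show cj g (normalizer (K : Set G)) = normalizer (cj g K : Set G) from
      Subgroup.map_equiv_normalizer_eq _ (MulAut.conj g)]
    exact cj_mono h.norm
  cen := by rw [zJ_cj, ← cj_centralizer]; exact cj_mono h.cen
  four := by rw [zJ_cj, card_cj]; exact h.four
  syl := fun L hL hle => by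
    have h1 : K ⊔ P ≤ cj g⁻¹ L := sup_le
      ((cj_inv_cj g K).ge.trans (cj_mono (le_sup_left.trans hle)))
      ((cj_inv_cj g P).ge.trans (cj_mono (le_sup_right.trans hle)))
    have := isSylowTwoIn_cj (g := g) (isSylowTwoIn_iff.2 (h.syl _ (isTwoLocal_cj g⁻¹ hL) h1))
    rw [cj_cj_inv] at this
    exact isSylowTwoIn_iff.1 this

theorem cent_zJ_of_norm {P : Subgroup G} (hP : IsPGroup 2 P) (hK : Cfsg.IsJComponent P K)
    (hn : P ≤ normalizer (K : Set G)) (h4 : Nat.card ↥(zJ P) ≤ 4) : P ≤ centralizer (zJ P : Set G) := by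
  have hTJ : P ≤ normalizer (zJ P : Set G) :=
    (Subgroup.le_normalizer.trans (nz_le_nz_thompson P)).trans (nzJ_le_nz_zJ P)
  rw [← zc_sup_wl hK hP, Subgroup.le_centralizer_iff]
  refine sup_le (Subgroup.le_centralizer_iff.1 ?_) (Subgroup.le_centralizer_iff.1 ?_)
  · have hn' : P ≤ normalizer (zc P K : Set G) := le_nz_inf hTJ (le_nz_centralizer hn)
    rcases (show Nat.card ↥(zc P K) = 1 ∨ Nat.card ↥(zc P K) = 2 by
      have := card_zJ hK hP
      have := Nat.card_pos (α := ↥(zc P K))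
      omega) with h | h
    · rw [Subgroup.card_eq_one.1 h]
      exact fun g _ => Subgroup.mem_centralizer_iff.2 fun q hq => by simp [Subgroup.mem_bot.1 hq]
    · exact hn'.trans (nz_le_cent_two h)
  · exact (le_nz_inf hTJ (hn.trans (nzK_le_nzW hK))).trans (nz_le_cent_two (card_wl hK hP))

theorem small_of_geo (am : Amb G) (Γ : Geo G) {P : Subgroup G} {v u : Vtx G} (h : Γ.Adj P v u) : Small P := by
  obtain ⟨R, a, c, hadj, hW, -⟩ := Geo.exists_short am h
  have hs : Small R := small_of_cross am hadj.1.ad hadj.2.1.ad hadj.2.2.1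
    fun hle => hW (fun w hw => hadj.2.1.mem_Q am (hadj.1.ad.W_le_P hw) (hle hw))
  obtain ⟨g, rfl⟩ := Γ.edge hadj.1.1 h.1.1
  exact hs.conj_apply g

/-! ### Maximal straddling groups which are not Sylow -/

/-- The standing data for a maximal straddling `T` which is not Sylow. -/
structure NS (am : Amb G) (S : Sylow 2 G) (M T K : Subgroup G) (S' : Sylow 2 G) (u : G) : Prop where
  hMJ : normalizer (𝐉 (S : Subgroup G) : Set G) ≤ M
  hT : T ∈ Cfsg.maxStraddlingTwoSubgroups M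
  hTS : T ≤ (S' : Subgroup G)
  hS'M : (S' : Subgroup G) ≤ M
  hu : u ∈ (S' : Subgroup G)
  hun : u ∈ normalizer (T : Set G)
  huT : u ∉ T
  hK : K ∈ Cfsg.jComponentsOutside M T

namespace NS

variable {am : Amb G} {S S' : Sylow 2 G} {u : G} (h : NS am S M T K S' u)
include h

theorem four : Nat.card ↥(zJ T) ≤ 4 :=
  zJ_le_four am S h.hMJ h.hT S'.isPGroup' h.hTS h.hS'M h.hu h.hun h.huT h.hK

theorem cen : T ≤ centralizer (zJ T : Set G) :=
  T_cent_zJ am S h.hMJ h.hT S'.isPGroup' h.hTS h.hS'M h.hu h.hun h.huT h.hK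

theorem norm : T ≤ normalizer (K : Set G) :=
  T_le_nzK am S h.hMJ h.hT S'.isPGroup' h.hTS h.hS'M h.hu h.hun h.huT h.hK

theorem omZ_le : Cfsg.omegaCenterOf (S' : Subgroup G) ≤ zJ T :=
  (omZ_S'_le am S h.hMJ h.hT S'.isPGroup' h.hTS h.hS'M h.hu h.hun h.huT h.hK).trans (omZ_le_zJ T)

theorem card_omZ : Nat.card ↥(Cfsg.omegaCenterOf (S' : Subgroup G)) = 2 :=
  card_omZ_S' am S h.hMJ h.hT S'.isPGroup' h.hTS h.hS'M h.hu h.hun h.huT h.hK

theorem omZ_inf : Cfsg.omegaCenterOf (S' : Subgroup G) ⊓ zc T K = ⊥ :=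
  omZ_S'_inf am S h.hMJ h.hT S'.isPGroup' h.hTS h.hS'M h.hu h.hun h.huT h.hK

theorem good : Good T K := good_outside am S h.hMJ h.hT h.hK.1.1 h.hK.2.1

theorem adm : Adm T K where
  p2 := h.hT.1.1
  good := h.good
  norm := h.norm
  cen := h.cen
  four := h.four
  syl := fun L hL hle => hTsyl am (of_le S h.hMJ h.hT am hL
    (fun hLM => h.hK.2.1 ((le_sup_left.trans hle).trans hLM)) (le_sup_right.trans hle))

theorem u_not : u ∉ normalizer (K : Set G) :=
  u_not_nzK am S h.hMJ h.hT S'.isPGroup' h.hTS h.hS'M h.hu h.hun h.huT h.hK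

theorem single : Single T K :=
  single_outside am S h.hMJ h.hT S'.isPGroup' h.hTS h.hS'M h.hu h.hun h.huT h.hK S' rfl

theorem not_nz : ¬ cj u K ≤ normalizer (K : Set G) := fun hle =>
  h.u_not (mem_nz_of_cj_eq (h.single _ (h.good.nzJ_conj (nz_le_nz_thompson T h.hun)).1 hle))

theorem zc_u {c : G} (hc : c ∈ zc T K) (hc1 : c ≠ 1) : u * c * u⁻¹ ≠ c := fun e => by
  have h2 : Nat.card ↥(zc T K) = 2 := by
    have := card_zJ h.hK.1.1 h.hT.1.1
    have := h.four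
    have h3 := Nat.card_pos (α := ↥(zc T K))
    by_contra hne
    exact hc1 (Subgroup.mem_bot.1 (Subgroup.card_eq_one.1 (show Nat.card ↥(zc T K) = 1 by omega) ▸ hc))
  refine h.u_not (Good.cent_le am h.hT.1.1 h.good h2 (Subgroup.mem_centralizer_iff.2 fun y hy => ?_))
  by_cases hy1 : y = 1
  · simp [hy1]
  · rw [eq_of_card_two h2 hy hy1 hc hc1]
    exact (mul_inv_eq_iff_eq_mul.1 e).symm

theorem closed {z : G} (hz : z ∈ Cfsg.omegaCenterOf (S' : Subgroup G)) (hz1 : z ≠ 1) : Closed z := by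
  refine ⟨S', S'.isPGroup', fun g hg hg2 => mem_sylow_of_two S' (am.cen S'
    (Subgroup.mem_centralizer_iff.2 fun y hy => ?_)) hg2⟩
  by_cases hy1 : y = 1
  · simp [hy1]
  · rw [eq_of_card_two h.card_omZ hy hy1 hz hz1]
    exact (Subgroup.mem_centralizer_singleton_iff.1 hg).symm

theorem zJ_cases {d : G} (hd : d ∈ zJ T) : d ∈ Cfsg.omegaCenterOf (S' : Subgroup G) ∨ d ∈ zc T K ∨
    d ∈ zc T (cj u K) := by
  have hcard := card_zJ h.hK.1.1 h.hT.1.1
  have hs := Coprime.card_sup_mul_card_inf_of_le_normalizer (A := Cfsg.omegaCenterOf (S' : Subgroup G))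
    (N := zc T K) (fun a ha => centralizer_le_nz _ (Subgroup.mem_centralizer_iff.2 fun b hb =>
      Thompson.commute_of_elementary (zJ_elem T) hb.1 (h.omZ_le ha)))
  rw [h.omZ_inf, Subgroup.card_bot, mul_one, h.card_omZ] at hs
  have heq : Cfsg.omegaCenterOf (S' : Subgroup G) ⊔ zc T K = zJ T :=
    Subgroup.eq_of_le_of_card_ge (sup_le h.omZ_le inf_le_left) (by rw [hs, hcard, mul_comm])
  have hn : Cfsg.omegaCenterOf (S' : Subgroup G) ≤ normalizer (zc T K : Set G) := fun a ha =>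
    centralizer_le_nz _ (Subgroup.mem_centralizer_iff.2 fun b hb =>
      Thompson.commute_of_elementary (zJ_elem T) hb.1 (h.omZ_le ha))
  rw [← heq, mem_sup_iff_of_nz hn] at hd
  obtain ⟨z, hz, c, hc, rfl⟩ := hd
  by_cases hc1 : c = 1
  · rw [hc1, mul_one]; exact Or.inl hz
  by_cases hz1 : z = 1
  · rw [hz1, one_mul]; exact Or.inr (Or.inl hc)
  right; right
  have huJ := nz_le_nz_thompson T h.hun
  rw [zc_nzJ huJ]
  suffices e : u * c * u⁻¹ = z * c from e ▸ conj_mem_cj hc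
  have hm : u * c * u⁻¹ ∈ Cfsg.omegaCenterOf (S' : Subgroup G) ⊔ zc T K :=
    heq ▸ conj_mem_of_nz (nzJ_le_nz_zJ T huJ) hc.1
  rw [mem_sup_iff_of_nz hn] at hm
  obtain ⟨z', hz', c', hc', e⟩ := hm
  have hc2 : Nat.card ↥(zc T K) = 2 := by
    have := h.four
    have h3 := Nat.card_pos (α := ↥(zc T K))
    by_contra hne
    exact hc1 (Subgroup.mem_bot.1 (Subgroup.card_eq_one.1 (show Nat.card ↥(zc T K) = 1 by omega) ▸ hc))
  by_cases hc'1 : c' = 1
  · exfalso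
    rw [hc'1, mul_one] at e
    have hzu : u * z' * u⁻¹ = z' := by
      rw [((mem_omegaCenter_iff.1 hz').2.1 u h.hu).eq, mul_inv_cancel_right]
    have h5 : c = z' := mul_left_cancel (mul_right_cancel (e.trans hzu.symm))
    exact hc1 (Subgroup.mem_bot.1 (h.omZ_inf.le ⟨h5 ▸ hz', hc⟩))
  have hcc : c' = c := eq_of_card_two hc2 hc' hc'1 hc hc1
  by_cases hz'1 : z' = 1
  · rw [hz'1, one_mul, hcc] at e
    exact absurd e (h.zc_u hc hc1)
  rw [e, hcc, eq_of_card_two h.card_omZ hz' hz'1 hz hz1]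

/-- The geometry of `T` and the conjugates of `K`. -/
def geo : Geo G where
  adm P X := ∃ g : G, P = cj g T ∧ X = cj g K
  fact := by rintro P X ⟨g, rfl, rfl⟩; exact h.adm.conj_apply g
  cj_mem := by rintro g P X ⟨y, rfl, rfl⟩; exact ⟨g * y, cj_cj g y T, cj_cj g y K⟩
  edge := by
    rintro P X P' X' ⟨g, rfl, -⟩ ⟨g', rfl, -⟩
    exact ⟨g' * g⁻¹, by rw [cj_cj, inv_mul_cancel_right]⟩
  cpt := by
    rintro P X ⟨g, rfl, rfl⟩ d hd hd1
    rw [zJ_cj] at hd
    obtain ⟨d, hd, rfl⟩ := hd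
    show Closed (g * d * g⁻¹) ∨ ∃ Y, (∃ y, cj g T = cj y T ∧ Y = cj y K) ∧ g * d * g⁻¹ ∈ zc (cj g T) Y
    have hd1' : d ≠ 1 := fun e => hd1 (by simp [e])
    rcases h.zJ_cases hd with hz | hc | hc
    · left
      obtain ⟨R, hR, hRd⟩ := h.closed hz hd1'
      refine ⟨cj g R, isPGroup_cj hR, fun y hy ⟨n, hn⟩ => mem_cj.2 (hRd _ ?_ ⟨n, ?_⟩)⟩
      · rw [Subgroup.mem_centralizer_singleton_iff] at hy ⊢
        calc g⁻¹ * y * g * d = g⁻¹ * (y * (g * d * g⁻¹)) * g := by group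
          _ = g⁻¹ * (g * d * g⁻¹ * y) * g := by rw [hy]
          _ = d * (g⁻¹ * y * g) := by group
      · rw [conj_pow', hn]; group
    · exact Or.inr ⟨cj g K, ⟨g, rfl, rfl⟩, zc_cj g T K ▸ conj_mem_cj hc⟩
    · refine Or.inr ⟨cj g (cj u K), ⟨g * u, ?_, cj_cj g u K⟩, zc_cj g T (cj u K) ▸ conj_mem_cj hc⟩
      rw [← cj_cj, cj_eq_of_mem_nz h.hun]

theorem small : Small T := by
  have hKu : (geo h).adm T (cj u K) := ⟨u, (cj_eq_of_mem_nz h.hun).symm, rfl⟩
  have hK : (geo h).adm T K := ⟨1, (cj_one T).symm, (cj_one K).symm⟩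
  have hi : (geo h).Inc T ⟨K, zc T K⟩ := ⟨hK, rfl⟩
  have hiu : (geo h).Inc T ⟨cj u K, zc T (cj u K)⟩ := ⟨hKu, rfl⟩
  have hsu : Single T (cj u K) := by
    have := h.single.conj_apply u
    rwa [cj_eq_of_mem_nz h.hun] at this
  exact small_of_geo am (geo h) (P := T) (v := ⟨K, zc T K⟩) (u := ⟨cj u K, zc T (cj u K)⟩)
    ⟨hi, hiu, h.not_nz, fun _ => hi.Sgl_of h.single, fun _ => hiu.Sgl_of hsu⟩

end NS

/-- A maximal straddling group is Sylow or has such data. -/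
theorem exists_NS (am : Amb G) (S : Sylow 2 G) (hMJ : normalizer (𝐉 (S : Subgroup G) : Set G) ≤ M)
    (hT : T ∈ Cfsg.maxStraddlingTwoSubgroups M) (hK : K ∈ Cfsg.jComponentsOutside M T)
    {S' : Sylow 2 G} (hTS : T ≤ (S' : Subgroup G)) (hS'M : (S' : Subgroup G) ≤ M)
    (hne : T ≠ (S' : Subgroup G)) : ∃ u, NS am S M T K S' u := by
  obtain ⟨u, hu, huT, hun⟩ := exists_mem_nz_of_lt (R := T) S'.isPGroup' (lt_of_le_of_ne hTS hne)
  exact ⟨u, hMJ, hT, hTS, hS'M, hu, hun, huT, hK⟩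

/-! ### Sylow subgroups -/

theorem local_cases (am : Amb G) (S : Sylow 2 G) {L : Subgroup G} (hL : Cfsg.IsTwoLocal L)
    (hSL : (S : Subgroup G) ≤ L) :
    L ≤ normalizer (𝐉 (S : Subgroup G) : Set G) ∨ L ∈ Cfsg.jOvergroups (S : Subgroup G) := by
  by_cases h : 𝐉 (S : Subgroup G) ≤ Cfsg.pCoreOf 2 L
  · left
    rw [← thompson_eq_sylow S (isPGroup_pCoreOf L) h]
    exact (le_nz_pCoreOf L).trans (nz_le_nz_thompson _)
  · exact Or.inr ⟨isSylowTwoIn_iff.2 (IsSylowIn.of_le S hSL), h, cent_core_le am hL⟩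

theorem nzJ_le_nzS (am : Amb G) (S : Sylow 2 G)
    (hc : (S : Subgroup G) ≤ centralizer (zJ (S : Subgroup G) : Set G)) :
    normalizer (𝐉 (S : Subgroup G) : Set G) ≤ normalizer ((S : Subgroup G) : Set G) := fun n hn => by
  refine mem_nz_of_cj_le (mem_sylow_of_nz S (isPGroup_cj S.isPGroup') ?_)
  refine le_trans ?_ ((Subgroup.centralizer_le (omZ_eq_zJ hc).le).trans (am.cen S))
  rw [← cj_eq_of_mem_nz (nzJ_le_nz_zJ _ hn), ← cj_centralizer]
  exact cj_mono hc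

theorem sylow_comp_norm (am : Amb G) (S : Sylow 2 G)
    (hc : (S : Subgroup G) ≤ centralizer (zJ (S : Subgroup G) : Set G)) {L X : Subgroup G}
    (hLT : L ∈ Cfsg.jOvergroups (S : Subgroup G)) (hX : Cfsg.IsJComponent (S : Subgroup G) X) (hXL : X ≤ L) :
    (S : Subgroup G) ≤ normalizer (X : Set G) := fun t ht => by
  obtain ⟨w, hw, hw1⟩ := (Subgroup.bot_or_exists_ne_one _).resolve_left (wl_ne_bot hX S.isPGroup')
  refine mem_nzK am hLT hX hXL ((hTsyl am hLT).1 ht)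
    (Subgroup.le_normalizer.trans (nz_le_nz_thompson _) ht) hw.2 hw1 ?_
  have h1 : Commute w t := Subgroup.mem_centralizer_iff.1 (hc ht) w hw.1
  rw [mul_assoc, h1.eq, inv_mul_cancel_left]
  exact hw.2

theorem adm_sylow (am : Amb G) (S : Sylow 2 G) (hK : Cfsg.IsJComponent (S : Subgroup G) K)
    (hn : (S : Subgroup G) ≤ normalizer (K : Set G)) (h4 : Nat.card ↥(zJ (S : Subgroup G)) ≤ 4) :
    Adm (S : Subgroup G) K where
  p2 := S.isPGroup'
  good := good_of_sylow am S hK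
  norm := hn
  cen := cent_zJ_of_norm S.isPGroup' hK hn h4
  four := h4
  syl := fun _ _ hle => IsSylowIn.of_le S (le_sup_right.trans hle)

/-- The geometry of a Sylow subgroup and all the components normalised by it. -/
def geoSylow (am : Amb G) (S : Sylow 2 G) (h4 : Nat.card ↥(zJ (S : Subgroup G)) ≤ 4) : Geo G where
  adm P X := ∃ g X₀, P = cj g (S : Subgroup G) ∧ X = cj g X₀ ∧ Cfsg.IsJComponent (S : Subgroup G) X₀ ∧
    (S : Subgroup G) ≤ normalizer (X₀ : Set G)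
  fact := by rintro P X ⟨g, X₀, rfl, rfl, h1, h2⟩; exact (adm_sylow am S h1 h2 h4).conj_apply g
  cj_mem := by
    rintro g P X ⟨y, X₀, rfl, rfl, h1, h2⟩
    exact ⟨g * y, X₀, cj_cj g y _, cj_cj g y _, h1, h2⟩
  edge := by
    rintro P X P' X' ⟨g, X₀, rfl, -⟩ ⟨g', X₀', rfl, -⟩
    exact ⟨g' * g⁻¹, by rw [cj_cj, inv_mul_cancel_right]⟩
  cpt := by
    rintro P X ⟨g, X₀, rfl, rfl, h1, h2⟩ d hd hd1
    rw [zJ_cj] at hd
    obtain ⟨d, hd, rfl⟩ := hd
    show Closed (g * d * g⁻¹) ∨ ∃ Y, (∃ y Y₀, cj g (S : Subgroup G) = cj y (S : Subgroup G) ∧ Y = cj y Y₀ ∧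
      Cfsg.IsJComponent (S : Subgroup G) Y₀ ∧ (S : Subgroup G) ≤ normalizer (Y₀ : Set G)) ∧
      g * d * g⁻¹ ∈ zc (cj g (S : Subgroup G)) Y
    have hc := cent_zJ_of_norm S.isPGroup' h1 h2 h4
    have hd1' : d ≠ 1 := fun e => hd1 (by simp [e])
    have hd2 : d ^ 2 = 1 := (zJ_elem _).2 d hd
    have hL : Cfsg.IsTwoLocal (centralizer ({d} : Set G)) := by
      have := isTwoLocal_cent_two (H := zpowers d) (by rw [Nat.card_zpowers, orderOf_eq_prime hd2 hd1'])
      rwa [Subgroup.zpowers_eq_closure, Subgroup.centralizer_closure] at this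
    have hSL : (S : Subgroup G) ≤ centralizer ({d} : Set G) := fun s hs =>
      Subgroup.mem_centralizer_singleton_iff.2 (Subgroup.mem_centralizer_iff.1 (hc hs) d hd).symm
    rcases local_cases am S hL hSL with hle | hov
    · left
      refine ⟨cj g (S : Subgroup G), isPGroup_cj S.isPGroup', fun y hy ⟨n, hn⟩ =>
        mem_cj.2 (mem_sylow_of_two S (nzJ_le_nzS am S hc (hle ?_)) ⟨n, ?_⟩)⟩
      · rw [Subgroup.mem_centralizer_singleton_iff] at hy ⊢
        calc g⁻¹ * y * g * d = g⁻¹ * (y * (g * d * g⁻¹)) * g := by group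
          _ = g⁻¹ * (g * d * g⁻¹ * y) * g := by rw [hy]
          _ = d * (g⁻¹ * y * g) := by group
      · rw [conj_pow', hn]; group
    · obtain ⟨Y, hY, hYL⟩ := exists_component am hov
      refine Or.inr ⟨cj g Y, ⟨g, Y, rfl, rfl, hY, sylow_comp_norm am S hc hov hY hYL⟩, ?_⟩
      rw [zc_cj]
      exact conj_mem_cj ⟨hd, Subgroup.mem_centralizer_iff.2 fun k hk =>
        Subgroup.mem_centralizer_singleton_iff.1 (hYL hk)⟩

theorem small_sylow (am : Amb G) (S : Sylow 2 G) {K₁ K₂ : Subgroup G}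
    (h₁ : Cfsg.IsJComponent (S : Subgroup G) K₁) (n₁ : (S : Subgroup G) ≤ normalizer (K₁ : Set G))
    (h₂ : Cfsg.IsJComponent (S : Subgroup G) K₂) (n₂ : (S : Subgroup G) ≤ normalizer (K₂ : Set G))
    (hn : ¬ K₂ ≤ normalizer (K₁ : Set G))
    (o₁ : wl (S : Subgroup G) K₂ = zc (S : Subgroup G) K₁ → Single (S : Subgroup G) K₁)
    (o₂ : wl (S : Subgroup G) K₁ = zc (S : Subgroup G) K₂ → Single (S : Subgroup G) K₂) :
    Small (S : Subgroup G) := by
  have h4 := Good.card_zJ_le am S.isPGroup' (good_of_sylow am S h₁) h₂ hn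
  set Γ := geoSylow am S h4
  have i₁ : Γ.Inc (S : Subgroup G) ⟨K₁, zc (S : Subgroup G) K₁⟩ :=
    ⟨⟨1, K₁, (cj_one _).symm, (cj_one _).symm, h₁, n₁⟩, rfl⟩
  have i₂ : Γ.Inc (S : Subgroup G) ⟨K₂, zc (S : Subgroup G) K₂⟩ :=
    ⟨⟨1, K₂, (cj_one _).symm, (cj_one _).symm, h₂, n₂⟩, rfl⟩
  exact small_of_geo am Γ (v := ⟨K₁, zc (S : Subgroup G) K₁⟩) (u := ⟨K₂, zc (S : Subgroup G) K₂⟩)
    ⟨i₁, i₂, hn, fun e => i₁.Sgl_of (o₁ e), fun e => i₂.Sgl_of (o₂ e)⟩

end Cfsg.Agent.Lib.LocalChar.JComp
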