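import Cfsg.Agent.Lib.LocalChar.JMain

/-! The three cases for `Ω₁(Z(J(T)))`. -/

set_option autoImplicit false
set_option linter.unusedSectionVars false
open scoped commutatorElement
open Subgroup (centralizer normalizer zpowers)

namespace Cfsg.Agent.Lib.LocalChar.JComp

variable {G : Type*} [Group G] [Finite G] {M T K : Subgroup G}

local notation "𝐉" T:max => Cfsg.thompsonSubgroupOf 2 T

theorem NS.cent_zc_le {am : Amb G} {S S' : Sylow 2 G} {u : G} (h : NS am S M T K S' u) {L : Subgroup G}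
    (hL : Cfsg.IsMaximalTwoLocal L) (hle : K ⊔ 𝐉 T ≤ L) (h4 : Nat.card ↥(zJ T) = 4) :
    centralizer (zJ T : Set G) ≤ L := by
  have hp := partner_of_single h.adm h.single
  have hT := h.hT.1.1
  rw [← hL.2 _ (hp.local_V hT) (hp.local_le am hT hL.1 hle), sup_idem]
  have h2 : Nat.card ↥(zc T K) = 2 := by
    have := card_zJ h.hK.1.1 hT
    omega
  exact ((Subgroup.centralizer_le inf_le_left).trans (Good.cent_le am hT h.good h2)).trans
    (nzK_le_nzW h.hK.1.1)

theorem NS.index_two {am : Amb G} {S S' : Sylow 2 G} {u : G} (h : NS am S M T K S' u)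
    (h4 : Nat.card ↥(zJ T) = 4) :
    (centralizer (zJ T : Set G)).relIndex (normalizer (zJ T : Set G)) = 2 := by
  have hT := h.hT.1.1
  have hc2 : Nat.card ↥(zc T K) = 2 := by
    have := card_zJ h.hK.1.1 hT
    omega
  obtain ⟨z, hz, hz1, -, hzl⟩ := exists_gen_two h.card_omZ
  obtain ⟨c, hc, hc1, -, hcl⟩ := exists_gen_two hc2
  have huJ := nz_le_nz_thompson T h.hun
  have hcu : ∀ d ∈ zc T (cj u K), d = 1 ∨ d = u * c * u⁻¹ := fun d hd => by
    rw [zc_nzJ huJ] at hd
    obtain ⟨y, hy, rfl⟩ := hd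
    rcases hcl y hy with rfl | rfl
    · exact Or.inl (map_one _)
    · exact Or.inr rfl
  have hzc : z ≠ c := fun e => hz1 (Subgroup.mem_bot.1 (h.omZ_inf.le ⟨hz, e ▸ hc⟩))
  -- `z` is not conjugate to `c`
  have hnot : ∀ g : G, g * z * g⁻¹ ≠ c := fun g e => by
    set S₁ : Sylow 2 G := g • S'
    have hS₁Z : Cfsg.omegaCenterOf (S₁ : Subgroup G) = cj g (Cfsg.omegaCenterOf (S' : Subgroup G)) :=
      omZ_cj g _
    have hle : ∀ X : Subgroup G, (∀ a ∈ X, Commute a c) → X ≤ normalizer ((S₁ : Subgroup G) : Set G) :=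
      fun X hX a ha => am.cen S₁ (Subgroup.mem_centralizer_iff.2 fun y hy => by
        rw [hS₁Z] at hy
        obtain ⟨y, hy', rfl⟩ := hy
        rcases hzl y hy' with rfl | rfl
        · simp
        · show g * y * g⁻¹ * a = a * (g * y * g⁻¹)
          rw [e, (hX a ha).eq])
    refine not_le_nz h.hK.1.1 S₁.isPGroup' ?_ (hle K fun a ha => Subgroup.mem_centralizer_iff.1 hc.2 a ha)
    exact mem_sylow_of_nz S₁ (hT.to_le (thompsonOf_le T))
      (hle _ fun a ha => (mem_omegaCenter_iff.1 hc.1).2.1 a ha)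
  have hfz : ∀ n ∈ normalizer (zJ T : Set G), n * z * n⁻¹ = z := fun n hn => by
    have hne : n * z * n⁻¹ ≠ 1 := fun e => hz1 (conj_eq_one_iff.1 e)
    rcases h.zJ_cases (conj_mem_of_nz hn (h.omZ_le hz)) with hd | hd | hd
    · exact (hzl _ hd).resolve_left hne
    · exact absurd ((hcl _ hd).resolve_left hne) (hnot n)
    · exfalso
      refine hnot (u⁻¹ * n) ?_
      calc u⁻¹ * n * z * (u⁻¹ * n)⁻¹ = u⁻¹ * (n * z * n⁻¹) * u := by group
        _ = c := by rw [(hcu _ hd).resolve_left hne]; group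
  have hfc : ∀ n ∈ normalizer (zJ T : Set G), n * c * n⁻¹ = c ∨ n * c * n⁻¹ = u * c * u⁻¹ := fun n hn => by
    have hne : n * c * n⁻¹ ≠ 1 := fun e => hc1 (conj_eq_one_iff.1 e)
    rcases h.zJ_cases (conj_mem_of_nz hn hc.1) with hd | hd | hd
    · refine absurd ?_ hzc.symm
      exact mul_left_cancel (mul_right_cancel (((hzl _ hd).resolve_left hne).trans (hfz n hn).symm))
    · exact Or.inl ((hcl _ hd).resolve_left hne)
    · exact Or.inr ((hcu _ hd).resolve_left hne)
  have hiff : ∀ n ∈ normalizer (zJ T : Set G),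
      n ∈ centralizer (zJ T : Set G) ↔ n * c * n⁻¹ = c := fun n hn => by
    refine ⟨fun hn' => by rw [← Subgroup.mem_centralizer_iff.1 hn' c hc.1, mul_inv_cancel_right],
      fun e => Subgroup.mem_centralizer_iff.2 fun d hd => ?_⟩
    have h1 : ∀ y ∈ zc T K, Commute y n := fun y hy => by
      rcases hcl y hy with rfl | rfl
      · exact Commute.one_left n
      · exact ((mul_inv_eq_iff_eq_mul.1 e) : n * y = y * n).symm
    have h2 : ∀ y ∈ Cfsg.omegaCenterOf (S' : Subgroup G), Commute y n := fun y hy => by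
      rcases hzl y hy with rfl | rfl
      · exact Commute.one_left n
      · exact (mul_inv_eq_iff_eq_mul.1 (hfz n hn) : n * y = y * n).symm
    have hsup : Cfsg.omegaCenterOf (S' : Subgroup G) ⊔ zc T K ≤ centralizer ({n} : Set G) :=
      sup_le (fun y hy => Subgroup.mem_centralizer_singleton_iff.2 (h2 y hy).eq)
        (fun y hy => Subgroup.mem_centralizer_singleton_iff.2 (h1 y hy).eq)
    have hs := Coprime.card_sup_mul_card_inf_of_le_normalizer (A := Cfsg.omegaCenterOf (S' : Subgroup G))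
      (N := zc T K) (fun a ha => centralizer_le_nz _ (Subgroup.mem_centralizer_iff.2 fun b hb =>
        Thompson.commute_of_elementary (zJ_elem T) hb.1 (h.omZ_le ha)))
    rw [h.omZ_inf, Subgroup.card_bot, mul_one, h.card_omZ, hc2] at hs
    have heq : Cfsg.omegaCenterOf (S' : Subgroup G) ⊔ zc T K = zJ T :=
      Subgroup.eq_of_le_of_card_ge (sup_le h.omZ_le inf_le_left) (by rw [hs, h4])
    exact (Subgroup.mem_centralizer_singleton_iff.1 (hsup (heq.ge hd)))
  rw [Subgroup.relIndex, Subgroup.index_eq_two_iff]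
  refine ⟨⟨u, nzJ_le_nz_zJ T huJ⟩, fun b => ?_⟩
  simp only [Subgroup.mem_subgroupOf, Subgroup.coe_mul]
  rw [hiff _ (Subgroup.mul_mem _ b.2 (nzJ_le_nz_zJ T huJ)), hiff _ b.2]
  have hu := h.zc_u hc hc1
  have e : (b : G) * u * c * ((b : G) * u)⁻¹ = (b : G) * (u * c * u⁻¹) * (b : G)⁻¹ := by group
  rw [e]
  rcases hfc _ b.2 with hb | hb
  · refine Or.inr ⟨hb, fun h' => hu ?_⟩
    exact mul_left_cancel (mul_right_cancel (h'.trans hb.symm))
  · refine Or.inl ⟨?_, fun h' => hu (hb.symm.trans h')⟩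
    -- `b` moves `u c u⁻¹` back to `c`
    have hd : u * c * u⁻¹ ∈ zJ T := conj_mem_of_nz (nzJ_le_nz_zJ T huJ) hc.1
    have hne : (b : G) * (u * c * u⁻¹) * (b : G)⁻¹ ≠ 1 := fun h' =>
      hc1 (conj_eq_one_iff.1 (conj_eq_one_iff.1 h'))
    rcases h.zJ_cases (conj_mem_of_nz b.2 hd) with h' | h' | h'
    · refine absurd ?_ (show z ≠ u * c * u⁻¹ from fun h'' => hnot u⁻¹ (by rw [h'']; group))
      exact (mul_left_cancel (mul_right_cancel (((hzl _ h').resolve_left hne).trans (hfz _ b.2).symm))).symm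
    · exact (hcl _ h').resolve_left hne
    · refine absurd ?_ hu
      exact mul_left_cancel (mul_right_cancel (((hcu _ h').resolve_left hne).trans hb.symm))

/-- The case division. -/
theorem center_cases (am : Amb G) (hO : Cfsg.pCore 2 G = ⊥) (S : Sylow 2 G)
    (hMJ : normalizer (𝐉 (S : Subgroup G) : Set G) ≤ M) (hT : T ∈ Cfsg.maxStraddlingTwoSubgroups M)
    (hTS : T ≤ (S : Subgroup G)) (hK : K ∈ Cfsg.jComponentsOutside M T) {L : Subgroup G}
    (hL : Cfsg.IsMaximalTwoLocal L) (hle : K ⊔ 𝐉 T ≤ L) :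
    zJ T ⊓ Cfsg.wOf K ≠ ⊥ ∧
      ((Cfsg.omegaCenterOf (S : Subgroup G) = zJ T ∧ Nat.card ↥(zJ T) = 2) ∨
        (Cfsg.omegaCenterOf (S : Subgroup G) = zJ T ∧ Nat.card ↥(zJ T) = 4 ∧ T = (S : Subgroup G)) ∨
        (Cfsg.omegaCenterOf T = zJ T ∧ Nat.card ↥(zJ T) = 4 ∧
          (L ⊓ centralizer (zJ T : Set G)).relIndex (normalizer (zJ T : Set G)) = 2)) := by
  have ha := outside_adm am hO S hMJ hT hK
  refine ⟨wl_ne_bot hK.1.1 hT.1.1, ?_⟩
  have hsle : Cfsg.omegaCenterOf (S : Subgroup G) ≤ zJ T :=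
    (omZ_sylow_le am ha.nW_over hTS).trans (omZ_le_zJ T)
  have hcases : Nat.card ↥(zJ T) = 2 ∨ Nat.card ↥(zJ T) = 4 := by
    have := card_zJ hK.1.1 hT.1.1
    have := ha.four
    have := Nat.card_pos (α := ↥(zJ T))
    omega
  rcases hcases with h2 | h4
  · refine Or.inl ⟨Subgroup.eq_of_le_of_card_ge hsle ?_, h2⟩
    rw [h2]
    by_contra hlt
    refine omZ_ne_bot S.isPGroup' (fun e => hT.1.2.1 (le_bot_iff.1 (hTS.trans e.le))) (Subgroup.card_eq_one.1 ?_)
    have := Nat.card_pos (α := ↥(Cfsg.omegaCenterOf (S : Subgroup G)))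
    omega
  by_cases hne : T = (S : Subgroup G)
  · exact Or.inr (Or.inl ⟨hne ▸ omZ_eq_zJ ha.cen, h4, hne⟩)
  obtain ⟨u, h⟩ := exists_NS am S hMJ hT hK hTS
    ((Subgroup.le_normalizer.trans (nz_le_nz_thompson (S : Subgroup G))).trans hMJ) hne
  refine Or.inr (Or.inr ⟨omZ_eq_zJ ha.cen, h4, ?_⟩)
  rw [inf_eq_right.2 (h.cent_zc_le hL hle h4)]
  exact h.index_two h4

end Cfsg.Agent.Lib.LocalChar.JComp
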