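import Cfsg.Agent.Lib.LocalChar.JWalk

/-! The main step of the amalgam argument. -/

set_option autoImplicit false
set_option linter.unusedSectionVars false
open scoped commutatorElement
open Subgroup (centralizer normalizer zpowers)

namespace Cfsg.Agent.Lib.LocalChar.JComp

variable {G : Type*} [Group G] [Finite G]

local notation "𝐉" T:max => Cfsg.thompsonSubgroupOf 2 T

namespace Geo

variable {Γ : Geo G}

/-- An element of `Q` outside `C(W_u)` moves the elements of `Z_u` outside `Z(J(P))`. -/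
theorem Inc.moves_Z {P : Subgroup G} {v : Vtx G} (h : Γ.Inc P v) {p d s : G} (hp : p ∈ P)
    (hpc : p ∉ centralizer (Cfsg.wOf v.K : Set G)) (hd : d ∈ v.Z) (hdP : d ∉ zJ P) (hs : s ∈ wl P v.K)
    (hs1 : s ≠ 1) : p * d * p⁻¹ = s * d := by
  rw [h.Z_eq] at hd
  obtain ⟨c, hc, w, hw, rfl⟩ := h.ad.Z_mem hd
  have hwl : w ∉ wl P v.K := fun hwl => hdP ((zJ P).mul_mem hc.1 hwl.1)
  have hpq : Commute p c := h.zJ_cent hp hc.1
  have hcs : Commute s c := Thompson.commute_of_elementary (zJ_elem P) hs.1 hc.1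
  calc p * (c * w) * p⁻¹ = (p * c) * w * p⁻¹ := by group
    _ = c * (p * w * p⁻¹) := by rw [hpq.eq]; group
    _ = _ := by rw [h.ad.moves hp hpc hw hwl hs hs1, ← mul_assoc, ← hcs.eq, mul_assoc]

/-- A separating walk of length at least 2 turns into another one. -/
theorem claim (am : Amb G) {b : ℕ} (hb2 : 2 ≤ b) (hb : Below Γ b) {f : ℕ → Vtx G} {E : ℕ → Subgroup G}
    (hw : Walk Γ b f E) (hne : ¬ (f 0).Z ≤ (f b).Q) :
    Nat.card ↥(f 0).C = 2 ∧ Γ.Sgl (f 0) ∧ wl (E 0) (f 1).K = (f 0).C ∧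
      ∃ x ∈ (f 0).L, wl (cj x (E 0)) (Vtx.act x (f 1)).K = (f 0).C ∧
        Γ.Adj (cj x (E 0)) (f 0) (Vtx.act x (f 1)) ∧ ¬ (Vtx.act x (f 1)).Z ≤ (f (b - 1)).Q := by
  obtain ⟨e, r, heZ, heE, hec, hr, hr1, hlines⟩ := step_two am hb2 hb hw hne
  have h0 := hw 0 (by omega)
  simp only [Nat.zero_add] at h0
  have hl := hw (b - 1) (by omega)
  rw [show b - 1 + 1 = b by omega] at hl
  obtain ⟨x, hxK, hx⟩ := exists_three h0.1.ad.comp
  have hxL : x ∈ (f 0).L := h0.1.K_le_L hxK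
  set v := f 0 with hv
  set P' := cj x (E 0) with hP'
  set β := Vtx.act x (f 1) with hβ
  have hadj : Γ.Adj P' v β := h0.of_L hxL
  have hwlP' : wl P' v.K = cj x (wl (E 0) v.K) := by
    have := wl_cj x (E 0) v.K
    rwa [cj_eq_of_mem_nz hxL.1] at this
  set w' := x * r * x⁻¹
  have hw' : w' ∈ wl P' v.K := by rw [hwlP']; exact conj_mem_cj hr
  have hw'1 : w' ≠ 1 := fun h => hr1 (conj_eq_one_iff.1 h)
  have hw'r : w' ≠ r := fun h => hr1 (fix_free h0.1.ad.comp hxK hx hr.2 (mul_inv_eq_iff_eq_mul.1 h))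
  have hline0 : ∀ y ∈ wl (E 0) v.K, y = 1 ∨ y = r := fun y hy =>
    (em (y = 1)).imp id fun hy1 => eq_of_card_two (card_wl h0.1.ad.comp h0.1.ad.p2) hy hy1 hr hr1
  have hw'l : w' ∉ wl (E 0) v.K := fun h => (hline0 w' h).elim hw'1 hw'r
  have hew' : e * w' * e⁻¹ = r * w' := h0.1.ad.moves heE hec hw'.2 hw'l hr hr1
  -- elements of `Z(J(P'))` fixed by `e`
  have hfix : ∀ d ∈ zJ P', Commute e d → d ∈ v.C := fun d hd hc => by
    obtain ⟨q, hq, y, hy, rfl⟩ := zJ_mem hadj.1.ad.comp hadj.1.ad.p2 hd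
    rw [← hadj.1.2] at hq
    have heq : Commute e q :=
      (Subgroup.mem_centralizer_iff.1 ((h0.1.P_le_L heE).2) q hq).symm
    by_cases hy1 : y = 1
    · rw [hy1, mul_one]; exact hq
    exfalso
    have hyw : y = w' := eq_of_card_two (card_wl hadj.1.ad.comp hadj.1.ad.p2) hy hy1 hw' hw'1
    have h2 : Commute e y := by simpa using heq.inv_right.mul_right hc
    rw [hyw] at h2
    exact hr1 (mul_eq_right.1 (hew'.symm.trans (by rw [h2.eq, mul_inv_cancel_right])))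
  -- the prepended walk
  have hw1 : Walk Γ b (fun i => Nat.casesOn i β f) (fun i => Nat.casesOn i P' E) := by
    rintro (_ | i) hi
    · exact hadj.symm am
    · exact hw i (by omega)
  have hZβ : β.Z ≤ E (b - 2) := by
    have h1 := low hb hw1 (i := 0) (j := b - 1) (by omega) (by omega) (by omega)
    have h2 := hw (b - 2) (by omega)
    rw [show b - 1 = b - 2 + 1 by omega] at h1
    exact h1.trans (h2.1.Q_le am)
  obtain ⟨s, hs, hs1, -, hsline⟩ := exists_gen_two (card_wl hadj.2.1.ad.comp hadj.2.1.ad.p2)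
  obtain ⟨q₀, hq₀, hq₀c⟩ := hadj.exists_moverQ am
  have hq₀P : q₀ ∈ P' := hadj.1.Q_le am hq₀
  have hQL : v.Q ≤ v.L := pCoreOf_le _
  by_cases hcase : β.Z ≤ (f (b - 1)).Q
  · -- this case is impossible
    exfalso
    have hZE : β.Z ≤ E (b - 1) := hcase.trans (hl.1.Q_le am)
    have hcomm : ∀ u ∈ β.Z, e * u * e⁻¹ * u⁻¹ ∈ wl (E 0) v.K := fun u hu => by
      rw [← hlines]
      have := (wl (E (b - 1)) (f b).K).inv_mem (hl.2.1.comm_Z heZ (hZE hu))
      convert this using 1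
      group
    -- `e` fixes `s`
    obtain ⟨w, hwW, hwl⟩ := hadj.2.1.ad.exists_not_line
    have hmov : q₀ * w * q₀⁻¹ = s * w := hadj.2.1.ad.moves hq₀P hq₀c hwW hwl hs hs1
    have hsC : s ∈ v.C := by
      refine hfix s hs.1 ?_
      set t := e * w * e⁻¹ * w⁻¹
      have ht : t ∈ wl (E 0) v.K := hcomm w (Subgroup.mem_sup_right hwW)
      have htZ : t ∈ v.Z := Subgroup.mem_sup_right ht.2
      set q' := e * q₀ * e⁻¹
      have hq' : q' ∈ v.Q := conj_mem_of_nz (le_nz_pCoreOf _ (h0.1.P_le_L heE)) hq₀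
      have hq't : Commute q' t := (Subgroup.mem_centralizer_iff.1 (hadj.1.Q_cent_Z am hq') t htZ).symm
      set s' := q' * w * q'⁻¹ * w⁻¹
      have hs' : s' ∈ wl P' β.K := hadj.2.1.comm_Z (Subgroup.mem_sup_right hwW) (hadj.1.Q_le am hq')
      have htP : t ∈ P' := hadj.1.ad.W_le_P ht.2
      have hts : Commute t s' := hadj.2.1.zJ_cent htP hs'.1
      have e1 : e * s * e⁻¹ = s' := by
        have e2 : e * s * e⁻¹ = e * (q₀ * w * q₀⁻¹ * w⁻¹) * e⁻¹ := by rw [hmov, mul_inv_cancel_right]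
        rw [e2]
        calc e * (q₀ * w * q₀⁻¹ * w⁻¹) * e⁻¹ = (q' * t) * w * q'⁻¹ * (t * w)⁻¹ := by
              simp only [q', t]; group
          _ = t * s' * t⁻¹ := by rw [hq't.eq]; simp only [s']; group
          _ = s' := by rw [hts.eq, mul_inv_cancel_right]
      have hs'1 : s' ≠ 1 := fun h => hs1 (conj_eq_one_iff.1 (e1.trans h))
      rw [eq_of_card_two (card_wl hadj.2.1.ad.comp hadj.2.1.ad.p2) hs' hs'1 hs hs1] at e1
      exact mul_inv_eq_iff_eq_mul.1 e1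
    have hC2 : Nat.card ↥v.C = 2 := by
      refine le_antisymm h0.1.card_le ?_
      by_contra hlt
      have := Nat.card_pos (α := ↥v.C)
      exact hs1 (Subgroup.mem_bot.1 (Subgroup.card_eq_one.1 (show Nat.card ↥v.C = 1 by omega) ▸ hsC))
    have hCs : wl P' β.K = v.C := eq_of_two_two (card_wl hadj.2.1.ad.comp hadj.2.1.ad.p2) hC2 hs hsC hs1
    have hSgl : Γ.Sgl v := hadj.2.2.2.1 hCs
    -- an element of `Z_β` outside `C` fixed by `e`
    obtain ⟨cb, hcb, hcb1, -, -⟩ := exists_gen_two (show Nat.card ↥β.C = 2 by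
      rw [← hadj.1.card_zc_eq hadj.2.1]; exact hC2)
    have hcbW : cb ∉ Cfsg.wOf β.K := fun h => hcb1 (Subgroup.mem_bot.1 ((zc_inf_W hadj.2.1.ad.comp).le
      ⟨hadj.2.1.2 ▸ hcb, h⟩))
    have hvC : ∀ y ∈ v.C, y = 1 ∨ y = s := fun y hy =>
      (em (y = 1)).imp id fun hy1 => eq_of_card_two hC2 hy hy1 hsC hs1
    obtain ⟨d, hdZ, hdC, hde⟩ : ∃ d ∈ β.Z, d ∉ v.C ∧ Commute e d := by
      have hr' : ∀ u ∈ β.Z, Commute u r := fun u hu => hl.2.1.zJ_cent (hZE hu) (hlines.ge hr).1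
      have hcases : ∀ u ∈ β.Z, Commute e u ∨ e * u * e⁻¹ = r * u := fun u hu =>
        (hline0 _ (hcomm u hu)).imp (fun h => mul_inv_eq_iff_eq_mul.1 (mul_inv_eq_one.1 h))
          (fun h => mul_inv_eq_iff_eq_mul.1 h)
      have hwC : w ∉ v.C := fun h => (hvC w h).elim (fun h1 => hwl (h1 ▸ Subgroup.one_mem _))
        fun h1 => hwl (h1 ▸ hs)
      have hcbC : cb ∉ v.C := fun h => (hvC cb h).elim hcb1 fun h1 => hcbW (h1 ▸ hs.2)
      have hwcC : w * cb ∉ v.C := fun h => (hvC _ h).elim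
        (fun h1 => hcbW (by rw [eq_inv_of_mul_eq_one_right h1]; exact Subgroup.inv_mem _ hwW))
        (fun h1 => hcbW (by
          rw [show cb = w⁻¹ * s by rw [← h1]; group]
          exact Subgroup.mul_mem _ (Subgroup.inv_mem _ hwW) hs.2))
      have hwZ : w ∈ β.Z := Subgroup.mem_sup_right hwW
      have hcbZ : cb ∈ β.Z := Subgroup.mem_sup_left hcb
      rcases hcases w hwZ with h1 | h1
      · exact ⟨w, hwZ, hwC, h1⟩
      rcases hcases cb hcbZ with h2 | h2
      · exact ⟨cb, hcbZ, hcbC, h2⟩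
      refine ⟨w * cb, β.Z.mul_mem hwZ hcbZ, hwcC, mul_inv_eq_iff_eq_mul.1 ?_⟩
      calc e * (w * cb) * e⁻¹ = (e * w * e⁻¹) * (e * cb * e⁻¹) := by group
        _ = r * (w * r) * cb := by rw [h1, h2]; group
        _ = _ := by
          rw [(hr' w hwZ).eq, ← mul_assoc r r w, h0.1.ad.comp.2.2.2.2.2 r hr.2, one_mul]
    have hd1 : d ≠ 1 := fun h => hdC (h ▸ Subgroup.one_mem _)
    have hdP : d ∉ zJ P' := fun h => hdC (hfix d h hde)
    have hqd : q₀ * d * q₀⁻¹ = s * d := hadj.2.1.moves_Z hq₀P hq₀c hdZ hdP hs hs1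
    have hss : s * s = 1 := hadj.2.1.ad.comp.2.2.2.2.2 s hs.2
    have hq₀W : q₀ ∈ centralizer (Cfsg.wOf v.K : Set G) := ((hadj.1.Q_eq am).le hq₀).2
    obtain ⟨t, htP, htc, htd⟩ : ∃ t ∈ P', t ∉ centralizer (Cfsg.wOf v.K : Set G) ∧ Commute t d := by
      obtain ⟨t₁, ht₁, ht₁c⟩ := hadj.1.ad.exists_mover
      rcases hsline _ (hadj.2.1.comm_Z hdZ ht₁) with h1 | h1
      · exact ⟨t₁, ht₁, ht₁c, mul_inv_eq_iff_eq_mul.1 (mul_inv_eq_one.1 h1)⟩
      refine ⟨q₀ * t₁, P'.mul_mem hq₀P ht₁, fun h => ht₁c ?_, mul_inv_eq_iff_eq_mul.1 ?_⟩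
      · simpa using Subgroup.mul_mem _ (Subgroup.inv_mem _ hq₀W) h
      · have h2 : Commute q₀ s := hadj.2.1.zJ_cent hq₀P hs.1
        calc q₀ * t₁ * d * (q₀ * t₁)⁻¹ = q₀ * (t₁ * d * t₁⁻¹) * q₀⁻¹ := by group
          _ = (q₀ * s) * d * q₀⁻¹ := by rw [mul_inv_eq_iff_eq_mul.1 h1]; group
          _ = s * (q₀ * d * q₀⁻¹) := by rw [h2.eq]; group
          _ = d := by rw [hqd, ← mul_assoc, hss, one_mul]
    have hwl' : ∀ y ∈ wl P' v.K, y = 1 ∨ y = w' := fun y hy =>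
      (em (y = 1)).imp id fun hy1 => eq_of_card_two (card_wl hadj.1.ad.comp hadj.1.ad.p2) hy hy1 hw' hw'1
    have hrl : r ∉ wl P' v.K := fun h => (hwl' r h).elim hr1 (Ne.symm hw'r)
    obtain ⟨k, hk, hdk⟩ := hadj.2.1.ad.Z_mem_conj (hadj.2.1.Z_eq ▸ hdZ)
    have hinc := hadj.2.1.of_L (hadj.2.1.K_le_L hk)
    have heC : e ∈ centralizer ({d} : Set G) := Subgroup.mem_centralizer_singleton_iff.2 hde.eq
    have htC : t ∈ centralizer ({d} : Set G) := Subgroup.mem_centralizer_singleton_iff.2 htd.eq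
    have he2 : ∃ n : ℕ, e ^ 2 ^ n = 1 := exists_pow_eq_one h0.1.ad.p2 heE
    have ht2 : ∃ n : ℕ, t ^ 2 ^ n = 1 := exists_pow_eq_one hadj.1.ad.p2 htP
    have heW : e ∈ normalizer (Cfsg.wOf v.K : Set G) := nzK_le_nzW h0.1.ad.comp (h0.1.P_le_L heE).1
    have htW : t ∈ normalizer (Cfsg.wOf v.K : Set G) := nzK_le_nzW h0.1.ad.comp (hadj.1.P_le_L htP).1
    rcases Γ.cpt hinc.1 d hdk hd1 with ⟨R, hR, hRc⟩ | ⟨X, hX, hdX⟩
    · obtain ⟨y, hy, hy1, hyc⟩ := exists_fixed (p := 2) (Thompson.isPGroup_of_elementary (W_elem h0.1.ad.comp))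
        (hR.to_le (inf_le_left : R ⊓ normalizer (Cfsg.wOf v.K : Set G) ≤ R)) inf_le_right
        (W_ne_bot h0.1.ad.comp)
      have hye : Commute e y := hyc e ⟨hRc e heC he2, heW⟩
      have hyt : Commute t y := hyc t ⟨hRc t htC ht2, htW⟩
      have hyr : y = r := by
        by_contra h
        have h2 := h0.1.ad.moves heE hec hy (fun h' => (hline0 y h').elim hy1 h) hr hr1
        rw [hye.eq, mul_inv_cancel_right] at h2
        exact hr1 (mul_eq_right.1 h2.symm)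
      have h2 := hadj.1.ad.moves htP htc hr.2 hrl hw' hw'1
      rw [← hyr, hyt.eq, mul_inv_cancel_right] at h2
      exact hw'1 (mul_eq_right.1 h2.symm)
    -- two vertices with the same component
    have hδ : Γ.Inc (cj k P') ⟨X, zc (cj k P') X⟩ := ⟨hX, rfl⟩
    set δ : Vtx G := ⟨X, zc (cj k P') X⟩
    have hδC : Nat.card ↥δ.C = 2 := by rw [← hadj.1.card_zc_eq hδ]; exact hC2
    have hCd : centralizer ({d} : Set G) ≤ δ.L := by
      have hle : centralizer ({d} : Set G) ≤ centralizer (δ.C : Set G) := fun g hg =>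
        Subgroup.mem_centralizer_iff.2 fun y hy => by
          by_cases hy1 : y = 1
          · simp [hy1]
          · rw [eq_of_card_two hδC hy hy1 hdX hd1]
            exact (Subgroup.mem_centralizer_singleton_iff.1 hg).symm
      exact le_inf (hle.trans (Good.cent_le am hδ.ad.p2 hδ.ad.good hδC)) hle
    set c := e * t * e⁻¹ * t⁻¹
    have hcv : c ∈ v.K ⊔ v.Q := by
      have h3 := h0.1.ad.comm_two am (h0.1.L_eq ▸ h0.1.P_le_L heE) he2 (h0.1.L_eq ▸ hadj.1.P_le_L htP) ht2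
      rwa [Vtx.Q, h0.1.L_eq]
    have hcδ : c ∈ X ⊔ δ.Q := hδ.ad.comm_two am (hCd heC) he2 (hCd htC) ht2
    have hcW : c ∉ centralizer (Cfsg.wOf v.K : Set G) := fun h => by
      have h1 : t⁻¹ * w' * t = w' := by
        have h2 := hadj.1.zJ_cent (P'.inv_mem htP) hw'.1
        rw [h2.eq, mul_assoc, inv_mul_cancel, mul_one]
      have hei : e⁻¹ * w' * e = r * w' := by
        have h2 := h0.1.ad.moves ((E 0).inv_mem heE) (fun h' => hec (by simpa using Subgroup.inv_mem _ h'))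
          hw'.2 hw'l hr hr1
        simpa using h2
      have ht : t * r * t⁻¹ = w' * r := hadj.1.ad.moves htP htc hr.2 hrl hw' hw'1
      have hcr : Commute w' r := W_comm h0.1.ad.comp hw'.2 hr.2
      have hct : t * (r * w') * t⁻¹ = r := by
        calc t * (r * w') * t⁻¹ = (t * r * t⁻¹) * (t * w' * t⁻¹) := by group
          _ = w' * r * w' := by rw [ht, (hadj.1.zJ_cent htP hw'.1).eq, mul_inv_cancel_right]
          _ = r := by rw [hcr.eq, mul_assoc, h0.1.ad.comp.2.2.2.2.2 w' hw'.2, mul_one]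
      have hcw : c * w' * c⁻¹ = r := by
        calc c * w' * c⁻¹ = e * (t * (e⁻¹ * (t⁻¹ * w' * t) * e) * t⁻¹) * e⁻¹ := by simp only [c]; group
          _ = r := by
            rw [h1, hei, hct, (h0.1.zJ_cent heE hr.1).eq, mul_inv_cancel_right]
      have h2 : c * w' * c⁻¹ = w' := by
        rw [← Subgroup.mem_centralizer_iff.1 h w' hw'.2, mul_inv_cancel_right]
      exact hw'r (h2.symm.trans hcw)
    obtain ⟨a, g, ha, hg, hcag, ⟨ka, hka⟩, hgo⟩ := exists_ppart (p := 2) c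
    have hgodd : Odd (orderOf g) := Nat.coprime_two_right.1 hgo
    have hgK : g ∈ v.K := by
      have h3 : g ∈ v.K ⊔ v.Q := Subgroup.zpowers_le.2 hcv hg
      rw [Vtx.Q, h0.1.L_eq] at h3
      exact h0.1.ad.odd_mem_K am h3 hgodd
    have hgX : g ∈ X := hδ.ad.odd_mem_K am (Subgroup.zpowers_le.2 hcδ hg) hgodd
    have haW : a ∈ centralizer (Cfsg.wOf v.K : Set G) := by
      have haKQ : a ∈ v.K ⊔ v.Q := Subgroup.zpowers_le.2 hcv ha
      have haL : a ∈ v.L := sup_le h0.1.K_le_L hQL haKQ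
      have hR : IsPGroup 2 ↥(zpowers a) := IsPGroup.of_card (n := ka) (by rw [Nat.card_zpowers, hka])
      obtain ⟨l, hl', hla⟩ := h0.1.sylow.conj_le hR (Subgroup.zpowers_le.2 haL)
      have h1 : l * a * l⁻¹ ∈ E 0 := hla (conj_mem_cj (Subgroup.mem_zpowers a))
      have h2 : l * a * l⁻¹ ∈ v.K ⊔ v.Q :=
        conj_mem_of_nz (le_nz_sup inf_le_left (le_nz_pCoreOf _) hl') haKQ
      rw [sup_comm, mem_sup_iff_of_nz (hQL.trans inf_le_left)] at h2
      obtain ⟨q, hq, k', hk', e3⟩ := h2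
      have hkE : k' ∈ E 0 := by
        rw [show k' = q⁻¹ * (l * a * l⁻¹) by rw [e3]; group]
        exact (E 0).mul_mem ((E 0).inv_mem (h0.1.Q_le am hq)) h1
      have hkQ : k' ∈ Cfsg.pCoreOf 2 v.K :=
        two_el_mem_Q h0.1.ad.comp hk' (exists_pow_eq_one h0.1.ad.p2 hkE)
      have h4 : l * a * l⁻¹ ∈ centralizer (Cfsg.wOf v.K : Set G) := by
        rw [e3]
        exact Subgroup.mul_mem _ ((h0.1.Q_eq am).le hq).2
          (Subgroup.mem_centralizer_iff.2 fun y hy => (Q_comm_W h0.1.ad.comp hkQ hy).eq.symm)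
      have hn : v.L ≤ normalizer ((centralizer (Cfsg.wOf v.K : Set G) : Subgroup G) : Set G) :=
        le_nz_centralizer (inf_le_left.trans (nzK_le_nzW h0.1.ad.comp))
      have := conj_mem_of_nz (hn (v.L.inv_mem hl')) h4
      simpa [mul_assoc] using this
    have hgW : g ∉ centralizer (Cfsg.wOf v.K : Set G) := fun h => hcW (hcag ▸ Subgroup.mul_mem _ haW h)
    have hg1 : g ≠ 1 := fun h => hgW (h ▸ Subgroup.one_mem _)
    have hg3 : orderOf g = 3 := odd_order_three h0.1.ad.comp hgK hgodd hg1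
    -- the common subgroup of index 2
    set D := v.Q ⊓ centralizer ({d} : Set G)
    have hidx : D.relIndex v.Q = 2 := by
      rw [Subgroup.inf_relIndex_left, Subgroup.relIndex, Subgroup.index_eq_two_iff]
      refine ⟨⟨q₀, hq₀⟩, fun y => ?_⟩
      have hyP : (y : G) ∈ P' := hadj.1.Q_le am y.2
      have hys : Commute (y : G) s := hadj.2.1.zJ_cent hyP hs.1
      have hiff : ∀ z : G, z ∈ centralizer ({d} : Set G) ↔ z * d * z⁻¹ = d := fun z => by
        rw [Subgroup.mem_centralizer_singleton_iff, mul_inv_eq_iff_eq_mul]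
      simp only [Subgroup.mem_subgroupOf, Subgroup.coe_mul, hiff]
      have e4 : (y : G) * q₀ * d * ((y : G) * q₀)⁻¹ = s * ((y : G) * d * (y : G)⁻¹) := by
        calc (y : G) * q₀ * d * ((y : G) * q₀)⁻¹ = (y : G) * (q₀ * d * q₀⁻¹) * (y : G)⁻¹ := by group
          _ = ((y : G) * s) * d * (y : G)⁻¹ := by rw [hqd]; group
          _ = _ := by rw [hys.eq]; group
      rw [e4]
      rcases hsline _ (hadj.2.1.comm_Z hdZ hyP) with h1 | h1
      · rw [mul_inv_eq_one.1 h1]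
        exact Or.inr ⟨rfl, fun h' => hs1 (mul_eq_right.1 h')⟩
      · rw [mul_inv_eq_iff_eq_mul.1 h1]
        refine Or.inl ⟨?_, fun h' => hs1 (mul_eq_right.1 h')⟩
        rw [← mul_assoc, hss, one_mul]
    have hgd : g ∈ centralizer ({d} : Set G) :=
      Subgroup.zpowers_le.2 (Subgroup.mul_mem _ (Subgroup.mul_mem _ (Subgroup.mul_mem _ heC htC)
        (Subgroup.inv_mem _ heC)) (Subgroup.inv_mem _ htC)) hg
    have hgQ : g ∈ normalizer (v.Q : Set G) := le_nz_pCoreOf _ (h0.1.K_le_L hgK)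
    have hgD : g ∈ normalizer (D : Set G) :=
      le_nz_inf (N := v.L ⊓ centralizer ({d} : Set G)) (inf_le_left.trans (le_nz_pCoreOf _))
        (inf_le_right.trans Subgroup.le_normalizer) ⟨h0.1.K_le_L hgK, hgd⟩
    have hD2 : IsPGroup 2 D := (isPGroup_pCoreOf _).to_le inf_le_left
    have hDL : D ≤ δ.L := inf_le_right.trans hCd
    have hDδ : D ≤ δ.Q := hδ.two_le_Q am hD2 (le_inf hDL
      (two_group_cent hδ.ad.comp hgX hg3 hD2 hgD (hDL.trans (inf_le_left.trans (nzK_le_nzW hδ.ad.comp)))))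
    have hcardQ : Nat.card δ.Q = Nat.card v.Q := by
      have e1 := hδ.card_Q am
      have e2 := hadj.1.card_Q am
      have e3 := hadj.1.card_eq hδ
      omega
    have hidx' : D.relIndex δ.Q = 2 := by
      have e1 := card_mul_relIndex' hDδ
      have e2 := card_mul_relIndex' (inf_le_left : D ≤ v.Q)
      rw [hidx] at e2
      rw [hcardQ, ← e2] at e1
      exact Nat.eq_of_mul_eq_mul_left Nat.card_pos e1
    have hcore : ∀ {P : Subgroup G} {u : Vtx G}, Γ.Inc P u → Cfsg.pCoreOf 2 u.K ≤ u.Q := fun {P u} hi =>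
      hi.two_le_Q am (isPGroup_pCoreOf _) (le_inf ((pCoreOf_le _).trans hi.K_le_L)
        fun q hq => Subgroup.mem_centralizer_iff.2 fun y hy => (Q_comm_W hi.ad.comp hq hy).eq.symm)
    have eK : v.K = X := by
      rw [comp_odd_closure h0.1.ad.comp hgK hg3 (isPGroup_pCoreOf _) (hcore h0.1) (hQL.trans inf_le_left)
          hgQ inf_le_left hidx hgD]
      exact (comp_odd_closure hδ.ad.comp hgX hg3 (isPGroup_pCoreOf _) (hcore hδ)
          ((pCoreOf_le _).trans inf_le_left) (le_nz_pCoreOf _ (hδ.K_le_L hgX)) hDδ hidx' hgD).symm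
    have heq : v = δ := eq_of_K am h0.1 hδ hSgl (show v.K = δ.K from eK)
    exact hdC (heq ▸ hdX)
  · -- the new separating walk
    obtain ⟨n, rfl⟩ : ∃ n, b = n + 2 := ⟨b - 2, by omega⟩
    have hne' : ¬ β.Z ≤ (f (n + 1)).Q := hcase
    obtain ⟨-, -, -, -, -, -, -, hlines'⟩ := step_two am hb2 hb hw1 hne'
    change wl (E n) (f (n + 1)).K = wl P' β.K at hlines'
    have hn := hw n (by omega)
    have hsC : s ∈ v.C := by
      refine hfix s hs.1 ?_
      have hsZ : s ∈ (f (n + 1)).Z := hn.2.1.zJ_le_Z (hlines'.ge hs).1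
      have heQ : e ∈ (f (n + 1)).Q :=
        low_rev am hb hw (i := n + 1) (j := n + 2) (by omega) le_rfl (by omega) heZ
      exact (Subgroup.mem_centralizer_iff.1 (hn.2.1.Q_cent_Z am heQ) s hsZ).symm
    have hC2 : Nat.card ↥v.C = 2 := by
      refine le_antisymm h0.1.card_le ?_
      by_contra hlt
      have := Nat.card_pos (α := ↥v.C)
      exact hs1 (Subgroup.mem_bot.1 (Subgroup.card_eq_one.1 (show Nat.card ↥v.C = 1 by omega) ▸ hsC))
    have hCs : wl P' β.K = v.C := eq_of_two_two (card_wl hadj.2.1.ad.comp hadj.2.1.ad.p2) hC2 hs hsC hs1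
    refine ⟨hC2, hadj.2.2.2.1 hCs, ?_, x, hxL, hCs, hadj, hne'⟩
    have h := congrArg (cj x⁻¹) hCs
    rw [show wl P' β.K = cj x (wl (E 0) (f 1).K) from wl_cj x _ _, cj_inv_cj] at h
    rw [h]
    exact cj_eq_of_mem_nz (centralizer_le_nz _ (v.L.inv_mem hxL).2)

end Geo

end Cfsg.Agent.Lib.LocalChar.JComp
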