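import Cfsg.Agent.Lib.LocalChar.JUnique

/-! `N(K) = N(W_K)` for `K ∈ 𝒦₀(T)`, and conjugation of components. -/

set_option autoImplicit false
set_option linter.unusedSectionVars false
open scoped commutatorElement
open Subgroup (centralizer normalizer zpowers)

namespace Cfsg.Agent.Lib.LocalChar.JComp

variable {G : Type*} [Group G] [Finite G] {T L K : Subgroup G}

local notation "𝐉" T:max => Cfsg.thompsonSubgroupOf 2 T

theorem cj_cj_inv (g : G) (A : Subgroup G) : cj g (cj g⁻¹ A) = A := by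
  rw [cj_cj, mul_inv_cancel, cj_one]

theorem cj_inv_cj (g : G) (A : Subgroup G) : cj g⁻¹ (cj g A) = A := by
  rw [cj_cj, inv_mul_cancel, cj_one]

theorem jset_cj_image {g : G} {S A : Subgroup G} (hA : A ∈ jset S) : cj g A ∈ jset (cj g S) := by
  refine ⟨Thompson.isElementaryAbelian_map _ hA.1, cj_mono hA.2.1, fun B hB hBS => ?_⟩
  have h := hA.2.2 _ (Thompson.isElementaryAbelian_map (MulAut.conj g⁻¹).toMonoidHom hB)
    ((cj_mono hBS).trans_eq (cj_inv_cj g S))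
  rw [card_cj]
  exact (card_cj g⁻¹ B).ge.trans h

theorem thompsonOf_cj (g : G) (S : Subgroup G) : 𝐉 (cj g S) = cj g (𝐉 S) := by
  have key : ∀ (g : G) (S : Subgroup G), cj g (𝐉 S) ≤ 𝐉 (cj g S) := by
    intro g S
    rw [thompsonOf_eq S, cj, Subgroup.map_le_iff_le_comap]
    exact sSup_le fun A hA => Subgroup.map_le_iff_le_comap.1 (jset_le (jset_cj_image hA))
  refine le_antisymm ?_ (key g S)
  have h := cj_mono (g := g) (key g⁻¹ (cj g S))
  rwa [cj_inv_cj, cj_cj_inv] at h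

/-- If `J(P) = J(T)` the largest elementary abelian subgroups of `T` are those of `P`. -/
theorem jset_of_thompson_eq {P A : Subgroup G} (h : 𝐉 P = 𝐉 T) (hA : A ∈ jset T) : A ∈ jset P := by
  refine ⟨hA.1, ((jset_le hA).trans h.ge).trans (thompsonOf_le P), fun B hB hBP => ?_⟩
  obtain ⟨C, hC⟩ := jset_nonempty P
  exact (hC.2.2 B hB hBP).trans (hA.2.2 C hC.1 (((jset_le hC).trans h.le).trans (thompsonOf_le T)))

theorem component_congr {T₁ T₂ : Subgroup G} (h : 𝐉 T₁ = 𝐉 T₂) (hK : Cfsg.IsJComponent T₁ K) :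
    Cfsg.IsJComponent T₂ K := by
  unfold Cfsg.IsJComponent at hK ⊢
  rwa [h] at hK

theorem wOf_cj (g : G) (K : Subgroup G) : Cfsg.wOf (cj g K) = cj g (Cfsg.wOf K) := by
  show ⁅omZ 2 (Cfsg.pCoreOf 2 (cj g K)), cj g K⁆ = cj g ⁅omZ 2 (Cfsg.pCoreOf 2 K), K⁆
  rw [pCoreOf_cj, omZ_cj, cj_commutator]

theorem relIndex_cj (g : G) (A B : Subgroup G) : (cj g A).relIndex (cj g B) = A.relIndex B :=
  Subgroup.relIndex_map_map_of_injective _ _ (MulAut.conj g).injective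

theorem isSylowTwoIn_cj {g : G} {S H : Subgroup G} (h : Cfsg.IsSylowTwoIn S H) :
    Cfsg.IsSylowTwoIn (cj g S) (cj g H) :=
  ⟨cj_mono h.1, isPGroup_cj h.2.1, by rw [relIndex_cj]; exact h.2.2⟩

theorem component_cj (g : G) (hK : Cfsg.IsJComponent T K) : Cfsg.IsJComponent (cj g T) (cj g K) := by
  obtain ⟨h1, h2, h3, h4, h5, h6⟩ := hK
  refine ⟨closure_odd_cj h1 g, ?_, ?_, fun S hS hJS => ?_, ?_, ?_⟩
  · rw [thompsonOf_cj, ← cj_commutator, h2]
  · rw [pCoreOf_cj, relIndex_cj, h3]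
  · rw [thompsonOf_cj] at hS hJS ⊢
    have e : cj g K ⊔ cj g (𝐉 T) = cj g (K ⊔ 𝐉 T) := (Subgroup.map_sup _ _ _).symm
    rw [e] at hS
    have hS' := isSylowTwoIn_cj (g := g⁻¹) hS
    rw [cj_inv_cj] at hS'
    have hJS' := cj_mono (g := g⁻¹) hJS
    rw [cj_inv_cj] at hJS'
    have := congrArg (cj g) (h4 _ hS' hJS')
    rwa [← thompsonOf_cj, cj_cj_inv] at this
  · rw [wOf_cj, card_cj, h5]
  · rw [wOf_cj]
    rintro _ ⟨w, hw, rfl⟩
    rw [← map_mul, h6 w hw, map_one]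

theorem W_le_of_two' (hK : Cfsg.IsJComponent T K) {x d : G} {Y : Subgroup G} (hxK : x ∈ K)
    (hx : orderOf x = 3) (hd : d ∈ Cfsg.wOf K) (hd1 : d ≠ 1) (hY : d ∈ Y) (hY' : x * d * x⁻¹ ∈ Y) :
    Cfsg.wOf K ≤ Y := by
  have hd' : x * d * x⁻¹ ∈ Cfsg.wOf K := conj_mem_of_nz (H_le_nzW hK (Subgroup.mem_sup_left hxK)) hd
  have hsub : ({1, d, x * d * x⁻¹} : Set G) ⊆ ((Cfsg.wOf K ⊓ Y : Subgroup G) : Set G) := by
    rintro _ (rfl | rfl | rfl)
    exacts [one_mem _, ⟨hd, hY⟩, ⟨hd', hY'⟩]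
  have hne : x * d * x⁻¹ ≠ d := fun h => hd1 (fix_free hK hxK hx hd (mul_inv_eq_iff_eq_mul.1 h))
  have hne1 : (1 : G) ≠ x * d * x⁻¹ := fun h => hd1 (conj_eq_one_iff.1 h.symm)
  have h3 := Set.ncard_le_ncard hsub (Set.toFinite _)
  rw [Set.ncard_insert_of_notMem (by simp [Ne.symm hd1, hne1]), Set.ncard_pair (Ne.symm hne),
    ← Nat.card_coe_set_eq] at h3
  have h4 : Nat.card ↥(Cfsg.wOf K ⊓ Y) ∣ 4 := hK.2.2.2.2.1 ▸ Subgroup.card_dvd_of_le inf_le_left
  change 3 ≤ Nat.card ↥(Cfsg.wOf K ⊓ Y) at h3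
  have h5 : Nat.card ↥(Cfsg.wOf K ⊓ Y) = 4 := by
    have h6 := Nat.le_of_dvd (by norm_num) h4
    rcases Nat.eq_or_lt_of_le h6 with h8 | h8
    · exact h8
    · rw [show Nat.card ↥(Cfsg.wOf K ⊓ Y) = 3 by omega] at h4
      norm_num at h4
  exact inf_eq_left.1 (Subgroup.eq_of_le_of_card_ge inf_le_left (by rw [h5, hK.2.2.2.2.1]))

/-- A 2-group normalised by `x` and normalising `W` centralises `W`. -/
theorem two_group_cent (hK : Cfsg.IsJComponent T K) {x : G} (hxK : x ∈ K) (hx : orderOf x = 3)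
    {R : Subgroup G} (hR : IsPGroup 2 R) (hxR : x ∈ normalizer (R : Set G))
    (hRW : R ≤ normalizer (Cfsg.wOf K : Set G)) : R ≤ centralizer (Cfsg.wOf K : Set G) := by
  set W := Cfsg.wOf K
  set S := W ⊔ R
  have hW2 : IsPGroup 2 W := Thompson.isPGroup_of_elementary (W_elem hK)
  have hWS : W ≤ S := le_sup_left
  have hnS : S ≤ normalizer (W : Set G) := sup_le Subgroup.le_normalizer hRW
  haveI : Group.IsNilpotent S := (hW2.to_sup_of_normal_left' hR hRW).isNilpotent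
  have hne : W.subgroupOf S ≠ ⊥ := fun h => W_ne_bot hK ((Subgroup.eq_bot_iff_forall _).2 fun w hw =>
    congrArg Subtype.val ((Subgroup.eq_bot_iff_forall _).1 h ⟨w, hWS hw⟩ hw))
  obtain ⟨⟨d, hdS⟩, hd, hd1⟩ := (Subgroup.bot_or_exists_ne_one _).resolve_left
    (S0065.inf_center_ne_bot (normal_subgroupOf hnS) hne)
  have hfix : ∀ r ∈ R, r * d = d * r := fun r hr =>
    congrArg Subtype.val (Subgroup.mem_center_iff.1 hd.2 ⟨r, Subgroup.mem_sup_right hr⟩)
  have h := W_le_of_two' hK (Y := centralizer (R : Set G)) hxK hx (show d ∈ W from hd.1) (fun h => hd1 (Subtype.ext h))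
    (Subgroup.mem_centralizer_iff.2 hfix) (Subgroup.mem_centralizer_iff.2 fun r hr => by
      have hr' : x⁻¹ * r * x ∈ R := by simpa using conj_mem_of_nz (Subgroup.inv_mem _ hxR) hr
      calc r * (x * d * x⁻¹) = x * ((x⁻¹ * r * x) * d) * x⁻¹ := by group
        _ = x * (d * (x⁻¹ * r * x)) * x⁻¹ := by rw [hfix _ hr']
        _ = _ := by group)
  exact Subgroup.le_centralizer_iff.1 h

/-- `L = N(W)` is an overgroup for a Sylow subgroup `P` with `J(P) = J(T)`. -/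
theorem exists_normalizer_data (am : Amb G) (hT : IsPGroup 2 T) (hK : K ∈ Cfsg.jComponentsZero T) :
    ∃ P : Subgroup G, 𝐉 P = 𝐉 T ∧ Cfsg.IsJComponent P K ∧
      normalizer (Cfsg.wOf K : Set G) ∈ Cfsg.jOvergroups P := by
  set W := Cfsg.wOf K
  set L := normalizer (W : Set G) with hLdef
  obtain ⟨hKc, hzero⟩ := hK
  have hJL : 𝐉 T ≤ L := le_sup_right.trans (H_le_nzW hKc)
  obtain ⟨P, hP, hJP⟩ := exists_isSylowIn_ge (p := 2) (hT.to_le (thompsonOf_le T)) hJL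
  have hPe : 𝐉 P = 𝐉 T := hzero P hJP (isSylowTwoIn_iff.2 hP)
  refine ⟨P, hPe, component_congr hPe.symm hKc, isSylowTwoIn_iff.2 hP, ?_, ?_⟩
  · obtain ⟨x, hxK, hx⟩ := exists_three hKc
    have hxL : x ∈ L := H_le_nzW hKc (Subgroup.mem_sup_left hxK)
    have := two_group_cent hKc hxK hx (R := Cfsg.pCoreOf 2 L) (isPGroup_pCoreOf L)
      (le_nz_pCoreOf L hxL) (pCoreOf_le L)
    rw [hPe]
    exact fun h => not_J_le_centW hKc (h.trans this)
  · have hW2 : IsPGroup 2 W := Thompson.isPGroup_of_elementary (W_elem hKc)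
    have hWO : W ≤ Cfsg.pCoreOf 2 L := le_pCoreOf Subgroup.le_normalizer le_rfl hW2
    intro g hg
    have hgW : g ∈ L := Subgroup.mem_normalizer_iff.2 fun w => by
      constructor
      · intro hw
        rw [← Subgroup.mem_centralizer_iff.1 hg w (hWO hw), mul_inv_cancel_right]; exact hw
      · intro hw
        have h1 := Subgroup.mem_centralizer_iff.1 hg _ (hWO hw)
        have : g * w * g⁻¹ = w := by
          calc g * w * g⁻¹ = g⁻¹ * ((g * w * g⁻¹) * g) * 1 := by rw [← h1.symm]; group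
            _ = w := by group
        rwa [this] at hw
    exact charP_iff.1 (am.ch.2 W hW2 (W_ne_bot hKc)) ⟨hgW, hg⟩

theorem normalizer_eq (am : Amb G) (hT : IsPGroup 2 T) (hK : K ∈ Cfsg.jComponentsZero T) :
    normalizer (K : Set G) = normalizer (Cfsg.wOf K : Set G) := by
  refine le_antisymm (nzK_le_nzW hK.1) fun g hg => ?_
  obtain ⟨P, hPe, hKP, hLP⟩ := exists_normalizer_data am hT hK
  set L := normalizer (Cfsg.wOf K : Set G)
  have hKL : K ≤ L := le_sup_left.trans (H_le_nzW hK.1)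
  obtain ⟨w, hw, hw1⟩ := (Subgroup.bot_or_exists_ne_one _).resolve_left (W_ne_bot hK.1)
  have hback : ∀ s ∈ L, s⁻¹ * w * s ∈ Cfsg.wOf K := fun s hs => by
    simpa using conj_mem_of_nz (L.inv_mem hs) hw
  have hPK : P ≤ normalizer (K : Set G) := fun s hs =>
    mem_nzK am hLP hKP hKL (hLP.1.1 hs) (nz_le_nz_thompson P (Subgroup.le_normalizer hs)) hw hw1
      (hback s (hLP.1.1 hs))
  have hJLK := JL_le_nzK am hLP hKP hKL hPK
  refine conj_le am hLP hKP hKL hg (conj_le_sup am hLP hKP hKL hg hw hw1 (hback g hg)) ?_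
  exact (cj_le_iff.2 fun j hj => conj_mem_of_nz
    (Subgroup.le_normalizer.trans (nz_le_nz_thompson L) hg) (J_le_JL am hLP hj)).trans hJLK

theorem component_of_conj (am : Amb G) (hT : IsPGroup 2 T) (hK : K ∈ Cfsg.jComponentsZero T) (g : G)
    (hg : 𝐉 (cj g T) ≤ normalizer (Cfsg.wOf K : Set G)) : Cfsg.IsJComponent (cj g T) K := by
  obtain ⟨P, hPe, -, hLP⟩ := exists_normalizer_data am hT hK
  obtain ⟨P', hP', hJP'⟩ := exists_isSylowIn_ge (p := 2) ((isPGroup_cj hT).to_le (thompsonOf_le _)) hg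
  obtain ⟨x, hx, e⟩ := hP'.conj_eq (isSylowTwoIn_iff.1 hLP.1)
  have hle : 𝐉 (cj g T) ≤ 𝐉 P' := by
    rw [thompsonOf_eq (cj g T)]
    refine sSup_le fun A hA => jset_le ⟨hA.1, (jset_le hA).trans hJP', fun B hB hBP => ?_⟩
    have h1 : cj g⁻¹ A ∈ jset P := by
      have := jset_cj_image (g := g⁻¹) hA
      rw [cj_inv_cj] at this
      exact jset_of_thompson_eq hPe this
    have h2 := h1.2.2 _ (Thompson.isElementaryAbelian_map (MulAut.conj x⁻¹).toMonoidHom hB)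
      (show cj x⁻¹ B ≤ P from (cj_mono hBP).trans_eq (by rw [← e, cj_inv_cj]))
    exact (card_cj x⁻¹ B).ge.trans (h2.trans (card_cj g⁻¹ A).le)
  have heq : 𝐉 (cj g T) = cj x (𝐉 T) := by
    have hP'e : 𝐉 P' = cj x (𝐉 T) := by rw [← e, thompsonOf_cj, hPe]
    rw [← hP'e]
    refine Subgroup.eq_of_le_of_card_ge hle (le_of_eq ?_)
    rw [hP'e, thompsonOf_cj, card_cj, card_cj]
  have h := component_cj x hK.1
  have hxK : x ∈ normalizer (K : Set G) := (normalizer_eq am hT hK).ge hx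
  rw [cj_eq_of_mem_nz hxK] at h
  exact component_congr (by rw [thompsonOf_cj x T]; exact heq.symm) h

end Cfsg.Agent.Lib.LocalChar.JComp
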