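import Cfsg.Agent.Lib.LocalChar.JConj

/-! Existence of `J(T)`-components in an overgroup `L ∈ ℒ(T)`. -/

set_option autoImplicit false
set_option linter.unusedSectionVars false
open scoped commutatorElement
open Subgroup (centralizer normalizer zpowers)

namespace Cfsg.Agent.Lib.LocalChar.JComp

variable {G : Type*} [Group G] [Finite G] {T L : Subgroup G}

local notation "𝐉" T:max => Cfsg.thompsonSubgroupOf 2 T

/-- The factor of a transvection, in `G`. -/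
def IsFactor (L M : Subgroup G) (t : G) (N : Subgroup G) : Prop :=
  cOf L ≤ N ∧ N ≤ M ∧ (∀ j ∈ 𝐉 L, ∀ n ∈ N, j * n * j⁻¹ ∈ N) ∧ (∀ u ∈ M, u * t * u⁻¹ * t⁻¹ ∈ N) ∧
    (∀ x ∈ N, x ∉ cOf L → ∀ n ∈ N, ∃ e : ℕ, (x ^ e)⁻¹ * n ∈ cOf L) ∧
    ∃ y ∈ 𝐉 L, Odd (orderOf y) ∧ y * t * y⁻¹ * t⁻¹ ∉ cOf L

theorem cube_conj {H : Type*} [Group H] {x v w : H} (e1 : x * v * x⁻¹ = w * v) (hwx : x * w * x⁻¹ = w) :
    x ^ 3 * v * (x ^ 3)⁻¹ = w * w * w * v := by
  have e2 : x * (x * v * x⁻¹) * x⁻¹ = w * w * v := by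
    rw [e1, show x * (w * v) * x⁻¹ = (x * w * x⁻¹) * (x * v * x⁻¹) by group, hwx, e1, mul_assoc]
  calc x ^ 3 * v * (x ^ 3)⁻¹ = x * (x * (x * v * x⁻¹) * x⁻¹) * x⁻¹ := by
        simp only [pow_succ, pow_zero, one_mul]; group
    _ = x * (w * w * v) * x⁻¹ := by rw [e2]
    _ = (x * w * x⁻¹) * (x * w * x⁻¹) * (x * v * x⁻¹) := by group
    _ = _ := by rw [hwx, e1]; simp only [mul_assoc]

theorem centralizer_le_nz (H : Subgroup G) : centralizer (H : Set G) ≤ normalizer (H : Set G) := fun g hg =>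
  mem_nz_of_cj_le (cj_le_iff.2 fun h hh => by rw [← Subgroup.mem_centralizer_iff.1 hg h hh, mul_inv_cancel_right]; exact hh)

variable (am : Amb G) (hLT : L ∈ Cfsg.jOvergroups T)
include am hLT

theorem JL_le_relCent0 :
    𝐉 L ≤ relCent L (cOf L) (Cfsg.pCoreOf 2 L) (L_le_nzC L) (le_nz_pCoreOf L) := by
  set R := relCent L (cOf L) (Cfsg.pCoreOf 2 L) (L_le_nzC L) (le_nz_pCoreOf L)
  rw [thompsonOf_eq]
  refine sSup_le fun A hA a ha => ?_
  obtain ⟨l, hl, hle⟩ := (hTsyl am hLT).conj_le (Thompson.isPGroup_of_elementary hA.1) hA.2.1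
  have h1 : l * a * l⁻¹ ∈ T := hle (conj_mem_cj ha)
  have h2 : l * a * l⁻¹ ∈ R := ⟨(hTsyl am hLT).1 h1, fun c hc => by
    have := (Cfsg.pCoreOf 2 L).inv_mem (comm_cOf_T am hLT hc h1)
    convert this using 1
    group⟩
  have := conj_mem_of_nz (relCent_le_nz L _ _ (L_le_nzC L) (le_nz_pCoreOf L) (L.inv_mem hl)) h2
  simpa [mul_assoc] using this

theorem exists_layer_gen : ∃ M : Subgroup G, M ≤ L ∧ L ≤ normalizer (M : Set G) ∧ cOf L ≤ M ∧
    (∀ a ∈ M, ∀ b ∈ M, a * b * a⁻¹ * b⁻¹ ∈ cOf L) ∧ (∀ a ∈ M, a ^ 3 ∈ cOf L) ∧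
    (∀ g ∈ 𝐉 L, Odd (orderOf g) → g ∈ M) ∧ (∀ a ∈ 𝐉 L, ∀ b ∈ 𝐉 L, a * b * a⁻¹ * b⁻¹ ∈ M) ∧
    ∀ A ∈ jset T, A ≤ Subgroup.closure {t | t ∈ A ∧ (t ∈ cOf L ∨ ∃ N, IsFactor L M t N)} := by
  haveI : ((vOf L).subgroupOf L).Normal := normal_subgroupOf (L_le_nzV L)
  obtain ⟨M, hM, hCM, hab, h3, hodd, hJJ, hgen⟩ := JOddLayer.exists_layer_full ((vOf L).subgroupOf L)
    (V_sub_elem am hLT) (pSolvable_L am hLT) (core_quotient am hLT)
  refine ⟨M.map L.subtype, Subgroup.map_subtype_le _, ?_, fun c hc =>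
    ⟨⟨c, hc.1⟩, hCM ((mem_centralizer_sub am hLT).2 hc), rfl⟩, ?_, ?_, ?_, ?_, ?_⟩
  · rw [le_nz_iff]
    rintro l hl _ ⟨m, hm, rfl⟩
    exact ⟨⟨l, hl⟩ * m * ⟨l, hl⟩⁻¹, hM.conj_mem _ hm _, rfl⟩
  · rintro _ ⟨a, ha, rfl⟩ _ ⟨b, hb, rfl⟩
    exact (mem_centralizer_sub am hLT).1 (hab a ha b hb)
  · rintro _ ⟨a, ha, rfl⟩
    exact (mem_centralizer_sub am hLT).1 (h3 a ha)
  · rintro _ ⟨g, hg, rfl⟩ ho
    exact ⟨g, hodd g hg (by rwa [Subgroup.coe_subtype, Subgroup.orderOf_coe] at ho), rfl⟩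
  · rintro _ ⟨a, ha, rfl⟩ _ ⟨b, hb, rfl⟩
    exact ⟨⁅a, b⁆, hJJ a ha b hb, rfl⟩
  intro A hA
  have hA' := jset_T_L am hLT hA
  have h := Subgroup.map_mono (f := L.subtype) (hgen _ (subgroupOf_mem hA'))
  rw [Subgroup.map_subgroupOf_eq_of_le hA'.2.1, MonoidHom.map_closure] at h
  refine h.trans ((Subgroup.closure_le _).2 ?_)
  rintro _ ⟨t, ⟨htA, ht⟩, rfl⟩
  refine Subgroup.subset_closure ⟨htA, ?_⟩
  rcases ht with ht | ⟨N, hCN, hNM, hJN, hu, hcyc, y, hy, hyo, hyc⟩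
  · exact Or.inl ((mem_centralizer_sub am hLT).1 ht)
  refine Or.inr ⟨N.map L.subtype, fun c hc => ⟨⟨c, hc.1⟩, hCN ((mem_centralizer_sub am hLT).2 hc), rfl⟩,
    Subgroup.map_mono hNM, ?_, ?_, ?_, ?_⟩
  · rintro _ ⟨j, hj, rfl⟩ _ ⟨n, hn, rfl⟩
    exact ⟨j * n * j⁻¹, hJN j hj n hn, rfl⟩
  · rintro _ ⟨u, hu', rfl⟩
    exact ⟨⁅u, t⁆, hu u hu', rfl⟩
  · rintro _ ⟨x, hx, rfl⟩ hxc _ ⟨n, hn, rfl⟩
    obtain ⟨e, he⟩ := hcyc x hx (fun h => hxc ((mem_centralizer_sub am hLT).1 h)) n hn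
    exact ⟨e, (mem_centralizer_sub am hLT).1 he⟩
  · refine ⟨y, Subgroup.mem_map_of_mem _ hy, by rwa [Subgroup.orderOf_coe], fun h => hyc ?_⟩
    exact (mem_centralizer_sub am hLT).2 (by simpa [commutatorElement_def] using h)

theorem jset_card_le {A E B : Subgroup G} (hA : A ∈ jset T) (hB : B ≤ A)
    (hE : Cfsg.IsElementaryAbelian 2 E) (hET : E ≤ T) (hc : ∀ b ∈ B, ∀ e ∈ E, b * e = e * b) :
    Nat.card B * Nat.card E ≤ Nat.card A * Nat.card ↥(B ⊓ E) := by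
  have hsup : Cfsg.IsElementaryAbelian 2 (B ⊔ E) :=
    Thompson.isElementaryAbelian_sup (Thompson.isElementaryAbelian_le hA.1 hB) hE hc
  have hn : B ≤ normalizer (E : Set G) := fun b hb => centralizer_le_nz E
    (Subgroup.mem_centralizer_iff.2 fun e he => (hc b hb e he).symm)
  rw [← Coprime.card_sup_mul_card_inf_of_le_normalizer hn]
  exact Nat.mul_le_mul_right _ (hA.2.2 _ hsup (sup_le (hB.trans hA.2.1) hET))

/-- The component attached to a transvection. -/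
theorem exists_component_of_factor {A M N : Subgroup G} {t : G}
    (hodd : ∀ g ∈ 𝐉 L, Odd (orderOf g) → g ∈ M)
    (h3 : ∀ a ∈ M, a ^ 3 ∈ cOf L) (hJJ : ∀ a ∈ 𝐉 L, ∀ b ∈ 𝐉 L, a * b * a⁻¹ * b⁻¹ ∈ M)
    (hA : A ∈ jset T) (ht : t ∈ A) (hN : IsFactor L M t N) :
    ∃ K : Subgroup G, Cfsg.IsJComponent T K ∧ K ≤ L ∧ N ≤ cOf L ⊔ K := by
  obtain ⟨hCN, hNM, hJN, hu, hcyc, y, hy, hyo, hyc⟩ := hN
  set O := Cfsg.pCoreOf 2 L
  set C := cOf L
  have hTL : T ≤ L := (hTsyl am hLT).1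
  have hT2 : IsPGroup 2 T := isPGroup_T am hLT
  have hOT : O ≤ T := pCoreOf_le_sylowIn (hTsyl am hLT)
  have hJLL : 𝐉 L ≤ L := thompsonOf_le L
  have htJ : t ∈ 𝐉 T := jset_le hA ht
  have htJL : t ∈ 𝐉 L := J_le_JL am hLT htJ
  have htT : t ∈ T := hA.2.1 ht
  have htt : t * t = 1 := by rw [← pow_two]; exact hA.1.2 t ht
  have hti : t⁻¹ = t := inv_eq_of_mul_eq_one_right htt
  -- the element of order three inverted by `t`
  set p₀ := y * t * y⁻¹ * t⁻¹
  have hp₀N : p₀ ∈ N := hu y (hodd y hy hyo)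
  have hp₀J : p₀ ∈ 𝐉 L := mul_mem (mul_mem (mul_mem hy htJL) (inv_mem hy)) (inv_mem htJL)
  have htp : t * p₀ * t⁻¹ = p₀⁻¹ := by
    calc t * p₀ * t⁻¹ = t * y * t * y⁻¹ * (t * t)⁻¹ := by simp only [p₀]; group
      _ = t * y * t * y⁻¹ := by rw [htt, inv_one, mul_one]
      _ = _ := by
        simp only [p₀]
        calc t * y * t * y⁻¹ = t * y * t⁻¹ * y⁻¹ := by rw [hti]
          _ = _ := by group
  have hc₀ : p₀ ^ 3 ∈ O := by
    set c₀ := p₀ ^ 3
    have hc₀C : c₀ ∈ C := h3 p₀ (hNM hp₀N)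
    have h2 : c₀ ^ 2 ∈ O := by
      have h := comm_cOf_T am hLT hc₀C htT
      have e : c₀ * t * c₀⁻¹ * t⁻¹ = c₀ ^ 2 := by
        calc c₀ * t * c₀⁻¹ * t⁻¹ = c₀ * (t * c₀ * t⁻¹)⁻¹ := by group
          _ = _ := by simp only [c₀]; rw [← conj_pow, htp, inv_pow, inv_inv, pow_two]
      rwa [e] at h
    obtain ⟨n, ⟨m, hm⟩, hn⟩ := odd_cOf am hLT hc₀C
    have key : ∀ c : G, c ^ n = c * (c ^ 2) ^ m := fun c => by rw [hm, pow_succ', pow_mul]
    have e : c₀ = (c₀ ^ n) * ((c₀ ^ 2) ^ m)⁻¹ := by rw [key c₀, mul_inv_cancel_right]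
    rw [e]
    exact O.mul_mem hn (O.inv_mem (O.pow_mem h2 m))
  obtain ⟨k, hk⟩ := exists_pow_eq_one (isPGroup_pCoreOf (p := 2) L) hc₀
  set x := p₀ ^ 2 ^ k
  have hx3 : x ^ 3 = 1 := by rw [← pow_mul, mul_comm, pow_mul]; exact hk
  have hxC : x ∉ C := fun h => hyc (mem_of_pow_coprime (p := 2) (n := 3) (by norm_num) ⟨k, h⟩
    (core_le_cOf L hc₀))
  have hx : orderOf x = 3 := by
    haveI : Fact (Nat.Prime 3) := ⟨by norm_num⟩
    exact orderOf_eq_prime hx3 fun h => hxC (h ▸ one_mem _)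
  have hxN : x ∈ N := N.pow_mem hp₀N _
  have hxJ : x ∈ 𝐉 L := Subgroup.pow_mem _ hp₀J _
  have hxL : x ∈ L := hJLL hxJ
  have htx : t * x * t⁻¹ = x⁻¹ := by simp only [x]; rw [← conj_pow, htp, inv_pow]
  have hxO : x ∉ O := fun h => hxC (core_le_cOf L h)
  set U₀ := O ⊔ zpowers x
  have hxnO : zpowers x ≤ normalizer (O : Set G) := (Subgroup.zpowers_le.2 hxL).trans (le_nz_pCoreOf L)
  have hU₀L : U₀ ≤ L := sup_le (pCoreOf_le L) (Subgroup.zpowers_le.2 hxL)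
  -- the action of `J(T)` on `x`
  have hjx : ∀ j ∈ 𝐉 T, ∃ e : ℕ, (x ^ e)⁻¹ * (j * x * j⁻¹) ∈ O := by
    intro j hj
    have hjJL : j ∈ 𝐉 L := J_le_JL am hLT hj
    obtain ⟨e, he⟩ := hcyc x hxN hxC _ (hJN j hjJL x hxN)
    refine ⟨e, ?_⟩
    have hjL : j ∈ L := hTL (thompsonOf_le T hj)
    haveI : (O.subgroupOf L).Normal := normal_subgroupOf (le_nz_pCoreOf L)
    set π := QuotientGroup.mk' (O.subgroupOf L)
    have hmem : ∀ g : L, (g : G) ∈ O → π g = 1 := fun g hg => (QuotientGroup.eq_one_iff g).2 hg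
    set a := π ⟨x, hxL⟩
    set τ := π ⟨t, hTL htT⟩
    set ι := π ⟨j, hjL⟩
    set γ := π ⟨(x ^ e)⁻¹ * (j * x * j⁻¹), he.1⟩
    have hae : ι * a * ι⁻¹ = a ^ e * γ := by
      rw [← map_inv, ← map_mul, ← map_mul, ← map_pow, ← map_mul]
      congr 1
      exact Subtype.ext (by simp)
    have hτa : τ * a * τ⁻¹ = a⁻¹ := by
      rw [← map_inv, ← map_inv, ← map_mul, ← map_mul]
      congr 1
      exact Subtype.ext (by simpa using htx)
    have hga : Commute a γ := by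
      rw [← commutatorElement_eq_one_iff_commute, ← map_commutatorElement]
      exact hmem _ ((JL_le_relCent0 am hLT hxJ).2 _ he)
    have hgt : Commute τ γ := by
      rw [← commutatorElement_eq_one_iff_commute, ← map_commutatorElement]
      exact hmem _ ((JL_le_relCent0 am hLT htJL).2 _ he)
    have hιτ : Commute τ ι := by
      rw [← commutatorElement_eq_one_iff_commute, ← map_commutatorElement]
      refine hmem _ (T_inf_cOf_le am hLT ?_)
      have hmT : t * j * t⁻¹ * j⁻¹ ∈ T :=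
        T.mul_mem (T.mul_mem (T.mul_mem htT (thompsonOf_le T hj)) (T.inv_mem htT))
          (T.inv_mem (thompsonOf_le T hj))
      obtain ⟨i, hi⟩ := exists_pow_eq_one hT2 hmT
      exact ⟨hmT, mem_of_pow_coprime (p := 2) (n := 3) (by norm_num) ⟨i, show (t * j * t⁻¹ * j⁻¹) ^ 2 ^ i ∈ C by rw [hi]; exact one_mem _⟩
        (h3 _ (hJJ t htJL j hjJL))⟩
    have ha3 : a ^ 3 = 1 := by rw [← map_pow]; exact hmem _ (by simp [hx3])
    have hg3 : γ ^ 3 = 1 := by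
      have := congrArg (· ^ 3) hae
      simp only [conj_pow, ha3, mul_one, mul_inv_cancel] at this
      rw [(hga.pow_left e).mul_pow, ← pow_mul, mul_comm e, pow_mul, ha3, one_pow, one_mul] at this
      exact this.symm
    have hg2 : γ ^ 2 = 1 := by
      have h1 : τ * (ι * a * ι⁻¹) * τ⁻¹ = (ι * a * ι⁻¹)⁻¹ := by
        calc τ * (ι * a * ι⁻¹) * τ⁻¹ = (τ * ι) * a * (τ * ι)⁻¹ := by group
          _ = (ι * τ) * a * (ι * τ)⁻¹ := by rw [hιτ.eq]
          _ = ι * (τ * a * τ⁻¹) * ι⁻¹ := by group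
          _ = _ := by rw [hτa]; group
      rw [hae] at h1
      have h2 : τ * (a ^ e * γ) * τ⁻¹ = (a ^ e)⁻¹ * γ := by
        calc τ * (a ^ e * γ) * τ⁻¹ = (τ * a ^ e * τ⁻¹) * (τ * γ * τ⁻¹) := by group
          _ = _ := by rw [← conj_pow, hτa, inv_pow, hgt.eq, mul_inv_cancel_right]
      rw [h2, mul_inv_rev, (hga.pow_left e).inv_inv.symm.eq, mul_left_cancel_iff] at h1
      rw [pow_two, ← eq_inv_iff_mul_eq_one]; exact h1
    have hg1 : γ = 1 := by rw [pow_succ, hg2, one_mul] at hg3; exact hg3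
    exact (QuotientGroup.eq_one_iff (⟨_, he.1⟩ : L)).1 hg1
  have hJU : 𝐉 T ≤ normalizer (U₀ : Set G) := fun j hj => by
    refine mem_nz_of_cj_le ((Subgroup.map_sup _ _ _).trans_le (sup_le ?_ ?_))
    · exact (cj_eq_of_mem_nz (le_nz_pCoreOf L (hTL (thompsonOf_le T hj)))).le.trans le_sup_left
    · rw [MonoidHom.map_zpowers, Subgroup.zpowers_le]
      obtain ⟨e, he⟩ := hjx j hj
      show j * x * j⁻¹ ∈ U₀
      rw [show j * x * j⁻¹ = x ^ e * ((x ^ e)⁻¹ * (j * x * j⁻¹)) by group]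
      exact U₀.mul_mem (Subgroup.mem_sup_right (Subgroup.pow_mem _ (Subgroup.mem_zpowers x) e))
        (Subgroup.mem_sup_left he)
  set K := resOf 2 U₀
  have hKU : K ≤ U₀ := resOf_le U₀
  have hKL : K ≤ L := hKU.trans hU₀L
  have hJK : 𝐉 T ≤ normalizer (K : Set G) := hJU.trans (nz_le_nz_resOf U₀)
  have hxK : x ∈ K := mem_resOf (Subgroup.mem_sup_right (Subgroup.mem_zpowers x)) (by rw [hx]; norm_num)
  have hKgen : Subgroup.closure {g : G | g ∈ K ∧ Odd (orderOf g)} = K := by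
    refine le_antisymm ((Subgroup.closure_le _).2 fun g hg => hg.1) ?_
    refine le_trans (resOf_eq_closure U₀).le ?_
    exact Subgroup.closure_mono fun g hg => ⟨mem_resOf hg.1 hg.2, Nat.coprime_two_right.1 hg.2⟩
  set Q₀ := K ⊓ O
  have hKdec : ∀ g ∈ K, ∃ q ∈ Q₀, ∃ i : ℕ, g = q * x ^ i := by
    intro g hg
    obtain ⟨o, ho, z, hz, rfl⟩ := (mem_sup_iff_of_nz' hxnO).1 (hKU hg)
    rw [← mem_powers_iff_mem_zpowers] at hz
    obtain ⟨i, rfl⟩ := hz
    exact ⟨o, ⟨by simpa using K.mul_mem hg (K.inv_mem (K.pow_mem hxK i)), ho⟩, i, rfl⟩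
  have hKnO : K ≤ normalizer (O : Set G) := hKL.trans (le_nz_pCoreOf L)
  have hcore : Cfsg.pCoreOf 2 K = Q₀ := by
    refine le_antisymm (fun q hq => ⟨pCoreOf_le K hq, ?_⟩)
      (le_pCoreOf inf_le_left (le_nz_inf Subgroup.le_normalizer hKnO) ((isPGroup_pCoreOf L).to_le inf_le_right))
    obtain ⟨o, ⟨hoK, hoO⟩, i, rfl⟩ := hKdec q (pCoreOf_le K hq)
    have hS : IsPGroup 2 ↥(O ⊔ Cfsg.pCoreOf 2 K) :=
      (isPGroup_pCoreOf L).to_sup_of_normal_left' (isPGroup_pCoreOf K) ((pCoreOf_le K).trans hKnO)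
    have hxi : x ^ i ∈ O ⊔ Cfsg.pCoreOf 2 K := by
      simpa using Subgroup.mul_mem _ (Subgroup.mem_sup_left (O.inv_mem hoO)) (Subgroup.mem_sup_right hq)
    rw [eq_one_of_isPGroup_of_coprime hS hxi
      (Nat.Coprime.coprime_dvd_left (orderOf_pow_dvd i) (by rw [hx]; norm_num)), mul_one]
    exact hoO
  have hidx : (Cfsg.pCoreOf 2 K).relIndex K = 3 := by
    rw [hcore]
    have hxQ : zpowers x ≤ normalizer (Q₀ : Set G) :=
      (Subgroup.zpowers_le.2 hxK).trans (le_nz_inf Subgroup.le_normalizer hKnO)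
    have e : zpowers x ⊔ Q₀ = K := le_antisymm (sup_le (Subgroup.zpowers_le.2 hxK) inf_le_left) fun g hg => by
      obtain ⟨q, hq, i, rfl⟩ := hKdec g hg
      exact Subgroup.mul_mem _ (Subgroup.mem_sup_right hq)
        (Subgroup.mem_sup_left (Subgroup.pow_mem _ (Subgroup.mem_zpowers x) i))
    have hd : zpowers x ⊓ Q₀ = ⊥ := (Subgroup.eq_bot_iff_forall _).2 fun g ⟨hg, hq⟩ => by
      refine eq_one_of_isPGroup_of_coprime (isPGroup_pCoreOf L) hq.2 ?_
      exact Nat.Coprime.coprime_dvd_left (orderOf_dvd_of_mem_zpowers hg) (by rw [hx]; norm_num)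
    have h1 := Coprime.card_sup_mul_card_inf_of_le_normalizer hxQ
    rw [e, hd, Subgroup.card_bot, mul_one, Nat.card_zpowers, hx, mul_comm,
      ← card_mul_relIndex' (inf_le_left : Q₀ ≤ K)] at h1
    exact Nat.eq_of_mul_eq_mul_left Nat.card_pos h1
  have hcomm : ⁅K, 𝐉 T⁆ = K := by
    refine le_antisymm (commutator_le_left_of_nz hJK) ?_
    set E := ⁅K, 𝐉 T⁆
    have hxE : x ∈ E := by
      have h1 : ⁅x, t⁆ ∈ E := Subgroup.commutator_mem_commutator hxK htJ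
      have e : ⁅x, t⁆ = x⁻¹ := by
        rw [commutatorElement_def]
        calc x * t * x⁻¹ * t⁻¹ = x * (t * x * t⁻¹)⁻¹ := by group
          _ = x * x := by rw [htx, inv_inv]
          _ = _ := eq_inv_of_mul_eq_one_left (by rw [← hx3, pow_succ, pow_succ, pow_one])
      rw [e] at h1
      simpa using E.inv_mem h1
    conv_lhs => rw [← hKgen]
    refine (Subgroup.closure_le _).2 fun g ⟨hg, hgo⟩ => ?_
    obtain ⟨q, hq, i, rfl⟩ := hKdec g hg
    exact mem_of_mul_coprime (p := 2) (left_le_nz_commutator K (𝐉 T) hq.1)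
      (exists_pow_eq_one (isPGroup_pCoreOf L) hq.2) (E.pow_mem hxE i) (Nat.coprime_two_right.2 hgo)
  have hsyl : ∀ S : Subgroup G, Cfsg.IsSylowTwoIn S (K ⊔ 𝐉 T) → 𝐉 T ≤ S → 𝐉 S = 𝐉 T := by
    intro S hS hJS
    have hSL : S ≤ L := hS.1.trans (sup_le hKL ((thompsonOf_le T).trans hTL))
    obtain ⟨l, -, hle⟩ := (hTsyl am hLT).conj_le hS.2.1 hSL
    have hmem : ∀ B ∈ jset T, B ∈ jset S := fun B hB => ⟨hB.1, (jset_le hB).trans hJS, fun D hD hDS =>
      (card_cj l D).ge.trans (hB.2.2 _ (Thompson.isElementaryAbelian_map _ hD) ((cj_mono hDS).trans hle))⟩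
    have h1 : 𝐉 T ≤ 𝐉 S := by
      rw [thompsonOf_eq T]
      exact sSup_le fun B hB => jset_le (hmem B hB)
    refine (Subgroup.eq_of_le_of_card_ge h1 ?_).symm
    have h2 : cj l (𝐉 S) ≤ 𝐉 T := by
      rw [thompsonOf_eq S, cj, Subgroup.map_le_iff_le_comap]
      refine sSup_le fun D hD => Subgroup.map_le_iff_le_comap.1 (jset_le (jset_of_card hA ?_ ?_ ?_))
      · exact Thompson.isElementaryAbelian_map _ hD.1
      · exact (cj_mono hD.2.1).trans hle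
      · exact (hD.2.2 A hA.1 ((jset_le hA).trans hJS)).trans (card_cj l D).ge
    exact (card_cj l _).ge.trans (Subgroup.card_le_of_le h2)
  refine ⟨K, ⟨hKgen, hcomm, hidx, hsyl, ?_⟩, hKL, fun n hn => ?_⟩
  swap
  · obtain ⟨e, he⟩ := hcyc x hxN hxC n hn
    rw [show n = x ^ e * ((x ^ e)⁻¹ * n) by group]
    exact Subgroup.mul_mem _ (Subgroup.mem_sup_right (K.pow_mem hxK e)) (Subgroup.mem_sup_left he)
  -- the plane
  set U := omZ 2 Q₀
  have hQ₀O : Q₀ ≤ O := inf_le_right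
  have hKnU : K ≤ normalizer (U : Set G) := (le_nz_inf Subgroup.le_normalizer hKnO).trans (nz_le_nz_omZ _)
  have hUe : Cfsg.IsElementaryAbelian 2 U := isEA_omegaCenter (p := 2) _
  have hUc : ∀ a ∈ U, ∀ b ∈ U, Commute a b := fun a ha b hb => Thompson.commute_of_elementary hUe ha hb
  have hqU : ∀ q ∈ Q₀, ∀ v ∈ U, Commute q v := fun q hq v hv => (mem_omegaCenter_iff.1 hv).2.1 q hq
  have hUT : U ≤ T := (omZ_le _).trans (hQ₀O.trans hOT)
  let R : Subgroup G :=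
    { carrier := {w | ∃ v ∈ U, w = x * v * x⁻¹ * v⁻¹}
      one_mem' := ⟨1, U.one_mem, by simp⟩
      mul_mem' := fun {a b} ha hb => by
        obtain ⟨v, hv, rfl⟩ := ha
        obtain ⟨u, hu', rfl⟩ := hb
        refine ⟨v * u, U.mul_mem hv hu', ?_⟩
        have h1 : x * u * x⁻¹ ∈ U := conj_mem_of_nz (hKnU hxK) hu'
        calc x * v * x⁻¹ * v⁻¹ * (x * u * x⁻¹ * u⁻¹) = x * v * x⁻¹ * (v⁻¹ * (x * u * x⁻¹)) * u⁻¹ := by group
          _ = x * v * x⁻¹ * ((x * u * x⁻¹) * v⁻¹) * u⁻¹ := by rw [(hUc _ (U.inv_mem hv) _ h1).eq]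
          _ = x * (v * u) * x⁻¹ * (v⁻¹ * u⁻¹) := by group
          _ = _ := by rw [(hUc _ (U.inv_mem hv) _ (U.inv_mem hu')).eq]; group
      inv_mem' := fun {a} ha => by
        obtain ⟨v, hv, rfl⟩ := ha
        refine ⟨v⁻¹, U.inv_mem hv, ?_⟩
        have h1 : x * v⁻¹ * x⁻¹ ∈ U := conj_mem_of_nz (hKnU hxK) (U.inv_mem hv)
        calc (x * v * x⁻¹ * v⁻¹)⁻¹ = v * (x * v⁻¹ * x⁻¹) := by group
          _ = _ := by rw [(hUc v hv _ h1).eq]; group }
  have hW : Cfsg.wOf K = R := by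
    show ⁅omZ 2 (Cfsg.pCoreOf 2 K), K⁆ = R
    rw [hcore]
    refine le_antisymm (Subgroup.commutator_le.2 fun v hv g hg => ?_) ?_
    · obtain ⟨q, hq, i, rfl⟩ := hKdec g hg
      have key : ∀ i : ℕ, ∀ v ∈ U, v * (x ^ i * v⁻¹ * (x ^ i)⁻¹) ∈ R := by
        intro i
        induction i with
        | zero => intro v _; simp
        | succ i ih =>
          intro v hv
          have h0 : x * v * x⁻¹ ∈ U := conj_mem_of_nz (hKnU hxK) hv
          have h1 := ih (x * v * x⁻¹) h0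
          have h2 : (x * v * x⁻¹ * v⁻¹)⁻¹ ∈ R := R.inv_mem ⟨v, hv, rfl⟩
          have := R.mul_mem h2 h1
          convert this using 1
          rw [pow_succ]; group
      have h3 : x ^ i * v⁻¹ * (x ^ i)⁻¹ ∈ U := conj_mem_of_nz (hKnU (K.pow_mem hxK i)) (U.inv_mem hv)
      have e : ⁅v, q * x ^ i⁆ = v * (x ^ i * v⁻¹ * (x ^ i)⁻¹) := by
        rw [commutatorElement_def]
        calc v * (q * x ^ i) * v⁻¹ * (q * x ^ i)⁻¹ = v * (q * (x ^ i * v⁻¹ * (x ^ i)⁻¹) * q⁻¹) := by group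
          _ = _ := by rw [(hqU q hq _ h3).eq, mul_inv_cancel_right]
      rw [e]
      exact key i v hv
    · rintro _ ⟨v, hv, rfl⟩
      have h := Subgroup.inv_mem _ (Subgroup.commutator_mem_commutator hv hxK (H₂ := K))
      rwa [commutatorElement_inv] at h
  rw [hW]
  have hRU : R ≤ U := by
    rintro _ ⟨v, hv, rfl⟩
    exact U.mul_mem (conj_mem_of_nz (hKnU hxK) hv) (U.inv_mem hv)
  have hfree : ∀ w ∈ R, Commute x w → w = 1 := by
    rintro _ ⟨v, hv, rfl⟩ hc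
    set w := x * v * x⁻¹ * v⁻¹ with hw
    have e1 : x * v * x⁻¹ = w * v := by rw [hw]; group
    have hwx : x * w * x⁻¹ = w := by rw [hc.eq, mul_inv_cancel_right]
    have e3 : x ^ 3 * v * (x ^ 3)⁻¹ = w * w * w * v := cube_conj e1 hwx
    rw [hx3, one_mul, inv_one, mul_one] at e3
    have hww : w * w = 1 := by
      rw [← pow_two]; exact hUe.2 w (hRU ⟨v, hv, rfl⟩)
    rw [hww, one_mul] at e3
    exact mul_eq_right.1 e3.symm
  have hRe : Cfsg.IsElementaryAbelian 2 R := Thompson.isElementaryAbelian_le hUe hRU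
  refine ⟨?_, fun w hw => by rw [← pow_two]; exact hRe.2 w hw⟩
  have hAK : A ≤ normalizer (K : Set G) := (jset_le hA).trans hJK
  have hAW : A ≤ normalizer (R : Set G) := by
    rw [← hW]
    exact hAK.trans (le_nz_commutator ((nz_le_nz_pCoreOf K).trans (nz_le_nz_omZ _)) le_rfl)
  -- elements of `A` centralising `x` modulo `Q₀`
  let A₀ : Subgroup G :=
    { carrier := {a | a ∈ A ∧ a * x * a⁻¹ * x⁻¹ ∈ Q₀}
      one_mem' := ⟨A.one_mem, by simp [Q₀.one_mem]⟩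
      mul_mem' := fun {a b} ha hb => ⟨A.mul_mem ha.1 hb.1, by
        have hna : a ∈ normalizer (Q₀ : Set G) :=
          le_nz_inf hAK (hA.2.1.trans (hTL.trans (le_nz_pCoreOf L))) ha.1
        have := Q₀.mul_mem (conj_mem_of_nz hna hb.2) ha.2
        convert this using 1
        group⟩
      inv_mem' := fun {a} ha => ⟨A.inv_mem ha.1, by
        have hna : a⁻¹ ∈ normalizer (Q₀ : Set G) :=
          le_nz_inf hAK (hA.2.1.trans (hTL.trans (le_nz_pCoreOf L))) (A.inv_mem ha.1)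
        have := conj_mem_of_nz hna (Q₀.inv_mem ha.2)
        convert this using 1
        group⟩ }
  have hA₀A : A₀ ≤ A := fun a ha => ha.1
  have hQnx : ∀ q ∈ Q₀, x * q * x⁻¹ ∈ Q₀ := fun q hq =>
    conj_mem_of_nz (le_nz_inf Subgroup.le_normalizer hKnO hxK) hq
  have hcase : ∀ a ∈ A, a ∈ A₀ ∨ a * t ∈ A₀ := by
    intro a ha
    have haK : a * x * a⁻¹ ∈ K := conj_mem_of_nz (hAK ha) hxK
    obtain ⟨q, hq, i, hi⟩ := hKdec _ haK
    have hi3 : x ^ i = x ^ (i % 3) := by rw [← hx, pow_mod_orderOf]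
    rw [hi3] at hi
    have hlt : i % 3 < 3 := Nat.mod_lt _ (by norm_num)
    interval_cases hm : i % 3
    · exfalso
      rw [pow_zero, mul_one] at hi
      refine hxO ?_
      have haL : a⁻¹ ∈ L := L.inv_mem (hTL (hA.2.1 ha))
      have := conj_mem_of_nz (le_nz_pCoreOf L haL) (show a * x * a⁻¹ ∈ O from hi ▸ hq.2)
      simpa [mul_assoc] using this
    · exact Or.inl ⟨ha, by rw [hi, pow_one, mul_inv_cancel_right]; exact hq⟩
    · refine Or.inr ⟨A.mul_mem ha ht, ?_⟩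
      have e : a * t * x * (a * t)⁻¹ = (a * x * a⁻¹)⁻¹ := by
        calc a * t * x * (a * t)⁻¹ = a * (t * x * t⁻¹) * a⁻¹ := by group
          _ = _ := by rw [htx]; group
      rw [e, hi, mul_inv_rev, show (x ^ 2)⁻¹ = x from inv_eq_of_mul_eq_one_right (by rw [← pow_succ, hx3])]
      exact hQnx _ (Q₀.inv_mem hq)
  have hA2 : Nat.card A ≤ 2 * Nat.card A₀ := by
    have hsub : (A : Set G) ⊆ (A₀ : Set G) ∪ (fun a => a * t) '' (A₀ : Set G) := fun a ha => by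
      rcases hcase a ha with h | h
      · exact Or.inl h
      · exact Or.inr ⟨a * t, h, by simp [mul_assoc, htt]⟩
    have h1 := (Set.ncard_le_ncard hsub (Set.toFinite _)).trans (Set.ncard_union_le _ _)
    have h2 := Set.ncard_image_le (f := fun a => a * t) (s := (A₀ : Set G)) (Set.toFinite _)
    have e1 : Nat.card A = (A : Set G).ncard := Nat.card_coe_set_eq _
    have e2 : Nat.card A₀ = (A₀ : Set G).ncard := Nat.card_coe_set_eq _
    omega
  have hactx : ∀ a ∈ A₀, ∀ w ∈ R, a * (x * w * x⁻¹) * a⁻¹ = x * (a * w * a⁻¹) * x⁻¹ := by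
    intro a ha w hw
    have h1 : x * (a * w * a⁻¹) * x⁻¹ ∈ U :=
      conj_mem_of_nz (hKnU hxK) (hRU (conj_mem_of_nz (hAW ha.1) hw))
    calc a * (x * w * x⁻¹) * a⁻¹ = (a * x * a⁻¹ * x⁻¹) * (x * (a * w * a⁻¹) * x⁻¹) *
          (a * x * a⁻¹ * x⁻¹)⁻¹ := by group
      _ = _ := by rw [(hqU _ ha.2 _ h1).eq, mul_inv_cancel_right]
  have hxR : ∀ w ∈ R, x * w * x⁻¹ ∈ R := by
    rintro _ ⟨v, hv, rfl⟩
    exact ⟨x * v * x⁻¹, conj_mem_of_nz (hKnU hxK) hv, by group⟩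
  set EW := R ⊓ centralizer (A₀ : Set G)
  have hxEW : ∀ w ∈ EW, x * w * x⁻¹ ∈ EW := fun w hw => ⟨hxR w hw.1,
    Subgroup.mem_centralizer_iff.2 fun a ha => by
      have h := hactx a ha w hw.1
      rw [show a * w * a⁻¹ = w by rw [Subgroup.mem_centralizer_iff.1 hw.2 a ha, mul_inv_cancel_right]] at h
      exact mul_inv_eq_iff_eq_mul.1 h⟩
  set Bt := EW ⊓ centralizer ({t} : Set G)
  -- `W ≠ 1`
  have hRne : R ≠ ⊥ := by
    intro hR
    refine hxC ⟨hxL, Subgroup.mem_centralizer_iff.2 fun v hv => ?_⟩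
    have hvU₀ : v ∈ U₀ := Subgroup.mem_sup_left (vOf_le_core L hv)
    set w := x * v * x⁻¹ * v⁻¹ with hwdef
    have hwV : w ∈ vOf L := (vOf L).mul_mem (conj_mem_of_nz (L_le_nzV L hxL) hv) ((vOf L).inv_mem hv)
    have hwK : w ∈ K := by
      have := K.mul_mem hxK (conj_mem_of_nz (le_nz_resOf U₀ hvU₀) (K.inv_mem hxK))
      simpa [hwdef, mul_assoc] using this
    have hwU : w ∈ U := mem_omegaCenter_iff.2 ⟨⟨hwK, vOf_le_core L hwV⟩,
      fun q hq => (mem_omegaCenter_iff.1 hwV).2.1 q hq.2, (mem_omegaCenter_iff.1 hwV).2.2⟩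
    have hfix : x * w * x⁻¹ * w⁻¹ = 1 := Subgroup.mem_bot.1 (hR ▸ ⟨w, hwU, rfl⟩)
    have hwx : x * w * x⁻¹ = w := mul_inv_eq_one.1 hfix
    have e1 : x * v * x⁻¹ = w * v := by rw [hwdef]; group
    have e3 : x ^ 3 * v * (x ^ 3)⁻¹ = w * w * w * v := cube_conj e1 hwx
    rw [hx3, one_mul, inv_one, mul_one] at e3
    rw [show w * w = 1 by rw [← pow_two]; exact hUe.2 w hwU, one_mul] at e3
    rw [show w = 1 from mul_eq_right.1 e3.symm, one_mul] at e1
    exact (mul_inv_eq_iff_eq_mul.1 e1).symm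
  have hR2 : IsPGroup 2 R := Thompson.isPGroup_of_elementary hRe
  have hA2g : IsPGroup 2 A := Thompson.isPGroup_of_elementary hA.1
  set S' := R ⊔ A
  haveI hnil : Group.IsNilpotent ↥S' := (hR2.to_sup_of_normal_left' hA2g hAW).isNilpotent
  have hEWne : EW ≠ ⊥ := by
    have hnS : S' ≤ normalizer (R : Set G) := sup_le Subgroup.le_normalizer hAW
    obtain ⟨⟨d, hd'⟩, hd, hd1⟩ := (Subgroup.bot_or_exists_ne_one _).resolve_left
      (S0065.inf_center_ne_bot (normal_subgroupOf hnS) fun h => hRne ((Subgroup.eq_bot_iff_forall _).2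
        fun w hw => congrArg Subtype.val ((Subgroup.eq_bot_iff_forall _).1 h ⟨w, Subgroup.mem_sup_left hw⟩ hw)))
    intro h
    refine hd1 (Subtype.ext (Subgroup.mem_bot.1 (h ▸ ⟨hd.1, Subgroup.mem_centralizer_iff.2 fun a ha => ?_⟩)))
    exact congrArg Subtype.val (Subgroup.mem_center_iff.1 hd.2 ⟨a, Subgroup.mem_sup_right (hA₀A ha)⟩)
  have hinfW : ∀ B : Subgroup G, B ≤ A₀ → ∀ E : Subgroup G, E ≤ R → B ⊓ E ≤ Bt := by
    rintro B hB E hE b ⟨hb, hbE⟩
    refine ⟨⟨hE hbE, Subgroup.mem_centralizer_iff.2 fun a ha =>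
      Thompson.commute_of_elementary hA.1 (hA₀A ha) (hA₀A (hB hb))⟩, ?_⟩
    exact Subgroup.mem_centralizer_singleton_iff.2 (Thompson.commute_of_elementary hA.1 (hA₀A (hB hb)) ht)
  have hcommA₀ : ∀ b ∈ A₀, ∀ e ∈ EW, b * e = e * b := fun b hb e he =>
    Subgroup.mem_centralizer_iff.1 he.2 b hb
  have hcardEW : Nat.card EW ≤ 2 * Nat.card Bt := by
    have h1 := jset_card_le am hLT hA hA₀A (Thompson.isElementaryAbelian_le hRe inf_le_left)
      (inf_le_left.trans (hRU.trans hUT)) hcommA₀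
    have h2 := Subgroup.card_le_of_le (hinfW A₀ le_rfl EW inf_le_left)
    have hpos : 0 < Nat.card A₀ := Nat.card_pos
    exact Nat.le_of_mul_le_mul_left (h1.trans ((Nat.mul_le_mul hA2 h2).trans (le_of_eq (by ring)))) hpos
  have hBtdis : ∀ b ∈ Bt, ∀ b' ∈ Bt, b = x * b' * x⁻¹ → b' = 1 := by
    intro b hb b' hb' e
    have hcb : t * b * t⁻¹ = b := by
      rw [← Subgroup.mem_centralizer_singleton_iff.1 hb.2, mul_inv_cancel_right]
    have hcb' : t * b' * t⁻¹ = b' := by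
      rw [← Subgroup.mem_centralizer_singleton_iff.1 hb'.2, mul_inv_cancel_right]
    have e2 : x⁻¹ * b' * x = x * b' * x⁻¹ := by
      calc x⁻¹ * b' * x = (t * x * t⁻¹) * (t * b' * t⁻¹) * (t * x * t⁻¹)⁻¹ := by rw [htx, hcb', inv_inv]
        _ = t * b * t⁻¹ := by rw [e]; group
        _ = _ := by rw [hcb, e]
    refine hfree b' hb'.1.1 ?_
    have h4 : x ^ 2 * b' = b' * x ^ 2 := by
      calc x ^ 2 * b' = x * (x * b' * x⁻¹) * x := by rw [pow_two]; group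
        _ = x * (x⁻¹ * b' * x) * x := by rw [e2]
        _ = _ := by rw [pow_two]; group
    have h5 := (show Commute (x ^ 2) b' from h4).pow_left 2
    rwa [← pow_mul, show x ^ (2 * 2) = x by rw [show 2 * 2 = 3 + 1 from rfl, pow_succ, hx3, one_mul]] at h5
  have hsq : Nat.card Bt * Nat.card Bt ≤ Nat.card EW := by
    rw [← Nat.card_prod]
    refine Nat.card_le_card_of_injective (fun p : Bt × Bt => (⟨(p.1 : G) * (x * p.2 * x⁻¹),
      EW.mul_mem p.1.2.1 (hxEW _ p.2.2.1)⟩ : EW)) fun p q hpq => ?_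
    have e : (p.1 : G) * (x * p.2 * x⁻¹) = (q.1 : G) * (x * q.2 * x⁻¹) := congrArg Subtype.val hpq
    have e2 : (q.1 : G)⁻¹ * p.1 = x * ((q.2 : G) * (p.2 : G)⁻¹) * x⁻¹ := by
      calc (q.1 : G)⁻¹ * p.1 = (q.1 : G)⁻¹ * ((p.1 : G) * (x * p.2 * x⁻¹)) * (x * p.2 * x⁻¹)⁻¹ := by group
        _ = _ := by rw [e]; group
    have h1 : (q.2 : G) * (p.2 : G)⁻¹ = 1 :=
      hBtdis _ (Bt.mul_mem (Bt.inv_mem q.1.2) p.1.2) _ (Bt.mul_mem q.2.2 (Bt.inv_mem p.2.2)) e2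
    have h2 : p.2 = q.2 := Subtype.ext (mul_inv_eq_one.1 h1).symm
    refine Prod.ext (Subtype.ext ?_) h2
    rw [h2] at e
    exact mul_right_cancel e
  obtain ⟨d, hd, hd1⟩ := (Subgroup.bot_or_exists_ne_one _).resolve_left hEWne
  have hEW3 : 3 ≤ Nat.card EW := by
    have hsub : ({1, d, x * d * x⁻¹} : Set G) ⊆ (EW : Set G) := by
      rintro _ (rfl | rfl | rfl)
      exacts [EW.one_mem, hd, hxEW d hd]
    have hne : x * d * x⁻¹ ≠ d := fun h => hd1 (hfree d hd.1 (mul_inv_eq_iff_eq_mul.1 h))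
    have hne1 : (1 : G) ≠ x * d * x⁻¹ := fun h => hd1 (conj_eq_one_iff.1 h.symm)
    have h3 := Set.ncard_le_ncard hsub (Set.toFinite _)
    rw [Set.ncard_insert_of_notMem (by simp [Ne.symm hd1, hne1]), Set.ncard_pair (Ne.symm hne),
      ← Nat.card_coe_set_eq] at h3
    exact h3
  have hBt2 : Nat.card Bt = 2 := by nlinarith
  have hEW4 : Nat.card EW = 4 := by
    have hle : Nat.card EW ≤ 4 := by omega
    obtain ⟨n, hn'⟩ := IsPGroup.iff_card.1 (hR2.to_le (inf_le_left : EW ≤ R))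
    have hn : Nat.card EW = 2 ^ n := hn'
    rcases Nat.lt_or_ge n 2 with h | h
    · have := Nat.pow_le_pow_right (show 0 < 2 by norm_num) (show n ≤ 1 by omega)
      omega
    · have := Nat.pow_le_pow_right (show 0 < 2 by norm_num) h
      omega
  suffices hE : R ≤ EW by rw [le_antisymm hE inf_le_left, hEW4]
  by_contra hne
  -- an element fixed modulo `EW`
  have hnEW : S' ≤ normalizer (EW : Set G) := sup_le
    (fun w hw => centralizer_le_nz EW (Subgroup.mem_centralizer_iff.2 fun e he =>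
      Thompson.commute_of_elementary hRe he.1 hw))
    (le_nz_inf hAW (le_nz_centralizer fun a ha => centralizer_le_nz A₀ (Subgroup.mem_centralizer_iff.2
      fun b hb => Thompson.commute_of_elementary hA.1 (hA₀A hb) ha)))
  haveI hEn : (EW.subgroupOf S').Normal := normal_subgroupOf hnEW
  set π' := QuotientGroup.mk' (EW.subgroupOf S')
  have hRn : ((R.subgroupOf S').map π').Normal :=
    (normal_subgroupOf (sup_le Subgroup.le_normalizer hAW)).map π' (QuotientGroup.mk'_surjective _)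
  have hRne' : (R.subgroupOf S').map π' ≠ ⊥ := fun h => hne fun w hw => by
    have h1 : π' ⟨w, Subgroup.mem_sup_left hw⟩ = 1 := (Subgroup.eq_bot_iff_forall _).1 h _
      (Subgroup.mem_map_of_mem π' (show (⟨w, Subgroup.mem_sup_left hw⟩ : S') ∈ R.subgroupOf S' from hw))
    exact (QuotientGroup.eq_one_iff (⟨w, Subgroup.mem_sup_left hw⟩ : S')).1 h1
  haveI : Group.IsNilpotent (↥S' ⧸ EW.subgroupOf S') := inferInstance
  obtain ⟨q, hq, hq1⟩ := (Subgroup.bot_or_exists_ne_one _).resolve_left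
    (S0065.inf_center_ne_bot hRn hRne')
  obtain ⟨⟨w, hwS⟩, hw, rfl⟩ := hq.1
  have hwR : w ∈ R := hw
  have hwE : w ∉ EW := fun h => hq1 ((QuotientGroup.eq_one_iff (⟨w, hwS⟩ : S')).2 h)
  have hmod : ∀ a ∈ A, a * w * a⁻¹ * w⁻¹ ∈ EW := fun a ha => by
    have h1 := Subgroup.mem_center_iff.1 hq.2 (π' ⟨a, Subgroup.mem_sup_right ha⟩)
    rw [← commutatorElement_eq_one_iff_mul_comm, ← map_commutatorElement] at h1
    have h2 : ⁅(⟨a, Subgroup.mem_sup_right ha⟩ : S'), (⟨w, hwS⟩ : S')⁆ ∈ EW.subgroupOf S' :=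
      (QuotientGroup.eq_one_iff _).1 h1
    exact h2
  -- make it fixed by `t`
  obtain ⟨w', hw'R, hw'E, hw't, hw'mod⟩ : ∃ w' ∈ R, w' ∉ EW ∧ Commute t w' ∧
      ∀ a ∈ A₀, a * w' * a⁻¹ * w'⁻¹ ∈ EW := by
    have hsE : t * w * t⁻¹ * w⁻¹ ∈ EW := hmod t ht
    by_cases hs : t * w * t⁻¹ * w⁻¹ = 1
    · exact ⟨w, hwR, hwE, mul_inv_eq_iff_eq_mul.1 (mul_inv_eq_one.1 hs), fun a ha => hmod a (hA₀A ha)⟩
    set s := t * w * t⁻¹ * w⁻¹ with hsdef
    have hsi : ∀ r ∈ R, r⁻¹ = r := fun r hr =>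
      inv_eq_of_mul_eq_one_right (by rw [← pow_two]; exact hRe.2 r hr)
    have hst : ∀ u ∈ R, Commute t (t * u * t⁻¹ * u⁻¹) := fun u hu' => by
      refine mul_inv_eq_iff_eq_mul.1 ?_
      have h1 : t * u * t⁻¹ * u⁻¹ ∈ R := R.mul_mem (conj_mem_of_nz (hAW ht) hu') (R.inv_mem hu')
      calc t * (t * u * t⁻¹ * u⁻¹) * t⁻¹ = (t * t) * u * (t * t)⁻¹ * (t * u * t⁻¹)⁻¹ := by group
        _ = (t * u * t⁻¹ * u⁻¹)⁻¹ := by rw [htt]; group
        _ = _ := hsi _ h1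
    obtain ⟨e₁, he₁, he₁B⟩ : ∃ e₁ ∈ EW, e₁ ∉ Bt := by
      by_contra hc
      push Not at hc
      have := Subgroup.card_le_of_le (show EW ≤ Bt from hc)
      omega
    have h1E : t * e₁ * t⁻¹ * e₁⁻¹ ∈ EW :=
      EW.mul_mem (conj_mem_of_nz (hnEW (Subgroup.mem_sup_right ht)) he₁) (EW.inv_mem he₁)
    have hne1 : t * e₁ * t⁻¹ * e₁⁻¹ ≠ 1 := fun h => he₁B ⟨he₁, Subgroup.mem_centralizer_singleton_iff.2
      (mul_inv_eq_iff_eq_mul.1 (mul_inv_eq_one.1 h)).symm⟩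
    have heq : t * e₁ * t⁻¹ * e₁⁻¹ = s := by
      by_contra hne2
      have hsub : ({1, s, t * e₁ * t⁻¹ * e₁⁻¹} : Set G) ⊆ (Bt : Set G) := by
        rintro _ (rfl | rfl | rfl)
        · exact Bt.one_mem
        · exact ⟨hsE, Subgroup.mem_centralizer_singleton_iff.2 (hst w hwR).eq.symm⟩
        · exact ⟨h1E, Subgroup.mem_centralizer_singleton_iff.2 (hst e₁ he₁.1).eq.symm⟩
      have h3 := Set.ncard_le_ncard hsub (Set.toFinite _)
      rw [Set.ncard_insert_of_notMem (by simp [Ne.symm hs, Ne.symm hne1]), Set.ncard_pair (Ne.symm hne2),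
        ← Nat.card_coe_set_eq] at h3
      change 3 ≤ Nat.card Bt at h3
      omega
    refine ⟨w * e₁, R.mul_mem hwR he₁.1, fun h => hwE (by simpa using EW.mul_mem h (EW.inv_mem he₁)), ?_,
      fun a ha => ?_⟩
    · refine mul_inv_eq_iff_eq_mul.1 ?_
      calc t * (w * e₁) * t⁻¹ = (t * w * t⁻¹ * w⁻¹) * w * ((t * e₁ * t⁻¹ * e₁⁻¹) * e₁) := by group
        _ = (s * w) * (s * e₁) := by rw [heq]
        _ = (w * s) * (s * e₁) := by rw [Thompson.commute_of_elementary hRe hsE.1 hwR]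
        _ = w * (s * s) * e₁ := by group
        _ = _ := by rw [← pow_two, hRe.2 s hsE.1, mul_one]
    · have e : a * (w * e₁) * a⁻¹ * (w * e₁)⁻¹ = a * w * (a⁻¹ * (a * e₁ * a⁻¹ * e₁⁻¹) * a) * a⁻¹ * w⁻¹ := by
        group
      rw [e, show a * e₁ * a⁻¹ * e₁⁻¹ = 1 by rw [hcommA₀ a ha e₁ he₁]; group]
      simpa [mul_assoc] using hmod a (hA₀A ha)
  -- its stabiliser in `A₀`
  set B := A₀ ⊓ centralizer ({w'} : Set G)
  have hB2 : Nat.card A₀ ≤ 2 * Nat.card B := by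
    have hBtmem : ∀ a ∈ A₀, a * w' * a⁻¹ * w'⁻¹ ∈ Bt := fun a ha =>
      ⟨hw'mod a ha, Subgroup.mem_centralizer_singleton_iff.2 (by
        have hca : Commute t a := Thompson.commute_of_elementary hA.1 ht (hA₀A ha)
        exact (((hca.mul_right hw't).mul_right hca.inv_right).mul_right hw't.inv_right).eq.symm)⟩
    by_cases hall : ∀ a ∈ A₀, a * w' * a⁻¹ = w'
    · have : A₀ ≤ B := fun a ha => ⟨ha, Subgroup.mem_centralizer_singleton_iff.2
        (mul_inv_eq_iff_eq_mul.1 (hall a ha))⟩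
      have := Subgroup.card_le_of_le this
      omega
    push Not at hall
    obtain ⟨a₁, ha₁, hne₁⟩ := hall
    have hsub : (A₀ : Set G) ⊆ (B : Set G) ∪ (fun b => a₁ * b) '' (B : Set G) := by
      intro a ha
      by_cases h : a * w' * a⁻¹ = w'
      · exact Or.inl ⟨ha, Subgroup.mem_centralizer_singleton_iff.2 (mul_inv_eq_iff_eq_mul.1 h)⟩
      refine Or.inr ⟨a₁⁻¹ * a, ⟨A₀.mul_mem (A₀.inv_mem ha₁) ha, ?_⟩, by simp⟩
      have heq : a * w' * a⁻¹ * w'⁻¹ = a₁ * w' * a₁⁻¹ * w'⁻¹ := by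
        by_contra hne2
        have hsub : ({1, a * w' * a⁻¹ * w'⁻¹, a₁ * w' * a₁⁻¹ * w'⁻¹} : Set G) ⊆ (Bt : Set G) := by
          rintro _ (rfl | rfl | rfl)
          exacts [Bt.one_mem, hBtmem a ha, hBtmem a₁ ha₁]
        have h3 := Set.ncard_le_ncard hsub (Set.toFinite _)
        rw [Set.ncard_insert_of_notMem (by
            simp only [Set.mem_insert_iff, Set.mem_singleton_iff, not_or]
            exact ⟨fun h' => h (mul_inv_eq_one.1 h'.symm), fun h' => hne₁ (mul_inv_eq_one.1 h'.symm)⟩),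
          Set.ncard_pair hne2, ← Nat.card_coe_set_eq] at h3
        change 3 ≤ Nat.card Bt at h3
        omega
      refine Subgroup.mem_centralizer_singleton_iff.2 (mul_inv_eq_iff_eq_mul.1 ?_)
      calc a₁⁻¹ * a * w' * (a₁⁻¹ * a)⁻¹ = a₁⁻¹ * (a * w' * a⁻¹ * w'⁻¹) * w' * a₁ := by group
        _ = a₁⁻¹ * (a₁ * w' * a₁⁻¹ * w'⁻¹) * w' * a₁ := by rw [heq]
        _ = _ := by group
    have h1 := (Set.ncard_le_ncard hsub (Set.toFinite _)).trans (Set.ncard_union_le _ _)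
    have h2 := Set.ncard_image_le (f := fun b => a₁ * b) (s := (B : Set G)) (Set.toFinite _)
    have e1 : Nat.card A₀ = (A₀ : Set G).ncard := Nat.card_coe_set_eq _
    have e2 : Nat.card B = (B : Set G).ncard := Nat.card_coe_set_eq _
    omega
  set w'' := x * w' * x⁻¹
  set E := EW ⊔ zpowers w' ⊔ zpowers w''
  have hER : E ≤ R := sup_le (sup_le inf_le_left (Subgroup.zpowers_le.2 hw'R))
    (Subgroup.zpowers_le.2 (hxR _ hw'R))
  have hBE : ∀ b ∈ B, ∀ e ∈ E, b * e = e * b := by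
    have hle : E ≤ centralizer (B : Set G) := by
      refine sup_le (sup_le (fun e he => Subgroup.mem_centralizer_iff.2 fun b hb => hcommA₀ b hb.1 e he)
        (Subgroup.zpowers_le.2 (Subgroup.mem_centralizer_iff.2 fun b hb =>
          Subgroup.mem_centralizer_singleton_iff.1 hb.2))) (Subgroup.zpowers_le.2 ?_)
      refine Subgroup.mem_centralizer_iff.2 fun b hb => mul_inv_eq_iff_eq_mul.1 ?_
      rw [hactx b hb.1 w' hw'R]
      congr 2
      rw [Subgroup.mem_centralizer_singleton_iff.1 hb.2, mul_inv_cancel_right]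
    exact fun b hb e he => Subgroup.mem_centralizer_iff.1 (hle he) b hb
  have hw''E : w'' ∉ EW ⊔ zpowers w' := by
    intro h
    have hn : zpowers w' ≤ normalizer (EW : Set G) :=
      Subgroup.zpowers_le.2 (hnEW (Subgroup.mem_sup_left hw'R))
    obtain ⟨e, he, z, hz, hze⟩ := (mem_sup_iff_of_nz' hn).1 h
    rw [← mem_powers_iff_mem_zpowers] at hz
    obtain ⟨n, rfl⟩ := hz
    have hw2 : w' ^ 2 = 1 := hRe.2 w' hw'R
    have hn' : w' ^ n = 1 ∨ w' ^ n = w' := by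
      rcases Nat.even_or_odd n with ⟨m, rfl⟩ | ⟨m, rfl⟩
      · left; rw [← two_mul, pow_mul, hw2, one_pow]
      · right; rw [pow_succ, pow_mul, hw2, one_pow, one_mul]
    change w'' = e * w' ^ n at hze
    rcases hn' with hz' | hz' <;> rw [hz'] at hze
    · refine hw'E ?_
      have h1 := hxEW _ (hxEW _ (show w'' ∈ EW by rw [hze, mul_one]; exact he))
      rwa [show x * (x * w'' * x⁻¹) * x⁻¹ = x ^ 3 * w' * (x ^ 3)⁻¹ by
        simp only [w'', pow_succ, pow_zero, one_mul]; group, hx3, one_mul, inv_one, mul_one] at h1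
    · -- `[x,w'] ∈ EW`, so `w'` differs from an element of `EW` by a fixed one
      let f : EW → EW := fun u => ⟨x * u * x⁻¹ * (u : G)⁻¹, EW.mul_mem (hxEW u u.2) (EW.inv_mem u.2)⟩
      have hf : Function.Injective f := fun a b hab => by
        have e' : x * (a : G) * x⁻¹ * (a : G)⁻¹ = x * (b : G) * x⁻¹ * (b : G)⁻¹ := congrArg Subtype.val hab
        have h1 : x * ((b : G)⁻¹ * a) * x⁻¹ = (b : G)⁻¹ * a := by
          calc x * ((b : G)⁻¹ * a) * x⁻¹ = (x * b * x⁻¹)⁻¹ * (x * a * x⁻¹ * (a : G)⁻¹) * a := by group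
            _ = (x * b * x⁻¹)⁻¹ * (x * b * x⁻¹ * (b : G)⁻¹) * a := by rw [e']
            _ = _ := by group
        exact Subtype.ext (inv_mul_eq_one.1 (hfree _ (R.mul_mem (R.inv_mem b.2.1) a.2.1)
          (mul_inv_eq_iff_eq_mul.1 h1))).symm
      obtain ⟨u, hu'⟩ := Finite.injective_iff_surjective.1 hf ⟨e, he⟩
      have hue : x * (u : G) * x⁻¹ * (u : G)⁻¹ = e := congrArg Subtype.val hu'
      have hfix : x * (w' * (u : G)⁻¹) * x⁻¹ = w' * (u : G)⁻¹ := by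
        calc x * (w' * (u : G)⁻¹) * x⁻¹ = w'' * (x * u * x⁻¹)⁻¹ := by simp only [w'']; group
          _ = e * w' * (x * u * x⁻¹)⁻¹ := by rw [hze]
          _ = w' * e * (x * u * x⁻¹)⁻¹ := by rw [Thompson.commute_of_elementary hRe he.1 hw'R]
          _ = w' * ((x * u * x⁻¹) * (u : G)⁻¹ * (x * u * x⁻¹)⁻¹) := by rw [← hue]; group
          _ = _ := by
            rw [Thompson.commute_of_elementary hRe (hxR _ u.2.1) (R.inv_mem u.2.1), mul_inv_cancel_right]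
      have := hfree _ (R.mul_mem hw'R (R.inv_mem u.2.1)) (mul_inv_eq_iff_eq_mul.1 hfix)
      exact hw'E (by rw [mul_inv_eq_one.1 this]; exact u.2)
  have hE16 : 16 ≤ Nat.card E := by
    have key : ∀ (Y Z : Subgroup G), Y < Z → 2 * Nat.card Y ≤ Nat.card Z := by
      intro Y Z hYZ
      have h1 := card_mul_relIndex' hYZ.le
      have h2 : 2 ≤ Y.relIndex Z := by
        have h0 : Y.relIndex Z ≠ 0 := Subgroup.index_ne_zero_of_finite
        have h1' : Y.relIndex Z ≠ 1 := fun h => hYZ.not_ge (Subgroup.relIndex_eq_one.1 h)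
        omega
      rw [← h1, mul_comm]
      exact Nat.mul_le_mul_left _ h2
    have h1 := key EW (EW ⊔ zpowers w') (lt_of_le_of_ne le_sup_left fun h =>
      hw'E (h ▸ Subgroup.mem_sup_right (Subgroup.mem_zpowers w')))
    have h2 := key (EW ⊔ zpowers w') E (lt_of_le_of_ne le_sup_left fun h =>
      hw''E (h ▸ Subgroup.mem_sup_right (Subgroup.mem_zpowers w'')))
    omega
  have h1 := jset_card_le am hLT hA (inf_le_left.trans hA₀A : B ≤ A) (Thompson.isElementaryAbelian_le hRe hER)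
    (hER.trans (hRU.trans hUT)) hBE
  have h2 := Subgroup.card_le_of_le (hinfW B inf_le_left E hER)
  have h3 : Nat.card A ≤ 4 * Nat.card B := by omega
  have hpos : 0 < Nat.card B := Nat.card_pos
  rw [hBt2] at h2
  nlinarith [Nat.mul_le_mul h3 h2, Nat.mul_le_mul_left (Nat.card B) hE16]

/-- Every `L ∈ ℒ(T)` contains a component. -/
theorem exists_component : ∃ K : Subgroup G, Cfsg.IsJComponent T K ∧ K ≤ L := by
  obtain ⟨M, -, -, -, -, h3, hodd, hJJ, hgen⟩ := exists_layer_gen am hLT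
  obtain ⟨A, hA, t, ht, N, hN⟩ : ∃ A ∈ jset T, ∃ t ∈ A, ∃ N, IsFactor L M t N := by
    by_contra h
    push Not at h
    refine hLT.2.1 fun g hg => T_inf_cOf_le am hLT ⟨thompsonOf_le T hg, ?_⟩
    have hle : 𝐉 T ≤ cOf L := by
      rw [thompsonOf_eq T]
      refine sSup_le fun A hA => (hgen A hA).trans ((Subgroup.closure_le _).2 fun t ht => ?_)
      rcases ht.2 with h' | ⟨N, hN⟩
      · exact h'
      · exact absurd hN (h A hA t ht.1 N)
    exact hle hg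
  obtain ⟨K, hK, hKL, -⟩ := exists_component_of_factor am hLT hodd h3 hJJ hA ht hN
  exact ⟨K, hK, hKL⟩

/-- If all components in `L` and `N_L(J(T))` lie in `M`, then `L ≤ M`. -/
theorem le_of_components' {M : Subgroup G} (hJM : L ⊓ normalizer (𝐉 T : Set G) ≤ M)
    (hcomp : ∀ K, Cfsg.IsJComponent T K → K ≤ L → K ≤ M) : L ≤ M := by
  obtain ⟨X, hXL, -, -, -, h3, hodd, hJJ, hgen⟩ := exists_layer_gen am hLT
  have hTJ : T ≤ normalizer (𝐉 T : Set G) := Subgroup.le_normalizer.trans (nz_le_nz_thompson T)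
  have hCM : cOf L ≤ M := (le_inf inf_le_left (cOf_le_nzJ am hLT)).trans hJM
  set P := T ⊓ 𝐉 L
  have hnJL : L ≤ normalizer (𝐉 L : Set G) := Subgroup.le_normalizer.trans (nz_le_nz_thompson L)
  have hP : IsSylowIn 2 P (𝐉 L) := (hTsyl am hLT).inf (thompsonOf_le L) hnJL
  have hPJ : 𝐉 P = 𝐉 T := by
    refine le_antisymm ?_ ?_
    · obtain ⟨A, hA⟩ := jset_nonempty T
      rw [thompsonOf_eq P]
      exact sSup_le fun D hD => jset_le (jset_of_card hA hD.1 (hD.2.1.trans inf_le_left)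
        (hD.2.2 A hA.1 (le_inf hA.2.1 ((jset_le hA).trans (J_le_JL am hLT)))))
    · rw [thompsonOf_eq T]
      exact sSup_le fun A hA => jset_le ⟨hA.1, le_inf hA.2.1 ((jset_le hA).trans (J_le_JL am hLT)),
        fun B hB hBP => hA.2.2 B hB (hBP.trans inf_le_left)⟩
  have hnzP : L ⊓ normalizer (P : Set G) ≤ normalizer (𝐉 T : Set G) :=
    hPJ ▸ inf_le_right.trans (nz_le_nz_thompson P)
  -- conjugation by the layer
  have hconj : ∀ g ∈ X, ∀ j ∈ 𝐉 T, g * j * g⁻¹ ∈ M := by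
    intro g hg
    have hle : 𝐉 T ≤ M.comap (MulAut.conj g).toMonoidHom := by
      rw [thompsonOf_eq T]
      refine sSup_le fun A hA => (hgen A hA).trans ((Subgroup.closure_le _).2 fun t ⟨htA, ht⟩ => ?_)
      show g * t * g⁻¹ ∈ M
      rcases ht with ht | ⟨N, hN⟩
      · exact hCM (conj_mem_of_nz (L_le_nzC L (hXL hg)) ht)
      · obtain ⟨K, hK, hKL, hle⟩ := exists_component_of_factor am hLT hodd h3 hJJ hA htA hN
        have h1 : g * t * g⁻¹ * t⁻¹ ∈ M := (sup_le hCM (hcomp K hK hKL)) (hle (hN.2.2.2.1 g hg))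
        have h2 : t ∈ M := hJM ⟨(hTsyl am hLT).1 (hA.2.1 htA), hTJ (hA.2.1 htA)⟩
        simpa using M.mul_mem h1 h2
    exact fun j hj => hle hj
  set Y := X ⊓ 𝐉 L
  have hPY : P ⊔ Y = 𝐉 L := by
    refine le_antisymm (sup_le inf_le_right inf_le_right) ?_
    rw [← hP.resOf_sup]
    refine sup_le ((resOf_le_iff.2 fun g hg ho => ?_).trans le_sup_right) le_sup_left
    exact ⟨hodd g hg (Nat.coprime_two_right.1 ho), hg⟩
  have hnY : P ≤ normalizer (Y : Set G) := by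
    refine fun s hs => mem_nz_of_cj_le (cj_le_iff.2 fun g hg => ⟨?_, conj_mem_of_nz (hnJL ((hTsyl am hLT).1 hs.1)) hg.2⟩)
    have h1 := hJJ s hs.2 g hg.2
    simpa using X.mul_mem h1 hg.1
  have hJLM : 𝐉 L ≤ M := by
    rw [thompsonOf_eq L]
    refine sSup_le fun A hA a ha => ?_
    obtain ⟨l, hl, hle⟩ := (hTsyl am hLT).conj_le (Thompson.isPGroup_of_elementary hA.1) hA.2.1
    obtain ⟨A', hA'⟩ := jset_nonempty T
    have hmax : Nat.card A' ≤ Nat.card (cj l A) := by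
      rw [card_cj]
      exact hA.2.2 A' hA'.1 (hA'.2.1.trans (hTsyl am hLT).1)
    have hcA : cj l A ∈ jset T := jset_of_card hA' (Thompson.isElementaryAbelian_map _ hA.1) hle hmax
    have hla : l * a * l⁻¹ ∈ 𝐉 T := jset_le hcA (conj_mem_cj ha)
    obtain ⟨n, hn, m, hm, e⟩ := hP.frattini (thompsonOf_le L) hnJL (L.inv_mem hl)
    rw [← hPY, sup_comm, mem_sup_iff_of_nz' hnY] at hn
    obtain ⟨g, hg, s, hs, rfl⟩ := hn
    have hm' : s * m ∈ normalizer (𝐉 T : Set G) := Subgroup.mul_mem _ (hTJ hs.1) (hnzP hm)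
    have hj : (s * m) * (l * a * l⁻¹) * (s * m)⁻¹ ∈ 𝐉 T := conj_mem_of_nz hm' hla
    have := hconj g hg.1 _ hj
    convert this using 1
    have : l = m⁻¹ * s⁻¹ * g⁻¹ := by rw [← inv_inv l, e]; group
    rw [this]; group
  intro l hl
  obtain ⟨n, hn, m, hm, rfl⟩ := hP.frattini (thompsonOf_le L) hnJL hl
  exact M.mul_mem (hJLM hn) (hJM ⟨hm.1, hnzP hm⟩)

/-- If all components in `L` and `N(J(T))` lie in `M`, then `L ≤ M`. -/
theorem le_of_components {M : Subgroup G} (hJM : normalizer (𝐉 T : Set G) ≤ M)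
    (hcomp : ∀ K, Cfsg.IsJComponent T K → K ≤ L → K ≤ M) : L ≤ M :=
  le_of_components' am hLT (inf_le_right.trans hJM) hcomp

end Cfsg.Agent.Lib.LocalChar.JComp
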