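import Cfsg.Agent.Lib.LocalChar.JAdm

/-! The geometry of vertices `(K, C)` and edges `P`. -/

set_option autoImplicit false
set_option linter.unusedSectionVars false
open scoped commutatorElement
open Subgroup (centralizer normalizer zpowers)

namespace Cfsg.Agent.Lib.LocalChar.JComp

variable {G : Type*} [Group G] [Finite G]

local notation "𝐉" T:max => Cfsg.thompsonSubgroupOf 2 T

/-- All 2-elements of `C(d)` generate a 2-group. -/
def Closed (d : G) : Prop :=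
  ∃ R : Subgroup G, IsPGroup 2 R ∧
    ∀ g ∈ centralizer ({d} : Set G), (∃ n : ℕ, g ^ 2 ^ n = 1) → g ∈ R

/-- The data of the amalgam: a conjugation-invariant family of admissible pairs. -/
structure Geo (G : Type*) [Group G] [Finite G] where
  adm : Subgroup G → Subgroup G → Prop
  fact : ∀ {P K : Subgroup G}, adm P K → Adm P K
  cj_mem : ∀ (g : G) {P K : Subgroup G}, adm P K → adm (cj g P) (cj g K)
  edge : ∀ {P K P' K' : Subgroup G}, adm P K → adm P' K' → ∃ g, P' = cj g P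
  cpt : ∀ {P K : Subgroup G}, adm P K → ∀ d ∈ zJ P, d ≠ 1 → Closed d ∨ ∃ X, adm P X ∧ d ∈ zc P X

/-- A vertex. -/
@[ext] structure Vtx (G : Type*) [Group G] where
  K : Subgroup G
  C : Subgroup G

namespace Vtx

/-- The stabiliser of a vertex. -/
abbrev L (v : Vtx G) : Subgroup G := lGrp v.K v.C

/-- `O₂` of the stabiliser. -/
abbrev Q (v : Vtx G) : Subgroup G := Cfsg.pCoreOf 2 v.L

/-- `C × W`. -/
abbrev Z (v : Vtx G) : Subgroup G := v.C ⊔ Cfsg.wOf v.K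

/-- Conjugation of vertices. -/
def act (g : G) (v : Vtx G) : Vtx G := ⟨cj g v.K, cj g v.C⟩

theorem act_act (g h : G) (v : Vtx G) : act g (act h v) = act (g * h) v :=
  Vtx.ext (cj_cj g h _) (cj_cj g h _)

theorem act_one (v : Vtx G) : act 1 v = v := Vtx.ext (cj_one _) (cj_one _)

theorem act_eq_of_L {g : G} {v : Vtx G} (hg : g ∈ v.L) : act g v = v :=
  Vtx.ext (cj_eq_of_mem_nz hg.1) (cj_eq_of_mem_nz (centralizer_le_nz _ hg.2))

theorem L_act (g : G) (v : Vtx G) : (act g v).L = cj g v.L := by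
  show normalizer (cj g v.K : Set G) ⊓ centralizer (cj g v.C : Set G) = cj g (normalizer _ ⊓ centralizer _)
  rw [← cj_centralizer, show normalizer (cj g v.K : Set G) = cj g (normalizer (v.K : Set G)) from
    (Subgroup.map_equiv_normalizer_eq _ (MulAut.conj g)).symm]
  exact (Subgroup.map_inf _ _ _ (MulAut.conj g).injective).symm

theorem Q_act (g : G) (v : Vtx G) : (act g v).Q = cj g v.Q := by
  show Cfsg.pCoreOf 2 (act g v).L = _
  rw [L_act, pCoreOf_cj]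

theorem Z_act (g : G) (v : Vtx G) : (act g v).Z = cj g v.Z := by
  show cj g v.C ⊔ Cfsg.wOf (cj g v.K) = cj g (v.C ⊔ _)
  rw [wOf_cj]
  exact (Subgroup.map_sup _ _ _).symm

end Vtx

namespace Geo

variable (Γ : Geo G)

/-- `P` is an edge at `v`. -/
def Inc (P : Subgroup G) (v : Vtx G) : Prop := Γ.adm P v.K ∧ v.C = zc P v.K

/-- `v` has no partner. -/
def Sgl (v : Vtx G) : Prop := ∀ P, Γ.Inc P v → Single P v.K

/-- Adjacency. -/
def Adj (P : Subgroup G) (v u : Vtx G) : Prop :=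
  Γ.Inc P v ∧ Γ.Inc P u ∧ ¬ u.K ≤ normalizer (v.K : Set G) ∧
    (wl P u.K = v.C → Γ.Sgl v) ∧ (wl P v.K = u.C → Γ.Sgl u)

variable {Γ} {P P' : Subgroup G} {v u : Vtx G}

theorem Inc.ad (h : Γ.Inc P v) : Adm P v.K := Γ.fact h.1

theorem Inc.act (h : Γ.Inc P v) (g : G) : Γ.Inc (cj g P) (Vtx.act g v) :=
  ⟨Γ.cj_mem g h.1, by show cj g v.C = zc (cj g P) (cj g v.K); rw [zc_cj, h.2]⟩

theorem Inc.L_eq (h : Γ.Inc P v) : v.L = lGrp v.K (zc P v.K) := by rw [Vtx.L, h.2]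

theorem Inc.Z_eq (h : Γ.Inc P v) : v.Z = zc P v.K ⊔ Cfsg.wOf v.K := by rw [Vtx.Z, h.2]

theorem Inc.P_le_L (h : Γ.Inc P v) : P ≤ v.L := h.L_eq ▸ h.ad.P_le_L

theorem Inc.K_le_L (h : Γ.Inc P v) : v.K ≤ v.L := h.L_eq ▸ h.ad.K_le_L

theorem Inc.sylow (h : Γ.Inc P v) : IsSylowIn 2 P v.L := h.L_eq ▸ h.ad.sylow_L

theorem Inc.of_L (h : Γ.Inc P v) {l : G} (hl : l ∈ v.L) : Γ.Inc (cj l P) v := by
  have := h.act l
  rwa [Vtx.act_eq_of_L hl] at this

theorem Inc.conj (h : Γ.Inc P v) (h' : Γ.Inc P' v) : ∃ l ∈ v.L, cj l P = P' := by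
  obtain ⟨l, hl, e⟩ := h'.sylow.conj_eq h.sylow
  exact ⟨l, hl, e⟩

theorem Inc.of_card (h : Γ.Inc P v) {R : Subgroup G} (hR : IsPGroup 2 R) (hRL : R ≤ v.L)
    (hc : Nat.card R = Nat.card P) : Γ.Inc R v := by
  obtain ⟨x, hx, hle⟩ := h.sylow.conj_le hR hRL
  have e : cj x R = P := Subgroup.eq_of_le_of_card_ge hle (by rw [card_cj, hc])
  have := h.of_L (v.L.inv_mem hx)
  rwa [← e, cj_inv_cj] at this

theorem Inc.card_eq (h : Γ.Inc P v) (h' : Γ.Inc P' u) : Nat.card P = Nat.card P' := by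
  obtain ⟨g, rfl⟩ := Γ.edge h.1 h'.1
  rw [card_cj]

theorem Inc.card_zc_eq (h : Γ.Inc P v) (h' : Γ.Inc P' u) : Nat.card v.C = Nat.card u.C := by
  obtain ⟨g, rfl⟩ := Γ.edge h.1 h'.1
  have e1 := card_zJ h.ad.comp h.ad.p2
  have e2 := card_zJ h'.ad.comp h'.ad.p2
  rw [zJ_cj, card_cj] at e2
  rw [h.2, h'.2]
  omega

theorem Inc.card_le (h : Γ.Inc P v) : Nat.card v.C ≤ 2 := by
  rw [h.2]
  have e1 := card_zJ h.ad.comp h.ad.p2
  have := h.ad.four
  omega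

theorem Inc.Sgl_of (h : Γ.Inc P v) (hs : Single P v.K) : Γ.Sgl v := fun P' h' => by
  obtain ⟨l, hl, rfl⟩ := h.conj h'
  have := hs.conj_apply l
  rwa [cj_eq_of_mem_nz hl.1] at this

theorem Sgl.act (hs : Γ.Sgl v) (g : G) : Γ.Sgl (Vtx.act g v) := fun P h => by
  have h1 := h.act g⁻¹
  rw [Vtx.act_act, inv_mul_cancel, Vtx.act_one] at h1
  have := (hs _ h1).conj_apply g
  rwa [cj_cj_inv] at this

theorem Adj.symm (am : Amb G) (h : Γ.Adj P v u) : Γ.Adj P u v := by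
  refine ⟨h.2.1, h.1, fun hn => h.2.2.1 ?_, h.2.2.2.2, h.2.2.2.1⟩
  exact Good.mutual am h.1.ad.p2 h.2.1.ad.good h.1.ad.comp hn

theorem Adj.act (h : Γ.Adj P v u) (g : G) : Γ.Adj (cj g P) (Vtx.act g v) (Vtx.act g u) := by
  refine ⟨h.1.act g, h.2.1.act g, fun hn => h.2.2.1 ?_, fun e => (h.2.2.2.1 ?_).act g,
    fun e => (h.2.2.2.2 ?_).act g⟩
  · have := cj_mono (g := g⁻¹) (show cj g u.K ≤ normalizer (cj g v.K : Set G) from hn)
    rwa [show cj g⁻¹ (normalizer (cj g v.K : Set G)) = normalizer (cj g⁻¹ (cj g v.K) : Set G) from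
      Subgroup.map_equiv_normalizer_eq _ (MulAut.conj g⁻¹), cj_inv_cj, cj_inv_cj] at this
  · have := congrArg (cj g⁻¹) (show wl (cj g P) (cj g u.K) = cj g v.C from e)
    rwa [wl_cj, cj_inv_cj, cj_inv_cj] at this
  · have := congrArg (cj g⁻¹) (show wl (cj g P) (cj g v.K) = cj g u.C from e)
    rwa [wl_cj, cj_inv_cj, cj_inv_cj] at this

theorem Adj.of_L (h : Γ.Adj P v u) {g : G} (hg : g ∈ v.L) : Γ.Adj (cj g P) v (Vtx.act g u) := by
  have := h.act g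
  rwa [Vtx.act_eq_of_L hg] at this

theorem Adj.ne (h : Γ.Adj P v u) : v ≠ u := fun e => h.2.2.1 (by rw [e]; exact Subgroup.le_normalizer)

theorem eq_of_C (am : Amb G) (h : Γ.Inc P v) (h' : Γ.Inc P' u) (hC : Nat.card v.C = 2) (e : v.C = u.C) :
    v = u := by
  refine Vtx.ext ?_ e
  have hZ := isTwoLocal_cent_two hC
  have hv : v.K ⊔ P ≤ centralizer (v.C : Set G) :=
    sup_le (h.K_le_L.trans inf_le_right) (h.P_le_L.trans inf_le_right)
  have hu : u.K ⊔ P' ≤ centralizer (v.C : Set G) := e.symm ▸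
    sup_le (h'.K_le_L.trans inf_le_right) (h'.P_le_L.trans inf_le_right)
  obtain ⟨c, hc, hcP⟩ := (h'.ad.syl _ hZ hu).conj_eq (h.ad.syl _ hZ hv)
  have hgd : Good P' (cj c v.K) := hcP ▸ h.ad.good.cj_apply c
  have e1 : zc P' (cj c v.K) = v.C := by
    rw [← hcP, zc_cj, ← h.2]; exact cj_eq_of_mem_nz (centralizer_le_nz _ hc)
  have e2 : cj c v.K = u.K := Good.eq_of_zc am h'.ad.p2 hgd h'.ad.comp
    (by rw [e1]; exact fun hb => by rw [hb, Subgroup.card_bot] at hC; omega) (by rw [e1, ← h'.2, e])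
  have hcK : c ∈ normalizer (v.K : Set G) :=
    Good.cent_le am h.ad.p2 h.ad.good (by rw [← h.2]; exact hC) (by rw [← h.2]; exact hc)
  rw [← e2, cj_eq_of_mem_nz hcK]

theorem eq_of_K (am : Amb G) (h : Γ.Inc P v) (h' : Γ.Inc P' u) (hs : Γ.Sgl v) (e : v.K = u.K) : v = u := by
  refine Vtx.ext e ?_
  have hn := h.ad.nzK_eq_L am (hs P h)
  have hP' : P' ≤ normalizer (v.K : Set G) := e ▸ h'.P_le_L.trans inf_le_left
  rw [← h.L_eq] at hn
  obtain ⟨l, hl, hle⟩ := h.sylow.conj_le h'.ad.p2 (hP'.trans hn.le)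
  have heq : cj l P' = P := Subgroup.eq_of_le_of_card_ge hle (by rw [card_cj, h.card_eq h'])
  have h1 := h'.act l
  rw [heq] at h1
  have eK : (Vtx.act l u).K = v.K := show cj l u.K = v.K by rw [← e]; exact cj_eq_of_mem_nz hl.1
  have e1 : cj l u.C = v.C := by
    have := h1.2
    rw [eK, ← h.2] at this
    exact this
  rw [← e1]
  have := congrArg (cj l⁻¹) e1
  rw [cj_inv_cj, cj_eq_of_mem_nz (centralizer_le_nz _ (v.L.inv_mem hl).2)] at this
  rw [this]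
  exact cj_eq_of_mem_nz (centralizer_le_nz _ hl.2)

theorem Inc.Q_eq (am : Amb G) (h : Γ.Inc P v) : v.Q = P ⊓ centralizer (Cfsg.wOf v.K : Set G) := by
  rw [Vtx.Q, h.L_eq]; exact h.ad.core_eq am

theorem Inc.Q_le (am : Amb G) (h : Γ.Inc P v) : v.Q ≤ P := (h.Q_eq am).le.trans inf_le_left

theorem Inc.Z_le_Q (am : Amb G) (h : Γ.Inc P v) : v.Z ≤ v.Q := by
  rw [Vtx.Q, h.L_eq, h.Z_eq]; exact h.ad.Z_le_core am

theorem Inc.Q_cent_Z (am : Amb G) (h : Γ.Inc P v) : v.Q ≤ centralizer (v.Z : Set G) := by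
  rw [Vtx.Q, h.L_eq, h.Z_eq]; exact h.ad.core_le_centZ am

theorem Inc.zJ_le_Z (h : Γ.Inc P v) : zJ P ≤ v.Z := h.Z_eq ▸ h.ad.zJ_le_Z

theorem Inc.zJ_cent (h : Γ.Inc P v) {p d : G} (hp : p ∈ P) (hd : d ∈ zJ P) : Commute p d :=
  (Subgroup.mem_centralizer_iff.1 (h.ad.cen hp) d hd).symm

theorem Inc.C_le_zJ (h : Γ.Inc P v) : v.C ≤ zJ P := h.2 ▸ inf_le_left

theorem Inc.comm_Z (h : Γ.Inc P v) {z p : G} (hz : z ∈ v.Z) (hp : p ∈ P) :
    p * z * p⁻¹ * z⁻¹ ∈ wl P v.K := h.ad.comm_Z (h.Z_eq ▸ hz) hp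

theorem Inc.card_Q (am : Amb G) (h : Γ.Inc P v) : Nat.card P = Nat.card v.Q * 2 := by
  rw [h.ad.card_core am, Vtx.Q, h.L_eq]

theorem Adj.Q_ne (am : Amb G) (h : Γ.Adj P v u) : v.Q ≠ u.Q := fun e => by
  have hJ : 𝐉 P ≤ v.L := (thompsonOf_le P).trans h.1.P_le_L
  have hne : v.Q ≠ ⊥ := fun hb => W_ne_bot h.1.ad.comp (le_bot_iff.1
    ((le_sup_right : Cfsg.wOf v.K ≤ v.Z).trans ((h.1.Z_le_Q am).trans hb.le)))
  exact hne (Good.no_common am h.1.ad.p2 h.1.ad.good h.2.1.ad.comp h.2.2.1 (isPGroup_pCoreOf _)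
    (hJ.trans (le_nz_pCoreOf _)) (h.1.K_le_L.trans (le_nz_pCoreOf _))
    (e ▸ h.2.1.K_le_L.trans (le_nz_pCoreOf _)))

/-- A walk of length `n`. -/
def Walk (Γ : Geo G) (n : ℕ) (f : ℕ → Vtx G) (E : ℕ → Subgroup G) : Prop :=
  ∀ i, i < n → Γ.Adj (E i) (f i) (f (i + 1))

theorem Walk.reverse (am : Amb G) {n : ℕ} {f : ℕ → Vtx G} {E : ℕ → Subgroup G} (h : Walk Γ n f E) :
    Walk Γ n (fun i => f (n - i)) (fun i => E (n - 1 - i)) := fun i hi => by
  have := (h (n - 1 - i) (by omega)).symm am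
  show Γ.Adj (E (n - 1 - i)) (f (n - i)) (f (n - (i + 1)))
  rw [show n - 1 - i + 1 = n - i by omega] at this
  rwa [show n - (i + 1) = n - 1 - i by omega]

/-- The walks of length less than `b` do not separate. -/
def Below (Γ : Geo G) (b : ℕ) : Prop :=
  ∀ n, 1 ≤ n → n < b → ∀ (f : ℕ → Vtx G) (E : ℕ → Subgroup G), Walk Γ n f E → (f 0).Z ≤ (f n).Q

theorem exists_walk {a c : Vtx G} (h : Relation.ReflTransGen (fun x y => ∃ R, Γ.Adj R x y) a c) :
    ∃ (n : ℕ) (f : ℕ → Vtx G) (E : ℕ → Subgroup G), Walk Γ n f E ∧ f 0 = a ∧ f n = c := by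
  induction h using Relation.ReflTransGen.head_induction_on with
  | refl => exact ⟨0, fun _ => c, fun _ => ⊥, fun i hi => by omega, rfl, rfl⟩
  | @head x y hxy _ ih =>
    obtain ⟨R, hR⟩ := hxy
    obtain ⟨n, f, E, hw, h0, hn⟩ := ih
    refine ⟨n + 1, fun i => Nat.casesOn i x f, fun i => Nat.casesOn i R E, ?_, rfl, hn⟩
    rintro (_ | i) hi
    · show Γ.Adj R x (f 0); rwa [h0]
    · exact hw i (by omega)

/-- Some walk separates. -/
theorem exists_critical (am : Amb G) (h : Γ.Adj P v u) :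
    ∃ (n : ℕ) (f : ℕ → Vtx G) (E : ℕ → Subgroup G), 1 ≤ n ∧ Walk Γ n f E ∧ ¬ (f 0).Z ≤ (f n).Q ∧ Below Γ n := by
  classical
  have hex : ∃ n, ∃ (f : ℕ → Vtx G) (E : ℕ → Subgroup G),
      1 ≤ n ∧ Walk Γ n f E ∧ ¬ (f 0).Z ≤ (f n).Q := by
    by_contra hc
    push Not at hc
    set R : Vtx G → Vtx G → Prop := fun x y => ∃ Q', Γ.Adj Q' x y
    have hsymm : ∀ {x y}, Relation.ReflTransGen R x y → Relation.ReflTransGen R y x := by
      intro x y hxy
      induction hxy with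
      | refl => exact .refl
      | tail _ hyz ih => exact Relation.ReflTransGen.head (hyz.elim fun Q' hQ => ⟨Q', hQ.symm am⟩) ih
    have hinc : ∀ z, Relation.ReflTransGen R v z → ∃ Q', Γ.Inc Q' z := fun z hz => by
      rcases Relation.ReflTransGen.cases_tail hz with e | ⟨y, -, Q', hQ⟩
      · exact e ▸ ⟨P, h.1⟩
      · exact ⟨Q', hQ.2.1⟩
    set D := ⨆ w ∈ {w | Relation.ReflTransGen R v w}, w.Z
    have hDQ : ∀ z, Relation.ReflTransGen R v z → D ≤ z.Q := fun z hz => iSup₂_le fun w hw => by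
      obtain ⟨n, f, E, hwk, h0, hn⟩ := exists_walk ((hsymm hw).trans hz)
      rcases Nat.eq_zero_or_pos n with rfl | hpos
      · obtain ⟨Q', hQ'⟩ := hinc z hz
        rw [← h0, hn]
        exact hQ'.Z_le_Q am
      · exact h0 ▸ hn ▸ hc n f E hpos hwk
    have hD2 : IsPGroup 2 D := (isPGroup_pCoreOf _).to_le (hDQ v .refl)
    have hD1 : D ≠ ⊥ := fun hb => W_ne_bot h.1.ad.comp (le_bot_iff.1 ((le_sup_right : Cfsg.wOf v.K ≤ v.Z).trans
      ((le_biSup Vtx.Z (show v ∈ {w | Relation.ReflTransGen R v w} from .refl)).trans hb.le)))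
    have hact : ∀ z, Relation.ReflTransGen R v z → z.L ≤ normalizer (D : Set G) := fun z hz g hg => by
      refine mem_nz_of_cj_le (Subgroup.map_le_iff_le_comap.2 (iSup₂_le fun w hw => ?_))
      refine Subgroup.map_le_iff_le_comap.1 ?_
      show cj g w.Z ≤ D
      rw [← Vtx.Z_act]
      refine le_biSup Vtx.Z (show Vtx.act g w ∈ {w | Relation.ReflTransGen R v w} from hz.trans ?_)
      have := Relation.ReflTransGen.lift (r := R) (p := R) (Vtx.act g)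
        (fun x y hxy => hxy.elim fun Q' hQ => ⟨cj g Q', hQ.act g⟩) _ _ ((hsymm hz).trans hw)
      change Relation.ReflTransGen R (Vtx.act g z) (Vtx.act g w) at this
      rwa [Vtx.act_eq_of_L hg] at this
    have hJ : 𝐉 P ≤ v.L := (thompsonOf_le P).trans h.1.P_le_L
    exact hD1 (Good.no_common am h.1.ad.p2 h.1.ad.good h.2.1.ad.comp h.2.2.1 hD2 (hJ.trans (hact v .refl))
      (h.1.K_le_L.trans (hact v .refl)) (h.2.1.K_le_L.trans (hact u (.single ⟨P, h⟩))))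
  obtain ⟨f, E, h1, hw, hne⟩ := Nat.find_spec hex
  exact ⟨_, f, E, h1, hw, hne, fun n hpos hn f' E' hw' =>
    by_contra fun hne' => Nat.find_min hex hn ⟨f', E', hpos, hw', hne'⟩⟩

end Geo

end Cfsg.Agent.Lib.LocalChar.JComp
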