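import Cfsg.Agent.Lib.LocalChar.JPair

/-! Sources of good components and elementary facts on `Ω₁(Z(T))`. -/

set_option autoImplicit false
set_option linter.unusedSectionVars false
open scoped commutatorElement
open Subgroup (centralizer normalizer zpowers)

namespace Cfsg.Agent.Lib.LocalChar.JComp

variable {G : Type*} [Group G] [Finite G] {T K L M : Subgroup G}

local notation "𝐉" T:max => Cfsg.thompsonSubgroupOf 2 T

theorem cent_core_le (am : Amb G) (hL : Cfsg.IsTwoLocal L) :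
    centralizer (Cfsg.pCoreOf 2 L : Set G) ≤ Cfsg.pCoreOf 2 L := by
  obtain ⟨R, hR2, hR1, rfl⟩ := hL
  intro g hg
  have hRO : R ≤ Cfsg.pCoreOf 2 (normalizer (R : Set G)) := le_pCoreOf Subgroup.le_normalizer le_rfl hR2
  exact charP_iff.1 (am.ch.2 R hR2 hR1) ⟨centralizer_le_nz R (Subgroup.centralizer_le hRO hg), hg⟩

theorem not_J_le_core (hK : Cfsg.IsJComponent T K) (hle : K ⊔ 𝐉 T ≤ L) :
    ¬ 𝐉 T ≤ Cfsg.pCoreOf 2 L := fun h => by
  obtain ⟨x, hxK, hx⟩ := exists_three hK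
  have hR : IsPGroup 2 ↥(Cfsg.pCoreOf 2 L ⊓ normalizer (Cfsg.wOf K : Set G)) :=
    (isPGroup_pCoreOf L).to_le inf_le_left
  have hxW : x ∈ normalizer (Cfsg.wOf K : Set G) := H_le_nzW hK (Subgroup.mem_sup_left hxK)
  have hxR : x ∈ normalizer ((Cfsg.pCoreOf 2 L ⊓ normalizer (Cfsg.wOf K : Set G) : Subgroup G) : Set G) :=
    le_nz_inf (N := L ⊓ normalizer (Cfsg.wOf K : Set G)) (inf_le_left.trans (le_nz_pCoreOf L))
      (inf_le_right.trans Subgroup.le_normalizer) ⟨hle (Subgroup.mem_sup_left hxK), hxW⟩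
  exact not_J_le_centW hK ((le_inf h (le_sup_right.trans (H_le_nzW hK))).trans
    (two_group_cent hK hxK hx hR hxR inf_le_right))

theorem good_outside (am : Amb G) (S : Sylow 2 G) (hMJ : normalizer (𝐉 (S : Subgroup G) : Set G) ≤ M)
    (hT : T ∈ Cfsg.maxStraddlingTwoSubgroups M) (hK : Cfsg.IsJComponent T K) (hKM : ¬ K ≤ M) : Good T K :=
  ⟨hK, fun L hL hle P hP hJP => by
    obtain ⟨h1, -, h3⟩ := overgroup_facts S hMJ hT am hL (fun h => hKM ((le_sup_left.trans hle).trans h)) hP hJP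
    exact ⟨h1.symm, h3⟩⟩

/-- Every 2-group above `J(S)` has the same Thompson subgroup, `S` Sylow. -/
theorem thompson_eq_sylow (S : Sylow 2 G) {P : Subgroup G} (hP : IsPGroup 2 P)
    (hJP : 𝐉 (S : Subgroup G) ≤ P) : 𝐉 P = 𝐉 (S : Subgroup G) := by
  obtain ⟨S', hS'⟩ := hP.exists_le_sylow
  obtain ⟨g, rfl⟩ := MulAction.exists_smul_eq G S S'
  have e : ((g • S : Sylow 2 G) : Subgroup G) = cj g (S : Subgroup G) := rfl
  rw [e] at hS'
  have hle : ∀ A ∈ jset (S : Subgroup G), A ∈ jset P := fun A hA => ⟨hA.1, (jset_le hA).trans hJP,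
    fun B hB hBP => by
      have := hA.2.2 _ (Thompson.isElementaryAbelian_map (MulAut.conj g⁻¹).toMonoidHom hB)
        (show cj g⁻¹ B ≤ S from (cj_mono (hBP.trans hS')).trans_eq (cj_inv_cj g _))
      exact (card_cj g⁻¹ B).ge.trans this⟩
  have h1 : 𝐉 (S : Subgroup G) ≤ 𝐉 P := by
    rw [thompsonOf_eq (S : Subgroup G)]
    exact sSup_le fun A hA => jset_le (hle A hA)
  obtain ⟨A, hA⟩ := jset_nonempty (S : Subgroup G)
  have h2 : 𝐉 P ≤ 𝐉 (cj g (S : Subgroup G)) := by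
    rw [thompsonOf_eq P]
    exact sSup_le fun B hB => jset_le (jset_of_card (jset_cj_image (g := g) hA) hB.1 (hB.2.1.trans hS')
      ((card_cj g A).le.trans (hB.2.2 A hA.1 ((jset_le hA).trans hJP))))
  refine (Subgroup.eq_of_le_of_card_ge h1 ((Subgroup.card_le_of_le h2).trans ?_)).symm
  rw [thompsonOf_cj, card_cj]

theorem good_of_sylow (am : Amb G) (S : Sylow 2 G) (hK : Cfsg.IsJComponent (S : Subgroup G) K) :
    Good (S : Subgroup G) K :=
  ⟨hK, fun L hL hle P hP hJP => by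
    have e := thompson_eq_sylow S (isSylowTwoIn_iff.1 hP).2.1 hJP
    refine ⟨e, hP, fun h => not_J_le_core hK hle (by rwa [e] at h), cent_core_le am hL⟩⟩

theorem omZ_le_zJ (T : Subgroup G) : Cfsg.omegaCenterOf T ≤ zJ T := fun z hz => by
  obtain ⟨hzT, hzc, hz2⟩ := mem_omegaCenter_iff.1 hz
  obtain ⟨A, hA⟩ := jset_nonempty T
  exact mem_omegaCenter_iff.2 ⟨jset_le hA (mem_of_commute hA hzT hz2 fun a ha => hzc a (hA.2.1 ha)),
    fun j hj => hzc j (thompsonOf_le T hj), hz2⟩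

theorem omZ_eq_zJ (hc : T ≤ centralizer (zJ T : Set G)) : Cfsg.omegaCenterOf T = zJ T :=
  le_antisymm (omZ_le_zJ T) fun z hz => mem_omegaCenter_iff.2
    ⟨(zJ_le T).trans (thompsonOf_le T) hz, fun t ht => (Subgroup.mem_centralizer_iff.1 (hc ht) z hz).symm,
      (zJ_elem T).2 z hz⟩

/-- `Ω₁(Z(S))` lies in `Ω₁(Z(T))` if `T ≤ S` is Sylow in an overgroup. -/
theorem omZ_sylow_le (am : Amb G) (hL : L ∈ Cfsg.jOvergroups T) {S : Subgroup G} (hTS : T ≤ S) :
    Cfsg.omegaCenterOf S ≤ Cfsg.omegaCenterOf T := fun z hz => by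
  obtain ⟨-, hzc, hz2⟩ := mem_omegaCenter_iff.1 hz
  have hcore := pCoreOf_le_sylowIn (hTsyl am hL)
  exact mem_omegaCenter_iff.2 ⟨hcore (hL.2.2 (Subgroup.mem_centralizer_iff.2 fun q hq =>
    (hzc q (hTS (hcore hq))).eq)), fun t ht => hzc t (hTS ht), hz2⟩

theorem omZ_ne_bot {S : Subgroup G} (hS : IsPGroup 2 S) (hS1 : S ≠ ⊥) : Cfsg.omegaCenterOf S ≠ ⊥ := by
  intro h
  haveI : Nontrivial S := (Subgroup.nontrivial_iff_ne_bot S).2 hS1
  haveI : Fact (Nat.Prime 2) := ⟨Nat.prime_two⟩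
  haveI := hS.center_nontrivial
  obtain ⟨z, hz, hz1⟩ := (Subgroup.bot_or_exists_ne_one _).resolve_left
    (show Subgroup.center S ≠ ⊥ from Subgroup.nontrivial_iff_ne_bot _ |>.1 inferInstance)
  obtain ⟨k, hk⟩ := IsPGroup.iff_orderOf.1 hS z
  have ho : orderOf z ≠ 1 := fun e => hz1 (orderOf_eq_one_iff.1 e)
  rcases k with _ | k
  · exact ho (by simpa using hk)
  set y := z ^ 2 ^ k
  have hy2 : y ^ 2 = 1 := by
    rw [← pow_mul, ← pow_succ, ← hk, pow_orderOf_eq_one]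
  have hy1 : y ≠ 1 := fun e => by
    have := Nat.le_of_dvd (by positivity) (orderOf_dvd_of_pow_eq_one e)
    rw [hk, pow_succ] at this
    have : 0 < 2 ^ k := by positivity
    omega
  have hy : (y : G) ∈ Cfsg.omegaCenterOf S := mem_omegaCenter_iff.2 ⟨y.2, fun s hs =>
    congrArg Subtype.val (Subgroup.mem_center_iff.1 ((Subgroup.center S).pow_mem hz (2 ^ k)) ⟨s, hs⟩),
    by rw [← Subgroup.coe_pow, hy2]; rfl⟩
  rw [h, Subgroup.mem_bot] at hy
  exact hy1 (Subtype.ext hy)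

/-- A component lies in no normalizer of a Sylow subgroup containing `J(T)`. -/
theorem sylow_cent_no_comp (am : Amb G) (S : Sylow 2 G) (hTS : 𝐉 T ≤ (S : Subgroup G))
    (hK : Cfsg.IsJComponent T K) {H : Subgroup G}
    (hH : Cfsg.omegaCenterOf (S : Subgroup G) ≤ H) : ¬ K ≤ centralizer (H : Set G) := fun h =>
  not_le_nz hK S.isPGroup' hTS ((h.trans (Subgroup.centralizer_le hH)).trans (am.cen S))

end Cfsg.Agent.Lib.LocalChar.JComp
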