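import Cfsg.Agent.Lib.LocalChar.JBase
import Cfsg.Agent.Lib.Involution.SECounting
import Cfsg.Agent.S2947

/-! The components of a Sylow subgroup cannot all normalise each other, nor one of them be "isolated". -/

set_option autoImplicit false
set_option linter.unusedSectionVars false
open scoped commutatorElement
open Subgroup (centralizer normalizer zpowers)

namespace Cfsg.Agent.Lib.LocalChar.JComp

variable {G : Type*} [Group G] [Finite G]

local notation "𝐉" T:max => Cfsg.thompsonSubgroupOf 2 T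

/-- A subgroup with a component above `J(S)` is not strongly embedded. -/
theorem straddling_nonempty (am : Amb G) (hO : Cfsg.pCore 2 G = ⊥) (S : Sylow 2 G) {N K : Subgroup G}
    (hN : Cfsg.IsTwoLocal N) (hNJ : normalizer (𝐉 (S : Subgroup G) : Set G) ≤ N)
    (hK : Cfsg.IsJComponent (S : Subgroup G) K) (hKN : K ≤ N) :
    (Cfsg.straddlingTwoSubgroups N).Nonempty := by
  rw [Set.nonempty_iff_ne_empty]
  intro hemp
  have hse : Cfsg.IsStronglyEmbedded N := (S2947.result am.ch am.sol am.cen hO S N hN hNJ).2 hemp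
  have hcore : Cfsg.pCoreOf 2 N ≠ ⊥ := by
    obtain ⟨R, hR, hR1, rfl⟩ := hN
    exact fun e => hR1 (le_bot_iff.1 ((le_pCoreOf Subgroup.le_normalizer le_rfl hR).trans e.le))
  obtain ⟨i, hi, hi1⟩ := (Subgroup.bot_or_exists_ne_one _).resolve_left (omZ_ne_bot (isPGroup_pCoreOf N) hcore)
  obtain ⟨hiN, -, hi2⟩ := mem_omegaCenter_iff.1 hi
  obtain ⟨u, hu, huN⟩ := Involution.se_exists_outside hse
  have hJN : 𝐉 (S : Subgroup G) ≤ N := Subgroup.le_normalizer.trans hNJ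
  refine not_J_le_core hK (sup_le hKN hJN) ?_
  rw [thompsonOf_eq]
  refine sSup_le fun A hA t ht => ?_
  by_cases ht1 : t = 1
  · exact ht1 ▸ Subgroup.one_mem _
  obtain ⟨d, hd, rfl⟩ := Involution.se_conj_by_inf hse hu huN (orderOf_eq_prime hi2 hi1) (pCoreOf_le N hiN)
    (orderOf_eq_prime (hA.1.2 t ht) ht1) (hJN (jset_le hA ht))
  exact conj_mem_of_nz (le_nz_pCoreOf N hd.1) hiN

theorem exists_max_straddling {M : Subgroup G} (hne : (Cfsg.straddlingTwoSubgroups M).Nonempty) :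
    ∃ T, T ∈ Cfsg.maxStraddlingTwoSubgroups M := by
  classical
  obtain ⟨T₁, hT₁, h₁⟩ := Set.exists_max_image _ Cfsg.maxElemAbelianOrder (Set.toFinite _) hne
  obtain ⟨T₂, hT₂, h₂⟩ := Set.exists_max_image {T | T ∈ Cfsg.straddlingTwoSubgroups M ∧
    Cfsg.maxElemAbelianOrder T = Cfsg.maxElemAbelianOrder T₁} (fun T => Nat.card ↥(𝐉 T)) (Set.toFinite _)
    ⟨T₁, hT₁, rfl⟩
  obtain ⟨T₃, hT₃, h₃⟩ := Set.exists_max_image {T | T ∈ Cfsg.straddlingTwoSubgroups M ∧
    Cfsg.maxElemAbelianOrder T = Cfsg.maxElemAbelianOrder T₁ ∧ Nat.card ↥(𝐉 T) = Nat.card ↥(𝐉 T₂)}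
    (fun T => Nat.card ↥T) (Set.toFinite _) ⟨T₂, hT₂.1, hT₂.2, rfl⟩
  refine ⟨T₃, hT₃.1, fun T hT => ⟨hT₃.2.1 ▸ h₁ T hT, fun e => ⟨hT₃.2.2 ▸ h₂ T ⟨hT, e.trans hT₃.2.1⟩, fun e' => ?_⟩⟩⟩
  exact h₃ T ⟨hT, e.trans hT₃.2.1, e'.trans hT₃.2.2⟩

/-- A maximal straddling group for an `N` containing all 2-locals above `S` is not Sylow. -/
theorem setup (am : Amb G) (hO : Cfsg.pCore 2 G = ⊥) (S : Sylow 2 G) {N K : Subgroup G}
    (hN : Cfsg.IsTwoLocal N) (hNJ : normalizer (𝐉 (S : Subgroup G) : Set G) ≤ N)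
    (hK : Cfsg.IsJComponent (S : Subgroup G) K) (hKN : K ≤ N)
    (hclose : ∀ L : Subgroup G, Cfsg.IsTwoLocal L → (S : Subgroup G) ≤ L → L ≤ N) :
    ∃ (T K' : Subgroup G) (S' : Sylow 2 G) (u h : G), h ∈ N ∧ (S' : Subgroup G) = cj h (S : Subgroup G) ∧
      NS am S N T K' S' u := by
  obtain ⟨T, hT⟩ := exists_max_straddling (straddling_nonempty am hO S hN hNJ hK hKN)
  obtain ⟨K', hK'⟩ := exists_outside S hNJ hT am
  have hSN : (S : Subgroup G) ≤ N :=
    (Subgroup.le_normalizer.trans (nz_le_nz_thompson (S : Subgroup G))).trans hNJ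
  obtain ⟨x, hx, hle⟩ := (IsSylowIn.of_le S hSN).conj_le hT.1.1 hT.1.2.2.1
  have hS'N : cj x⁻¹ (S : Subgroup G) ≤ N := cj_le_iff.2 fun s hs =>
    N.mul_mem (N.mul_mem (N.inv_mem hx) (hSN hs)) (N.inv_mem (N.inv_mem hx))
  have hTS : T ≤ ((x⁻¹ • S : Sylow 2 G) : Subgroup G) := (cj_inv_cj x T).ge.trans (cj_mono hle)
  have hne : T ≠ ((x⁻¹ • S : Sylow 2 G) : Subgroup G) := fun e => by
    obtain ⟨L, hL, hTL, hLN⟩ := hT.1.2.2.2
    refine hLN fun l hl => ?_
    have h1 : (S : Subgroup G) ≤ cj x L := by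
      refine (cj_cj_inv x (S : Subgroup G)).ge.trans (cj_mono ?_)
      exact e.ge.trans hTL
    have := hclose _ (isTwoLocal_cj x hL) h1 (conj_mem_cj hl)
    simpa [mul_assoc] using N.mul_mem (N.mul_mem (N.inv_mem hx) this) hx
  obtain ⟨u, hu⟩ := exists_NS am S hNJ hT hK' (S' := x⁻¹ • S) hTS hS'N hne
  exact ⟨T, K', x⁻¹ • S, u, x⁻¹, N.inv_mem hx, rfl, hu⟩

/-- A component normalised by `S` is not isolated in a 2-local containing all 2-locals above `S`. -/
theorem full_A (am : Amb G) (hO : Cfsg.pCore 2 G = ⊥) (S : Sylow 2 G) {N K : Subgroup G}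
    (hN : Cfsg.IsTwoLocal N) (hNJ : normalizer (𝐉 (S : Subgroup G) : Set G) ≤ N)
    (hK : Cfsg.IsJComponent (S : Subgroup G) K) (hKN : K ≤ N) (hSK : (S : Subgroup G) ≤ normalizer (K : Set G))
    (hclose : ∀ L : Subgroup G, Cfsg.IsTwoLocal L → (S : Subgroup G) ≤ L → L ≤ N) : False := by
  obtain ⟨T, K', S', u, h, -, hS', hns⟩ := setup am hO S hN hNJ hK hKN hclose
  have hadm := hns.adm
  have hsm := hns.small
  have hS2 := S.isPGroup'
  have hSJ : (S : Subgroup G) ≤ normalizer (zJ (S : Subgroup G) : Set G) :=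
    (Subgroup.le_normalizer.trans (nz_le_nz_thompson _)).trans (nzJ_le_nz_zJ _)
  have hmem : ∀ z ∈ zJ (S : Subgroup G), (∀ s ∈ (S : Subgroup G), Commute s z) →
      z ∈ Cfsg.omegaCenterOf (S : Subgroup G) := fun z hz hc =>
    mem_omegaCenter_iff.2 ⟨(zJ_le _).trans (thompsonOf_le _) hz, hc, (zJ_elem _).2 z hz⟩
  have hS'Z : Cfsg.omegaCenterOf (S' : Subgroup G) = cj h (Cfsg.omegaCenterOf (S : Subgroup G)) := by
    rw [hS']; exact omZ_cj h _
  have hz2 : Nat.card ↥(Cfsg.omegaCenterOf (S : Subgroup G)) = 2 := by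
    have := hns.card_omZ
    rwa [hS'Z, card_cj] at this
  obtain ⟨r, hr, hr1, -, -⟩ := exists_gen_two (card_wl hK hS2)
  have hwlS : (S : Subgroup G) ≤ centralizer (wl (S : Subgroup G) K : Set G) :=
    (le_nz_inf hSJ (hSK.trans (nzK_le_nzW hK))).trans (nz_le_cent_two (card_wl hK hS2))
  have hrS : ∀ s ∈ (S : Subgroup G), Commute s r := fun s hs =>
    (Subgroup.mem_centralizer_iff.1 (hwlS hs) r hr).symm
  have hrZ : r ∈ Cfsg.omegaCenterOf (S : Subgroup G) := hmem r hr.1 hrS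
  set V := cj h (Cfsg.wOf K) with hV
  have hrV : h * r * h⁻¹ ∈ Cfsg.omegaCenterOf (S' : Subgroup G) := hS'Z ▸ conj_mem_cj hrZ
  have hcomm : ∀ s ∈ (S' : Subgroup G), ∀ y ∈ V, s * y * s⁻¹ * y⁻¹ ∈ Cfsg.omegaCenterOf (S' : Subgroup G) := by
    intro s hs y hy
    rw [hS'] at hs
    obtain ⟨s, hs, rfl⟩ := hs
    obtain ⟨y, hy, rfl⟩ := hy
    rw [hS'Z]
    show (h * s * h⁻¹) * (h * y * h⁻¹) * (h * s * h⁻¹)⁻¹ * (h * y * h⁻¹)⁻¹ ∈ _
    rw [show (h * s * h⁻¹) * (h * y * h⁻¹) * (h * s * h⁻¹)⁻¹ * (h * y * h⁻¹)⁻¹ =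
      h * (s * y * s⁻¹ * y⁻¹) * h⁻¹ by group]
    refine conj_mem_cj ?_
    by_cases hy1 : y = 1
    · simp [hy1]
    by_cases hyr : y = r
    · rw [hyr, (hrS s hs).eq, mul_inv_cancel_right, mul_inv_cancel]; exact Subgroup.one_mem _
    rcases conj_four hK.2.2.2.2.1 hK.2.2.2.2.2 hr.2 hr1 hy hy1 hyr ((hSK.trans (nzK_le_nzW hK)) hs)
      (hrS s hs) with e | e <;> rw [e]
    · rw [mul_inv_cancel]; exact Subgroup.one_mem _
    · rw [mul_inv_cancel_right]; exact hrZ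
  have hVS' : V ≤ (S' : Subgroup G) := by
    rw [hS']; exact cj_mono ((W_le_J hK hS2).trans (thompsonOf_le _))
  have hnV : (S' : Subgroup G) ≤ normalizer (V : Set G) := fun s hs =>
    mem_nz_of_cj_le (cj_le_iff.2 fun y hy => by
      have h1 : Cfsg.omegaCenterOf (S' : Subgroup G) ≤ V := fun z hz => by
        by_cases hz1 : z = 1
        · exact hz1 ▸ V.one_mem
        · rw [eq_of_card_two hns.card_omZ hz hz1 hrV (fun e => hr1 (conj_eq_one_iff.1 e))]
          exact conj_mem_cj hr.2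
      simpa using V.mul_mem (h1 (hcomm s hs y hy)) hy)
  set E := zc T K' ⊔ Cfsg.wOf K' with hE
  have hET : E ≤ T := (hadm.Z_le_core am).trans (hadm.core_le_P am)
  have hzE : zJ T ≤ E := hadm.zJ_le_Z
  have hKE : K' ≤ normalizer (E : Set G) :=
    le_nz_sup (((le_sup_left : K' ≤ K' ⊔ 𝐉 T).trans (zc_cent hadm.comp)).trans (centralizer_le_nz _))
      (le_sup_left.trans (H_le_nzW hadm.comp))
  have hTE : T ≤ normalizer (E : Set G) := by
    rw [hE, ← hadm.Q_eq_Z am hsm]; exact hadm.P_le_L.trans (le_nz_pCoreOf _)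
  have hEloc : Cfsg.IsTwoLocal (normalizer (E : Set G)) :=
    ⟨E, hns.hT.1.1.to_le hET, fun e => W_ne_bot hadm.comp (le_bot_iff.1 (le_sup_right.trans e.le)), rfl⟩
  have hEout : ¬ normalizer (E : Set G) ≤ N := fun hle => hns.hK.2.1 (hKE.trans hle)
  have hin : ∀ {y : G}, y ∈ (S' : Subgroup G) → y ∈ normalizer (E : Set G) → y ∈ T := fun hy hyn =>
    mem_T_of_outside am S hns.hMJ hns.hT S'.isPGroup' hns.hTS hEloc hEout hTE hy hyn
  have hVT : V ≤ T := fun y hy => hin (hVS' hy) (mem_nz_of_cj_le (cj_le_iff.2 fun z hz => by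
    have h1 : z * y * z⁻¹ * y⁻¹ ∈ E := hzE (hns.omZ_le (hcomm z (hns.hTS (hET hz)) y hy))
    have h2 := E.mul_mem (E.inv_mem h1) hz
    convert h2 using 1
    group))
  obtain ⟨A, B, -, -, -, -, hAc, hBc, -, hAB, hall⟩ := hsm
  have hEc : Nat.card E = Nat.card ↥(zJ T) * 2 := by
    have e1 := Coprime.card_sup_mul_card_inf_of_le_normalizer (A := zc T K') (N := Cfsg.wOf K')
      (fun q hq => centralizer_le_nz _ (Subgroup.mem_centralizer_iff.2 fun w hw =>
        ((mem_omegaCenter_iff.1 hq.1).2.1 w (W_le_J hadm.comp hadm.p2 hw)).eq))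
    rw [zc_inf_W hadm.comp, Subgroup.card_bot, mul_one, hadm.comp.2.2.2.2.1] at e1
    rw [hE, e1, card_zJ hadm.comp hadm.p2]
    ring
  have hEA : ∀ X : Subgroup G, Cfsg.IsElementaryAbelian 2 X → X ≤ T → Nat.card X = Nat.card ↥(zJ T) * 2 →
      X = A ∨ X = B := fun X hX hXT hXc => (hall X hX hXT).imp
    (fun h1 => Subgroup.eq_of_le_of_card_ge h1 (by rw [hXc, hAc]))
    (fun h1 => Subgroup.eq_of_le_of_card_ge h1 (by rw [hXc, hBc]))
  have h1 := hEA E (hadm.Z_elem am) hET hEc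
  have h2 := hEA (cj u E) (Thompson.isElementaryAbelian_map _ (hadm.Z_elem am))
    ((cj_mono hET).trans (cj_eq_of_mem_nz hns.hun).le) (by rw [card_cj, hEc])
  have hne : cj u E ≠ E := fun e => hns.huT (hin hns.hu (mem_nz_of_cj_eq e))
  have hVel : Cfsg.IsElementaryAbelian 2 V := Thompson.isElementaryAbelian_map _ (W_elem hK)
  have hVu : cj u V = V := cj_eq_of_mem_nz (hnV hns.hu)
  have hVE : V ≤ E ∧ V ≤ cj u E := by
    have h3 : V ≤ E ∨ V ≤ cj u E := by
      rcases hall V hVel hVT with h3 | h3 <;> rcases h1 with e1 | e1 <;> rcases h2 with e2 | e2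
      all_goals first
        | exact Or.inl (e1 ▸ h3)
        | exact Or.inr (e2 ▸ h3)
        | exact absurd (e2.trans e1.symm) hne
    rcases h3 with h3 | h3
    · exact ⟨h3, hVu.ge.trans (cj_mono h3)⟩
    · refine ⟨fun y hy => ?_, h3⟩
      have h4 := h3 (hVu.le (conj_mem_cj (g := u) hy))
      rw [mem_cj] at h4
      simpa [mul_assoc] using h4
  have hVz : V ≤ zJ T := fun y hy => hAB <| by
    rcases h1 with e1 | e1 <;> rcases h2 with e2 | e2
    · exact absurd (e2.trans e1.symm) hne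
    · exact ⟨e1 ▸ hVE.1 hy, e2 ▸ hVE.2 hy⟩
    · exact ⟨e2 ▸ hVE.2 hy, e1 ▸ hVE.1 hy⟩
    · exact absurd (e2.trans e1.symm) hne
  have hVc : Nat.card V = 4 := by rw [hV, card_cj, hK.2.2.2.2.1]
  have heq : V = zJ T := Subgroup.eq_of_le_of_card_ge hVz (hVc ▸ hns.four)
  have hzc : zc T K' ≠ ⊥ := fun e => by
    have e1 := card_zJ hadm.comp hadm.p2
    rw [e, Subgroup.card_bot, ← heq, hVc] at e1
    omega
  obtain ⟨c, hc, hc1⟩ := (Subgroup.bot_or_exists_ne_one _).resolve_left hzc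
  obtain ⟨c₀, hc₀, hce⟩ := heq.ge hc.1
  change h * c₀ * h⁻¹ = c at hce
  obtain ⟨x, hx, hx3⟩ := exists_three hK
  obtain ⟨y, hy, hyc⟩ : ∃ y ∈ K, y * r * y⁻¹ = c₀ := by
    have hc₀1 : c₀ ≠ 1 := fun e => hc1 (hce ▸ (by simp [e]))
    have ha : Adm (S : Subgroup G) K := adm_sylow am S hK hSK (by
      have e1 := card_zJ hK hS2
      have e2 : Nat.card ↥(zc (S : Subgroup G) K) ≤ 1 := by
        by_contra hlt
        obtain ⟨q, hq, hq1, hqS⟩ := exists_fixed (p := 2) (P := zc (S : Subgroup G) K)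
          (Thompson.isPGroup_of_elementary (Thompson.isElementaryAbelian_le (zJ_elem _) inf_le_left)) hS2
          (le_nz_inf hSJ (le_nz_centralizer hSK)) (fun e => by rw [e, Subgroup.card_bot] at hlt; omega)
        have := eq_of_card_two hz2 (hmem q hq.1 hqS) hq1 hrZ hr1
        exact hq1 (Subgroup.mem_bot.1 ((zc_inf_W hK).le ⟨hq, this ▸ hr.2⟩))
      omega)
    obtain ⟨k, hk, hck⟩ := ha.Z_mem_conj (z := c₀) (Subgroup.mem_sup_right hc₀)
    refine ⟨k, hk, ?_⟩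
    rw [zJ_cj, mem_cj] at hck
    have h4 : k⁻¹ * c₀ * k ∈ wl (S : Subgroup G) K := ⟨hck, by
      simpa using conj_mem_of_nz (H_le_nzW hK (Subgroup.mem_sup_left (K.inv_mem hk))) hc₀⟩
    have h5 : k⁻¹ * c₀ * k ≠ 1 := fun e => hc₀1 (by
      calc c₀ = k * (k⁻¹ * c₀ * k) * k⁻¹ := by group
        _ = 1 := by rw [e]; group)
    rw [← eq_of_card_two (card_wl hK hS2) h4 h5 hr hr1]
    group
  -- `C(c)` has a normal Sylow subgroup
  set g := h * y
  set S₁ : Sylow 2 G := g • S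
  have hS₁ : (S₁ : Subgroup G) = cj g (S : Subgroup G) := rfl
  have hS₁Z : Cfsg.omegaCenterOf (S₁ : Subgroup G) = cj g (Cfsg.omegaCenterOf (S : Subgroup G)) := by
    rw [hS₁]; exact omZ_cj g _
  have hc' : c ∈ Cfsg.omegaCenterOf (S₁ : Subgroup G) := by
    rw [hS₁Z, ← hce, ← hyc, show h * (y * r * y⁻¹) * h⁻¹ = g * r * g⁻¹ by simp only [g]; group]
    exact conj_mem_cj hrZ
  have hcard : Nat.card ↥(Cfsg.omegaCenterOf (S₁ : Subgroup G)) = 2 := by rw [hS₁Z, card_cj, hz2]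
  have hle : ∀ X : Subgroup G, (∀ a ∈ X, Commute a c) → X ≤ normalizer ((S₁ : Subgroup G) : Set G) :=
    fun X hX a ha => am.cen S₁ (Subgroup.mem_centralizer_iff.2 fun z hz => by
      by_cases hz1 : z = 1
      · simp [hz1]
      · rw [eq_of_card_two hcard hz hz1 hc' hc1]
        exact (hX a ha).eq.symm)
  refine not_le_nz hadm.comp S₁.isPGroup' ?_ (hle K' fun a ha => Subgroup.mem_centralizer_iff.1 hc.2 a ha)
  refine mem_sylow_of_nz S₁ (hns.hT.1.1.to_le (thompsonOf_le T)) (hle _ fun a ha => ?_)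
  exact (mem_omegaCenter_iff.1 hc.1).2.1 a ha

/-- An involution fixes at least the square root of an elementary abelian group. -/
theorem card_le_sq_cent {U : Subgroup G} (hU : Cfsg.IsElementaryAbelian 2 U) {t : G} (ht2 : t * t = 1)
    (htU : t ∈ normalizer (U : Set G)) :
    Nat.card U ≤ Nat.card ↥(U ⊓ centralizer ({t} : Set G)) * Nat.card ↥(U ⊓ centralizer ({t} : Set G)) := by
  set C := U ⊓ centralizer ({t} : Set G)
  have hti : t⁻¹ = t := inv_eq_of_mul_eq_one_right ht2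
  have hsq : ∀ a ∈ U, a * a = 1 := fun a ha => by rw [← pow_two]; exact hU.2 a ha
  have hmem : ∀ a : U, (a : G) * (t * a * t⁻¹) ∈ C := fun a => by
    have h1 : t * a * t⁻¹ ∈ U := conj_mem_of_nz htU a.2
    refine ⟨U.mul_mem a.2 h1, Subgroup.mem_centralizer_singleton_iff.2 ?_⟩
    have h2 : (t * a * t⁻¹) * a = a * (t * a * t⁻¹) := Thompson.commute_of_elementary hU h1 a.2
    calc (a : G) * (t * a * t⁻¹) * t = (t * a * t⁻¹) * a * t := by rw [h2]
      _ = t * (a * (t * a * t)) := by rw [hti]; group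
      _ = _ := by rw [hti]
  have hle : Nat.card (U ⧸ C.subgroupOf U) ≤ Nat.card C := by
    refine Nat.card_le_card_of_injective
      (fun q => ⟨(q.out : G) * (t * q.out * t⁻¹), hmem q.out⟩ : U ⧸ C.subgroupOf U → C) fun p q e => ?_
    have e' : (p.out : G) * (t * p.out * t⁻¹) = (q.out : G) * (t * q.out * t⁻¹) := congrArg Subtype.val e
    rw [← p.out_eq, ← q.out_eq]
    refine QuotientGroup.eq.2 (Subgroup.mem_subgroupOf.2 ⟨U.mul_mem (U.inv_mem p.out.2) q.out.2,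
      Subgroup.mem_centralizer_singleton_iff.2 ?_⟩)
    simp only [Subgroup.coe_mul, Subgroup.coe_inv]
    set a : G := p.out.1
    set b : G := q.out.1
    have ha : a⁻¹ = a := inv_eq_of_mul_eq_one_right (hsq a p.out.2)
    have h2 : t * (a * b) * t⁻¹ = a * b := by
      calc t * (a * b) * t⁻¹ = (t * a * t⁻¹) * (t * b * t⁻¹) := by group
        _ = a⁻¹ * (a * (t * a * t⁻¹)) * (t * b * t⁻¹) := by group
        _ = a⁻¹ * (b * (t * b * t⁻¹)) * (t * b * t⁻¹) := by rw [e']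
        _ = a⁻¹ * b * ((t * b * t⁻¹) * (t * b * t⁻¹)) := by group
        _ = a * b := by rw [hsq _ (conj_mem_of_nz htU q.out.2), mul_one, ha]
    rw [ha]
    exact (mul_inv_eq_iff_eq_mul.1 h2).symm
  have e := Subgroup.card_mul_index (C.subgroupOf U)
  rw [Nat.card_congr (Subgroup.subgroupOfEquivOfLe (inf_le_left : C ≤ U)).toEquiv, Subgroup.index_eq_card] at e
  rw [← e]
  exact Nat.mul_le_mul_left _ hle

end Cfsg.Agent.Lib.LocalChar.JComp
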