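import Cfsg.Agent.Lib.LocalChar.JKey

/-! The components of a Sylow subgroup do not all normalise each other. -/

set_option autoImplicit false
set_option linter.unusedSectionVars false
open scoped commutatorElement
open Subgroup (centralizer normalizer zpowers)

namespace Cfsg.Agent.Lib.LocalChar.JComp

variable {G : Type*} [Group G] [Finite G]

local notation "𝐉" T:max => Cfsg.thompsonSubgroupOf 2 T

/-- The components of `S`. -/
def compsOf (S : Subgroup G) : Set (Subgroup G) := {X | Cfsg.IsJComponent S X}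

/-- The subgroup generated by all planes. -/
def planes (S : Subgroup G) : Subgroup G := ⨆ X ∈ compsOf S, Cfsg.wOf X

section

variable (am : Amb G) (S : Sylow 2 G)
  (hpair : ∀ X Y : Subgroup G, Cfsg.IsJComponent (S : Subgroup G) X → Cfsg.IsJComponent (S : Subgroup G) Y →
    X ≤ normalizer (Y : Set G))
  {K : Subgroup G} (hK : Cfsg.IsJComponent (S : Subgroup G) K)
include am hpair hK

theorem planes_le_J : planes (S : Subgroup G) ≤ 𝐉 (S : Subgroup G) :=
  iSup₂_le fun _ hX => W_le_J hX S.isPGroup'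

theorem nzJ_le_planes : normalizer (𝐉 (S : Subgroup G) : Set G) ≤ normalizer (planes (S : Subgroup G) : Set G) :=
  fun g hg => mem_nz_of_cj_le (Subgroup.map_le_iff_le_comap.2 (iSup₂_le fun X hX =>
    Subgroup.map_le_iff_le_comap.1 (by
      show cj g (Cfsg.wOf X) ≤ planes (S : Subgroup G)
      rw [← wOf_cj]
      exact le_biSup Cfsg.wOf ((good_of_sylow am S hX).nzJ_conj hg).1)))

theorem comp_le_planes {X : Subgroup G} (hX : Cfsg.IsJComponent (S : Subgroup G) X) :
    X ≤ normalizer (planes (S : Subgroup G) : Set G) := fun x hx =>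
  mem_nz_of_cj_le (Subgroup.map_le_iff_le_comap.2 (iSup₂_le fun Y hY w hw => Subgroup.mem_comap.2
    ((le_biSup Cfsg.wOf hY : Cfsg.wOf Y ≤ planes (S : Subgroup G))
      (conj_mem_of_nz (nzK_le_nzW hY (hpair X Y hX hY hx)) hw))))

theorem planes_local : Cfsg.IsTwoLocal (normalizer (planes (S : Subgroup G) : Set G)) :=
  ⟨_, (S.isPGroup'.to_le (thompsonOf_le _)).to_le (planes_le_J am S hpair hK),
    fun e => W_ne_bot hK (le_bot_iff.1 ((le_biSup Cfsg.wOf (show K ∈ compsOf (S : Subgroup G) from hK)).trans e.le)),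
    rfl⟩

theorem planes_over : normalizer (planes (S : Subgroup G) : Set G) ∈ Cfsg.jOvergroups (S : Subgroup G) := by
  have hSN : (S : Subgroup G) ≤ normalizer (planes (S : Subgroup G) : Set G) :=
    (Subgroup.le_normalizer.trans (nz_le_nz_thompson _)).trans (nzJ_le_planes am S hpair hK)
  exact ⟨isSylowTwoIn_iff.2 (IsSylowIn.of_le S hSN),
    not_J_le_core hK (sup_le (comp_le_planes am S hpair hK hK) ((thompsonOf_le _).trans hSN)),
    cent_core_le am (planes_local am S hpair hK)⟩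

theorem local_le {L : Subgroup G} (hL : Cfsg.IsTwoLocal L) (hJL : 𝐉 (S : Subgroup G) ≤ L) :
    L ≤ normalizer (planes (S : Subgroup G) : Set G) := by
  by_cases hJO : 𝐉 (S : Subgroup G) ≤ Cfsg.pCoreOf 2 L
  · refine le_trans ?_ (nzJ_le_planes am S hpair hK)
    rw [← thompson_eq_sylow S (isPGroup_pCoreOf L) hJO]
    exact (le_nz_pCoreOf L).trans (nz_le_nz_thompson _)
  obtain ⟨P, hP, hJP⟩ := exists_isSylowIn_ge (p := 2) (S.isPGroup'.to_le (thompsonOf_le _)) hJL
  have e := thompson_eq_sylow S hP.2.1 hJP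
  refine le_of_components am (L := L) (T := P) ⟨isSylowTwoIn_iff.2 hP, by rw [e]; exact hJO, cent_core_le am hL⟩
    (by rw [e]; exact nzJ_le_planes am S hpair hK) fun X hX _ => ?_
  exact comp_le_planes am S hpair hK (component_congr e hX)

theorem perm {g : G} (hg : g ∈ normalizer (planes (S : Subgroup G) : Set G)) {X : Subgroup G}
    (hX : Cfsg.IsJComponent (S : Subgroup G) X) : Cfsg.IsJComponent (S : Subgroup G) (cj g X) := by
  let M₀ : Subgroup G :=
    { carrier := {g | ∀ X, (Cfsg.IsJComponent (S : Subgroup G) (cj g X) ↔ Cfsg.IsJComponent (S : Subgroup G) X)}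
      one_mem' := fun X => by rw [cj_one]
      mul_mem' := fun {a b} ha hb X => by rw [← cj_cj, ha, hb]
      inv_mem' := fun {a} ha X => by
        have := ha (cj a⁻¹ X)
        rw [cj_cj_inv] at this
        exact this.symm }
  have hJ : normalizer (𝐉 (S : Subgroup G) : Set G) ≤ M₀ := fun n hn X => by
    refine ⟨fun h => ?_, fun h => ((good_of_sylow am S h).nzJ_conj hn).1⟩
    have := ((good_of_sylow am S h).nzJ_conj (Subgroup.inv_mem _ hn)).1
    rwa [cj_inv_cj] at this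
  have hle : normalizer (planes (S : Subgroup G) : Set G) ≤ M₀ :=
    le_of_components am (planes_over am S hpair hK) hJ fun Y hY _ y hy X => by
      refine ⟨fun h => ?_, fun h => by rwa [cj_eq_of_mem_nz (hpair Y X hY h hy)]⟩
      have := cj_eq_of_mem_nz (hpair Y _ hY h (Y.inv_mem hy))
      rw [cj_inv_cj] at this
      rwa [← this] at h
  exact (hle hg X).2 hX

theorem split_finset (s : Finset (Subgroup G)) (hs : ∀ X ∈ s, Cfsg.IsJComponent (S : Subgroup G) X) :
    ∀ v ∈ (⨆ X ∈ s, Cfsg.wOf X), ∃ g ∈ (⨆ X ∈ s, X), g * v * g⁻¹ ∈ zJ (S : Subgroup G) ⊓ ⨆ X ∈ s, Cfsg.wOf X := by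
  classical
  have hL := planes_over am S hpair hK
  induction s using Finset.induction_on with
  | empty =>
    intro v hv
    refine ⟨1, Subgroup.one_mem _, ?_⟩
    simpa using hv
  | @insert a s has ih =>
    have ha := hs a (Finset.mem_insert_self a s)
    have hs' : ∀ X ∈ s, Cfsg.IsJComponent (S : Subgroup G) X := fun X hX => hs X (Finset.mem_insert_of_mem hX)
    have hca : (⨆ X ∈ s, Cfsg.wOf X) ≤ centralizer (a : Set G) := iSup₂_le fun X hX =>
      comp_cent am hL ha (comp_le_planes am S hpair hK ha) (hs' X hX) (comp_le_planes am S hpair hK (hs' X hX))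
        (fun e => has (e ▸ hX))
    have hcs : (⨆ X ∈ s, X) ≤ centralizer (Cfsg.wOf a : Set G) := iSup₂_le fun X hX =>
      Subgroup.le_centralizer_iff.1 (comp_cent am hL (hs' X hX) (comp_le_planes am S hpair hK (hs' X hX)) ha
        (comp_le_planes am S hpair hK ha) (fun e => has (e ▸ hX)))
    have hVn : Cfsg.wOf a ≤ normalizer ((⨆ X ∈ s, Cfsg.wOf X : Subgroup G) : Set G) := fun w hw =>
      centralizer_le_nz _ (Subgroup.mem_centralizer_iff.2 fun y hy =>
        ((Subgroup.mem_centralizer_iff.1 (hca hy)) w (pCoreOf_le a (W_le_Q ha hw))).symm)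
    intro v hv
    rw [Finset.iSup_insert, mem_sup_iff_of_nz hVn] at hv
    obtain ⟨w, hw, v', hv', rfl⟩ := hv
    obtain ⟨g, hg, hgz, hgs⟩ := ih hs' v' hv'
    have hgw : g * w * g⁻¹ = w := by
      rw [← Subgroup.mem_centralizer_iff.1 (hcs hg) w hw, mul_inv_cancel_right]
    obtain ⟨k, hk, hkw⟩ : ∃ k ∈ a, k * w * k⁻¹ ∈ zJ (S : Subgroup G) ⊓ Cfsg.wOf a := by
      by_cases hw1 : w = 1
      · exact ⟨1, a.one_mem, by simp [hw1]⟩
      obtain ⟨r, hr, hr1, -, -⟩ := exists_gen_two (card_wl ha S.isPGroup')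
      obtain ⟨x, hx, hx3⟩ := exists_three ha
      have hxW : ∀ {y : G}, y ∈ Cfsg.wOf a → x * y * x⁻¹ ∈ Cfsg.wOf a := fun hy =>
        conj_mem_of_nz (H_le_nzW ha (Subgroup.mem_sup_left hx)) hy
      by_contra hno
      push Not at hno
      have n0 := hno 1 a.one_mem
      have n1 := hno x hx
      have n2 := hno (x * x) (a.mul_mem hx hx)
      rw [one_mul, inv_one, mul_one] at n0
      have d1 : x * w * x⁻¹ ≠ w := fun e => hw1 (fix_free ha hx hx3 hw (mul_inv_eq_iff_eq_mul.1 e))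
      have hw' := hxW hw
      have hw'' := hxW hw'
      have d1' : x * w * x⁻¹ ≠ 1 := fun e => hw1 (conj_eq_one_iff.1 e)
      have d2 : x * (x * w * x⁻¹) * x⁻¹ ≠ x * w * x⁻¹ := fun e =>
        d1' (fix_free ha hx hx3 hw' (mul_inv_eq_iff_eq_mul.1 e))
      have d3 : x * (x * w * x⁻¹) * x⁻¹ ≠ w := fun e => d1 (by
        have h3 : x ^ 3 = 1 := hx3 ▸ pow_orderOf_eq_one x
        calc x * w * x⁻¹ = x * (x * (x * w * x⁻¹) * x⁻¹) * x⁻¹ := by rw [e]
          _ = x ^ 3 * w * (x ^ 3)⁻¹ := by simp only [pow_succ, pow_zero, one_mul]; group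
          _ = w := by rw [h3]; simp)
      have hrn : r ≠ w ∧ r ≠ x * w * x⁻¹ ∧ r ≠ x * (x * w * x⁻¹) * x⁻¹ := by
        refine ⟨fun e => n0 (e ▸ hr), fun e => n1 (e ▸ hr), fun e => n2 ?_⟩
        rw [show x * x * w * (x * x)⁻¹ = x * (x * w * x⁻¹) * x⁻¹ by group]
        exact e ▸ hr
      have hsub : ({1, r, w, x * w * x⁻¹, x * (x * w * x⁻¹) * x⁻¹} : Set G) ⊆ (Cfsg.wOf a : Set G) := by
        rintro _ (rfl | rfl | rfl | rfl | rfl)
        exacts [Subgroup.one_mem _, hr.2, hw, hw', hw'']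
      have h5 := Set.ncard_le_ncard hsub (Set.toFinite _)
      rw [Set.ncard_insert_of_notMem, Set.ncard_insert_of_notMem, Set.ncard_insert_of_notMem, Set.ncard_pair,
        ← Nat.card_coe_set_eq] at h5
      · change 2 + 1 + 1 + 1 ≤ Nat.card ↥(Cfsg.wOf a) at h5
        rw [ha.2.2.2.2.1] at h5
        omega
      · exact d2.symm
      · simp [d1.symm, d3.symm]
      · simp [hrn.1, hrn.2.1, hrn.2.2]
      · have d4 : x * (x * w * x⁻¹) * x⁻¹ ≠ 1 := fun e => d1' (conj_eq_one_iff.1 e)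
        simp [hr1.symm, Ne.symm hw1, d1'.symm, d4.symm]
    have hkv : k * (g * v' * g⁻¹) * k⁻¹ = g * v' * g⁻¹ := by
      have h1 : k * (g * v' * g⁻¹) = (g * v' * g⁻¹) * k := Subgroup.mem_centralizer_iff.1 (hca hgs) k hk
      rw [h1, mul_inv_cancel_right]
    refine ⟨k * g, ?_, ?_⟩
    · rw [Finset.iSup_insert]
      exact Subgroup.mul_mem _ (Subgroup.mem_sup_left hk) (Subgroup.mem_sup_right hg)
    have e : k * g * (w * v') * (k * g)⁻¹ = (k * w * k⁻¹) * (g * v' * g⁻¹) := by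
      calc k * g * (w * v') * (k * g)⁻¹ = k * ((g * w * g⁻¹) * (g * v' * g⁻¹)) * k⁻¹ := by group
        _ = (k * w * k⁻¹) * (k * (g * v' * g⁻¹) * k⁻¹) := by rw [hgw]; group
        _ = _ := by rw [hkv]
    rw [e, Finset.iSup_insert]
    exact ⟨(zJ (S : Subgroup G)).mul_mem hkw.1 hgz,
      Subgroup.mul_mem _ (Subgroup.mem_sup_left hkw.2) (Subgroup.mem_sup_right hgs)⟩

theorem to_zJ {v : G} (hv : v ∈ planes (S : Subgroup G)) :
    ∃ g ∈ normalizer (planes (S : Subgroup G) : Set G), g * v * g⁻¹ ∈ zJ (S : Subgroup G) := by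
  classical
  have hfin : (compsOf (S : Subgroup G)).Finite := Set.toFinite _
  have e : planes (S : Subgroup G) = ⨆ X ∈ hfin.toFinset, Cfsg.wOf X :=
    le_antisymm (iSup₂_le fun X hX => le_biSup Cfsg.wOf (show X ∈ hfin.toFinset from hfin.mem_toFinset.2 hX))
      (iSup₂_le fun X hX => le_biSup Cfsg.wOf (hfin.mem_toFinset.1 hX))
  obtain ⟨g, hg, hz, -⟩ := split_finset am S hpair hK hfin.toFinset (fun X hX => hfin.mem_toFinset.1 hX) v
    (e ▸ hv)
  exact ⟨g, (iSup₂_le fun X hX => comp_le_planes am S hpair hK (hfin.mem_toFinset.1 hX) :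
    (⨆ X ∈ hfin.toFinset, X) ≤ _) hg, hz⟩

theorem cent_le_planes {v : G} (hv : v ∈ planes (S : Subgroup G)) (hv1 : v ≠ 1) :
    centralizer ({v} : Set G) ≤ normalizer (planes (S : Subgroup G) : Set G) := fun c hc => by
  obtain ⟨a, ha, hz⟩ := to_zJ am S hpair hK hv
  have hz1 : a * v * a⁻¹ ≠ 1 := fun e => hv1 (conj_eq_one_iff.1 e)
  have hL : Cfsg.IsTwoLocal (centralizer ({a * v * a⁻¹} : Set G)) := by
    have := isTwoLocal_cent_two (H := zpowers (a * v * a⁻¹))
      (by rw [Nat.card_zpowers, orderOf_eq_prime ((zJ_elem _).2 _ hz) hz1])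
    rwa [Subgroup.zpowers_eq_closure, Subgroup.centralizer_closure] at this
  have h1 : a * c * a⁻¹ ∈ centralizer ({a * v * a⁻¹} : Set G) := by
    rw [Subgroup.mem_centralizer_singleton_iff] at hc ⊢
    calc a * c * a⁻¹ * (a * v * a⁻¹) = a * (c * v) * a⁻¹ := by group
      _ = a * (v * c) * a⁻¹ := by rw [hc]
      _ = _ := by group
  have h2 := local_le am S hpair hK hL (fun j hj => Subgroup.mem_centralizer_singleton_iff.2
    ((mem_omegaCenter_iff.1 hz).2.1 j hj).eq) h1
  simpa [mul_assoc] using Subgroup.mul_mem _ (Subgroup.mul_mem _ (Subgroup.inv_mem _ ha) h2) ha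

/-- The planes form a TI-set. -/
theorem planes_ti {v g : G} (hv : v ∈ planes (S : Subgroup G)) (hv1 : v ≠ 1)
    (hg : g * v * g⁻¹ ∈ planes (S : Subgroup G)) : g ∈ normalizer (planes (S : Subgroup G) : Set G) := by
  set N := normalizer (planes (S : Subgroup G) : Set G)
  obtain ⟨a, ha, hz⟩ := to_zJ am S hpair hK hv
  obtain ⟨b, hb, hz'⟩ := to_zJ am S hpair hK hg
  set z := a * v * a⁻¹
  set z' := b * (g * v * g⁻¹) * b⁻¹
  set y := b * g * a⁻¹
  have hzy : y * z * y⁻¹ = z' := by simp only [y, z, z']; group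
  have hz'1 : z' ≠ 1 := fun e => hv1 (conj_eq_one_iff.1 (conj_eq_one_iff.1 e))
  set L := centralizer ({z'} : Set G)
  have hz'V : z' ∈ planes (S : Subgroup G) := conj_mem_of_nz hb hg
  have hLN : L ≤ N := cent_le_planes am S hpair hK hz'V hz'1
  have hJL : 𝐉 (S : Subgroup G) ≤ L := fun j hj => Subgroup.mem_centralizer_singleton_iff.2
    ((mem_omegaCenter_iff.1 hz').2.1 j hj).eq
  have hyJ : cj y (𝐉 (S : Subgroup G)) ≤ L := cj_le_iff.2 fun j hj => by
    refine Subgroup.mem_centralizer_singleton_iff.2 ?_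
    rw [← hzy]
    calc y * j * y⁻¹ * (y * z * y⁻¹) = y * (j * z) * y⁻¹ := by group
      _ = y * (z * j) * y⁻¹ := by rw [((mem_omegaCenter_iff.1 hz).2.1 j hj).eq]
      _ = _ := by group
  obtain ⟨P, hP, hJP⟩ := exists_isSylowIn_ge (p := 2) (S.isPGroup'.to_le (thompsonOf_le _)) hJL
  obtain ⟨c, hc, hcJ⟩ := hP.conj_le (isPGroup_cj (S.isPGroup'.to_le (thompsonOf_le _))) hyJ
  have e := thompson_eq_sylow S hP.2.1 hJP
  have hcy : c * y ∈ normalizer (𝐉 (S : Subgroup G) : Set G) := by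
    refine mem_nz_of_cj_le ?_
    conv_lhs => rw [thompsonOf_eq]
    refine Subgroup.map_le_iff_le_comap.2 (sSup_le fun A hA => Subgroup.map_le_iff_le_comap.1 ?_)
    have hA' : A ∈ jset P := jset_of_thompson_eq e hA
    refine (jset_le (jset_of_card hA' (Thompson.isElementaryAbelian_map _ hA.1) ?_ (card_cj _ A).ge)).trans e.le
    show cj (c * y) A ≤ P
    rw [← cj_cj]
    exact (cj_mono (cj_mono (jset_le hA))).trans hcJ
  have h1 : y ∈ N := by
    have := N.mul_mem (N.inv_mem (hLN hc)) (nzJ_le_planes am S hpair hK hcy)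
    simpa [← mul_assoc] using this
  have := N.mul_mem (N.mul_mem (N.inv_mem hb) h1) ha
  simpa [y, mul_assoc] using this

end

/-- The components of a Sylow subgroup do not all normalise each other. -/
theorem not_all_pairwise (am : Amb G) (hO : Cfsg.pCore 2 G = ⊥) (S : Sylow 2 G)
    (hpair : ∀ X Y : Subgroup G, Cfsg.IsJComponent (S : Subgroup G) X → Cfsg.IsJComponent (S : Subgroup G) Y →
      X ≤ normalizer (Y : Set G))
    {K : Subgroup G} (hK : Cfsg.IsJComponent (S : Subgroup G) K) : False := by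
  set V := planes (S : Subgroup G) with hV
  set N := normalizer (V : Set G) with hN
  have hNJ : normalizer (𝐉 (S : Subgroup G) : Set G) ≤ N := nzJ_le_planes am S hpair hK
  have hNl : Cfsg.IsTwoLocal N := planes_local am S hpair hK
  have hKN : K ≤ N := comp_le_planes am S hpair hK hK
  have hclose : ∀ L : Subgroup G, Cfsg.IsTwoLocal L → (S : Subgroup G) ≤ L → L ≤ N :=
    fun L hL hle => local_le am S hpair hK hL ((thompsonOf_le _).trans hle)
  by_cases hSK : ∃ X, Cfsg.IsJComponent (S : Subgroup G) X ∧ (S : Subgroup G) ≤ normalizer (X : Set G)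
  · obtain ⟨X, hX, hSX⟩ := hSK
    exact full_A am hO S hNl hNJ hX (comp_le_planes am S hpair hK hX) hSX hclose
  push Not at hSK
  obtain ⟨T, K', S', u, h, -, -, hns⟩ := setup am hO S hNl hNJ hK hKN hclose
  have hadm := hns.adm
  have hsm := hns.small
  have hVJ : V ≤ 𝐉 (S : Subgroup G) := planes_le_J am S hpair hK
  have hV2 : IsPGroup 2 V := (S.isPGroup'.to_le (thompsonOf_le _)).to_le hVJ
  -- `V` is elementary abelian of order at least 16
  have hover := planes_over am S hpair hK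
  have hVcomm : ∀ X Y : Subgroup G, Cfsg.IsJComponent (S : Subgroup G) X → Cfsg.IsJComponent (S : Subgroup G) Y →
      Cfsg.wOf X ≤ centralizer (Cfsg.wOf Y : Set G) := fun X Y hX hY => by
    by_cases e : X = Y
    · subst e
      exact fun w hw => Subgroup.mem_centralizer_iff.2 fun y hy => (W_comm hX hy hw).eq
    · exact fun w hw => Subgroup.mem_centralizer_iff.2 fun y hy =>
        (Subgroup.mem_centralizer_iff.1 (comp_cent am hover hY (comp_le_planes am S hpair hK hY) hX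
          (comp_le_planes am S hpair hK hX) (Ne.symm e) hw) y (pCoreOf_le Y (W_le_Q hY hy)))
  have hVab : V ≤ centralizer (V : Set G) := iSup₂_le fun X hX =>
    Subgroup.le_centralizer_iff.1 (iSup₂_le fun Y hY => hVcomm Y X hY hX)
  have hVel : Cfsg.IsElementaryAbelian 2 V := by
    refine ⟨Subgroup.le_centralizer_iff_isMulCommutative.1 hVab, fun v hv => ?_⟩
    obtain ⟨g, -, hz⟩ := to_zJ am S hpair hK hv
    have h2 := (zJ_elem _).2 _ hz
    rw [conj_pow] at h2
    exact conj_eq_one_iff.1 h2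
  have h16 : 16 ≤ Nat.card V := by
    obtain ⟨s, hs, hsK⟩ := SetLike.not_le_iff_exists.1 (hSK K hK)
    have hY := ((good_of_sylow am S hK).nzJ_conj (Subgroup.le_normalizer.trans (nz_le_nz_thompson _) hs)).1
    set Y := cj s K
    have hne : K ≠ Y := fun e => hsK (mem_nz_of_cj_eq e.symm)
    have hd : Cfsg.wOf K ⊓ Cfsg.wOf Y = ⊥ := (Subgroup.eq_bot_iff_forall _).2 fun d hd => by_contra fun hd1 =>
      hne (comp_eq am hover hK hKN hY (comp_le_planes am S hpair hK hY) hd.1 hd.2 hd1)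
    have e := Coprime.card_sup_mul_card_inf_of_le_normalizer (A := Cfsg.wOf K) (N := Cfsg.wOf Y)
      ((hVcomm K Y hK hY).trans (centralizer_le_nz _))
    rw [hd, Subgroup.card_bot, mul_one, hK.2.2.2.2.1, hY.2.2.2.2.1] at e
    calc 16 = Nat.card ↥(Cfsg.wOf K ⊔ Cfsg.wOf Y) := e.symm
      _ ≤ Nat.card V := Subgroup.card_le_of_le (sup_le (le_biSup Cfsg.wOf hK) (le_biSup Cfsg.wOf hY))
  have hTN : T ≤ N := hns.hT.1.2.2.1
  obtain ⟨v, hv, hv1, hvT⟩ := exists_fixed (p := 2) hV2 hns.hT.1.1 hTN (fun e => by rw [e, Subgroup.card_bot] at h16; omega)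
  have hv2 : v ^ 2 = 1 := hVel.2 v hv
  have hvz : v ∈ zJ T := by
    refine omZ_le_zJ T (mem_omegaCenter_iff.2 ⟨?_, hvT, hv2⟩)
    exact pCoreOf_le_sylowIn hadm.sylow_nW (hadm.nW_over.2.2 (Subgroup.mem_centralizer_iff.2 fun q hq =>
      (hvT q (pCoreOf_le_sylowIn hadm.sylow_nW hq)).eq))
  obtain ⟨x, hx, hx3⟩ := exists_three hadm.comp
  have hQT : Cfsg.pCoreOf 2 K' ≤ T :=
    (hadm.two_le_core am (isPGroup_pCoreOf _) (le_inf ((pCoreOf_le _).trans hadm.K_le_L)
      fun q hq => Subgroup.mem_centralizer_iff.2 fun y hy => (Q_comm_W hadm.comp hq hy).eq.symm)).trans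
      (hadm.core_le_P am)
  have hxN : x ∉ N := fun hxN => hns.hK.2.1 (by
    rw [K_eq hadm.comp hx hx3]
    exact sup_le (hQT.trans hTN) (Subgroup.zpowers_le.2 hxN))
  set Z := zc T K' ⊔ Cfsg.wOf K'
  have hZT : Z ≤ T := (hadm.Z_le_core am).trans (hadm.core_le_P am)
  have hZn : x ∈ normalizer (Z : Set G) :=
    le_nz_sup (((le_sup_left : K' ≤ K' ⊔ 𝐉 T).trans (zc_cent hadm.comp)).trans (centralizer_le_nz _))
      (le_sup_left.trans (H_le_nzW hadm.comp)) hx
  have ha : x * v * x⁻¹ ∈ Z := conj_mem_of_nz hZn (hadm.zJ_le_Z hvz)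
  have hb : x * x * v * (x * x)⁻¹ ∈ Z := by
    have := conj_mem_of_nz hZn ha
    convert this using 1
    group
  -- a conjugate of `v` moving `V`
  obtain ⟨g, hgN, heT, hec⟩ : ∃ g : G, g ∉ N ∧ g * v * g⁻¹ ∈ T ∧ g * v * g⁻¹ ∉ centralizer (V : Set G) := by
    by_contra hno
    push Not at hno
    have h1 := hno x hxN (hZT ha)
    have hx2N : x * x ∉ N := fun h' => hxN (by
      have h3 : x ^ 3 = 1 := hx3 ▸ pow_orderOf_eq_one x
      have := N.mul_mem h' h'
      rwa [show x * x * (x * x) = x ^ 3 * x by simp only [pow_succ, pow_zero, one_mul, mul_assoc], h3,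
        one_mul] at this)
    have h2 := hno (x * x) hx2N (hZT hb)
    have h0 : v ∈ centralizer (V : Set G) := hVab hv
    obtain ⟨q, hq, w, hw, hvw⟩ := hadm.Z_mem (hadm.zJ_le_Z hvz)
    have hxq : Commute x q := Subgroup.mem_centralizer_iff.1 hq.2 x hx
    have hw1 : w ≠ 1 := fun e => by
      rw [e, mul_one] at hvw
      refine hns.hK.2.1 (fun k hk => cent_le_planes am S hpair hK hv hv1 ?_)
      rw [hvw]
      exact Subgroup.mem_centralizer_singleton_iff.2 (Subgroup.mem_centralizer_iff.1 hq.2 k hk)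
    have hq2 : q * q = 1 := by rw [← pow_two]; exact (zJ_elem T).2 q hq.1
    have hxw : x * w * x⁻¹ ∈ Cfsg.wOf K' := conj_mem_of_nz (H_le_nzW hadm.comp (Subgroup.mem_sup_left hx)) hw
    have hwq : Commute w q := (mem_omegaCenter_iff.1 hq.1).2.1 w (W_le_J hadm.comp hadm.p2 hw)
    have e1 : v * (x * v * x⁻¹) = w * (x * w * x⁻¹) := by
      calc v * (x * v * x⁻¹) = (q * w) * ((x * q) * w * x⁻¹) := by rw [hvw]; group
        _ = q * (w * q) * (x * w * x⁻¹) := by rw [hxq.eq]; group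
        _ = _ := by rw [hwq.eq, ← mul_assoc q q w, hq2, one_mul]
    have e2 : x * (w * (x * w * x⁻¹)) * x⁻¹ = (x * v * x⁻¹) * (x * x * v * (x * x)⁻¹) := by rw [← e1]; group
    have hWV : Cfsg.wOf K' ≤ centralizer (V : Set G) := by
      refine W_le_of_two' hadm.comp hx hx3 ((Cfsg.wOf K').mul_mem hw hxw) (fun e => ?_)
        (e1 ▸ Subgroup.mul_mem _ h0 h1) (e2 ▸ Subgroup.mul_mem _ h1 h2)
      have h3 : x * w * x⁻¹ = w := by
        rw [eq_inv_of_mul_eq_one_right e]
        exact inv_eq_of_mul_eq_one_right (hadm.comp.2.2.2.2.2 w hw)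
      exact hw1 (fix_free hadm.comp hx hx3 hw (mul_inv_eq_iff_eq_mul.1 h3))
    have hVQ : V ≤ Cfsg.pCoreOf 2 (lGrp K' (zc T K')) := by
      rw [← hadm.centW_eq am hsm]
      exact Subgroup.le_centralizer_iff.1 hWV
    have h8 := Subgroup.card_le_of_le hVQ
    have e3 := hadm.card_core am
    obtain ⟨A, B, -, -, -, -, -, -, hPc, -, -⟩ := hsm
    have := hns.four
    omega
  set e := g * v * g⁻¹
  set V' := cj g V
  have hV'el : Cfsg.IsElementaryAbelian 2 V' := Thompson.isElementaryAbelian_map _ hVel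
  have hgN' : normalizer (V' : Set G) = cj g N := (Subgroup.map_equiv_normalizer_eq _ (MulAut.conj g)).symm
  have hVV' : ∀ y ∈ V, y ∈ V' → y = 1 := fun y hy hy' => by_contra fun hy1 => by
    obtain ⟨y₀, hy₀, e'⟩ := hy'
    change g * y₀ * g⁻¹ = y at e'
    exact hgN (planes_ti am S hpair hK hy₀ (fun h => hy1 (by rw [← e', h]; group)) (e'.symm ▸ hy))
  set E := V ⊓ cj g N
  set F := V' ⊓ N
  have hEF : ∀ y ∈ E, ∀ f ∈ F, Commute f y := fun y hy f hf => by
    have h1 : f * y * f⁻¹ * y⁻¹ ∈ V := V.mul_mem (conj_mem_of_nz hf.2 hy.1) (V.inv_mem hy.1)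
    have h2 : f * y * f⁻¹ * y⁻¹ ∈ V' := by
      have h3 : y * f⁻¹ * y⁻¹ ∈ V' := conj_mem_of_nz (hgN'.symm.le hy.2) (V'.inv_mem hf.1)
      have := V'.mul_mem hf.1 h3
      simpa [mul_assoc] using this
    exact mul_inv_eq_iff_eq_mul.1 (mul_inv_eq_one.1 (hVV' _ h1 h2))
  have hcent : ∀ f ∈ V', f ≠ 1 → ∀ y ∈ V, Commute f y → y ∈ E := fun f hf hf1 y hy hc => by
    obtain ⟨f₀, hf₀, e'⟩ := hf
    change g * f₀ * g⁻¹ = f at e'
    refine ⟨hy, mem_cj.2 (cent_le_planes am S hpair hK hf₀ (fun h => hf1 (by rw [← e', h]; group)) ?_)⟩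
    rw [Subgroup.mem_centralizer_singleton_iff]
    calc g⁻¹ * y * g * f₀ = g⁻¹ * (y * (g * f₀ * g⁻¹)) * g := by group
      _ = g⁻¹ * ((g * f₀ * g⁻¹) * y) * g := by rw [e', hc.eq]
      _ = _ := by group
  have he1 : e ≠ 1 := fun h => hv1 (conj_eq_one_iff.1 h)
  have heV' : e ∈ V' := conj_mem_cj hv
  have heF : e ∈ F := ⟨heV', hTN heT⟩
  have hvE : v ∈ E := hcent e heV' he1 v hv (hvT e heT)
  have hF4 : 4 ≤ Nat.card F := by
    have hle : V' ⊓ centralizer ({v} : Set G) ≤ F :=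
      le_inf inf_le_left (inf_le_right.trans (cent_le_planes am S hpair hK hv hv1))
    have h1 := card_le_sq_cent hV'el (t := v) (by rw [← pow_two]; exact hv2) (hgN'.symm.le hvE.2)
    rw [card_cj] at h1
    have h2 := Subgroup.card_le_of_le hle
    nlinarith [h16.trans h1]
  obtain ⟨Y, hY, hYE⟩ : ∃ Y, Cfsg.IsJComponent (S : Subgroup G) Y ∧ ¬ Cfsg.wOf Y ≤ E := by
    by_contra hno
    push Not at hno
    refine hec (Subgroup.mem_centralizer_iff.2 fun y hy => ?_)
    exact ((hEF y ((iSup₂_le fun X hX => hno X hX : V ≤ E) hy) e heF).eq).symm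
  obtain ⟨w, hw, hwE⟩ := SetLike.not_le_iff_exists.1 hYE
  have hwV : w ∈ V := (le_biSup Cfsg.wOf (show Y ∈ compsOf (S : Subgroup G) from hY) : Cfsg.wOf Y ≤ V) hw
  have hw1 : w ≠ 1 := fun h => hwE (h ▸ Subgroup.one_mem _)
  set w2 := e * w * e⁻¹
  set Ye := cj e Y
  have hYe : Cfsg.IsJComponent (S : Subgroup G) Ye := perm am S hpair hK heF.2 hY
  have hw2W : w2 ∈ Cfsg.wOf Ye := by rw [wOf_cj]; exact conj_mem_cj hw
  have hw2V : w2 ∈ V := conj_mem_of_nz heF.2 hwV
  have hw2w : w2 ≠ w := fun h => hwE (hcent e heV' he1 w hwV (mul_inv_eq_iff_eq_mul.1 h))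
  have hww : Commute w w2 := (Subgroup.mem_centralizer_iff.1 (hVab hwV) w2 hw2V).symm
  have hee : e * e = 1 := by rw [← pow_two]; exact hV'el.2 e heV'
  have hei : e⁻¹ = e := inv_eq_of_mul_eq_one_right hee
  have hu : w * w2 ∈ E := hcent e heV' he1 _ (V.mul_mem hwV hw2V) (mul_inv_eq_iff_eq_mul.1 (by
    calc e * (w * w2) * e⁻¹ = w2 * (e * w2 * e⁻¹) := by simp only [w2]; group
      _ = w2 * w := by
        congr 1
        simp only [w2]
        rw [hei, show e * (e * w * e) * e = (e * e) * w * (e * e) by group, hee, one_mul, mul_one]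
      _ = _ := hww.eq.symm))
  have hfu : ∀ f ∈ F, (f * w * f⁻¹) * (f * w2 * f⁻¹) = w * w2 := fun f hf => by
    calc (f * w * f⁻¹) * (f * w2 * f⁻¹) = f * (w * w2) * f⁻¹ := by group
      _ = _ := by rw [(hEF _ hu f hf).eq, mul_inv_cancel_right]
  -- the orbit of `w` under `F` is small
  obtain ⟨p, hp⟩ : ∃ p : G, ∀ f ∈ F, f * w * f⁻¹ = w ∨ f * w * f⁻¹ = p := by
    by_cases hYY : Ye = Y
    · refine ⟨w * w2 * w, fun f hf => ?_⟩
      have hu1 : w * w2 ≠ 1 := fun h => hw2w (by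
        rw [eq_inv_of_mul_eq_one_right h]
        exact inv_eq_of_mul_eq_one_right (hY.2.2.2.2.2 w hw))
      have huW : w * w2 ∈ Cfsg.wOf Y := (Cfsg.wOf Y).mul_mem hw (hYY ▸ hw2W)
      have hfY := perm am S hpair hK hf.2 hY
      have hfc : Commute f (w * w2) := hEF _ hu f hf
      have huW' : w * w2 ∈ Cfsg.wOf (cj f Y) := by
        have := conj_mem_cj (g := f) huW
        rwa [← wOf_cj, hfc.eq, mul_inv_cancel_right] at this
      have e' : cj f Y = Y := comp_eq am hover hfY (comp_le_planes am S hpair hK hfY) hY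
        (comp_le_planes am S hpair hK hY) huW' huW hu1
      have hfn : f ∈ normalizer (Cfsg.wOf Y : Set G) := mem_nz_of_cj_eq (by rw [← wOf_cj, e'])
      exact conj_four hY.2.2.2.2.1 hY.2.2.2.2.2 huW hu1 hw hw1
        (fun h => hwE (h ▸ hu)) hfn hfc
    refine ⟨w2, fun f hf => ?_⟩
    have hfY := perm am S hpair hK hf.2 hY
    have hfYe := perm am S hpair hK hf.2 hYe
    have hfw : f * w * f⁻¹ ∈ Cfsg.wOf (cj f Y) := by rw [wOf_cj]; exact conj_mem_cj hw
    have hfw2 : f * w2 * f⁻¹ ∈ Cfsg.wOf (cj f Ye) := by rw [wOf_cj]; exact conj_mem_cj hw2W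
    have hfne : cj f Ye ≠ cj f Y := fun h => hYY (by
      have := congrArg (cj f⁻¹) h
      rwa [cj_inv_cj, cj_inv_cj] at this)
    obtain ⟨y, hy, hy3⟩ := exists_three hfY
    have hc : ∀ {X : Subgroup G} {a : G}, Cfsg.IsJComponent (S : Subgroup G) X → a ∈ Cfsg.wOf X →
        cj f Y ≠ X → Commute y a := fun {X a} hX ha hne =>
      Subgroup.mem_centralizer_iff.1 (comp_cent am hover hfY (comp_le_planes am S hpair hK hfY) hX
        (comp_le_planes am S hpair hK hX) hne ha) y hy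
    have e0 := hfu f hf
    have hfix : Commute y (f * w2 * f⁻¹) := hc hfYe hfw2 hfne.symm
    by_cases h1 : cj f Y = Y
    · left
      have h2 : Commute y w2 := hc hYe hw2W (fun h => hYY (h.symm.trans h1))
      have h3 : w⁻¹ * (f * w * f⁻¹) = w2 * (f * w2 * f⁻¹)⁻¹ := by
        rw [eq_mul_inv_iff_mul_eq, mul_assoc, e0, inv_mul_cancel_left]
      have h4 : w⁻¹ * (f * w * f⁻¹) = 1 := fix_free hfY hy hy3
        ((Cfsg.wOf (cj f Y)).mul_mem (by rw [h1]; exact (Cfsg.wOf Y).inv_mem hw) hfw)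
        (h3 ▸ h2.mul_right hfix.inv_right)
      exact (inv_mul_eq_one.1 h4).symm
    by_cases h2 : cj f Y = Ye
    · right
      have h5 : Commute y w := hc hY hw (fun h => hYY (h2.symm.trans h))
      have h3 : w2⁻¹ * (f * w * f⁻¹) = w * (f * w2 * f⁻¹)⁻¹ := by
        rw [eq_mul_inv_iff_mul_eq, mul_assoc, e0, hww.eq, inv_mul_cancel_left]
      have h4 : w2⁻¹ * (f * w * f⁻¹) = 1 := fix_free hfY hy hy3
        ((Cfsg.wOf (cj f Y)).mul_mem (by rw [h2]; exact (Cfsg.wOf Ye).inv_mem hw2W) hfw)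
        (h3 ▸ h5.mul_right hfix.inv_right)
      exact (inv_mul_eq_one.1 h4).symm
    exfalso
    refine hw1 (conj_eq_one_iff.1 (fix_free hfY hy hy3 hfw ?_))
    have h6 : f * w * f⁻¹ = w * w2 * (f * w2 * f⁻¹)⁻¹ := by rw [eq_mul_inv_iff_mul_eq, e0]
    rw [h6]
    exact ((hc hY hw h1).mul_right (hc hYe hw2W h2)).mul_right hfix.inv_right
  have hinj : Function.Injective (fun f : F => (⟨(f : G) * w * (f : G)⁻¹, by
      rcases hp f f.2 with h | h
      · exact Or.inl h
      · exact Or.inr h⟩ : ({w, p} : Set G))) := by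
    intro f f' hff
    have e' : (f : G) * w * (f : G)⁻¹ = (f' : G) * w * (f' : G)⁻¹ := congrArg Subtype.val hff
    by_contra hne
    refine hwE (hcent ((f : G)⁻¹ * f') (V'.mul_mem (V'.inv_mem f.2.1) f'.2.1)
      (fun h => hne (Subtype.ext (inv_mul_eq_one.1 h))) w hwV ?_)
    show (f : G)⁻¹ * f' * w = w * ((f : G)⁻¹ * f')
    calc (f : G)⁻¹ * f' * w = (f : G)⁻¹ * ((f' : G) * w * (f' : G)⁻¹) * f' := by group
      _ = _ := by rw [← e']; group
  have h2 := Nat.card_le_card_of_injective _ hinj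
  have h3 : Nat.card ({w, p} : Set G) ≤ 2 := by
    rw [Nat.card_coe_set_eq]
    exact (Set.ncard_insert_le w {p}).trans (by rw [Set.ncard_singleton])
  exact absurd (hF4.trans (h2.trans h3)) (by norm_num)

end Cfsg.Agent.Lib.LocalChar.JComp
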