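import Cfsg.Agent.Lib.LocalChar.JKeyB

/-! Components outside `M` of a maximal straddling group: the main facts. -/

set_option autoImplicit false
set_option linter.unusedSectionVars false
open scoped commutatorElement
open Subgroup (centralizer normalizer zpowers)

namespace Cfsg.Agent.Lib.LocalChar.JComp

variable {G : Type*} [Group G] [Finite G] {M T K : Subgroup G}

local notation "𝐉" T:max => Cfsg.thompsonSubgroupOf 2 T

theorem sylow_outside (am : Amb G) (hO : Cfsg.pCore 2 G = ⊥) (S : Sylow 2 G)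
    (hMJ : normalizer (𝐉 (S : Subgroup G) : Set G) ≤ M) (S' : Sylow 2 G)
    (hT : (S' : Subgroup G) ∈ Cfsg.maxStraddlingTwoSubgroups M)
    (hK : K ∈ Cfsg.jComponentsOutside M (S' : Subgroup G)) :
    Nat.card ↥(zJ (S' : Subgroup G)) ≤ 4 ∧ (S' : Subgroup G) ≤ normalizer (K : Set G) := by
  have hT2 := S'.isPGroup'
  have h4 : Nat.card ↥(zJ (S' : Subgroup G)) ≤ 4 := by
    by_contra h
    exact not_all_pairwise am hO S' (fun X Y hX hY => by_contra fun hn =>
      h (Good.card_zJ_le am hT2 (good_of_sylow am S' hY) hX hn)) hK.1.1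
  refine ⟨h4, fun t ht => by_contra fun htK => ?_⟩
  obtain ⟨hne, hn1, hn2, hl1, hl2⟩ := swap_data am S hMJ hT hK ht htK
  set K' := cj t K
  have htJ : t ∈ normalizer (𝐉 (S' : Subgroup G) : Set G) :=
    Subgroup.le_normalizer.trans (nz_le_nz_thompson _) ht
  have hg := good_of_sylow am S' hK.1.1
  have hg' : Good (S' : Subgroup G) K' := hg.nzJ_conj htJ
  have hzcard := card_zJ hK.1.1 hT2
  have hc2 : Nat.card ↥(zc (S' : Subgroup G) K) = 2 := le_antisymm (by omega)
    ((card_wl hg'.1 hT2).ge.trans (Subgroup.card_le_of_le hl1))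
  have hb : wl (S' : Subgroup G) K' = zc (S' : Subgroup G) K :=
    Subgroup.eq_of_le_of_card_ge hl1 (by rw [hc2, card_wl hg'.1 hT2])
  have hz' : zc (S' : Subgroup G) K' = cj t (zc (S' : Subgroup G) K) := zc_nzJ htJ
  have hc2' : Nat.card ↥(zc (S' : Subgroup G) K') = 2 := by rw [hz', card_cj, hc2]
  have ha : wl (S' : Subgroup G) K = zc (S' : Subgroup G) K' :=
    Subgroup.eq_of_le_of_card_ge hl2 (by rw [hc2', card_wl hK.1.1 hT2])
  obtain ⟨a, haA, ha1, -, hA⟩ := exists_gen_two (card_wl hK.1.1 hT2)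
  obtain ⟨b, hbB, hb1, -, hB⟩ := exists_gen_two hc2
  have hab : a ≠ b := fun e => ha1 (Subgroup.mem_bot.1 ((zc_inf_W hK.1.1).le ⟨by rw [e]; exact hbB, haA.2⟩))
  have hfour : ∀ z ∈ zJ (S' : Subgroup G), z = 1 ∨ z = a ∨ z = b ∨ z = b * a := fun z hz => by
    obtain ⟨q, hq, r, hr, rfl⟩ := zJ_mem hK.1.1 hT2 hz
    rcases hB q hq with rfl | rfl <;> rcases hA r hr with rfl | rfl <;> simp
  have htab : t * a * t⁻¹ = b := by
    refine eq_of_card_two hc2 ?_ (fun e => ha1 (conj_eq_one_iff.1 e)) hbB hb1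
    rw [← hb, wl_nzJ htJ]; exact conj_mem_cj haA
  have hZ : ∀ z ∈ Cfsg.omegaCenterOf (S' : Subgroup G), z = 1 ∨ z = b * a := fun z hz => by
    have hc : t * z * t⁻¹ = z := by rw [((mem_omegaCenter_iff.1 hz).2.1 t ht).eq, mul_inv_cancel_right]
    rcases hfour z (omZ_le_zJ _ hz) with h | h | h | h
    · exact Or.inl h
    · rw [h] at hc
      exact absurd (htab.symm.trans hc).symm hab
    · rw [h] at hc
      exact absurd (mul_left_cancel (mul_right_cancel (htab.trans hc.symm))) hab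
    · exact Or.inr h
  have honly : ∀ X, Cfsg.IsJComponent (S' : Subgroup G) X → X = K ∨ X = K' := fun X hX => by
    have hcX : Nat.card ↥(zc (S' : Subgroup G) X) = 2 := by
      have := card_zJ hX hT2
      omega
    obtain ⟨d, hd, hd1, -, -⟩ := exists_gen_two hcX
    rcases hfour d hd.1 with h | h | h | h
    · exact absurd h hd1
    · refine Or.inr (Good.eq_of_zc am hT2 hg' hX (fun e => ?_) ?_).symm
      · rw [e, Subgroup.card_bot] at hc2'; omega
      · exact eq_of_two_two hcX hc2' hd (h ▸ ha ▸ haA) hd1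
    · refine Or.inl (Good.eq_of_zc am hT2 hg hX (fun e => ?_) ?_).symm
      · rw [e, Subgroup.card_bot] at hc2; omega
      · exact eq_of_two_two hcX hc2 hd (h ▸ hbB) hd1
    · refine absurd ?_ (sylow_cent_no_comp am S' (thompsonOf_le _) hX (H := zc (S' : Subgroup G) X) ?_)
      · exact Subgroup.le_centralizer_iff.1 inf_le_right
      · intro z hz
        rcases hZ z hz with rfl | rfl
        · exact Subgroup.one_mem _
        · exact h ▸ hd
  refine not_all_pairwise am hO S' (fun X Y hX hY => ?_) hK.1.1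
  rcases honly X hX with rfl | rfl <;> rcases honly Y hY with rfl | rfl
  exacts [Subgroup.le_normalizer, hn2, hn1, Subgroup.le_normalizer]

/-- The three facts on a component outside `M`. -/
theorem outside_adm (am : Amb G) (hO : Cfsg.pCore 2 G = ⊥) (S : Sylow 2 G)
    (hMJ : normalizer (𝐉 (S : Subgroup G) : Set G) ≤ M) (hT : T ∈ Cfsg.maxStraddlingTwoSubgroups M)
    (hK : K ∈ Cfsg.jComponentsOutside M T) : Adm T K := by
  obtain ⟨S', hTS, hS'M⟩ := exists_sylow_le S hMJ hT
  by_cases hne : T = (S' : Subgroup G)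
  · subst hne
    obtain ⟨h4, hn⟩ := sylow_outside am hO S hMJ S' hT hK
    exact adm_sylow am S' hK.1.1 hn h4
  · obtain ⟨u, h⟩ := exists_NS am S hMJ hT hK hTS hS'M hne
    exact h.adm

/-- A component `K` and the only other component (or `K` itself) in its normalizer. -/
structure Partner (T K K' : Subgroup G) : Prop where
  good : Good T K
  good' : Good T K'
  nz : K ≤ normalizer (K' : Set G)
  nz' : K' ≤ normalizer (K : Set G)
  only : ∀ X : Subgroup G, Cfsg.IsJComponent T X → X ≤ normalizer (K : Set G) → X = K ∨ X = K'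
  lines : K' = K ∨ (zc T K' = wl T K ∧ wl T K' = zc T K)

theorem Adm.partner_eq {P : Subgroup G} (am : Amb G) (h : Adm P K) {X : Subgroup G}
    (hX : Cfsg.IsJComponent P X) (hle : X ≤ normalizer (K : Set G)) (hne : X ≠ K) :
    Nat.card ↥(zc P K) = 2 ∧ zc P X = wl P K ∧ wl P X = zc P K := by
  obtain ⟨l1, l2⟩ := Good.nz_line am h.p2 h.good hX (Ne.symm hne) hle
  have e1 := card_zJ h.comp h.p2
  have e2 := card_zJ hX h.p2
  have := h.four
  have l1' := Subgroup.card_le_of_le l1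
  have l2' := Subgroup.card_le_of_le l2
  rw [card_wl hX h.p2] at l1'
  rw [card_wl h.comp h.p2] at l2'
  exact ⟨by omega, (Subgroup.eq_of_le_of_card_ge l2 (by rw [card_wl h.comp h.p2]; omega)).symm,
    Subgroup.eq_of_le_of_card_ge l1 (by rw [card_wl hX h.p2]; omega)⟩

theorem partner_of_single {P : Subgroup G} (h : Adm P K) (hs : Single P K) : Partner P K K :=
  ⟨h.good, h.good, Subgroup.le_normalizer, Subgroup.le_normalizer, fun X hX hle => Or.inl (hs X hX hle),
    Or.inl rfl⟩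

theorem exists_partner {P : Subgroup G} (am : Amb G) (h : Adm P K)
    (hgood : Single P K ∨ ∀ X, Cfsg.IsJComponent P X → Good P X) : ∃ K', Partner P K K' := by
  by_cases hs : Single P K
  · exact ⟨K, partner_of_single h hs⟩
  have hall := hgood.resolve_left hs
  simp only [Single, not_forall] at hs
  obtain ⟨K', hK', hle, hne⟩ := hs
  obtain ⟨hc2, hz, hw⟩ := h.partner_eq am hK' hle hne
  refine ⟨K', h.good, hall K' hK', Good.mutual am h.p2 h.good hK' hle, hle, fun X hX hXle => ?_, Or.inr ⟨hz, hw⟩⟩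
  by_cases hX1 : X = K
  · exact Or.inl hX1
  obtain ⟨-, hz2, -⟩ := h.partner_eq am hX hXle hX1
  exact Or.inr (Good.eq_of_zc am h.p2 (hall K' hK') hX (by rw [hz]; exact wl_ne_bot h.comp h.p2)
    (by rw [hz2, hz])).symm

namespace Partner

variable {K' : Subgroup G} (h : Partner T K K')
include h

theorem perm (am : Amb G) (hT : IsPGroup 2 T) {g : G} (hg : g ∈ normalizer (𝐉 T : Set G))
    (he : cj g K = K ∨ cj g K = K') :
    g ∈ normalizer ((Cfsg.wOf K ⊔ Cfsg.wOf K' : Subgroup G) : Set G) := by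
  refine mem_nz_of_cj_eq ?_
  rw [show cj g (Cfsg.wOf K ⊔ Cfsg.wOf K') = cj g (Cfsg.wOf K) ⊔ cj g (Cfsg.wOf K') from Subgroup.map_sup _ _ _,
    ← wOf_cj, ← wOf_cj]
  rcases h.lines with rfl | ⟨hz, hw⟩
  · rw [he.elim id id]
  have hne1 : zc T K' ≠ ⊥ := by rw [hz]; exact wl_ne_bot h.good.1 hT
  have hne : zc T K ≠ ⊥ := by rw [← hw]; exact wl_ne_bot h.good'.1 hT
  rcases he with e | e
  · rw [e, ← Good.eq_of_zc am hT h.good' ((h.good'.nzJ_conj hg).1) hne1
      (by rw [zc_nzJ hg, hz, ← wl_nzJ hg, e])]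
  · rw [e, ← Good.eq_of_zc am hT h.good ((h.good'.nzJ_conj hg).1) hne
      (by rw [zc_nzJ hg, hz, ← wl_nzJ hg, e, hw]), sup_comm]

theorem local_V (hT : IsPGroup 2 T) :
    Cfsg.IsTwoLocal (normalizer ((Cfsg.wOf K ⊔ Cfsg.wOf K' : Subgroup G) : Set G)) :=
  ⟨_, (hT.to_le (thompsonOf_le T)).to_le (sup_le (W_le_J h.good.1 hT) (W_le_J h.good'.1 hT)),
    fun e => W_ne_bot h.good.1 (le_bot_iff.1 (le_sup_left.trans e.le)), rfl⟩

theorem K_le : K ⊔ 𝐉 T ≤ normalizer ((Cfsg.wOf K ⊔ Cfsg.wOf K' : Subgroup G) : Set G) :=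
  sup_le (le_nz_sup (le_sup_left.trans (H_le_nzW h.good.1)) (h.nz.trans (nzK_le_nzW h.good'.1)))
    (le_nz_sup (le_sup_right.trans (H_le_nzW h.good.1)) (le_sup_right.trans (H_le_nzW h.good'.1)))

theorem local_le (am : Amb G) (hT : IsPGroup 2 T) {L : Subgroup G} (hL : Cfsg.IsTwoLocal L)
    (hle : K ⊔ 𝐉 T ≤ L) : L ≤ normalizer ((Cfsg.wOf K ⊔ Cfsg.wOf K' : Subgroup G) : Set G) := by
  obtain ⟨P, e, hP⟩ := h.good.overgroup hT hL (le_sup_left.trans hle) (le_sup_right.trans hle)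
  have honly : ∀ X, Cfsg.IsJComponent T X → X ≤ L → X = K ∨ X = K' := fun X hX hXL => h.only X hX
    (Good.common_nz am hT h.good hX hL (le_sup_right.trans hle) (le_sup_left.trans hle) hXL).1
  refine le_of_components' am hP ?_ fun X hX hXL => ?_
  · rw [e]
    rintro g ⟨hgL, hgJ⟩
    exact h.perm am hT hgJ (honly _ (h.good.nzJ_conj hgJ).1 (cj_le_iff.2 fun k hk =>
      L.mul_mem (L.mul_mem hgL (hle (Subgroup.mem_sup_left hk))) (L.inv_mem hgL)))
  · rcases honly X (component_congr e hX) hXL with rfl | rfl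
    · exact le_sup_left.trans h.K_le
    · exact le_nz_sup (h.nz'.trans (nzK_le_nzW h.good.1)) (le_sup_left.trans (H_le_nzW h.good'.1))

theorem T_le (am : Amb G) (hT : IsPGroup 2 T) (hn : T ≤ normalizer (K : Set G)) :
    T ≤ normalizer ((Cfsg.wOf K ⊔ Cfsg.wOf K' : Subgroup G) : Set G) := fun _ ht =>
  h.perm am hT (Subgroup.le_normalizer.trans (nz_le_nz_thompson T) ht) (Or.inl (cj_eq_of_mem_nz (hn ht)))

theorem maximal (am : Amb G) (hT : IsPGroup 2 T) :
    Cfsg.IsMaximalTwoLocal (normalizer ((Cfsg.wOf K ⊔ Cfsg.wOf K' : Subgroup G) : Set G)) :=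
  ⟨h.local_V hT, fun _ hN hle => le_antisymm (h.local_le am hT hN (h.K_le.trans hle)) hle⟩

end Partner

theorem outside_partner (am : Amb G) (hO : Cfsg.pCore 2 G = ⊥) (S : Sylow 2 G)
    (hMJ : normalizer (𝐉 (S : Subgroup G) : Set G) ≤ M) (hT : T ∈ Cfsg.maxStraddlingTwoSubgroups M)
    (hK : K ∈ Cfsg.jComponentsOutside M T) : ∃ K', Partner T K K' := by
  have ha := outside_adm am hO S hMJ hT hK
  obtain ⟨S', hTS, hS'M⟩ := exists_sylow_le S hMJ hT
  refine exists_partner am ha ?_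
  by_cases hne : T = (S' : Subgroup G)
  · subst hne
    exact Or.inr fun X hX => good_of_sylow am S' hX
  · obtain ⟨u, h⟩ := exists_NS am S hMJ hT hK hTS hS'M hne
    exact Or.inl h.single

end Cfsg.Agent.Lib.LocalChar.JComp
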