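import Cfsg.Agent.Lib.LocalChar.JGood

/-! A maximal straddling 2-group which is not Sylow, and a component outside `M`. -/

set_option autoImplicit false
set_option linter.unusedSectionVars false
open scoped commutatorElement
open Subgroup (centralizer normalizer zpowers)

namespace Cfsg.Agent.Lib.LocalChar.JComp

variable {G : Type*} [Group G] [Finite G] {T K K' M : Subgroup G}

local notation "𝐉" T:max => Cfsg.thompsonSubgroupOf 2 T

theorem Good.eq_of_zc (am : Amb G) (hT : IsPGroup 2 T) (h : Good T K) (h' : Cfsg.IsJComponent T K')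
    (hne : zc T K ≠ ⊥) (e : zc T K' = zc T K) : K = K' := by
  by_contra hne'
  obtain ⟨z, hz, hz1⟩ := (Subgroup.bot_or_exists_ne_one _).resolve_left hne
  obtain ⟨L, hL, hJL, hL₁, hL₂, -⟩ := Good.zc_meet am hT h h' hz (e ▸ hz) hz1
  have h1 := (Good.common_line am hT h h' hL hJL hL₁ hL₂ hne').1
  refine wl_ne_bot h' hT ((Subgroup.eq_bot_iff_forall _).2 fun w hw => ?_)
  exact Subgroup.mem_bot.1 ((zc_inf_W h').le ⟨e ▸ h1 hw, hw.2⟩)

theorem exists_sylow_le (S : Sylow 2 G) (hMJ : normalizer (𝐉 (S : Subgroup G) : Set G) ≤ M)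
    (hT : T ∈ Cfsg.maxStraddlingTwoSubgroups M) : ∃ S' : Sylow 2 G, T ≤ S' ∧ (S' : Subgroup G) ≤ M := by
  have hSM : (S : Subgroup G) ≤ M :=
    (Subgroup.le_normalizer.trans (nz_le_nz_thompson (S : Subgroup G))).trans hMJ
  obtain ⟨x, hx, hle⟩ := (IsSylowIn.of_le S hSM).conj_le hT.1.1 hT.1.2.2.1
  refine ⟨x⁻¹ • S, ?_, ?_⟩
  · show T ≤ cj x⁻¹ (S : Subgroup G)
    exact (cj_inv_cj x T).ge.trans (cj_mono hle)
  · show cj x⁻¹ (S : Subgroup G) ≤ M
    exact cj_le_iff.2 fun s hs => M.mul_mem (M.mul_mem (M.inv_mem hx) (hSM hs)) (M.inv_mem (M.inv_mem hx))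

variable (am : Amb G) (S : Sylow 2 G) (hMJ : normalizer (𝐉 (S : Subgroup G) : Set G) ≤ M)
  (hT : T ∈ Cfsg.maxStraddlingTwoSubgroups M)
include am hMJ hT

/-- A 2-local subgroup outside `M` above `T` contains no further element of a Sylow subgroup above `T`. -/
theorem mem_T_of_outside {S' L : Subgroup G} (hS' : IsPGroup 2 S') (hTS : T ≤ S') (hL : Cfsg.IsTwoLocal L)
    (hLM : ¬ L ≤ M) (hTL : T ≤ L) {v : G} (hvS : v ∈ S') (hvL : v ∈ L) : v ∈ T := by
  have h := hTsyl am (of_le S hMJ hT am hL hLM hTL)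
  have := h.eq_of_le (hS'.to_le inf_le_left) inf_le_right (le_inf hTS hTL)
  exact this.le ⟨hvS, hvL⟩

theorem outside_data (hK : K ∈ Cfsg.jComponentsOutside M T) :
    ∃ L : Subgroup G, Cfsg.IsTwoLocal L ∧ K ≤ L ∧ T ≤ L ∧ ¬ L ≤ M ∧ L ∈ Cfsg.jOvergroups T := by
  refine ⟨normalizer (Cfsg.pCoreOf 2 (K ⊔ T) : Set G), ⟨_, isPGroup_pCoreOf _, hK.2.2, rfl⟩, ?_⟩
  have hle : K ⊔ T ≤ normalizer (Cfsg.pCoreOf 2 (K ⊔ T) : Set G) := le_nz_pCoreOf _
  have hn : ¬ normalizer (Cfsg.pCoreOf 2 (K ⊔ T) : Set G) ≤ M :=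
    fun h => hK.2.1 ((le_sup_left.trans hle).trans h)
  exact ⟨le_sup_left.trans hle, le_sup_right.trans hle, hn,
    of_le S hMJ hT am ⟨_, isPGroup_pCoreOf _, hK.2.2, rfl⟩ hn (le_sup_right.trans hle)⟩

theorem T_fix (hK : K ∈ Cfsg.jComponentsOutside M T) {t : G} (ht : t ∈ T)
    (hw : ∀ w ∈ wl T K, Commute t w) : t ∈ normalizer (K : Set G) := by
  obtain ⟨L, -, hKL, hTL, -, hLT⟩ := outside_data am S hMJ hT hK
  obtain ⟨w, hw', hw1⟩ := (Subgroup.bot_or_exists_ne_one _).resolve_left (wl_ne_bot hK.1.1 hT.1.1)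
  refine mem_nzK am hLT hK.1.1 hKL (hTL ht) (Subgroup.le_normalizer.trans (nz_le_nz_thompson T) ht) hw'.2 hw1 ?_
  rw [mul_assoc, ← (hw w hw').eq, inv_mul_cancel_left]
  exact hw'.2

/-- An element of `T` moving `K`. -/
theorem swap_data (hK : K ∈ Cfsg.jComponentsOutside M T) {t : G} (ht : t ∈ T)
    (htK : t ∉ normalizer (K : Set G)) :
    cj t K ≠ K ∧ cj t K ≤ normalizer (K : Set G) ∧ K ≤ normalizer (cj t K : Set G) ∧
      wl T (cj t K) ≤ zc T K ∧ wl T K ≤ zc T (cj t K) := by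
  have htJ : t ∈ normalizer (𝐉 T : Set G) := Subgroup.le_normalizer.trans (nz_le_nz_thompson T) ht
  have hg := good_outside am S hMJ hT hK.1.1 hK.2.1
  obtain ⟨L, hL, hKL, hTL, -, -⟩ := outside_data am S hMJ hT hK
  have hne : cj t K ≠ K := fun h => htK (mem_nz_of_cj_eq h)
  have hK'L : cj t K ≤ L := cj_le_iff.2 fun k hk => L.mul_mem (L.mul_mem (hTL ht) (hKL hk)) (L.inv_mem (hTL ht))
  have hc := (hg.nzJ_conj htJ).1
  have hJL := (thompsonOf_le T).trans hTL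
  obtain ⟨h1, h2⟩ := Good.common_nz am hT.1.1 hg hc hL hJL hKL hK'L
  obtain ⟨h3, h4⟩ := Good.common_line am hT.1.1 hg hc hL hJL hKL hK'L hne.symm
  exact ⟨hne, h1, h2, h3, h4⟩

variable {S' : Subgroup G} {u : G} (hS' : IsPGroup 2 S') (hTS : T ≤ S') (hS'M : S' ≤ M) (hu : u ∈ S')
  (hun : u ∈ normalizer (T : Set G)) (huT : u ∉ T) (hK : K ∈ Cfsg.jComponentsOutside M T)
include hS' hTS hS'M hu hun huT hK

theorem zJ_le_four : Nat.card ↥(zJ T) ≤ 4 := by
  by_contra hcard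
  set C : Set (Subgroup G) := {X | Cfsg.IsJComponent T X ∧ ¬ X ≤ M}
  set V := ⨆ X ∈ C, Cfsg.wOf X
  have hKC : K ∈ C := ⟨hK.1.1, hK.2.1⟩
  have hnJ := normalizer_J_le S hMJ hT
  have hpair : ∀ X ∈ C, ∀ Y ∈ C, X ≤ normalizer (Y : Set G) := fun X hX Y hY => by
    by_contra h
    exact hcard (Good.card_zJ_le am hT.1.1 (good_outside am S hMJ hT hY.1 hY.2) hX.1 h)
  have hVJ : V ≤ 𝐉 T := iSup₂_le fun X hX => W_le_J hX.1 hT.1.1
  have hV1 : V ≠ ⊥ := fun h => W_ne_bot hK.1.1 (le_bot_iff.1 ((le_biSup Cfsg.wOf hKC).trans h.le))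
  have hN : Cfsg.IsTwoLocal (normalizer (V : Set G)) :=
    ⟨V, (hT.1.1.to_le (thompsonOf_le T)).to_le hVJ, hV1, rfl⟩
  have hnz : normalizer (𝐉 T : Set G) ≤ normalizer (V : Set G) := fun g hg => by
    refine mem_nz_of_cj_le (Subgroup.map_le_iff_le_comap.2 (iSup₂_le fun X hX => ?_))
    refine Subgroup.map_le_iff_le_comap.1 ?_
    show cj g (Cfsg.wOf X) ≤ V
    rw [← wOf_cj]
    refine le_biSup Cfsg.wOf (show cj g X ∈ C from ⟨((good_outside am S hMJ hT hX.1 hX.2).nzJ_conj hg).1, ?_⟩)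
    intro h
    refine hX.2 fun k hk => ?_
    have hgM : g ∈ M := hnJ hg
    have := M.mul_mem (M.mul_mem (M.inv_mem hgM) (h (conj_mem_cj hk))) hgM
    simpa [mul_assoc] using this
  have hKV : K ≤ normalizer (V : Set G) := fun k hk =>
    mem_nz_of_cj_le (Subgroup.map_le_iff_le_comap.2 (iSup₂_le fun X hX w hw => Subgroup.mem_comap.2
      ((le_biSup Cfsg.wOf hX : Cfsg.wOf X ≤ V) (conj_mem_of_nz (nzK_le_nzW hX.1 (hpair K hKC X hX hk)) hw))))
  have hTN : T ≤ normalizer (V : Set G) := (Subgroup.le_normalizer.trans (nz_le_nz_thompson T)).trans hnz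
  exact huT (mem_T_of_outside am S hMJ hT hS' hTS hN (fun h => hK.2.1 (hKV.trans h)) hTN hu
    (hnz (nz_le_nz_thompson T hun)))

/-- Elements of `N(J(T))` permuting the two lines permute `K` and its partner. -/
theorem pair_nz {g : G} (hg : g ∈ normalizer (𝐉 T : Set G)) (hK' : Good T K')
    (h1 : zc T K ≠ ⊥) (h1' : zc T K' ≠ ⊥)
    (h : (cj g (zc T K) = zc T K ∧ cj g (zc T K') = zc T K') ∨
      (cj g (zc T K) = zc T K' ∧ cj g (zc T K') = zc T K)) :
    g ∈ normalizer ((Cfsg.wOf K ⊔ Cfsg.wOf K' : Subgroup G) : Set G) := by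
  have hgd := good_outside am S hMJ hT hK.1.1 hK.2.1
  have hcw : cj g (Cfsg.wOf K ⊔ Cfsg.wOf K') = Cfsg.wOf (cj g K) ⊔ Cfsg.wOf (cj g K') := by
    rw [wOf_cj, wOf_cj]; exact Subgroup.map_sup _ _ _
  refine mem_nz_of_cj_eq ?_
  rw [hcw]
  rcases h with ⟨a, b⟩ | ⟨a, b⟩
  · rw [← Good.eq_of_zc am hT.1.1 hgd (hgd.nzJ_conj hg).1 h1 (by rw [zc_nzJ hg, a]),
      ← Good.eq_of_zc am hT.1.1 hK' (hK'.nzJ_conj hg).1 h1' (by rw [zc_nzJ hg, b])]
  · rw [← Good.eq_of_zc am hT.1.1 hK' (hgd.nzJ_conj hg).1 h1' (by rw [zc_nzJ hg, a]),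
      ← Good.eq_of_zc am hT.1.1 hgd (hK'.nzJ_conj hg).1 h1 (by rw [zc_nzJ hg, b]), sup_comm]

theorem card_zc_le : Nat.card ↥(zc T K) ≤ 2 := by
  have h1 := zJ_le_four am S hMJ hT hS' hTS hS'M hu hun huT hK
  have h2 := card_zJ hK.1.1 hT.1.1
  omega

theorem T_le_nzK : T ≤ normalizer (K : Set G) := by
  intro t ht
  by_contra htK
  have hT2 := hT.1.1
  have hgd := good_outside am S hMJ hT hK.1.1 hK.2.1
  obtain ⟨hne, hn1, hn2, hl1, hl2⟩ := swap_data am S hMJ hT hK ht htK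
  set K' := cj t K
  have htJ : t ∈ normalizer (𝐉 T : Set G) := Subgroup.le_normalizer.trans (nz_le_nz_thompson T) ht
  have hgd' : Good T K' := hgd.nzJ_conj htJ
  have hwl : wl T K' = cj t (wl T K) := wl_nzJ htJ
  have hz' : zc T K' = cj t (zc T K) := zc_nzJ htJ
  have hc2 : Nat.card ↥(zc T K) = 2 := le_antisymm (card_zc_le am S hMJ hT hS' hTS hS'M hu hun huT hK)
    ((card_wl hgd'.1 hT2).ge.trans (Subgroup.card_le_of_le hl1))
  have hb : wl T K' = zc T K := Subgroup.eq_of_le_of_card_ge hl1 (by rw [hc2, card_wl hgd'.1 hT2])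
  have hc2' : Nat.card ↥(zc T K') = 2 := by rw [hz', card_cj, hc2]
  have ha : wl T K = zc T K' := Subgroup.eq_of_le_of_card_ge hl2 (by rw [hc2', card_wl hK.1.1 hT2])
  obtain ⟨a, haA, ha1, -, hA⟩ := exists_gen_two (card_wl hK.1.1 hT2)
  obtain ⟨b, hbB, hb1, -, hB⟩ := exists_gen_two hc2
  have hab : a ≠ b := fun e => ha1 (Subgroup.mem_bot.1 ((zc_inf_W hK.1.1).le ⟨by rw [e]; exact hbB, haA.2⟩))
  have hfour : ∀ z ∈ zJ T, z = 1 ∨ z = a ∨ z = b ∨ z = b * a := fun z hz => by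
    obtain ⟨q, hq, r, hr, rfl⟩ := zJ_mem hK.1.1 hT2 hz
    rcases hB q hq with rfl | rfl <;> rcases hA r hr with rfl | rfl <;> simp
  -- the action of an element of `N(J(T))`
  have hconj : ∀ {g : G}, g ∈ normalizer (𝐉 T : Set G) → g * (b * a) * g⁻¹ = b * a →
      g * a * g⁻¹ = a ∧ g * b * g⁻¹ = b ∨ g * a * g⁻¹ = b ∧ g * b * g⁻¹ = a := by
    intro g hg hfix
    have hz := conj_mem_of_nz (nzJ_le_nz_zJ T hg) haA.1
    have e : g * b * g⁻¹ = b * a * (g * a * g⁻¹)⁻¹ := by rw [← hfix]; group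
    have hcomm : b * a = a * b := Thompson.commute_of_elementary (zJ_elem T) hbB.1 haA.1
    rcases hfour _ hz with h | h | h | h
    · exact absurd (conj_eq_one_iff.1 h) ha1
    · refine Or.inl ⟨h, ?_⟩
      rw [e, h, mul_inv_cancel_right]
    · refine Or.inr ⟨h, ?_⟩
      rw [e, h, hcomm, mul_inv_cancel_right]
    · exfalso
      rw [h, mul_inv_cancel] at e
      exact hb1 (conj_eq_one_iff.1 e)
  have hperm : ∀ {g : G}, g ∈ normalizer (𝐉 T : Set G) → g * (b * a) * g⁻¹ = b * a →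
      g ∈ normalizer ((Cfsg.wOf K ⊔ Cfsg.wOf K' : Subgroup G) : Set G) := by
    intro g hg hfix
    refine pair_nz am S hMJ hT hS' hTS hS'M hu hun huT hK hg hgd' (fun h => hb1 (Subgroup.mem_bot.1 (h ▸ hbB)))
      (fun h => ha1 (Subgroup.mem_bot.1 (h ▸ ha ▸ haA))) ?_
    have key : ∀ {H H' : Subgroup G} {p q : G}, Nat.card H = 2 → Nat.card H' = 2 → p ∈ H → q ∈ H' → q ≠ 1 →
        g * p * g⁻¹ = q → cj g H = H' := fun {H H' p q} h h' hp hq hq1 e =>
      eq_of_two_two ((card_cj g H).trans h) h' (a := q) (e ▸ conj_mem_cj hp) hq hq1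
    have haA' : a ∈ zc T K' := ha ▸ haA
    rcases hconj hg hfix with ⟨e1, e2⟩ | ⟨e1, e2⟩
    · exact Or.inl ⟨key hc2 hc2 hbB hbB hb1 e2, key hc2' hc2' haA' haA' ha1 e1⟩
    · exact Or.inr ⟨key hc2 hc2' hbB haA' ha1 e2, key hc2' hc2 haA' hbB hb1 e1⟩
  -- `T` centralises exactly `b * a`
  have htab : t * a * t⁻¹ = b := by
    refine eq_of_card_two hc2 ?_ (fun e => ha1 (conj_eq_one_iff.1 e)) hbB hb1
    rw [← hb, hwl]; exact conj_mem_cj haA
  have hTfix : ∀ z ∈ Cfsg.omegaCenterOf T, z = 1 ∨ z = b * a := fun z hz => by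
    have hc : t * z * t⁻¹ = z := by rw [((mem_omegaCenter_iff.1 hz).2.1 t ht).eq, mul_inv_cancel_right]
    rcases hfour z (omZ_le_zJ T hz) with h | h | h | h
    · exact Or.inl h
    · rw [h] at hc
      exact absurd (htab.symm.trans hc).symm hab
    · rw [h] at hc
      refine absurd ?_ hab
      have h1 : t * a * t⁻¹ = t * b * t⁻¹ := htab.trans hc.symm
      exact mul_left_cancel (mul_right_cancel h1)
    · exact Or.inr h
  obtain ⟨z, hz, hz1⟩ := (Subgroup.bot_or_exists_ne_one _).resolve_left (omZ_ne_bot hT2 hT.1.2.1)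
  obtain rfl : z = b * a := (hTfix z hz).resolve_left hz1
  have hTf : ∀ s ∈ T, s * (b * a) * s⁻¹ = b * a := fun s hs => by
    rw [((mem_omegaCenter_iff.1 hz).2.1 s hs).eq, mul_inv_cancel_right]
  have huf : u * (b * a) * u⁻¹ = b * a := (hTfix _ (conj_mem_of_nz (nz_le_nz_omZ T hun) hz)).resolve_left
    fun e => hz1 (conj_eq_one_iff.1 e)
  have hV : IsPGroup 2 ↥(Cfsg.wOf K ⊔ Cfsg.wOf K') :=
    (hT2.to_le (thompsonOf_le T)).to_le (sup_le (W_le_J hK.1.1 hT2) (W_le_J hgd'.1 hT2))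
  have hN : Cfsg.IsTwoLocal (normalizer ((Cfsg.wOf K ⊔ Cfsg.wOf K' : Subgroup G) : Set G)) :=
    ⟨_, hV, fun h => W_ne_bot hK.1.1 (le_bot_iff.1 (le_sup_left.trans h.le)), rfl⟩
  have hKN : K ≤ normalizer ((Cfsg.wOf K ⊔ Cfsg.wOf K' : Subgroup G) : Set G) :=
    le_nz_sup (le_sup_left.trans (H_le_nzW hK.1.1)) (hn2.trans (nzK_le_nzW hgd'.1))
  exact huT (mem_T_of_outside am S hMJ hT hS' hTS hN (fun h => hK.2.1 (hKN.trans h))
    (fun s hs => hperm (Subgroup.le_normalizer.trans (nz_le_nz_thompson T) hs) (hTf s hs)) hu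
    (hperm (nz_le_nz_thompson T hun) huf))

theorem T_cent_zJ : T ≤ centralizer (zJ T : Set G) := by
  have hTK := T_le_nzK am S hMJ hT hS' hTS hS'M hu hun huT hK
  have hTJ : T ≤ normalizer (zJ T : Set G) :=
    (Subgroup.le_normalizer.trans (nz_le_nz_thompson T)).trans (nzJ_le_nz_zJ T)
  rw [← zc_sup_wl hK.1.1 hT.1.1, Subgroup.le_centralizer_iff]
  refine sup_le (Subgroup.le_centralizer_iff.1 ?_) (Subgroup.le_centralizer_iff.1 ?_)
  · have hn : T ≤ normalizer (zc T K : Set G) := le_nz_inf hTJ (le_nz_centralizer hTK)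
    rcases (show Nat.card ↥(zc T K) = 1 ∨ Nat.card ↥(zc T K) = 2 by
      have := card_zc_le am S hMJ hT hS' hTS hS'M hu hun huT hK
      have := Nat.card_pos (α := ↥(zc T K))
      omega) with h | h
    · rw [Subgroup.card_eq_one.1 h]
      exact fun g _ => Subgroup.mem_centralizer_iff.2 fun q hq => by simp [Subgroup.mem_bot.1 hq]
    · exact hn.trans (nz_le_cent_two h)
  · exact (le_nz_inf hTJ (hTK.trans (nzK_le_nzW hK.1.1))).trans (nz_le_cent_two (card_wl hK.1.1 hT.1.1))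

theorem u_not_nzK : u ∉ normalizer (K : Set G) := fun h =>
  huT (mem_T_of_outside am S hMJ hT hS' hTS
    ⟨_, Thompson.isPGroup_of_elementary (W_elem hK.1.1), W_ne_bot hK.1.1, rfl⟩
    (fun h' => hK.2.1 ((le_sup_left.trans (H_le_nzW hK.1.1)).trans h'))
    ((T_le_nzK am S hMJ hT hS' hTS hS'M hu hun huT hK).trans (nzK_le_nzW hK.1.1)) hu (nzK_le_nzW hK.1.1 h))

theorem omZ_S'_le : Cfsg.omegaCenterOf S' ≤ Cfsg.omegaCenterOf T := by
  obtain ⟨L, -, -, -, -, hLT⟩ := outside_data am S hMJ hT hK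
  exact omZ_sylow_le am hLT hTS

theorem omZ_S'_inf : Cfsg.omegaCenterOf S' ⊓ zc T K = ⊥ := by
  refine (Subgroup.eq_bot_iff_forall _).2 fun z ⟨hz, hzc⟩ => by_contra fun hz1 => ?_
  have hL : Cfsg.IsTwoLocal (centralizer ({z} : Set G)) :=
    zc_local am (good_outside am S hMJ hT hK.1.1 hK.2.1) hK.1.1 hzc hz1
  have hS : S' ≤ centralizer ({z} : Set G) := fun s hs =>
    Subgroup.mem_centralizer_singleton_iff.2 ((mem_omegaCenter_iff.1 hz).2.1 s hs).eq
  exact huT (mem_T_of_outside am S hMJ hT hS' hTS hL (fun h => hK.2.1 (fun k hk => h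
    (Subgroup.mem_centralizer_singleton_iff.2 (Subgroup.mem_centralizer_iff.1 hzc.2 k hk))))
    (hTS.trans hS) hu (hS hu))

theorem card_omZ_S' : Nat.card ↥(Cfsg.omegaCenterOf S') = 2 := by
  have hle : Cfsg.omegaCenterOf S' ≤ zJ T :=
    (omZ_S'_le am S hMJ hT hS' hTS hS'M hu hun huT hK).trans (omZ_le_zJ T)
  have hs := Coprime.card_sup_mul_card_inf_of_le_normalizer (A := Cfsg.omegaCenterOf S') (N := zc T K)
    (fun a ha => centralizer_le_nz _ (Subgroup.mem_centralizer_iff.2 fun b hb =>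
      Thompson.commute_of_elementary (zJ_elem T) hb.1 (hle ha)))
  rw [omZ_S'_inf am S hMJ hT hS' hTS hS'M hu hun huT hK, Subgroup.card_bot, mul_one] at hs
  have h1 := (Subgroup.card_le_of_le (sup_le hle (show zc T K ≤ zJ T from inf_le_left))).trans (card_zJ hK.1.1 hT.1.1).le
  rw [hs] at h1
  have h2 : Nat.card ↥(Cfsg.omegaCenterOf S') ≤ 2 :=
    Nat.le_of_mul_le_mul_right (h1.trans (mul_comm _ _).le) Nat.card_pos
  have h3 : Nat.card ↥(Cfsg.omegaCenterOf S') ≠ 1 := fun h => omZ_ne_bot hS'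
    (fun e => hT.1.2.1 (le_bot_iff.1 (hTS.trans e.le))) (Subgroup.card_eq_one.1 h)
  have h4 := Nat.card_pos (α := ↥(Cfsg.omegaCenterOf S'))
  omega

theorem single_outside (Ss : Sylow 2 G) (hSs : (Ss : Subgroup G) = S') : Single T K := by
  intro K' hK' hle
  by_contra hne
  have hT2 := hT.1.1
  have hgd := good_outside am S hMJ hT hK.1.1 hK.2.1
  obtain ⟨hl1, hl2⟩ := Good.nz_line am hT2 hgd hK' (Ne.symm hne) hle
  have hn2 := Good.mutual am hT2 hgd hK' hle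
  have hc2 : Nat.card ↥(zc T K) = 2 := le_antisymm (card_zc_le am S hMJ hT hS' hTS hS'M hu hun huT hK)
    ((card_wl hK' hT2).ge.trans (Subgroup.card_le_of_le hl1))
  have hc2' : Nat.card ↥(zc T K') = 2 := by
    have e1 := card_zJ hK.1.1 hT2
    have e2 := card_zJ hK' hT2
    omega
  have ha : wl T K = zc T K' := Subgroup.eq_of_le_of_card_ge hl2 (by rw [hc2', card_wl hK.1.1 hT2])
  obtain ⟨a, haA, ha1, -, hA⟩ := exists_gen_two (card_wl hK.1.1 hT2)
  obtain ⟨b, hbB, hb1, -, hB⟩ := exists_gen_two hc2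
  have hle' : Cfsg.omegaCenterOf S' ≤ zJ T :=
    (omZ_S'_le am S hMJ hT hS' hTS hS'M hu hun huT hK).trans (omZ_le_zJ T)
  obtain ⟨z, hz, hz1, -, hZ⟩ := exists_gen_two (card_omZ_S' am S hMJ hT hS' hTS hS'M hu hun huT hK)
  have huz : u * z * u⁻¹ = z := by
    rw [((mem_omegaCenter_iff.1 hz).2.1 u hu).eq, mul_inv_cancel_right]
  have hzmem := hle' hz
  obtain ⟨q, hq, r, hr, rfl⟩ := zJ_mem hK.1.1 hT2 hzmem
  rcases hB q hq with rfl | rfl
  · -- the line of `K` is central in the Sylow subgroup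
    refine sylow_cent_no_comp am Ss (((thompsonOf_le T).trans hTS).trans hSs.ge) hK'
      (H := wl T K) ?_ ?_
    · rw [hSs]
      intro y hy
      rcases hZ y hy with rfl | rfl
      · exact Subgroup.one_mem _
      · rw [one_mul]; exact hr
    · rw [ha]; exact le_sup_left.trans (zc_cent hK')
  rcases hA r hr with rfl | rfl
  · exact hz1 (Subgroup.mem_bot.1 ((omZ_S'_inf am S hMJ hT hS' hTS hS'M hu hun huT hK).le ⟨hz, by
      rw [mul_one]; exact hq⟩))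
  -- `u` interchanges the two lines
  have huJ : u ∈ normalizer (𝐉 T : Set G) := nz_le_nz_thompson T hun
  have hune := u_not_nzK am S hMJ hT hS' hTS hS'M hu hun huT hK
  have hub : u * q * u⁻¹ ≠ q := fun h => hune (Good.cent_le am hT2 hgd hc2 (Subgroup.mem_centralizer_iff.2
    fun y hy => by
      rcases hB y hy with rfl | rfl
      · simp
      · exact (mul_inv_eq_iff_eq_mul.1 h).symm))
  have hua : u * q * u⁻¹ = r := by
    have h := conj_mem_of_nz (nzJ_le_nz_zJ T huJ) hq.1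
    obtain ⟨q', hq', r', hr', e⟩ := zJ_mem hK.1.1 hT2 h
    rcases hB q' hq' with rfl | rfl <;> rcases hA r' hr' with rfl | rfl <;>
      (try simp only [one_mul, mul_one] at e)
    · exact absurd (conj_eq_one_iff.1 e) hb1
    · exact e
    · exact absurd e hub
    · exfalso
      rw [← huz] at e
      have h1 := mul_left_cancel (mul_right_cancel e)
      exact ha1 (by simpa using h1)
  have hub' : u * r * u⁻¹ = q := by
    have h1 : (u * q * u⁻¹) * (u * r * u⁻¹) = q * r := by rw [← huz]; group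
    rw [hua] at h1
    have h2 : r * q = q * r := Thompson.commute_of_elementary (zJ_elem T) hr.1 hq.1
    rw [← h2] at h1
    exact mul_left_cancel h1
  have e1 : cj u (zc T K) = zc T K' := eq_of_two_two ((card_cj u _).trans hc2) hc2' (a := r)
    (hua ▸ conj_mem_cj hbB) (ha ▸ hr) ha1
  have e2 : cj u (zc T K') = zc T K := eq_of_two_two ((card_cj u _).trans hc2') hc2 (a := q)
    (hub' ▸ conj_mem_cj (ha ▸ hr)) hq hb1
  have hne1 : zc T K ≠ ⊥ := fun h => hb1 (Subgroup.mem_bot.1 (h ▸ hq))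
  have hKu : cj u K = K' :=
    Good.eq_of_zc am hT2 (hgd.nzJ_conj huJ) hK'
      (by rw [zc_nzJ huJ, e1]; exact fun h => ha1 (Subgroup.mem_bot.1 (h ▸ ha ▸ hr)))
      (by rw [zc_nzJ huJ, e1])
  have hgd' : Good T K' := hKu ▸ hgd.nzJ_conj huJ
  have hV : IsPGroup 2 ↥(Cfsg.wOf K ⊔ Cfsg.wOf K') :=
    (hT2.to_le (thompsonOf_le T)).to_le (sup_le (W_le_J hK.1.1 hT2) (W_le_J hK' hT2))
  have hN : Cfsg.IsTwoLocal (normalizer ((Cfsg.wOf K ⊔ Cfsg.wOf K' : Subgroup G) : Set G)) :=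
    ⟨_, hV, fun h => W_ne_bot hK.1.1 (le_bot_iff.1 (le_sup_left.trans h.le)), rfl⟩
  have hKN : K ≤ normalizer ((Cfsg.wOf K ⊔ Cfsg.wOf K' : Subgroup G) : Set G) :=
    le_nz_sup (le_sup_left.trans (H_le_nzW hK.1.1)) (hn2.trans (nzK_le_nzW hK'))
  have hne2 : zc T K' ≠ ⊥ := fun h => ha1 (Subgroup.mem_bot.1 (h ▸ ha ▸ hr))
  refine huT (mem_T_of_outside am S hMJ hT hS' hTS hN (fun h => hK.2.1 (hKN.trans h)) (fun s hs => ?_) hu
    (pair_nz am S hMJ hT hS' hTS hS'M hu hun huT hK huJ hgd' hne1 hne2 (Or.inr ⟨e1, e2⟩)))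
  have hc : ∀ H : Subgroup G, H ≤ zJ T → cj s H = H := fun H hH =>
    cj_eq_of_mem_nz (centralizer_le_nz H (Subgroup.centralizer_le hH
      (T_cent_zJ am S hMJ hT hS' hTS hS'M hu hun huT hK hs)))
  exact pair_nz am S hMJ hT hS' hTS hS'M hu hun huT hK
    (Subgroup.le_normalizer.trans (nz_le_nz_thompson T) hs) hgd' hne1 hne2
    (Or.inl ⟨hc _ inf_le_left, hc _ inf_le_left⟩)

end Cfsg.Agent.Lib.LocalChar.JComp
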