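import Cfsg.Agent.Lib.Offender.Group
import Cfsg.Agent.Lib.Thompson.Elementary
import Cfsg.Agent.Lib.LocalChar.Core

/-!
The layer generated by offenders on a module `V` of a solvable group, prime 2: `thompsonSubgroup` acts as a product
of copies of `S₃`; consequences stated without the model.
-/

set_option autoImplicit false
set_option linter.unusedSectionVars false
open Subgroup
open scoped commutatorElement

namespace Cfsg.Agent.Lib.LocalChar.JOddLayer

open Cfsg.Agent.Lib.Offender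

/-- `[V,t]` has at most one non-trivial element. -/
def HasLine {X : Type*} [Group X] (V : Subgroup X) (t : X) : Prop :=
  ∀ u ∈ V, ∀ v ∈ V, ⁅t, u⁆ ≠ 1 → ⁅t, v⁆ ≠ 1 → ⁅t, u⁆ = ⁅t, v⁆

variable {X : Type*} [Group X] [Finite X] (V : Subgroup X) [V.Normal]

theorem comm_model (t : X) {v : X} (hv : v ∈ V) :
    ⁅prj V t, iV V ⟨v, hv⟩⁆ = iV V ⟨⁅t, v⁆, V.mul_mem (Normal.conj_mem inferInstance v hv t) (V.inv_mem hv)⟩ := by
  have h : ⟨⁅t, v⁆, V.mul_mem (Normal.conj_mem inferInstance v hv t) (V.inv_mem hv)⟩ =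
      MulAut.conjNormal t (⟨v, hv⟩ : V) * (⟨v, hv⟩ : V)⁻¹ := Subtype.ext (by
    simp [commutatorElement_def])
  rw [h, map_mul, ← prj_conj, map_inv, commutatorElement_def]

theorem iV_injective : Function.Injective (iV V) := SemidirectProduct.inl_injective

variable (hV : Cfsg.IsElementaryAbelian 2 V) (hsol : Cfsg.IsPSolvable 2 X)
  (hO : Cfsg.pCore 2 (X ⧸ centralizer (V : Set X)) = ⊥)
include hV hsol hO

theorem hasLine_of_trans {H : Subgroup (Mdl V)} {K : Subgroup (Mdl V)} (s : Setting 2 (iV V).range H K)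
    {t : X} (tt : Trans 2 (iV V).range H (prj V t)) : HasLine V t := by
  intro u hu v hv h1 h2
  obtain ⟨e, he, he1⟩ := tt.exists_cen_ne s
  have hcard := tt.card_cen s
  have hmem : ∀ w, (hw : w ∈ V) → ⁅t, w⁆ ≠ 1 → ⁅prj V t, iV V ⟨w, hw⟩⁆ = e := by
    intro w hw hne
    have hin : ⁅prj V t, iV V ⟨w, hw⟩⁆ ∈ cen (iV V).range (prj V t) :=
      tt.comm_mem_cen s ⟨_, rfl⟩
    rw [comm_model V t hw] at hin ⊢
    by_contra hne'
    have h1' : iV V ⟨⁅t, w⁆, V.mul_mem (Normal.conj_mem inferInstance w hw t) (V.inv_mem hw)⟩ ≠ (1 : Mdl V) := fun h => hne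
      (congrArg Subtype.val (iV_injective V (h.trans (map_one _).symm)))
    have h3 : ({1, e, iV V ⟨⁅t, w⁆, V.mul_mem (Normal.conj_mem inferInstance w hw t) (V.inv_mem hw)⟩} :
        Set (Mdl V)) ⊆ (cen (iV V).range (prj V t) : Set (Mdl V)) := by
      rintro _ (rfl | rfl | rfl)
      exacts [one_mem _, he, hin]
    have h4 := Set.ncard_le_ncard h3 (Set.toFinite _)
    have hc2 : ((cen (iV V).range (prj V t) : Subgroup (Mdl V)) : Set (Mdl V)).ncard = 2 := by
      rw [← Nat.card_coe_set_eq]; exact hcard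
    rw [hc2, Set.ncard_insert_of_notMem (by simp [he1.symm, Ne.symm h1']),
      Set.ncard_pair (Ne.symm hne')] at h4
    omega
  have e1 := hmem u hu h1
  rw [← hmem v hv h2, comm_model V t hu, comm_model V t hv] at e1
  exact congrArg Subtype.val (iV_injective V e1)

/-- The offender layer: every maximal elementary abelian `A` is generated by `A ∩ C(V)` and elements acting as
transvections. -/
theorem exists_setting_lifts : ∃ K, Setting 2 (iV V).range ((Cfsg.thompsonSubgroup 2 X).map (prj V)) K ∧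
    (prj V).range ≤ normalizer (K : Set (Mdl V)) ∧
    ((Cfsg.thompsonSubgroup 2 X).map (prj V) = ⨆ A : {A : Subgroup (Mdl V) //
        A ≤ (Cfsg.thompsonSubgroup 2 X).map (prj V) ∧ Cfsg.IsBestOffenderOn 2 (iV V).range A},
          (A : Subgroup (Mdl V))) ∧
    ∀ A ∈ Cfsg.maxElementaryAbelianSubgroups 2 X, A ≤ closure {t | t ∈ A ∧ (t ∈ centralizer (V : Set X) ∨
      Trans 2 (iV V).range ((Cfsg.thompsonSubgroup 2 X).map (prj V)) (prj V t))} := by
  obtain ⟨K, s, hn, hgen⟩ := thompson_setting hsol V hV hO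
  refine ⟨K, s, hn, hgen, fun A hA a ha => ?_⟩
  set H := (Cfsg.thompsonSubgroup 2 X).map (prj V)
  set Y := closure {t | t ∈ A ∧ (t ∈ centralizer (V : Set X) ∨ Trans 2 (iV V).range H (prj V t))}
  have hAH : A.map (prj V) ≤ H := map_mono (le_sSup hA)
  have hbest : Cfsg.IsBestOffenderOn 2 (iV V).range (A.map (prj V)) := best_model V (S0606.result V hV A hA)
  have hle : A.map (prj V) ≤ Y.map (prj V) := (s.le_sSup_minimal _ hAH hbest).trans <| sSup_le fun B hB => by
    obtain ⟨hBA, hBb, hB1, hBmin⟩ := hB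
    obtain ⟨b, rfl, tb⟩ := s.min_trans (A := B)
      ⟨hBA.trans hAH, hBb, (s.commutator_ne_bot_iff (hBA.trans hAH)).mpr hB1, hBmin⟩
    obtain ⟨t, ht, rfl⟩ := hBA (mem_zpowers b)
    rw [zpowers_le]
    exact mem_map_of_mem _ (subset_closure ⟨ht, Or.inr tb⟩)
  obtain ⟨y, hy, hye⟩ := hle (mem_map_of_mem _ ha)
  have hyA : y ∈ A := (closure_le A).2 (fun t ht => ht.1) hy
  have hc : y⁻¹ * a ∈ Y := subset_closure ⟨A.mul_mem (A.inv_mem hyA) ha, Or.inl
    ((prj_eq_one_iff V).1 (by rw [map_mul, map_inv, hye, inv_mul_cancel]))⟩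
  have := Y.mul_mem hy hc
  rwa [mul_inv_cancel_left] at this

theorem le_closure_hasLine {A : Subgroup X} (hA : A ∈ Cfsg.maxElementaryAbelianSubgroups 2 X) :
    A ≤ closure {t | t ∈ A ∧ (t ∈ centralizer (V : Set X) ∨ HasLine V t)} := by
  obtain ⟨K, s, -, -, h⟩ := exists_setting_lifts V hV hsol hO
  refine (h A hA).trans (closure_mono fun t ht => ⟨ht.1, ht.2.imp id fun tt => ?_⟩)
  exact hasLine_of_trans V hV hsol hO s tt

/-- An element `x` of order-3 type lying in `O₃(X/C(V))` has its plane `W` normalized by every offender. -/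
theorem normalizes_plane {x : X} {W : Subgroup X}
    (hx : (QuotientGroup.mk x : X ⧸ centralizer (V : Set X)) ∈ Cfsg.pCore 3 (X ⧸ centralizer (V : Set X)))
    (hWV : W ≤ V) (hW4 : Nat.card W = 4) (hxW : ∀ w ∈ W, x * w * x⁻¹ ∈ W)
    (hfree : ∀ w ∈ W, Commute x w → w = 1) (hcomm : ∀ v ∈ V, ⁅x, v⁆ ∈ W)
    {A : Subgroup X} (hA : A ∈ Cfsg.maxElementaryAbelianSubgroups 2 X) :
    A ≤ normalizer (W : Set X) := by
  haveI : Fact (Nat.Prime 3) := ⟨by norm_num⟩
  obtain ⟨K, s, hn, hgen, h⟩ := exists_setting_lifts V hV hsol hO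
  set H := (Cfsg.thompsonSubgroup 2 X).map (prj V)
  -- every element of `W` is a commutator with `x`
  have hsurj : ∀ w ∈ W, ∃ u ∈ W, w = ⁅x, u⁆ := by
    intro w hw
    let f : W → W := fun u => ⟨⁅x, (u : X)⁆, W.mul_mem (hxW u u.2) (W.inv_mem u.2)⟩
    have hf : Function.Injective f := fun a b hab => by
      have e : x * (a : X) * x⁻¹ * (a : X)⁻¹ = x * (b : X) * x⁻¹ * (b : X)⁻¹ := congrArg Subtype.val hab
      have hc : Commute (b : X)⁻¹ (a : X) :=
        Thompson.commute_of_elementary hV (V.inv_mem (hWV b.2)) (hWV a.2)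
      have h1 : x * ((b : X)⁻¹ * a) * x⁻¹ = (b : X)⁻¹ * a := by
        calc x * ((b : X)⁻¹ * a) * x⁻¹ = (x * b * x⁻¹)⁻¹ * (x * a * x⁻¹ * (a : X)⁻¹) * a := by group
          _ = (x * b * x⁻¹)⁻¹ * (x * b * x⁻¹ * (b : X)⁻¹) * a := by rw [e]
          _ = _ := by group
      exact Subtype.ext (inv_mul_eq_one.1
        (hfree _ (W.mul_mem (W.inv_mem b.2) a.2) (mul_inv_eq_iff_eq_mul.1 h1))).symm
    obtain ⟨u, hu⟩ := Finite.injective_iff_surjective.1 hf ⟨w, hw⟩
    exact ⟨u, u.2, (congrArg Subtype.val hu).symm⟩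
  refine (h A hA).trans ((closure_le _).2 fun t ⟨_, ht⟩ => mem_nz_of_cj_le (cj_le_iff.2 fun w hw => ?_))
  rcases ht with ht | tb
  · rwa [show t * w * t⁻¹ = w by rw [← (mem_centralizer_iff.1 ht w (hWV hw)), mul_inv_cancel_right]]
  set b := prj V t
  set Vm := (iV V).range
  set xm := prj V x
  have hxV : xm ∈ normalizer (Vm : Set (Mdl V)) := range_normalized V ⟨x, rfl⟩
  haveI hJn : (Cfsg.thompsonSubgroup 2 X).Characteristic := Thompson.thompsonSubgroup_characteristic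
  have hxH : xm ∈ normalizer (H : Set (Mdl V)) := mem_normalizer_fintype fun y hy => by
    obtain ⟨g, hg, rfl⟩ := hy
    exact ⟨x * g * x⁻¹, Normal.conj_mem inferInstance g hg x, by simp [xm, map_mul]⟩
  obtain ⟨tb', hxfac⟩ := fac_conj s tb hxV hxH (hn ⟨x, rfl⟩)
  rcases fac_dichotomy s tb tb' with heq | ⟨hcom, -⟩
  · -- `x` normalizes the factor of `t`
    set F := fac K b
    set Wf := ⁅Vm, F⁆
    have hxF : xm ∈ normalizer (F : Set (Mdl V)) := mem_normalizer_fintype fun y hy => by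
      have := hxfac y hy
      rwa [heq] at this
    have hxWf : xm ∈ normalizer (Wf : Set (Mdl V)) :=
      le_nz_commutator (N := zpowers xm) (zpowers_le.2 hxV) (zpowers_le.2 hxF) (mem_zpowers _)
    have hFb : b ∈ F := mem_fac K b
    by_cases hall : ∀ u ∈ Wf, Commute xm u
    · obtain ⟨u, hu, rfl⟩ := hsurj w hw
      have hsplit : iV V ⟨u, hWV hu⟩ ∈ Wf ⊔ fixV Vm F := by
        rw [tb.facW_sup s]; exact ⟨_, rfl⟩
      obtain ⟨p, hp, c, hc, e⟩ := mem_sup_abelian s (tb.facW_le s) inf_le_left hsplit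
      have hc' : xm * c * xm⁻¹ ∈ fixV Vm F := by
        refine mem_fixV.mpr ⟨conj_mem_of_nz hxV hc.1, fun g hg => ?_⟩
        have hg' : xm⁻¹ * g * xm ∈ F := by simpa using conj_mem_of_nz (inv_mem hxF) hg
        have := conj_commute (h := xm) ((mem_fixV.mp hc).2 _ hg')
        rwa [show xm * (xm⁻¹ * g * xm) * xm⁻¹ = g by group] at this
      have he : ⁅xm, iV V ⟨u, hWV hu⟩⁆ = xm * c * xm⁻¹ * c⁻¹ := by
        rw [← e, commutatorElement_def]
        calc xm * (p * c) * xm⁻¹ * (p * c)⁻¹ = (xm * p * xm⁻¹) * (xm * c * xm⁻¹ * c⁻¹) * p⁻¹ := by group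
          _ = p * (xm * c * xm⁻¹ * c⁻¹) * p⁻¹ := by rw [(hall p hp).eq, mul_inv_cancel_right]
          _ = _ := by
            rw [s.vcomm (tb.facW_le s hp) (mul_mem hc'.1 (inv_mem hc.1)), mul_inv_cancel_right]
      have hfix : Commute b ⁅xm, iV V ⟨u, hWV hu⟩⁆ := by
        rw [he]
        exact ((mem_fixV.mp hc').2 b hFb).mul_right ((mem_fixV.mp hc).2 b hFb).inv_right
      rw [comm_model V x (hWV hu), commute_prj_iff] at hfix
      rw [hfix.eq, mul_inv_cancel_right]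
      exact hw
    · push Not at hall
      obtain ⟨q, hq, hqx⟩ := hall
      obtain ⟨⟨v, hv⟩, rfl⟩ := tb.facW_le s hq
      set d : X := ⁅x, v⁆
      have hd : d ∈ W := hcomm v hv
      have hd1 : d ≠ 1 := fun h1 => hqx ((commute_prj_iff V).2 (commutatorElement_eq_one_iff_commute.1 h1))
      have hdf : iV V ⟨d, hWV hd⟩ ∈ Wf := by
        have h1 : ⁅xm, iV V ⟨v, hv⟩⁆ ∈ Wf := mul_mem (conj_mem_of_nz hxWf hq) (inv_mem hq)
        rwa [comm_model V x hv] at h1
      set Wm := (W.subgroupOf V).map (iV V)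
      have hd' : x * d * x⁻¹ ∈ W := hxW d hd
      have hdd : x * d * x⁻¹ ≠ d := fun h1 => hd1 (hfree d hd (mul_inv_eq_iff_eq_mul.1 h1))
      have hd'f : iV V ⟨x * d * x⁻¹, hWV hd'⟩ ∈ Wf := by
        have h1 := conj_mem_of_nz hxWf hdf
        rwa [prj_conj] at h1
      have hcardm : Nat.card Wm = 4 := by
        rw [card_map_of_injective (iV_injective V), Nat.card_congr (subgroupOfEquivOfLe hWV).toEquiv, hW4]
      have hcardf : Nat.card Wf = 4 := tb.facW_card s
      have hsub : ({1, iV V ⟨d, hWV hd⟩, iV V ⟨x * d * x⁻¹, hWV hd'⟩} : Set (Mdl V)) ⊆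
          ((Wm ⊓ Wf : Subgroup (Mdl V)) : Set (Mdl V)) := by
        rintro _ (rfl | rfl | rfl)
        · exact one_mem _
        · exact ⟨mem_map_of_mem _ hd, hdf⟩
        · exact ⟨mem_map_of_mem _ hd', hd'f⟩
      have h3 := Set.ncard_le_ncard hsub (Set.toFinite _)
      have hne1 : (1 : Mdl V) ≠ iV V ⟨d, hWV hd⟩ := fun h1 =>
        hd1 (congrArg Subtype.val (iV_injective V ((map_one _).trans h1))).symm
      have hne2 : (1 : Mdl V) ≠ iV V ⟨x * d * x⁻¹, hWV hd'⟩ := fun h1 =>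
        hd1 (conj_eq_one_iff.1 (congrArg Subtype.val (iV_injective V ((map_one _).trans h1))).symm)
      have hne3 : iV V ⟨d, hWV hd⟩ ≠ iV V ⟨x * d * x⁻¹, hWV hd'⟩ := fun h1 =>
        hdd (congrArg Subtype.val (iV_injective V h1)).symm
      rw [Set.ncard_insert_of_notMem (by simp [hne1, hne2]), Set.ncard_pair hne3,
        ← Nat.card_coe_set_eq] at h3
      have h4 : Nat.card ↥(Wm ⊓ Wf) ∣ 4 := hcardm ▸ card_dvd_of_le inf_le_left
      have h5 : Nat.card ↥(Wm ⊓ Wf) = 4 := by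
        have h6 := Nat.le_of_dvd (by norm_num) h4
        have h7 : ¬ (3 ∣ 4) := by norm_num
        change 3 ≤ Nat.card ↥(Wm ⊓ Wf) at h3
        rcases Nat.eq_or_lt_of_le h6 with h8 | h8
        · exact h8
        · exact absurd ((show Nat.card ↥(Wm ⊓ Wf) = 3 by omega) ▸ h4) h7
      have e1 : Wm ⊓ Wf = Wm := eq_of_le_of_card_ge inf_le_left (by rw [hcardm, h5])
      have e2 : Wm ⊓ Wf = Wf := eq_of_le_of_card_ge inf_le_right (by rw [hcardf, h5])
      have hWe : Wf = Wm := e2.symm.trans e1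
      have hw' : iV V ⟨w, hWV hw⟩ ∈ Wf := hWe ▸ mem_map_of_mem _ hw
      have h9 := conj_mem_of_nz (tb.facW_norm s hFb) hw'
      rw [prj_conj, show ⁅Vm, fac K b⁆ = Wm from hWe] at h9
      obtain ⟨⟨z, hzV⟩, hz, hze⟩ := h9
      have : z = t * w * t⁻¹ := congrArg Subtype.val (iV_injective V hze)
      exact this ▸ hz
  · -- `x` commutes with `t` modulo `C(V)`
    have hcc := hcom b (mem_fac K b) _ (mem_fac K (xm * b * xm⁻¹))
    set C := centralizer (V : Set X)
    have hr : (QuotientGroup.mk (x * t * x⁻¹ * t⁻¹) : X ⧸ C) ∈ Cfsg.pCore 3 (X ⧸ C) := by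
      have hN : (Cfsg.pCore 3 (X ⧸ C)).Normal := Lib.LocalChar.pCore_normal
      have h2 := mul_mem hx (hN.conj_mem _ (inv_mem hx) (QuotientGroup.mk t))
      simpa [mul_assoc] using h2
    set r := x * t * x⁻¹ * t⁻¹
    have hr2 : (prj V r) ^ 2 = 1 := by
      have e : prj V r = (xm * b * xm⁻¹) * b⁻¹ := by simp [r, xm, b, map_mul]
      rw [e, hcc.symm.inv_right.mul_pow, inv_pow, tb'.pow, tb.pow]
      simp
    have hr2' : r ^ 2 ∈ C := (prj_eq_one_iff V).1 (by rw [map_pow, hr2])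
    have hr1 : (QuotientGroup.mk r : X ⧸ C) = 1 := by
      obtain ⟨k, hk⟩ := Lib.LocalChar.pCore_isPGroup ⟨_, hr⟩
      have hk' : (QuotientGroup.mk r : X ⧸ C) ^ 3 ^ k = 1 := by simpa using congrArg Subtype.val hk
      have h2 : (QuotientGroup.mk r : X ⧸ C) ^ 2 = 1 := by
        rw [← QuotientGroup.mk_pow, QuotientGroup.eq_one_iff]; exact hr2'
      have hg := pow_gcd_eq_one.2 ⟨h2, hk'⟩
      rwa [Nat.Coprime.gcd_eq_one (Nat.Coprime.pow_right _ (by norm_num)), pow_one] at hg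
    have hrC : r ∈ C := (QuotientGroup.eq_one_iff r).1 hr1
    obtain ⟨u, hu, rfl⟩ := hsurj w hw
    have hv' : t * u * t⁻¹ ∈ V := Normal.conj_mem inferInstance u (hWV hu) t
    have hnorm : C.Normal := inferInstance
    -- `t x t⁻¹ = c x` with `c` centralizing `V`
    have hc : t * x * t⁻¹ * x⁻¹ ∈ C := by
      have := inv_mem hrC
      convert this using 1
      simp [r]; group
    set c := t * x * t⁻¹ * x⁻¹
    have hxv : x * (t * u * t⁻¹) * x⁻¹ ∈ V := Normal.conj_mem inferInstance _ hv' x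
    have e : t * ⁅x, u⁆ * t⁻¹ = c * (x * (t * u * t⁻¹) * x⁻¹) * c⁻¹ * (t * u * t⁻¹)⁻¹ := by
      simp only [c, commutatorElement_def]; group
    rw [e, (mem_centralizer_iff.1 hc _ hxv).symm, mul_inv_cancel_right]
    exact hcomm _ hv'

/-- A normal subgroup containing `C(V)`, abelian modulo `C(V)`, containing all elements of odd order of the
Thompson subgroup. -/
theorem exists_layer_full : ∃ M : Subgroup X, M.Normal ∧ centralizer (V : Set X) ≤ M ∧
    (∀ a ∈ M, ∀ b ∈ M, ⁅a, b⁆ ∈ centralizer (V : Set X)) ∧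
    (∀ a ∈ M, a ^ 3 ∈ centralizer (V : Set X)) ∧
    (∀ g ∈ Cfsg.thompsonSubgroup 2 X, Odd (orderOf g) → g ∈ M) ∧
    (∀ a ∈ Cfsg.thompsonSubgroup 2 X, ∀ b ∈ Cfsg.thompsonSubgroup 2 X, ⁅a, b⁆ ∈ M) ∧
    ∀ A ∈ Cfsg.maxElementaryAbelianSubgroups 2 X, A ≤ closure {t | t ∈ A ∧ (t ∈ centralizer (V : Set X) ∨
      ∃ N : Subgroup X, centralizer (V : Set X) ≤ N ∧ N ≤ M ∧
        (∀ j ∈ Cfsg.thompsonSubgroup 2 X, ∀ n ∈ N, j * n * j⁻¹ ∈ N) ∧
        (∀ u ∈ M, ⁅u, t⁆ ∈ N) ∧
        (∀ x ∈ N, x ∉ centralizer (V : Set X) → ∀ n ∈ N, ∃ e : ℕ, (x ^ e)⁻¹ * n ∈ centralizer (V : Set X)) ∧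
        ∃ y ∈ Cfsg.thompsonSubgroup 2 X, Odd (orderOf y) ∧ ⁅y, t⁆ ∉ centralizer (V : Set X))} := by
  obtain ⟨K, s, hn, hgen, hlift⟩ := exists_setting_lifts V hV hsol hO
  set H := (Cfsg.thompsonSubgroup 2 X).map (prj V)
  set Vm := (iV V).range
  set Tr := {b | Trans 2 Vm H b}
  set gen : Set (Mdl V) := {y | ∃ b ∈ Tr, y ∈ ⁅K, zpowers b⁆}
  set X₀ := closure gen
  have hthree : ∀ b ∈ Tr, Nat.card ↥(⁅K, zpowers b⁆) = 3 := by
    intro b hb
    obtain ⟨d, -, -, he⟩ := Trans.fac_pair hb s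
    rw [he]
    have h6 : Nat.card (Matrix.SpecialLinearGroup (Fin 2) (ZMod 2)) = 6 := by
      rw [Nat.card_eq_fintype_card]; decide
    have := Trans.fac_card_inf hb s
    rw [Trans.fac_card hb s, h6] at this
    omega
  have hcyc : ∀ b ∈ Tr, ∀ y ∈ ⁅K, zpowers b⁆, ∀ z ∈ ⁅K, zpowers b⁆, y * z = z * y := by
    intro b hb
    have h3 := hthree b hb
    haveI : IsCyclic ↥(⁅K, zpowers b⁆) := isCyclic_of_prime_card (p := 3) (hp := ⟨by norm_num⟩) h3
    exact fun y hy z hz => congrArg Subtype.val (IsCyclic.commGroup.mul_comm (⟨y, hy⟩ : ↥(⁅K, zpowers b⁆)) ⟨z, hz⟩)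
  have hab : ∀ y ∈ gen, ∀ z ∈ gen, y * z = z * y := by
    rintro y ⟨b, hb, hy⟩ z ⟨d, hd, hz⟩
    rcases fac_dichotomy s hb hd with h | ⟨h, -⟩
    · obtain ⟨_, -, -, e1⟩ := Trans.fac_pair hb s
      obtain ⟨_, -, -, e2⟩ := Trans.fac_pair hd s
      rw [e2, h, ← e1] at hz
      exact hcyc b hb y hy z hz
    · exact (h y (mem_sup_left hy) z (mem_sup_left hz)).eq
  haveI hX₀c : IsMulCommutative X₀ := isMulCommutative_closure hab
  haveI hJn : (Cfsg.thompsonSubgroup 2 X).Characteristic := Thompson.thompsonSubgroup_characteristic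
  have hnX₀ : ∀ g : X, ∀ y ∈ X₀, prj V g * y * (prj V g)⁻¹ ∈ X₀ := by
    intro g
    have hgH : prj V g ∈ normalizer (H : Set (Mdl V)) := mem_normalizer_fintype fun y hy => by
      obtain ⟨h, hh, rfl⟩ := hy
      exact ⟨g * h * g⁻¹, Normal.conj_mem inferInstance h hh g, by simp [map_mul]⟩
    have hgK : prj V g ∈ normalizer (K : Set (Mdl V)) := hn ⟨g, rfl⟩
    have : X₀ ≤ X₀.comap (MulAut.conj (prj V g)).toMonoidHom := (closure_le _).2 fun y ⟨b, hb, hy⟩ => by
      obtain ⟨hb', -⟩ := fac_conj s hb (range_normalized V ⟨g, rfl⟩) hgH hgK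
      refine subset_closure ⟨_, hb', ?_⟩
      have h1 : ⁅K, zpowers b⁆ ≤ (⁅K, zpowers (prj V g * b * (prj V g)⁻¹)⁆).comap
          (MulAut.conj (prj V g)).toMonoidHom := commutator_le.mpr fun k hk z hz => by
        rw [mem_comap, map_commutatorElement]
        refine commutator_mem_commutator (conj_mem_of_nz hgK hk) ?_
        obtain ⟨i, rfl⟩ := hz
        exact ⟨i, conj_zpow⟩
      exact h1 hy
    exact fun y hy => this hy
  have hexp : ∀ y ∈ X₀, y ^ 3 = 1 :=
    (Thompson.isElementaryAbelian_closure (p := 3) hab fun y ⟨b, hb, hy⟩ =>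
      orderOf_dvd_iff_pow_eq_one.1 (hthree b hb ▸ Subgroup.orderOf_coe (⟨y, hy⟩ : ↥(⁅K, zpowers b⁆)) ▸
        orderOf_dvd_natCard _)).2
  -- modulo `X₀` the layer is elementary abelian
  set N := normalizer (X₀ : Set (Mdl V))
  have hHN : H ≤ N := fun y hy => by
    obtain ⟨h, -, rfl⟩ := hy
    exact mem_normalizer_fintype fun z hz => hnX₀ h z hz
  haveI : (X₀.subgroupOf N).Normal := normal_in_normalizer
  set π := QuotientGroup.mk' (X₀.subgroupOf N)
  set T' : Set (N ⧸ X₀.subgroupOf N) := {q | ∃ b : N, (b : Mdl V) ∈ Tr ∧ π b = q}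
  have hrel : ∀ b d : N, (b : Mdl V) ∈ Tr → (d : Mdl V) ∈ Tr → π (b * d) = π (d * b) := by
    intro b d hb hd
    apply QuotientGroup.eq_iff_div_mem.2
    rw [mem_subgroupOf, div_eq_mul_inv]
    push_cast
    rcases fac_dichotomy s hb hd with h | ⟨h, -⟩
    · -- both lie in a factor of order six
      obtain ⟨_, -, -, e1⟩ := Trans.fac_pair hb s
      have hdF : (d : Mdl V) ∈ fac K (b : Mdl V) := h ▸ mem_fac K _
      have hbF : (b : Mdl V) ∈ fac K (b : Mdl V) := mem_fac K _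
      have hmem : ((b : Mdl V) * d) * ((d : Mdl V) * b)⁻¹ ∈ ⁅K, zpowers (b : Mdl V)⁆ := by
        have hnz : fac K (b : Mdl V) ≤ normalizer ((⁅K, zpowers (b : Mdl V)⁆ : Subgroup _) : Set (Mdl V)) :=
          sup_le le_normalizer (Subgroup.normalizer_commutator_ge_right _ _)
        obtain ⟨p, hp, i, hi, e⟩ := (mem_sup_iff_of_nz'
          (Subgroup.normalizer_commutator_ge_right K (zpowers (b : Mdl V)))).1 hdF
        have hc : i * (b : Mdl V) = b * i := by
          obtain ⟨n, rfl⟩ := hi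
          exact ((Commute.refl (b : Mdl V)).zpow_left n).eq
        have e' : ((b : Mdl V) * d) * ((d : Mdl V) * b)⁻¹ = (b * p * (b : Mdl V)⁻¹) * p⁻¹ := by
          rw [e]
          calc (b : Mdl V) * (p * i) * (p * i * b)⁻¹ = b * p * i * ((i * b)⁻¹) * p⁻¹ := by group
            _ = _ := by rw [hc]; group
        rw [e']
        exact mul_mem (conj_mem_of_nz (hnz hbF) hp) (inv_mem hp)
      exact subset_closure ⟨_, hb, hmem⟩
    · have := (h _ (mem_fac K _) _ (mem_fac K _)).eq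
      rw [this, mul_inv_cancel]
      exact one_mem _
  have hel : Cfsg.IsElementaryAbelian 2 (closure T') := Thompson.isElementaryAbelian_closure
    (by rintro _ ⟨b, hb, rfl⟩ _ ⟨d, hd, rfl⟩; rw [← map_mul, ← map_mul, hrel b d hb hd])
    (by
      rintro _ ⟨b, hb, rfl⟩
      rw [← map_pow, show b ^ 2 = 1 from Subtype.ext (Trans.pow hb), map_one])
  have hall : H ≤ ((closure T').comap π).map N.subtype := s.le_of_trans hgen fun A hA => by
    obtain ⟨b, rfl, tb⟩ := s.min_trans hA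
    refine zpowers_le.2 ⟨⟨b, hHN tb.mem⟩, ?_, rfl⟩
    show π ⟨b, hHN tb.mem⟩ ∈ closure T'
    exact Subgroup.subset_closure (show π ⟨b, hHN tb.mem⟩ ∈ T' from ⟨⟨b, hHN tb.mem⟩, tb, rfl⟩)
  refine ⟨X₀.comap (prj V), ⟨fun y hy g => ?_⟩, ?_, fun a ha b hb => ?_,
    fun a ha => (prj_eq_one_iff V).1 (by rw [map_pow]; exact hexp _ ha), fun g hg hodd => ?_,
    fun a ha b hb => ?_, fun A hA => (hlift A hA).trans (closure_mono fun t ht => ⟨ht.1, ht.2.imp id fun tb => ?_⟩)⟩
  · rw [mem_comap, map_mul, map_mul, map_inv]; exact hnX₀ g _ hy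
  · intro g hg; rw [mem_comap, (prj_eq_one_iff V).2 hg]; exact one_mem _
  · rw [← prj_eq_one_iff, map_commutatorElement, commutatorElement_eq_one_iff_commute]
    exact congrArg Subtype.val (mul_comm' (⟨_, ha⟩ : X₀) ⟨_, hb⟩)
  · obtain ⟨n, hnq, hne⟩ := hall (mem_map_of_mem _ hg)
    have h2 : (π n) ^ 2 = 1 := hel.2 _ hnq
    rw [← map_pow] at h2
    have h3 : n ^ 2 ∈ X₀.subgroupOf N := (QuotientGroup.eq_one_iff _).1 h2
    have h4 : prj V g ^ 2 ∈ X₀ := by
      have e : (n : Mdl V) = prj V g := hne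
      rw [← e]; exact_mod_cast h3
    obtain ⟨m, hm⟩ := hodd
    have e : prj V g * (prj V g ^ 2) ^ m = 1 := by
      rw [← pow_mul, ← pow_succ', ← map_pow, show 2 * m + 1 = orderOf g by omega, pow_orderOf_eq_one, map_one]
    show prj V g ∈ X₀
    rw [eq_inv_of_mul_eq_one_left e]
    exact inv_mem (pow_mem h4 m)
  · obtain ⟨n, hnq, hne⟩ := hall (mem_map_of_mem _ ha)
    obtain ⟨q, hqq, hqe⟩ := hall (mem_map_of_mem _ hb)
    rw [mem_comap, map_commutatorElement, ← show (n : Mdl V) = prj V a from hne,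
      ← show (q : Mdl V) = prj V b from hqe]
    have h1 : π ⁅n, q⁆ = 1 := by
      rw [map_commutatorElement, commutatorElement_eq_one_iff_commute]
      exact Thompson.commute_of_elementary hel hnq hqq
    exact mem_subgroupOf.1 ((QuotientGroup.eq_one_iff _).1 h1)
  · -- the factor of a transvection
    set b := prj V t
    set F₀ := ⁅K, zpowers b⁆
    have hF₀X : F₀ ≤ X₀ := fun y hy => subset_closure ⟨b, tb, hy⟩
    have hF₀K : F₀ ≤ K := commutator_le.mpr fun k hk z hz => by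
      rw [commutatorElement_def, mul_assoc, mul_assoc]
      have := mul_mem hk (s.mul_conj_mem_K (zpowers_le.mpr tb.mem hz) (inv_mem hk))
      simpa [mul_assoc] using this
    have hX₀K : X₀ ≤ K := (closure_le K).2 fun y ⟨d, hd, hy⟩ => by
      have hle : ⁅K, zpowers d⁆ ≤ K := commutator_le.mpr fun k hk z hz => by
        rw [commutatorElement_def, mul_assoc, mul_assoc]
        have := mul_mem hk (s.mul_conj_mem_K (zpowers_le.mpr hd.mem hz) (inv_mem hk))
        simpa [mul_assoc] using this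
      exact hle hy
    obtain ⟨-, -, -, he⟩ := Trans.fac_pair tb s
    refine ⟨F₀.comap (prj V), ?_, comap_mono hF₀X, fun j hj n hn' => ?_, fun u hu => ?_, ?_, ?_⟩
    · intro g hg; rw [mem_comap, (prj_eq_one_iff V).2 hg]; exact one_mem _
    · have hjH : prj V j ∈ H := mem_map_of_mem _ hj
      rw [mem_comap, map_mul, map_mul, map_inv]
      rw [mem_comap] at hn'
      have hn2 : prj V n ∈ fac K b ⊓ K := he ▸ hn'
      show prj V j * prj V n * (prj V j)⁻¹ ∈ ⁅K, zpowers b⁆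
      rw [he]
      exact (⟨conj_mem_of_nz (tb.H_normalizes_fac s hgen hjH) hn2.1,
        conj_mem_of_nz (s.Knorm hjH) hn2.2⟩ : prj V j * prj V n * (prj V j)⁻¹ ∈ fac K b ⊓ K)
    · rw [mem_comap, map_commutatorElement]
      exact commutator_mem_commutator (hX₀K hu) (mem_zpowers b)
    · intro x hx hxc n hn'
      rw [mem_comap] at hx hn'
      have h3 : Nat.card ↥F₀ = 3 := hthree b tb
      have hne : (⟨prj V x, hx⟩ : F₀) ≠ 1 := fun h => hxc ((prj_eq_one_iff V).1 (congrArg Subtype.val h))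
      haveI : Fact (Nat.Prime 3) := ⟨by norm_num⟩
      have htop := zpowers_eq_top_of_prime_card (p := 3) h3 hne
      have hmem : (⟨prj V n, hn'⟩ : F₀) ∈ zpowers (⟨prj V x, hx⟩ : F₀) := htop ▸ mem_top _
      rw [← mem_powers_iff_mem_zpowers] at hmem
      obtain ⟨e, he'⟩ := hmem
      refine ⟨e, (prj_eq_one_iff V).1 ?_⟩
      have h4 : prj V x ^ e = prj V n := congrArg Subtype.val he'
      rw [map_mul, map_inv, map_pow, h4, inv_mul_cancel]
    · obtain ⟨k, hk, hkb⟩ := tb.exists_noncomm s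
      obtain ⟨g, hg, hgk⟩ := s.Kle hk
      obtain ⟨a, y, ha, hy, hgay, ⟨m, hm⟩, hyo⟩ := Lib.LocalChar.exists_ppart (p := 2) g
      have hkodd : (orderOf k).Coprime 2 := by
        refine Nat.Coprime.coprime_dvd_left ?_ s.Kcop
        rw [← Subgroup.orderOf_mk (H := K) k hk]
        exact orderOf_dvd_natCard _
      have ha1 : prj V a = 1 := by
        have h1 : orderOf (prj V a) ∣ 2 ^ m := hm ▸ orderOf_map_dvd (prj V) a
        have h2 : orderOf (prj V a) ∣ orderOf k := by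
          obtain ⟨i, rfl⟩ := ha
          rw [map_zpow, hgk]
          exact orderOf_dvd_of_mem_zpowers ⟨i, rfl⟩
        exact orderOf_eq_one_iff.1 (Nat.eq_one_of_dvd_coprimes (hkodd.pow_right m) h2 h1)
      refine ⟨y, ?_, Nat.coprime_two_right.1 hyo, fun hc => hkb ?_⟩
      · obtain ⟨i, rfl⟩ := hy
        exact zpow_mem hg i
      · have hky : prj V y = k := by rw [← hgk, hgay, map_mul, ha1, one_mul]
        rw [← prj_eq_one_iff, map_commutatorElement, commutatorElement_eq_one_iff_commute, hky] at hc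
        exact hc

/-- A normal subgroup containing `C(V)`, abelian modulo `C(V)`, containing all elements of odd order of the
Thompson subgroup. -/
theorem exists_oddLayer : ∃ M : Subgroup X, M.Normal ∧ centralizer (V : Set X) ≤ M ∧
    (∀ a ∈ M, ∀ b ∈ M, ⁅a, b⁆ ∈ centralizer (V : Set X)) ∧
    (∀ a ∈ M, a ^ 3 ∈ centralizer (V : Set X)) ∧
    ∀ g ∈ Cfsg.thompsonSubgroup 2 X, Odd (orderOf g) → g ∈ M :=
  let ⟨M, h1, h2, h3, h4, h5, _⟩ := exists_layer_full V hV hsol hO
  ⟨M, h1, h2, h3, h4, h5⟩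

end Cfsg.Agent.Lib.LocalChar.JOddLayer
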