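import Cfsg.Agent.Lib.LocalChar.JCompSplit
import Cfsg.Agent.Lib.LocalChar.JOddLayer
import Cfsg.Agent.Lib.HallHigman.Solvable
import Cfsg.Agent.S2941

/-!
`J(T)`-components inside an overgroup `L ∈ ℒ(T)` of a group of characteristic 2 type with solvable 2-locals and
2-closed centralizers of `Ω₁(Z(S))`.
-/

set_option autoImplicit false
set_option linter.unusedSectionVars false
open scoped commutatorElement
open Subgroup (centralizer normalizer zpowers)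

namespace Cfsg.Agent.Lib.LocalChar.JComp

variable {G : Type*} [Group G]

local notation "𝐉" T:max => Cfsg.thompsonSubgroupOf 2 T

theorem closure_odd_cj {K : Subgroup G} (h : Subgroup.closure {g : G | g ∈ K ∧ Odd (orderOf g)} = K) (u : G) :
    Subgroup.closure {g : G | g ∈ cj u K ∧ Odd (orderOf g)} = cj u K := by
  refine le_antisymm ((Subgroup.closure_le _).2 fun g hg => hg.1) ?_
  have : K ≤ (Subgroup.closure {g : G | g ∈ cj u K ∧ Odd (orderOf g)}).comap (MulAut.conj u).toMonoidHom := by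
    conv_lhs => rw [← h]
    refine (Subgroup.closure_le _).2 fun k hk => Subgroup.subset_closure ⟨conj_mem_cj hk.1, ?_⟩
    simpa [orderOf_conj'] using hk.2
  exact Subgroup.map_le_iff_le_comap.2 this

/-- The standing hypotheses. -/
structure Amb (G : Type*) [Group G] : Prop where
  ch : Cfsg.IsCharacteristicTwoType G
  sol : ∀ N : Subgroup G, Cfsg.IsTwoLocal N → Group.IsSolvable ↥N
  cen : ∀ S : Sylow 2 G, centralizer (Cfsg.omegaCenterOf (S : Subgroup G) : Set G) ≤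
    normalizer ((S : Subgroup G) : Set G)

/-- `Ω₁(Z(O₂(L)))`. -/
abbrev vOf (L : Subgroup G) : Subgroup G := omZ 2 (Cfsg.pCoreOf 2 L)

/-- The centralizer in `L` of `Ω₁(Z(O₂(L)))`. -/
abbrev cOf (L : Subgroup G) : Subgroup G := L ⊓ centralizer (vOf L : Set G)

theorem vOf_le_core (L : Subgroup G) : vOf L ≤ Cfsg.pCoreOf 2 L := omZ_le _

theorem L_le_nzV (L : Subgroup G) : L ≤ normalizer (vOf L : Set G) :=
  (le_nz_pCoreOf L).trans (nz_le_nz_omZ _)

theorem L_le_nzC (L : Subgroup G) : L ≤ normalizer (cOf L : Set G) :=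
  le_nz_inf Subgroup.le_normalizer (le_nz_centralizer (L_le_nzV L))

theorem core_le_cOf (L : Subgroup G) : Cfsg.pCoreOf 2 L ≤ cOf L := fun q hq =>
  ⟨pCoreOf_le L hq, Subgroup.mem_centralizer_iff.2 fun v hv => ((mem_omegaCenter_iff.1 hv).2.1 q hq).symm.eq⟩

variable [Finite G] {T L : Subgroup G}

/-- A Sylow subgroup of a normal subgroup `D` of `L`, normal in `D`, lies in `O₂(L)`. -/
theorem normal_sylow_le_core {D P : Subgroup G} (hDL : D ≤ L) (hLD : L ≤ normalizer (D : Set G))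
    (hP : IsSylowIn 2 P D) (hDP : D ≤ normalizer (P : Set G)) : P ≤ Cfsg.pCoreOf 2 L := by
  refine le_pCoreOf (hP.1.trans hDL) (fun l hl => ?_) hP.2.1
  obtain ⟨x, hx, e⟩ := hP.conj_eq (hP.conj (hLD hl))
  refine mem_nz_of_cj_eq ?_
  calc cj l P = cj x⁻¹ (cj x (cj l P)) := by rw [cj_cj x⁻¹, inv_mul_cancel, cj_one]
    _ = P := by rw [e, cj_eq_of_mem_nz (hDP (D.inv_mem hx))]

variable (am : Amb G) (hLT : L ∈ Cfsg.jOvergroups T)
include am hLT

theorem hTsyl : IsSylowIn 2 T L := isSylowTwoIn_iff.1 hLT.1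

theorem isPGroup_T : IsPGroup 2 T := (hTsyl am hLT).2.1

theorem core_ne_bot : Cfsg.pCoreOf 2 L ≠ ⊥ := fun h => hLT.2.1 fun g _ =>
  hLT.2.2 (Subgroup.mem_centralizer_iff.2 fun q hq => by
    rw [h] at hq; rw [Subgroup.mem_bot.1 hq]; simp)

theorem solvable_L : Group.IsSolvable ↥L :=
  Coprime.isSolvable_of_le (le_nz_pCoreOf L)
    (am.sol _ ⟨_, isPGroup_pCoreOf L, core_ne_bot am hLT, rfl⟩)

theorem cOf_le_nzT : cOf L ≤ normalizer (T : Set G) := by
  obtain ⟨P, hP⟩ := (isPGroup_T am hLT).exists_le_sylow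
  have hcore : Cfsg.pCoreOf 2 L ≤ (P : Subgroup G) := (pCoreOf_le_sylowIn (hTsyl am hLT)).trans hP
  have hZ : omZ 2 (P : Subgroup G) ≤ vOf L := fun z hz => by
    obtain ⟨-, hzc, hz2⟩ := mem_omegaCenter_iff.1 hz
    exact mem_omegaCenter_iff.2 ⟨hLT.2.2 (Subgroup.mem_centralizer_iff.2 fun q hq => hzc q (hcore hq)),
      fun q hq => hzc q (hcore hq), hz2⟩
  rintro c ⟨hcL, hcV⟩
  have hcP : c ∈ normalizer ((P : Subgroup G) : Set G) := am.cen P (Subgroup.centralizer_le hZ hcV)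
  have e : (P : Subgroup G) ⊓ L = T :=
    (hTsyl am hLT).eq_of_le (P.isPGroup'.to_le inf_le_left) inf_le_right (le_inf hP (hTsyl am hLT).1)
  refine mem_nz_of_cj_le (cj_le_iff.2 fun t ht => e.le ⟨conj_mem_of_nz hcP (hP ht), ?_⟩)
  exact L.mul_mem (L.mul_mem hcL ((hTsyl am hLT).1 ht)) (L.inv_mem hcL)

theorem cOf_le_nzJ : cOf L ≤ normalizer (𝐉 T : Set G) := (cOf_le_nzT am hLT).trans (nz_le_nz_thompson T)

theorem T_inf_cOf_le : T ⊓ cOf L ≤ Cfsg.pCoreOf 2 L :=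
  normal_sylow_le_core inf_le_left (L_le_nzC L) ((hTsyl am hLT).inf inf_le_left (L_le_nzC L))
    (le_nz_inf (cOf_le_nzT am hLT) Subgroup.le_normalizer)

theorem comm_cOf_T {c j : G} (hc : c ∈ cOf L) (hj : j ∈ T) : c * j * c⁻¹ * j⁻¹ ∈ Cfsg.pCoreOf 2 L := by
  refine T_inf_cOf_le am hLT ⟨T.mul_mem (conj_mem_of_nz (cOf_le_nzT am hLT hc) hj) (T.inv_mem hj), ?_⟩
  have := (cOf L).mul_mem hc (conj_mem_of_nz (L_le_nzC L ((hTsyl am hLT).1 hj)) ((cOf L).inv_mem hc))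
  simpa [mul_assoc] using this

/-- `C_L(V)/O₂(L)` has odd order. -/
theorem odd_cOf {c : G} (hc : c ∈ cOf L) : ∃ n : ℕ, Odd n ∧ c ^ n ∈ Cfsg.pCoreOf 2 L := by
  have hS : IsSylowIn 2 (T ⊓ cOf L) (cOf L) := (hTsyl am hLT).inf inf_le_left (L_le_nzC L)
  haveI : ((T ⊓ cOf L).subgroupOf (cOf L)).Normal :=
    normal_subgroupOf (le_nz_inf (cOf_le_nzT am hLT) Subgroup.le_normalizer)
  refine ⟨_, Nat.odd_iff.2 (Nat.two_dvd_ne_zero.1 hS.2.2), ?_⟩
  have h := Subgroup.pow_index_mem ((T ⊓ cOf L).subgroupOf (cOf L)) ⟨c, hc⟩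
  exact T_inf_cOf_le am hLT h

theorem jset_T_L {A : Subgroup G} (hA : A ∈ jset T) : A ∈ jset L := by
  refine ⟨hA.1, hA.2.1.trans (hTsyl am hLT).1, fun B hB hBL => ?_⟩
  obtain ⟨x, -, hle⟩ := (hTsyl am hLT).conj_le (Thompson.isPGroup_of_elementary hB) hBL
  exact (card_cj x B).ge.trans (hA.2.2 _ (Thompson.isElementaryAbelian_map _ hB) hle)

theorem J_le_JL : 𝐉 T ≤ 𝐉 L := by
  rw [thompsonOf_eq T]
  exact sSup_le fun A hA => jset_le (jset_T_L am hLT hA)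

theorem V_sub_elem : Cfsg.IsElementaryAbelian 2 ((vOf L).subgroupOf L) :=
  Thompson.isElementaryAbelian_comap L.subtype_injective (isEA_omegaCenter (p := 2) _)

theorem mem_centralizer_sub {g : L} :
    g ∈ centralizer (((vOf L).subgroupOf L : Subgroup L) : Set L) ↔ (g : G) ∈ cOf L := by
  constructor
  · intro h
    exact ⟨g.2, Subgroup.mem_centralizer_iff.2 fun v hv =>
      congrArg Subtype.val (Subgroup.mem_centralizer_iff.1 h ⟨v, pCoreOf_le L (omZ_le _ hv)⟩ hv)⟩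
  · rintro ⟨-, h⟩
    exact Subgroup.mem_centralizer_iff.2 fun v hv => Subtype.ext (Subgroup.mem_centralizer_iff.1 h (v : G) hv)

theorem pSolvable_L : Cfsg.IsPSolvable 2 ↥L :=
  haveI := solvable_L am hLT
  HallHigman.isPSolvable_of_isSolvable 2

theorem core_quotient [((vOf L).subgroupOf L).Normal] :
    Cfsg.pCore 2 (↥L ⧸ centralizer (((vOf L).subgroupOf L : Subgroup L) : Set L)) = ⊥ := by
  set C' := centralizer (((vOf L).subgroupOf L : Subgroup L) : Set L)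
  set P₀ := Cfsg.pCore 2 (↥L ⧸ C')
  have hPn : P₀.Normal := pCore_normal
  set D := (P₀.comap (QuotientGroup.mk' C')).map L.subtype with hD
  have hDL : D ≤ L := Subgroup.map_subtype_le _
  have hLD : L ≤ normalizer (D : Set G) := by
    rw [le_nz_iff]
    rintro l hl _ ⟨d, hd, rfl⟩
    exact ⟨⟨l, hl⟩ * d * ⟨l, hl⟩⁻¹, (hPn.comap _).conj_mem _ hd _, rfl⟩
  have hCD : cOf L ≤ D := fun c hc => ⟨⟨c, hc.1⟩, by
    have h1 : (QuotientGroup.mk' C') ⟨c, hc.1⟩ = 1 :=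
      (QuotientGroup.eq_one_iff _).2 ((mem_centralizer_sub am hLT).2 hc)
    rw [SetLike.mem_coe, Subgroup.mem_comap, h1]
    exact one_mem _, rfl⟩
  have hpow : ∀ d ∈ D, ∃ k : ℕ, d ^ 2 ^ k ∈ cOf L := by
    rintro _ ⟨d, hd, rfl⟩
    obtain ⟨k, hk⟩ := pCore_isPGroup ⟨_, hd⟩
    refine ⟨k, ?_⟩
    have h2 : QuotientGroup.mk' C' (d ^ 2 ^ k) = 1 := by
      simpa using congrArg Subtype.val hk
    simpa using (mem_centralizer_sub am hLT).1 ((QuotientGroup.eq_one_iff _).1 h2)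
  have hS : IsSylowIn 2 (T ⊓ D) D := (hTsyl am hLT).inf hDL hLD
  have hres : resOf 2 D ≤ cOf L := resOf_le_iff.2 fun d hd ho => mem_of_coprime_of_pow ho (hpow d hd)
  have hDn : D ≤ normalizer ((T ⊓ D : Subgroup G) : Set G) := by
    conv_lhs => rw [← hS.resOf_sup]
    exact sup_le (hres.trans (le_nz_inf (cOf_le_nzT am hLT) (inf_le_left.trans hLD))) Subgroup.le_normalizer
  have hDC : D ≤ cOf L := by
    conv_lhs => rw [← hS.resOf_sup]
    exact sup_le hres ((normal_sylow_le_core hDL hLD hS hDn).trans (core_le_cOf L))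
  refine (Subgroup.eq_bot_iff_forall _).2 fun q hq => ?_
  obtain ⟨g, rfl⟩ := QuotientGroup.mk'_surjective C' q
  exact (QuotientGroup.eq_one_iff g).2 ((mem_centralizer_sub am hLT).2 (hDC ⟨g, hq, rfl⟩))

/-- The odd layer of `L`. -/
theorem exists_layer : ∃ M : Subgroup G, M ≤ L ∧ L ≤ normalizer (M : Set G) ∧ cOf L ≤ M ∧
    (∀ a ∈ M, ∀ b ∈ M, a * b * a⁻¹ * b⁻¹ ∈ cOf L) ∧ (∀ a ∈ M, a ^ 3 ∈ cOf L) ∧
    ∀ g ∈ 𝐉 L, Odd (orderOf g) → g ∈ M := by
  haveI : ((vOf L).subgroupOf L).Normal := normal_subgroupOf (L_le_nzV L)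
  obtain ⟨M, hM, hCM, hab, h3, hodd⟩ := JOddLayer.exists_oddLayer ((vOf L).subgroupOf L) (V_sub_elem am hLT)
    (pSolvable_L am hLT) (core_quotient am hLT)
  refine ⟨M.map L.subtype, Subgroup.map_subtype_le _, ?_, fun c hc =>
    ⟨⟨c, hc.1⟩, hCM ((mem_centralizer_sub am hLT).2 hc), rfl⟩, ?_, ?_, ?_⟩
  · rw [le_nz_iff]
    rintro l hl _ ⟨m, hm, rfl⟩
    exact ⟨⟨l, hl⟩ * m * ⟨l, hl⟩⁻¹, hM.conj_mem _ hm _, rfl⟩
  · rintro _ ⟨a, ha, rfl⟩ _ ⟨b, hb, rfl⟩
    exact (mem_centralizer_sub am hLT).1 (hab a ha b hb)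
  · rintro _ ⟨a, ha, rfl⟩
    exact (mem_centralizer_sub am hLT).1 (h3 a ha)
  · rintro _ ⟨g, hg, rfl⟩ ho
    exact ⟨g, hodd g hg (by rwa [Subgroup.coe_subtype, Subgroup.orderOf_coe] at ho), rfl⟩

section Component

variable {K : Subgroup G} (hK : Cfsg.IsJComponent T K) (hKL : K ≤ L)
include hK hKL

theorem K_le_JL : K ≤ 𝐉 L := by
  have hn : L ≤ normalizer (𝐉 L : Set G) := Subgroup.le_normalizer.trans (nz_le_nz_thompson L)
  conv_lhs => rw [← hK.2.1]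
  refine Subgroup.commutator_le.2 fun k hk j hj => ?_
  rw [commutatorElement_def]
  exact Subgroup.mul_mem _ (conj_mem_of_nz (hn (hKL hk)) (J_le_JL am hLT hj))
    (Subgroup.inv_mem _ (J_le_JL am hLT hj))

theorem K_le_layer {M : Subgroup G} (hodd : ∀ g ∈ 𝐉 L, Odd (orderOf g) → g ∈ M) : K ≤ M := by
  conv_lhs => rw [← hK.1]
  exact (Subgroup.closure_le _).2 fun g hg => hodd g (K_le_JL am hLT hK hKL hg.1) hg.2

theorem x_not_mem_cOf {x : G} (hxK : x ∈ K) (hx : orderOf x = 3) : x ∉ cOf L := fun hc => by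
  have hT := isPGroup_T am hLT
  have hxJ : x ∈ normalizer (𝐉 T : Set G) := cOf_le_nzJ am hLT hc
  have hKn : K ≤ normalizer (𝐉 T : Set G) := by
    rw [K_eq hK hxK hx]
    exact sup_le (le_sup_left.trans (S_le_nzJ hK hT)) (Subgroup.zpowers_le.2 hxJ)
  have hKQ : K ≤ Cfsg.pCoreOf 2 K := by
    conv_lhs => rw [← hK.2.1]
    refine Subgroup.commutator_le.2 fun k hk j hj => K_inf_S hK hT ⟨?_, ?_⟩
    · rw [commutatorElement_def]
      have := K.mul_mem hk (conj_mem_of_nz (J_le_nzK hK hj) (K.inv_mem hk))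
      simpa [mul_assoc] using this
    · exact Subgroup.mem_sup_right ((𝐉 T).mul_mem (conj_mem_of_nz (hKn hk) hj) ((𝐉 T).inv_mem hj))
  exact not_mem_Q hK hx (hKQ hxK)

theorem Q_le_core : Cfsg.pCoreOf 2 K ≤ Cfsg.pCoreOf 2 L := by
  obtain ⟨M, -, -, -, -, h3, hodd⟩ := exists_layer am hLT
  have hKM := K_le_layer am hLT hK hKL hodd
  have hQC : Cfsg.pCoreOf 2 K ≤ cOf L := fun q hq => by
    obtain ⟨k, hk⟩ := exists_pow_eq_one (isPGroup_pCoreOf (p := 2) K) hq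
    exact mem_of_pow_coprime (p := 2) (by norm_num) ⟨k, by rw [hk]; exact one_mem _⟩
      (h3 q (hKM (pCoreOf_le K hq)))
  obtain ⟨c, hc, hle⟩ := ((hTsyl am hLT).inf inf_le_left (L_le_nzC L)).conj_le (isPGroup_pCoreOf K) hQC
  refine le_trans ?_ (T_inf_cOf_le am hLT)
  have hcn : c⁻¹ ∈ normalizer ((T ⊓ cOf L : Subgroup G) : Set G) :=
    le_nz_inf (cOf_le_nzT am hLT) Subgroup.le_normalizer ((cOf L).inv_mem hc)
  have := cj_mono (g := c⁻¹) hle
  rwa [cj_cj, inv_mul_cancel, cj_one, cj_eq_of_mem_nz hcn] at this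

theorem cOf_le_nzK : cOf L ≤ normalizer (K : Set G) :=
  S2941.result am.ch am.sol am.cen T (isPGroup_T am hLT)
    (fun h => hLT.2.1 (((thompsonOf_le T).trans h.le).trans bot_le)) K hK (cOf L)
    ((sup_le hKL ((thompsonOf_le T).trans (hTsyl am hLT).1)).trans (L_le_nzC L)) (cOf_le_nzJ am hLT)

theorem core_le_nzK : Cfsg.pCoreOf 2 L ≤ normalizer (K : Set G) :=
  (core_le_cOf L).trans (cOf_le_nzK am hLT hK hKL)

theorem K_inf_cOf {k : G} (hk : k ∈ K) (hc : k ∈ cOf L) : k ∈ Cfsg.pCoreOf 2 K := by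
  obtain ⟨x, hxK, hx⟩ := exists_three hK
  obtain ⟨i, q, hq, rfl⟩ := mem_K hK hxK hx hk
  have hqC : q ∈ cOf L := core_le_cOf L (Q_le_core am hLT hK hKL hq)
  have hxi : x ^ i ∈ cOf L := by simpa using (cOf L).mul_mem hc ((cOf L).inv_mem hqC)
  by_cases h3 : 3 ∣ i
  · obtain ⟨m, rfl⟩ := h3
    rw [pow_mul, show x ^ 3 = 1 from hx ▸ pow_orderOf_eq_one x, one_pow, one_mul]
    exact hq
  · refine absurd ?_ (x_not_mem_cOf am hLT hK hKL hxK hx)
    have hcop : (orderOf x).Coprime i := by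
      rw [hx]; exact ((show Nat.Prime 3 by norm_num).coprime_iff_not_dvd).2 h3
    obtain ⟨m, hm⟩ := exists_pow_eq_self_of_coprime hcop.symm
    rw [← hm]
    exact (cOf L).pow_mem hxi m

/-- `[C_L(V), K] ≤ O₂(K)`. -/
theorem comm_cOf_K {c k : G} (hc : c ∈ cOf L) (hk : k ∈ K) : c * k * c⁻¹ * k⁻¹ ∈ Cfsg.pCoreOf 2 K := by
  refine K_inf_cOf am hLT hK hKL (K.mul_mem (conj_mem_of_nz (cOf_le_nzK am hLT hK hKL hc) hk) (K.inv_mem hk)) ?_
  have := (cOf L).mul_mem hc (conj_mem_of_nz (L_le_nzC L (hKL hk)) ((cOf L).inv_mem hc))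
  convert this using 1
  group

/-- A subgroup containing `d ≠ 1` of `W` and its conjugate by `x` contains `W`. -/
theorem W_le_of_two {x d : G} {Y : Subgroup G} (hxK : x ∈ K) (hx : orderOf x = 3) (hd : d ∈ Cfsg.wOf K)
    (hd1 : d ≠ 1) (hY : d ∈ Y) (hY' : x * d * x⁻¹ ∈ Y) : Cfsg.wOf K ≤ Y := by
  have hd' : x * d * x⁻¹ ∈ Cfsg.wOf K := conj_mem_of_nz (H_le_nzW hK (Subgroup.mem_sup_left hxK)) hd
  have hsub : ({1, d, x * d * x⁻¹} : Set G) ⊆ ((Cfsg.wOf K ⊓ Y : Subgroup G) : Set G) := by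
    rintro _ (rfl | rfl | rfl)
    exacts [one_mem _, ⟨hd, hY⟩, ⟨hd', hY'⟩]
  have hne : x * d * x⁻¹ ≠ d := fun h => hd1 (fix_free hK hxK hx hd (mul_inv_eq_iff_eq_mul.1 h))
  have hne1 : (1 : G) ≠ x * d * x⁻¹ := fun h => hd1 (conj_eq_one_iff.1 h.symm)
  have h3 := Set.ncard_le_ncard hsub (Set.toFinite _)
  rw [Set.ncard_insert_of_notMem (by simp [Ne.symm hd1, hne1]), Set.ncard_pair (Ne.symm hne),
    ← Nat.card_coe_set_eq] at h3
  have h4 : Nat.card ↥(Cfsg.wOf K ⊓ Y) ∣ 4 := hK.2.2.2.2.1 ▸ Subgroup.card_dvd_of_le inf_le_left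
  change 3 ≤ Nat.card ↥(Cfsg.wOf K ⊓ Y) at h3
  have h5 : Nat.card ↥(Cfsg.wOf K ⊓ Y) = 4 := by
    have h6 := Nat.le_of_dvd (by norm_num) h4
    rcases Nat.eq_or_lt_of_le h6 with h8 | h8
    · exact h8
    · rw [show Nat.card ↥(Cfsg.wOf K ⊓ Y) = 3 by omega] at h4
      norm_num at h4
  exact inf_eq_left.1 (Subgroup.eq_of_le_of_card_ge inf_le_left (by rw [h5, hK.2.2.2.2.1]))

theorem comm_V_mem {x : G} (hxK : x ∈ K) {v : G} (hv : v ∈ vOf L) :
    x * v * x⁻¹ * v⁻¹ ∈ omZ 2 (Cfsg.pCoreOf 2 K) := by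
  have hvC : v ∈ cOf L := core_le_cOf L (vOf_le_core L hv)
  have hinV : x * v * x⁻¹ * v⁻¹ ∈ vOf L :=
    (vOf L).mul_mem (conj_mem_of_nz (L_le_nzV L (hKL hxK)) hv) ((vOf L).inv_mem hv)
  have hinK : x * v * x⁻¹ * v⁻¹ ∈ K := by
    have := K.mul_mem hxK (conj_mem_of_nz (cOf_le_nzK am hLT hK hKL hvC) (K.inv_mem hxK))
    convert this using 1
    group
  have hQ := K_inf_cOf am hLT hK hKL hinK (core_le_cOf L (vOf_le_core L hinV))
  obtain ⟨-, hc, h2⟩ := mem_omegaCenter_iff.1 hinV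
  exact mem_omegaCenter_iff.2 ⟨hQ, fun q hq => hc q (Q_le_core am hLT hK hKL hq), h2⟩

/-- Splitting of an element of `V` along `x`. -/
theorem V_split {x : G} (hxK : x ∈ K) (hx : orderOf x = 3) {v : G} (hv : v ∈ vOf L) :
    ∃ v₁ ∈ vOf L, ∃ d ∈ omZ 2 (Cfsg.pCoreOf 2 K), v = v₁ * d ∧ Commute x v₁ ∧
      ∃ v' ∈ vOf L, d = x * v' * x⁻¹ * v'⁻¹ := by
  set V := vOf L
  have hV : ∀ a ∈ V, ∀ b ∈ V, Commute a b := fun a ha b hb =>
    (mem_omegaCenter_iff.1 hb).2.1 a (omZ_le _ ha)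
  have hsq : ∀ a ∈ V, a * a = 1 := fun a ha => by rw [← pow_two]; exact (mem_omegaCenter_iff.1 ha).2.2
  have hx3 : x ^ 3 = 1 := hx ▸ pow_orderOf_eq_one x
  set v' := x * v * x⁻¹
  set v'' := x * v' * x⁻¹
  have hv' : v' ∈ V := conj_mem_of_nz (L_le_nzV L (hKL hxK)) hv
  have hv'' : v'' ∈ V := conj_mem_of_nz (L_le_nzV L (hKL hxK)) hv'
  have h2 := comm_V_mem am hLT hK hKL hxK hv'
  have e : v' * v'' = x * v' * x⁻¹ * v'⁻¹ := by
    show v' * v'' = v'' * v'⁻¹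
    rw [inv_eq_of_mul_eq_one_right (hsq v' hv'), (hV v' hv' v'' hv'').eq]
  refine ⟨v * v' * v'', V.mul_mem (V.mul_mem hv hv') hv'', v' * v'', e ▸ h2, ?_, ?_, v', hv', e⟩
  · calc v = v * ((v' * v'') * (v' * v'')) := by rw [hsq _ (V.mul_mem hv' hv''), mul_one]
      _ = _ := by simp only [mul_assoc]
  · show x * (v * v' * v'') = v * v' * v'' * x
    have e : x * (v * v' * v'') * x⁻¹ = v' * v'' * (x ^ 3 * v * (x ^ 3)⁻¹) := by
      simp only [v', v'', pow_succ, pow_zero, one_mul]; group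
    rw [hx3, inv_one, mul_one, one_mul, mul_inv_eq_iff_eq_mul] at e
    rw [e]
    congr 1
    rw [mul_assoc v]
    exact (hV v hv _ (V.mul_mem hv' hv'')).eq.symm

/-- `[V, x] ≤ W`. -/
theorem comm_V_le_W {x : G} (hxK : x ∈ K) (hx : orderOf x = 3) {v : G} (hv : v ∈ vOf L) :
    x * v * x⁻¹ * v⁻¹ ∈ Cfsg.wOf K := by
  obtain ⟨v₁, hv₁, d, hd, rfl, hc, -⟩ := V_split am hLT hK hKL hxK hx hv
  have e : x * (v₁ * d) * x⁻¹ * (v₁ * d)⁻¹ = (x * v₁ * x⁻¹) * (x * d * x⁻¹ * d⁻¹) * v₁⁻¹ := by group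
  rw [e, hc.eq, mul_inv_cancel_right]
  have h1 : x * d * x⁻¹ * d⁻¹ ∈ Cfsg.wOf K := by
    have h := (Cfsg.wOf K).inv_mem (Subgroup.commutator_mem_commutator hd hxK (H₂ := K))
    rwa [commutatorElement_inv] at h
  have h2 : Commute v₁ (x * d * x⁻¹ * d⁻¹) := by
    exact ((mem_omegaCenter_iff.1 hv₁).2.1 _ (Q_le_core am hLT hK hKL (W_le_Q hK h1))).symm
  rw [h2.eq, mul_inv_cancel_right]
  exact h1

theorem W_le_V : Cfsg.wOf K ≤ vOf L := by
  obtain ⟨x, hxK, hx⟩ := exists_three hK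
  obtain ⟨v, hv, hne⟩ : ∃ v ∈ vOf L, x * v * x⁻¹ * v⁻¹ ≠ 1 := by
    by_contra h
    push Not at h
    exact x_not_mem_cOf am hLT hK hKL hxK hx ⟨hKL hxK, Subgroup.mem_centralizer_iff.2 fun v hv =>
      (mul_inv_eq_iff_eq_mul.1 (mul_inv_eq_one.1 (h v hv))).symm⟩
  have hd : x * v * x⁻¹ * v⁻¹ ∈ vOf L :=
    (vOf L).mul_mem (conj_mem_of_nz (L_le_nzV L (hKL hxK)) hv) ((vOf L).inv_mem hv)
  exact W_le_of_two am hLT hK hKL hxK hx (comm_V_le_W am hLT hK hKL hxK hx hv) hne hd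
    (conj_mem_of_nz (L_le_nzV L (hKL hxK)) hd)

theorem W_comm_surj {x : G} (hxK : x ∈ K) (hx : orderOf x = 3) {w : G} (hw : w ∈ Cfsg.wOf K) :
    ∃ u ∈ Cfsg.wOf K, w = x * u * x⁻¹ * u⁻¹ := by
  set W := Cfsg.wOf K
  have hxW : ∀ u ∈ W, x * u * x⁻¹ * u⁻¹ ∈ W := fun u hu =>
    W.mul_mem (conj_mem_of_nz (H_le_nzW hK (Subgroup.mem_sup_left hxK)) hu) (W.inv_mem hu)
  let f : W → W := fun u => ⟨_, hxW u u.2⟩
  have hf : Function.Injective f := fun a b hab => by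
    have e : x * (a : G) * x⁻¹ * (a : G)⁻¹ = x * (b : G) * x⁻¹ * (b : G)⁻¹ := congrArg Subtype.val hab
    have h1 : x * ((b : G)⁻¹ * a) * x⁻¹ = (b : G)⁻¹ * a := by
      calc x * ((b : G)⁻¹ * a) * x⁻¹ = (x * b * x⁻¹)⁻¹ * (x * a * x⁻¹ * (a : G)⁻¹) * a := by group
        _ = (x * b * x⁻¹)⁻¹ * (x * b * x⁻¹ * (b : G)⁻¹) * a := by rw [e]
        _ = _ := by group
    exact Subtype.ext (inv_mul_eq_one.1
      (fix_free hK hxK hx (W.mul_mem (W.inv_mem b.2) a.2) (mul_inv_eq_iff_eq_mul.1 h1))).symm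
  obtain ⟨u, hu⟩ := Finite.injective_iff_surjective.1 hf ⟨w, hw⟩
  exact ⟨u, u.2, (congrArg Subtype.val hu).symm⟩

/-- An element of the layer commuting with `x` modulo `C_L(V)` normalises `W` and acts on it as a power of `x`. -/
theorem exists_pow_fix {x y : G} (hxK : x ∈ K) (hx : orderOf x = 3) (hy : y ∈ L)
    (hyx : y * x * y⁻¹ * x⁻¹ ∈ cOf L) :
    ∃ i : ℕ, ∀ w ∈ Cfsg.wOf K, Commute ((x ^ i)⁻¹ * y) w := by
  set W := Cfsg.wOf K
  have hWV := W_le_V am hLT hK hKL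
  have hyW : ∀ w ∈ W, y * w * y⁻¹ ∈ W := by
    intro w hw
    obtain ⟨u, hu, rfl⟩ := W_comm_surj am hLT hK hKL hxK hx hw
    set u' := y * u * y⁻¹
    have hu' : u' ∈ vOf L := conj_mem_of_nz (L_le_nzV L hy) (hWV hu)
    set c := y * x * y⁻¹ * x⁻¹
    have hxu' : x * u' * x⁻¹ ∈ vOf L := conj_mem_of_nz (L_le_nzV L (hKL hxK)) hu'
    have e : y * (x * u * x⁻¹ * u⁻¹) * y⁻¹ = c * (x * u' * x⁻¹) * c⁻¹ * u'⁻¹ := by
      simp only [c, u']; group
    rw [e, (Subgroup.mem_centralizer_iff.1 hyx.2 _ hxu').symm, mul_inv_cancel_right]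
    exact comm_V_le_W am hLT hK hKL hxK hx hu'
  obtain ⟨w₀, w₁, hw₀, hw₁, h0, h1, h10, hfour, -, -⟩ := exists_frame hK (isPGroup_T am hLT)
  have hxW : ∀ u ∈ W, x * u * x⁻¹ ∈ W := fun u hu =>
    conj_mem_of_nz (H_le_nzW hK (Subgroup.mem_sup_left hxK)) hu
  have hy0 : y * w₀ * y⁻¹ ∈ W := hyW w₀ hw₀
  have hy01 : y * w₀ * y⁻¹ ≠ 1 := fun h => h0 (conj_eq_one_iff.1 h)
  obtain ⟨i, hi⟩ : ∃ i : ℕ, y * w₀ * y⁻¹ = x ^ i * w₀ * (x ^ i)⁻¹ := by
    set a := x * w₀ * x⁻¹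
    set b := x * a * x⁻¹
    have ha : a ∈ W := hxW w₀ hw₀
    have hb : b ∈ W := hxW a ha
    have ha1 : a ≠ 1 := fun h => h0 (conj_eq_one_iff.1 h)
    have hb1 : b ≠ 1 := fun h => ha1 (conj_eq_one_iff.1 h)
    have ha0 : a ≠ w₀ := fun h => h0 (fix_free hK hxK hx hw₀ (mul_inv_eq_iff_eq_mul.1 h))
    have hba : b ≠ a := fun h => ha1 (fix_free hK hxK hx ha (mul_inv_eq_iff_eq_mul.1 h))
    have hb0 : b ≠ w₀ := fun h => by
      have h3 : x ^ 3 = 1 := hx ▸ pow_orderOf_eq_one x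
      have e : x * b * x⁻¹ = x ^ 3 * w₀ * (x ^ 3)⁻¹ := by simp only [b, a, pow_succ, pow_zero, one_mul]; group
      rw [h3, inv_one, mul_one, one_mul, h] at e
      exact ha0 e
    have hsub : ({1, w₀, a, b} : Set G) ⊆ (W : Set G) := by
      rintro _ (rfl | rfl | rfl | rfl)
      exacts [W.one_mem, hw₀, ha, hb]
    have hcard : ({1, w₀, a, b} : Set G).ncard = 4 := by
      rw [Set.ncard_insert_of_notMem, Set.ncard_insert_of_notMem, Set.ncard_pair]
      · exact hba.symm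
      · simp [ha0.symm, hb0.symm]
      · simp [h0.symm, ha1.symm, hb1.symm]
    have he := Set.eq_of_subset_of_ncard_le hsub
      (by rw [hcard, ← Nat.card_coe_set_eq]; exact hK.2.2.2.2.1.le) (Set.toFinite _)
    have : y * w₀ * y⁻¹ ∈ ({1, w₀, a, b} : Set G) := he.symm ▸ hy0
    rcases this with h | h | h | h
    · exact absurd h hy01
    · exact ⟨0, by simpa using h⟩
    · exact ⟨1, by simpa [a] using h⟩
    · exact ⟨2, by rw [h]; simp only [b, a, pow_two]; group⟩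
  refine ⟨i, fun w hw => ?_⟩
  set u := (x ^ i)⁻¹ * y
  have hu0 : Commute u w₀ := by
    show u * w₀ = w₀ * u
    calc u * w₀ = (x ^ i)⁻¹ * (y * w₀ * y⁻¹) * y := by simp only [u]; group
      _ = _ := by rw [hi]; simp only [u]; group
  have hua : Commute u (x * w₀ * x⁻¹) := by
    set c' := u⁻¹ * x⁻¹ * u * x
    have hc' : c' ∈ cOf L := by
      have hc1 : y⁻¹ * x⁻¹ * y * x ∈ cOf L := by
        have h := conj_mem_of_nz (L_le_nzC L (L.inv_mem (L.mul_mem (hKL hxK) hy))) hyx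
        convert h using 1
        group
      convert hc1 using 1
      simp only [c', u]; group
    have hxw : x * w₀ * x⁻¹ ∈ vOf L := hWV (hxW _ hw₀)
    have h' : Commute c' w₀ := (Subgroup.mem_centralizer_iff.1 hc'.2 w₀ (hWV hw₀)).symm
    show u * (x * w₀ * x⁻¹) = x * w₀ * x⁻¹ * u
    have e2 : (u⁻¹ * x * u * x⁻¹) ∈ cOf L := by
      have h := conj_mem_of_nz (L_le_nzC L (hKL hxK)) ((cOf L).inv_mem hc')
      convert h using 1
      simp only [c']; group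
    have hz : Commute (u⁻¹ * x * u * x⁻¹) (x * w₀ * x⁻¹) :=
      (Subgroup.mem_centralizer_iff.1 e2.2 _ hxw).symm
    calc u * (x * w₀ * x⁻¹) = u * ((u⁻¹ * x * u * x⁻¹) * (x * w₀ * x⁻¹) * (u⁻¹ * x * u * x⁻¹)⁻¹) := by
          rw [hz.eq, mul_inv_cancel_right]
      _ = x * (u * w₀ * u⁻¹) * x⁻¹ * u := by group
      _ = _ := by rw [hu0.eq, mul_inv_cancel_right]
  have hW' : W ≤ centralizer ({u} : Set G) :=
    W_le_of_two am hLT hK hKL hxK hx hw₀ h0 (Subgroup.mem_centralizer_singleton_iff.2 hu0.eq.symm)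
      (Subgroup.mem_centralizer_singleton_iff.2 hua.eq.symm)
  exact (Subgroup.mem_centralizer_singleton_iff.1 (hW' hw)).symm

/-- An element of `J(T)` inducing a transvection with centre in `W`. -/
theorem exists_transvection :
    ∃ t ∈ 𝐉 T, t ∉ centralizer (Cfsg.wOf K : Set G) ∧
      ∀ v ∈ vOf L, t * v * t⁻¹ * v⁻¹ ∈ Cfsg.wOf K ⊓ centralizer (𝐉 T : Set G) := by
  haveI : ((vOf L).subgroupOf L).Normal := normal_subgroupOf (L_le_nzV L)
  set W := Cfsg.wOf K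
  have hT := isPGroup_T am hLT
  obtain ⟨A, hA, hAW⟩ : ∃ A ∈ jset T, ¬ A ≤ centralizer (W : Set G) := by
    by_contra h
    push Not at h
    exact not_J_le_centW hK (thompsonOf_eq T ▸ sSup_le h)
  have hA' := jset_T_L am hLT hA
  have hle := JOddLayer.le_closure_hasLine ((vOf L).subgroupOf L) (V_sub_elem am hLT) (pSolvable_L am hLT)
    (core_quotient am hLT) (subgroupOf_mem hA')
  obtain ⟨t, ⟨htA, ht⟩, htW⟩ : ∃ t : L, (t ∈ A.subgroupOf L ∧
      (t ∈ centralizer (((vOf L).subgroupOf L : Subgroup L) : Set L) ∨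
        JOddLayer.HasLine ((vOf L).subgroupOf L) t)) ∧ (t : G) ∉ centralizer (W : Set G) := by
    by_contra h
    push Not at h
    refine hAW fun a ha => ?_
    have h2 : A.subgroupOf L ≤ (centralizer (W : Set G)).subgroupOf L :=
      hle.trans ((Subgroup.closure_le _).2 fun t ht => h t ht)
    exact h2 (show (⟨a, hA'.2.1 ha⟩ : L) ∈ A.subgroupOf L from ha)
  have htJ : (t : G) ∈ 𝐉 T := jset_le hA htA
  have hWV := W_le_V am hLT hK hKL
  rcases ht with ht | ht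
  · exact absurd (Subgroup.centralizer_le hWV ((mem_centralizer_sub am hLT).1 ht).2) htW
  obtain ⟨w₀, w₁, hw₀, hw₁, h0, h1, h10, hfour, hfix, hmove⟩ := exists_frame hK hT
  have hw0Z : w₀ ∈ W ⊓ centralizer (𝐉 T : Set G) :=
    ⟨hw₀, Subgroup.mem_centralizer_iff.2 fun j hj => (hfix j hj).eq⟩
  have htw : (t : G) * w₁ * (t : G)⁻¹ = w₀ * w₁ := (hmove _ htJ).resolve_left fun h => htW
    (Subgroup.mem_centralizer_iff.2 fun w hw => by
      have hc : Commute (t : G) w₁ := mul_inv_eq_iff_eq_mul.1 h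
      rcases hfour w hw with rfl | rfl | rfl | rfl
      · simp
      · exact (hfix _ htJ).eq.symm
      · exact hc.eq.symm
      · exact ((hfix _ htJ).mul_right hc).eq.symm)
  have he : (t : G) * w₁ * (t : G)⁻¹ * w₁⁻¹ = w₀ := by rw [htw, mul_inv_cancel_right]
  refine ⟨t, htJ, htW, fun v hv => ?_⟩
  by_cases h : (t : G) * v * (t : G)⁻¹ * v⁻¹ = 1
  · rw [h]; exact one_mem _
  have hw₁L : w₁ ∈ L := pCoreOf_le L (vOf_le_core L (hWV hw₁))
  have := congrArg Subtype.val (ht ⟨v, pCoreOf_le L (vOf_le_core L hv)⟩ hv ⟨w₁, hw₁L⟩ (hWV hw₁)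
    (fun e => h (congrArg Subtype.val e)) (fun e => h0 (he ▸ congrArg Subtype.val e)))
  have e : (t : G) * v * (t : G)⁻¹ * v⁻¹ = (t : G) * w₁ * (t : G)⁻¹ * w₁⁻¹ := this
  rw [e, he]
  exact hw0Z

/-- A group generated by odd-order elements inside `O₂(L)K` lies in `K`. -/
theorem le_K_of_le_sup {K' : Subgroup G} (hgen : Subgroup.closure {g : G | g ∈ K' ∧ Odd (orderOf g)} = K')
    (h : ∀ g ∈ K', Odd (orderOf g) → g ∈ Cfsg.pCoreOf 2 L ⊔ K) : K' ≤ K := by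
  conv_lhs => rw [← hgen]
  refine (Subgroup.closure_le _).2 fun g ⟨hg, ho⟩ => ?_
  obtain ⟨o, hoO, k, hk, rfl⟩ := (mem_sup_iff_of_nz (core_le_nzK am hLT hK hKL)).1 (h g hg ho)
  exact mem_of_mul_coprime (p := 2) (core_le_nzK am hLT hK hKL hoO)
    (exists_pow_eq_one (isPGroup_pCoreOf L) hoO) hk (Nat.coprime_two_right.2 ho)

/-- The layer normalises every component. -/
theorem layer_le_nzK {M : Subgroup G} (hML : M ≤ L)
    (hab : ∀ a ∈ M, ∀ b ∈ M, a * b * a⁻¹ * b⁻¹ ∈ cOf L) (hodd : ∀ g ∈ 𝐉 L, Odd (orderOf g) → g ∈ M) :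
    M ≤ normalizer (K : Set G) := by
  intro y hy
  set W := Cfsg.wOf K
  set O := Cfsg.pCoreOf 2 L
  have hKM := K_le_layer am hLT hK hKL hodd
  have hT := isPGroup_T am hLT
  obtain ⟨x, hxK, hx⟩ := exists_three hK
  have hx3 : x ^ 3 = 1 := hx ▸ pow_orderOf_eq_one x
  obtain ⟨i, hi⟩ := exists_pow_fix am hLT hK hKL hxK hx (hML hy) (hab y hy x (hKM hxK))
  set u := (x ^ i)⁻¹ * y
  have hu : u ∈ M := M.mul_mem (M.inv_mem (M.pow_mem (hKM hxK) i)) hy
  have huL : u ∈ L := hML hu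
  suffices hun : u ∈ normalizer (K : Set G) by
    have := Subgroup.mul_mem _ (Subgroup.le_normalizer (K.pow_mem hxK i)) hun
    rwa [show x ^ i * u = y by simp only [u]; group] at this
  obtain ⟨t, htJ, htW, htV⟩ := exists_transvection am hLT hK hKL
  have htT : t ∈ T := thompsonOf_le T htJ
  have htL : t ∈ L := (hTsyl am hLT).1 htT
  -- `t` inverts `x` modulo `O₂(K)`
  have htx : t * x * t⁻¹ * x ∈ O := by
    obtain ⟨n, q, hq, hn⟩ := mem_K hK hxK hx (conj_mem_of_nz (J_le_nzK hK htJ) hxK)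
    have hn3 : x ^ n = x ^ (n % 3) := by rw [← hx, pow_mod_orderOf]
    rw [hn3] at hn
    have hlt : n % 3 < 3 := Nat.mod_lt _ (by norm_num)
    obtain ⟨w₀, w₁, hw₀, hw₁, h0, h1, h10, hfour, hfix, -⟩ := exists_frame hK hT
    interval_cases hm : n % 3
    · -- image in `O₂(K)`
      exfalso
      have h2 : orderOf (t * x * t⁻¹) = 3 := by rw [orderOf_conj', hx]
      apply not_mem_Q hK h2
      rw [hn, pow_zero, one_mul]; exact hq
    · exfalso
      refine htW (Subgroup.mem_centralizer_iff.2 fun w hw => ?_)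
      have hxw : x * w₀ * x⁻¹ ∈ W := conj_mem_of_nz (H_le_nzW hK (Subgroup.mem_sup_left hxK)) hw₀
      have hct : Commute t (x * w₀ * x⁻¹) := by
        show t * (x * w₀ * x⁻¹) = x * w₀ * x⁻¹ * t
        calc t * (x * w₀ * x⁻¹) = (t * x * t⁻¹) * (t * w₀ * t⁻¹) * (t * x * t⁻¹)⁻¹ * t := by group
          _ = (x * q) * w₀ * (x * q)⁻¹ * t := by rw [hn, (hfix t htJ).eq, mul_inv_cancel_right, pow_one]
          _ = x * (q * w₀ * q⁻¹) * x⁻¹ * t := by group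
          _ = _ := by rw [(Q_comm_W hK hq hw₀).eq, mul_inv_cancel_right]
      have := W_le_of_two am hLT hK hKL hxK hx hw₀ h0
        (Subgroup.mem_centralizer_singleton_iff.2 (hfix t htJ).eq.symm)
        (Subgroup.mem_centralizer_singleton_iff.2 hct.eq.symm) hw
      exact Subgroup.mem_centralizer_singleton_iff.1 this
    · rw [hn]
      have h2 := conj_mem_of_nz (le_nz_pCoreOf L (L.inv_mem (hKL hxK))) (Q_le_core am hLT hK hKL hq)
      rw [inv_inv] at h2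
      convert h2 using 1
      rw [show x ^ 2 = x⁻¹ from eq_inv_of_mul_eq_one_left (by rw [← pow_succ, hx3])]
  -- `t` commutes with `u` modulo `C_L(V)`
  have htu : t * u * t⁻¹ * u⁻¹ ∈ cOf L := by
    refine ⟨L.mul_mem (L.mul_mem (L.mul_mem htL huL) (L.inv_mem htL)) (L.inv_mem huL),
      Subgroup.mem_centralizer_iff.2 fun v hv => ?_⟩
    obtain ⟨v₁, hv₁, d, -, e, hc, v', hv', rfl⟩ := V_split am hLT hK hKL hxK hx hv
    have hdW := comm_V_le_W am hLT hK hKL hxK hx hv'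
    set z := t * u * t⁻¹ * u⁻¹
    -- `t` fixes the vectors fixed by `x`
    have hfixt : ∀ a ∈ vOf L, Commute x a → Commute t a := fun a ha hxa => by
      set s := t * a * t⁻¹ * a⁻¹
      have hs := htV a ha
      have hxs : Commute x (t * a * t⁻¹) := by
        have h1 : t⁻¹ * x * t ∈ K := by simpa using conj_mem_of_nz (J_le_nzK hK ((𝐉 T).inv_mem htJ)) hxK
        obtain ⟨m, q, hq, hm⟩ := mem_K hK hxK hx h1
        have hqa : Commute q a := (mem_omegaCenter_iff.1 ha).2.1 q (Q_le_core am hLT hK hKL hq)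
        have h2 : Commute (t⁻¹ * x * t) a := hm ▸ (hxa.pow_left m).mul_left hqa
        have := Commute.map h2 (MulAut.conj t).toMonoidHom
        simpa [mul_assoc] using this
      have : s = 1 := fix_free hK hxK hx hs.1 (hxs.mul_right hxa.inv_right)
      exact mul_inv_eq_iff_eq_mul.1 (mul_inv_eq_one.1 this)
    have hz₁ : Commute z v₁ := by
      have hxu : u⁻¹ * x * u * x⁻¹ ∈ cOf L := by
        have := hab u⁻¹ (M.inv_mem hu) x (hKM hxK)
        simpa using this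
      have ha' : u⁻¹ * v₁ * u ∈ vOf L := by simpa using conj_mem_of_nz (L_le_nzV L (L.inv_mem huL)) hv₁
      have hxa : Commute x (u⁻¹ * v₁ * u) := by
        have h1 : Commute (u⁻¹ * x * u) (u⁻¹ * v₁ * u) := by
          have := Commute.map hc (MulAut.conj u⁻¹).toMonoidHom
          simpa [mul_assoc] using this
        have h2 : Commute (u⁻¹ * x * u * x⁻¹) (u⁻¹ * v₁ * u) :=
          (Subgroup.mem_centralizer_iff.1 hxu.2 _ ha').symm
        have := h2.inv_left.mul_left h1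
        simpa [mul_assoc] using this
      have h1 := hfixt v₁ hv₁ hc
      have h2 := hfixt _ ha' hxa
      show z * v₁ = v₁ * z
      calc z * v₁ = t * u * t⁻¹ * (u⁻¹ * v₁ * u) * u⁻¹ := by simp only [z]; group
        _ = t * u * ((u⁻¹ * v₁ * u) * t⁻¹) * u⁻¹ := by rw [← h2.inv_left.eq]; group
        _ = (t * v₁) * u * t⁻¹ * u⁻¹ := by group
        _ = _ := by rw [h1.eq]; simp only [z]; group
    have hzW : ∀ w ∈ W, Commute z w := fun w hw => by
      have hw' : t⁻¹ * w * t ∈ W := by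
        simpa using conj_mem_of_nz (H_le_nzW hK (Subgroup.mem_sup_right ((𝐉 T).inv_mem htJ))) hw
      show z * w = w * z
      calc z * w = t * u * t⁻¹ * (u⁻¹ * w) := by simp only [z]; group
        _ = t * u * (t⁻¹ * w * t) * t⁻¹ * u⁻¹ := by rw [(hi w hw).inv_left.eq]; group
        _ = t * ((t⁻¹ * w * t) * u) * t⁻¹ * u⁻¹ := by rw [← (hi _ hw').eq]; group
        _ = _ := by simp only [z]; group
    rw [e]
    exact (hz₁.mul_right (hzW _ hdW)).eq.symm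
  -- computation modulo `O₂(L)`
  have hxC : ∀ c ∈ cOf L, c * x * c⁻¹ * x⁻¹ ∈ O := fun c hc =>
    Q_le_core am hLT hK hKL (comm_cOf_K am hLT hK hKL hc hxK)
  have hkey : u * x * u⁻¹ * x⁻¹ ∈ O := by
    haveI : (O.subgroupOf L).Normal := normal_subgroupOf (le_nz_pCoreOf L)
    set π := QuotientGroup.mk' (O.subgroupOf L)
    have hmem : ∀ g : L, (g : G) ∈ O → π g = 1 := fun g hg => (QuotientGroup.eq_one_iff g).2 hg
    set a := π ⟨x, hKL hxK⟩
    set b := π ⟨u, huL⟩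
    set τ := π ⟨t, htL⟩
    set g := π ⟨t * u * t⁻¹ * u⁻¹, htu.1⟩
    have hc0 : x * u * x⁻¹ * u⁻¹ ∈ cOf L := hab x (hKM hxK) u hu
    set c := π ⟨x * u * x⁻¹ * u⁻¹, hc0.1⟩
    have ha : a ^ 3 = 1 := by rw [← map_pow]; exact hmem _ (by simp [hx3])
    have hτa : τ * a * τ⁻¹ = a⁻¹ := by
      rw [eq_inv_iff_mul_eq_one, ← map_inv, ← map_mul, ← map_mul, ← map_mul]
      exact hmem _ htx
    have hτb : τ * b * τ⁻¹ = g * b := by
      rw [← map_inv, ← map_mul, ← map_mul, ← map_mul]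
      congr 1
      exact Subtype.ext (by simp [mul_assoc])
    have hcdef : c = a * b * a⁻¹ * b⁻¹ := by
      rw [← map_inv, ← map_inv, ← map_mul, ← map_mul, ← map_mul]; rfl
    have hcomm : ∀ (z : G) (hz : z ∈ cOf L) (s : G) (hs : s ∈ L), z * s * z⁻¹ * s⁻¹ ∈ O →
        Commute (π ⟨z, hz.1⟩) (π ⟨s, hs⟩) := fun z hz s hs h => by
      rw [← commutatorElement_eq_one_iff_commute, ← map_commutatorElement]
      exact hmem _ h
    have hca : Commute c a := hcomm _ hc0 x (hKL hxK) (hxC _ hc0)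
    have hga : Commute g a := hcomm _ htu x (hKL hxK) (hxC _ htu)
    have hcτ : Commute c τ := hcomm _ hc0 t htL (comm_cOf_T am hLT hc0 htT)
    -- `c³ = 1`
    have hc3 : c ^ 3 = 1 := by
      have e1 : b * a * b⁻¹ = c⁻¹ * a := by rw [hcdef]; group
      have := congrArg (· ^ 3) e1
      simp only [conj_pow, ha, mul_one, mul_inv_cancel, (hca.inv_left).mul_pow] at this
      exact inv_eq_one.1 (by rw [← inv_pow]; exact this.symm)
    -- `g` conjugates `c⁻¹` to `c`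
    have hgc : g * c⁻¹ * g⁻¹ = c := by
      have e1 : τ * c * τ⁻¹ = c := by rw [← hcτ.eq, mul_inv_cancel_right]
      have e2 : τ * c * τ⁻¹ = (τ * a * τ⁻¹) * (τ * b * τ⁻¹) * (τ * a * τ⁻¹)⁻¹ * (τ * b * τ⁻¹)⁻¹ := by
        rw [hcdef]; group
      rw [hτa, hτb, e1] at e2
      have e3 : a⁻¹ * b * a * b⁻¹ = c⁻¹ := by
        have : c⁻¹ = a⁻¹ * c⁻¹ * a := by rw [mul_assoc, hca.inv_left.eq, inv_mul_cancel_left]
        rw [this, hcdef]; group
      calc g * c⁻¹ * g⁻¹ = g * (a⁻¹ * b * a * b⁻¹) * g⁻¹ := by rw [e3]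
        _ = (g * a⁻¹) * b * a * b⁻¹ * g⁻¹ := by group
        _ = a⁻¹ * (g * b) * a * (g * b)⁻¹ := by rw [hga.inv_right.eq]; group
        _ = c := by rw [e2, inv_inv]
    obtain ⟨n, ⟨m, hm⟩, hn⟩ := odd_cOf am hLT htu
    have hgn : g ^ n = 1 := by rw [← map_pow]; exact hmem _ (by simpa using hn)
    have hg2 : Commute (g ^ 2) c := by
      have h2 : g * c * g⁻¹ = c⁻¹ := by
        have := congrArg Inv.inv hgc
        simpa [mul_assoc] using this
      show g ^ 2 * c = c * g ^ 2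
      rw [← mul_inv_eq_iff_eq_mul]
      calc g ^ 2 * c * (g ^ 2)⁻¹ = g * (g * c * g⁻¹) * g⁻¹ := by rw [pow_two]; group
        _ = c := by rw [h2, hgc]
    have hg1 : Commute g c := by
      have e : g = (g ^ 2) ^ (m + 1) := by
        rw [← pow_mul, show 2 * (m + 1) = n + 1 by omega, pow_succ, hgn, one_mul]
      rw [e]; exact hg2.pow_left _
    have hc2 : c⁻¹ = c := by
      rw [hg1.inv_right.eq, mul_inv_cancel_right] at hgc
      exact hgc
    have hc1 : c = 1 := by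
      have h2 : c ^ 2 = 1 := by rw [pow_two, ← eq_inv_iff_mul_eq_one]; exact hc2.symm
      rw [pow_succ, h2, one_mul] at hc3
      exact hc3
    have h1 : x * u * x⁻¹ * u⁻¹ ∈ O :=
      (QuotientGroup.eq_one_iff (⟨_, hc0.1⟩ : L)).1 hc1
    have := O.inv_mem h1
    convert this using 1
    group
  -- conclusion
  refine mem_nz_of_cj_le (le_K_of_le_sup am hLT hK hKL ?_ fun g hg _ => ?_)
  · exact closure_odd_cj hK.1 u
  · obtain ⟨k, hk, rfl⟩ := hg
    obtain ⟨n, q, hq, rfl⟩ := mem_K hK hxK hx hk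
    show u * (x ^ n * q) * u⁻¹ ∈ O ⊔ K
    have h1 : u * x * u⁻¹ ∈ O ⊔ K := by
      have := Subgroup.mul_mem_sup hkey hxK
      simpa [mul_assoc] using this
    have h2 : u * q * u⁻¹ ∈ O ⊔ K :=
      Subgroup.mem_sup_left (conj_mem_of_nz (le_nz_pCoreOf L huL) (Q_le_core am hLT hK hKL hq))
    rw [show u * (x ^ n * q) * u⁻¹ = (u * x * u⁻¹) ^ n * (u * q * u⁻¹) by rw [conj_pow]; group]
    exact Subgroup.mul_mem _ (Subgroup.pow_mem _ h1 n) h2

end Component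

end Cfsg.Agent.Lib.LocalChar.JComp
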