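import Cfsg.Agent.Lib.LocalChar.JStraddle

/-! Pairs of `J(T)`-components with a common overgroup; the splitting `Z₀ = C_{Z₀}(K) × (Z₀ ∩ W_K)`. -/

set_option autoImplicit false
set_option linter.unusedSectionVars false
open scoped commutatorElement
open Subgroup (centralizer normalizer zpowers)

namespace Cfsg.Agent.Lib.LocalChar.JComp

variable {G : Type*} [Group G]

local notation "𝐉" T:max => Cfsg.thompsonSubgroupOf 2 T

/-- `Ω₁(Z(J(T)))`. -/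
abbrev zJ (T : Subgroup G) : Subgroup G := Cfsg.omegaCenterOf (𝐉 T)

/-- The part of `Ω₁(Z(J(T)))` centralised by `K`. -/
def zc (T K : Subgroup G) : Subgroup G := zJ T ⊓ centralizer (K : Set G)

/-- The line of `W_K` fixed by `J(T)`. -/
def wl (T K : Subgroup G) : Subgroup G := zJ T ⊓ Cfsg.wOf K

/-- The only component in `N(K)` is `K`. -/
def Single (T K : Subgroup G) : Prop :=
  ∀ K' : Subgroup G, Cfsg.IsJComponent T K' → K' ≤ normalizer (K : Set G) → K' = K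

/-- `K` is a component having every 2-local subgroup above `KJ(T)` as an overgroup. -/
def Good (T K : Subgroup G) : Prop :=
  Cfsg.IsJComponent T K ∧ ∀ L : Subgroup G, Cfsg.IsTwoLocal L → K ⊔ 𝐉 T ≤ L →
    ∀ P : Subgroup G, Cfsg.IsSylowTwoIn P L → 𝐉 T ≤ P → 𝐉 P = 𝐉 T ∧ L ∈ Cfsg.jOvergroups P

theorem eq_of_card_two {H : Subgroup G} (h : Nat.card H = 2) {a b : G} (ha : a ∈ H) (ha1 : a ≠ 1)
    (hb : b ∈ H) (hb1 : b ≠ 1) : a = b := by
  obtain ⟨x, y, -, hu⟩ := Nat.card_eq_two_iff.1 h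
  have hm : ∀ z : H, z = x ∨ z = y := fun z => by
    have h2 : z ∈ ({x, y} : Set H) := hu.symm ▸ Set.mem_univ z
    simpa using h2
  have e1 : (⟨a, ha⟩ : H) ≠ 1 := fun e => ha1 (congrArg Subtype.val e)
  have e2 : (⟨b, hb⟩ : H) ≠ 1 := fun e => hb1 (congrArg Subtype.val e)
  refine congrArg Subtype.val (show (⟨a, ha⟩ : H) = ⟨b, hb⟩ from ?_)
  rcases hm ⟨a, ha⟩ with h1 | h1 <;> rcases hm ⟨b, hb⟩ with h2 | h2 <;> rcases hm 1 with h3 | h3 <;>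
    first
    | exact h1.trans h2.symm
    | exact absurd (h1.trans h3.symm) e1
    | exact absurd (h2.trans h3.symm) e2

theorem exists_gen_two {H : Subgroup G} (h : Nat.card H = 2) :
    ∃ a, a ∈ H ∧ a ≠ 1 ∧ H = zpowers a ∧ ∀ b ∈ H, b = 1 ∨ b = a := by
  have hne : H ≠ ⊥ := fun e => by rw [e, Subgroup.card_bot] at h; omega
  obtain ⟨a, ha, ha1⟩ := (Subgroup.bot_or_exists_ne_one _).resolve_left hne
  have hb : ∀ b ∈ H, b = 1 ∨ b = a := fun b hb => (em (b = 1)).imp id fun hb1 => eq_of_card_two h hb hb1 ha ha1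
  refine ⟨a, ha, ha1, le_antisymm (fun b hbH => ?_) (Subgroup.zpowers_le.2 ha), hb⟩
  rcases hb b hbH with rfl | rfl
  exacts [Subgroup.one_mem _, Subgroup.mem_zpowers _]

theorem eq_of_two_two [Finite G] {H H' : Subgroup G} (h : Nat.card H = 2) (h' : Nat.card H' = 2) {a : G}
    (ha : a ∈ H) (ha' : a ∈ H') (ha1 : a ≠ 1) : H = H' := by
  refine Subgroup.eq_of_le_of_card_ge (fun b hb => ?_) (by rw [h, h'])
  by_cases hb1 : b = 1
  · exact hb1 ▸ H'.one_mem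
  · exact eq_of_card_two h hb hb1 ha ha1 ▸ ha'

theorem nz_le_cent_two [Finite G] {H : Subgroup G} (h : Nat.card H = 2) :
    normalizer (H : Set G) ≤ centralizer (H : Set G) := fun g hg => by
  obtain ⟨a, ha, ha1, -, hb⟩ := exists_gen_two h
  refine Subgroup.mem_centralizer_iff.2 fun b hbH => ?_
  rcases hb b hbH with rfl | rfl
  · simp
  · have e := eq_of_card_two h (conj_mem_of_nz hg ha) (fun e => ha1 (conj_eq_one_iff.1 e)) ha ha1
    exact (mul_inv_eq_iff_eq_mul.1 e).symm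

theorem isTwoLocal_cent_two [Finite G] {H : Subgroup G} (h : Nat.card H = 2) :
    Cfsg.IsTwoLocal (centralizer (H : Set G)) :=
  ⟨H, IsPGroup.of_card (n := 1) (by rw [h, pow_one]), fun e => by rw [e, Subgroup.card_bot] at h; omega,
    le_antisymm (centralizer_le_nz H) (nz_le_cent_two h)⟩

theorem zc_congr {T T' K : Subgroup G} (h : 𝐉 T' = 𝐉 T) : zc T' K = zc T K := by
  unfold zc zJ; rw [h]

theorem wl_congr {T T' K : Subgroup G} (h : 𝐉 T' = 𝐉 T) : wl T' K = wl T K := by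
  unfold wl zJ; rw [h]

variable [Finite G] {T T' K K₁ K₂ : Subgroup G}

theorem zJ_cj (g : G) (T : Subgroup G) : zJ (cj g T) = cj g (zJ T) := by
  show omZ 2 (𝐉 (cj g T)) = cj g (omZ 2 (𝐉 T))
  rw [thompsonOf_cj, omZ_cj]

theorem zc_cj (g : G) (T K : Subgroup G) : zc (cj g T) (cj g K) = cj g (zc T K) := by
  unfold zc
  rw [zJ_cj, ← cj_centralizer]
  exact (Subgroup.map_inf _ _ _ (MulAut.conj g).injective).symm

theorem wl_cj (g : G) (T K : Subgroup G) : wl (cj g T) (cj g K) = cj g (wl T K) := by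
  unfold wl
  rw [zJ_cj, wOf_cj]
  exact (Subgroup.map_inf _ _ _ (MulAut.conj g).injective).symm

theorem zJ_le (T : Subgroup G) : zJ T ≤ 𝐉 T := omZ_le _

theorem zJ_elem (T : Subgroup G) : Cfsg.IsElementaryAbelian 2 (zJ T) := isEA_omegaCenter (p := 2) _

theorem zJ_cent (T : Subgroup G) : zJ T ≤ centralizer (𝐉 T : Set G) := fun _ hz =>
  Subgroup.mem_centralizer_iff.2 fun j hj => ((mem_omegaCenter_iff.1 hz).2.1 j hj).eq

theorem nzJ_le_nz_zJ (T : Subgroup G) : normalizer (𝐉 T : Set G) ≤ normalizer (zJ T : Set G) :=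
  nz_le_nz_omZ _

section

variable (hK : Cfsg.IsJComponent T K)
include hK

theorem zc_inf_W : zc T K ⊓ Cfsg.wOf K = ⊥ := by
  obtain ⟨x, hxK, hx⟩ := exists_three hK
  exact (Subgroup.eq_bot_iff_forall _).2 fun w hw => fix_free hK hxK hx hw.2
    (Subgroup.mem_centralizer_iff.1 hw.1.2 x hxK)

theorem zc_cent : K ⊔ 𝐉 T ≤ centralizer (zc T K : Set G) :=
  sup_le (Subgroup.le_centralizer_iff.1 inf_le_right)
    (Subgroup.le_centralizer_iff.1 (inf_le_left.trans (zJ_cent T)))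

/-- A 2-group above `J(T)` is not normalised by a component. -/
theorem not_le_nz {R : Subgroup G} (hR : IsPGroup 2 R) (hJR : 𝐉 T ≤ R) :
    ¬ K ≤ normalizer (R : Set G) := fun h => by
  have h1 : K ≤ R := by
    conv_lhs => rw [← hK.2.1]
    exact (Subgroup.commutator_mono le_rfl hJR).trans (commutator_le_right_of_nz h)
  obtain ⟨x, hxK, hx⟩ := exists_three hK
  have h2 := eq_one_of_isPGroup_of_coprime hR (h1 hxK) (by rw [hx]; norm_num)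
  rw [h2, orderOf_one] at hx
  omega

variable (hT : IsPGroup 2 T)
include hT

theorem card_wl : Nat.card ↥(wl T K) = 2 := by
  rw [wl, omegaCenter_inf_W hK hT, fixW_card hK hT]

theorem wl_ne_bot : wl T K ≠ ⊥ := fun e => by
  have h := card_wl hK hT
  rw [e, Subgroup.card_bot] at h
  omega

theorem zc_sup_wl : zc T K ⊔ wl T K = zJ T := by
  refine le_antisymm (sup_le inf_le_left inf_le_left) fun z hz => ?_
  obtain ⟨z₁, hz₁, w, hw, rfl⟩ := split hK hT hz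
  exact Subgroup.mul_mem _ (Subgroup.mem_sup_left ⟨hz₁.1,
    Subgroup.centralizer_le (le_sup_left : K ≤ K ⊔ 𝐉 T) hz₁.2.2⟩) (Subgroup.mem_sup_right hw)

theorem zJ_mem {z : G} (hz : z ∈ zJ T) : ∃ q ∈ zc T K, ∃ r ∈ wl T K, z = q * r := by
  obtain ⟨z₁, hz₁, w, hw, rfl⟩ := split hK hT hz
  exact ⟨z₁, ⟨hz₁.1, Subgroup.centralizer_le (le_sup_left : K ≤ K ⊔ 𝐉 T) hz₁.2.2⟩, w, hw, rfl⟩

theorem card_zJ : Nat.card ↥(zJ T) = Nat.card ↥(zc T K) * 2 := by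
  have h := Coprime.card_sup_mul_card_inf_of_le_normalizer (A := zc T K) (N := wl T K)
    (fun a ha => centralizer_le_nz _ (Subgroup.mem_centralizer_iff.2 fun b hb =>
      (Thompson.commute_of_elementary (zJ_elem T) hb.1 ha.1)))
  have hb : zc T K ⊓ wl T K = ⊥ := le_bot_iff.1
    ((inf_le_inf le_rfl inf_le_right).trans (zc_inf_W hK).le)
  rwa [zc_sup_wl hK hT, hb, Subgroup.card_bot, mul_one, card_wl hK hT] at h

end

/-! ### Components in a common overgroup -/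

section

variable {L : Subgroup G} (am : Amb G) (hLT : L ∈ Cfsg.jOvergroups T)
  (h₁ : Cfsg.IsJComponent T K₁) (hL₁ : K₁ ≤ L) (h₂ : Cfsg.IsJComponent T K₂) (hL₂ : K₂ ≤ L)
include am hLT h₁ hL₁ h₂ hL₂

theorem comp_le_nz : K₁ ≤ normalizer (K₂ : Set G) := by
  obtain ⟨M, hML, -, -, hab, -, hodd⟩ := exists_layer am hLT
  exact (K_le_layer am hLT h₁ hL₁ hodd).trans (layer_le_nzK am hLT h₂ hL₂ hML hab hodd)

theorem comp_le {d : G} (hd₁ : d ∈ Cfsg.wOf K₁) (hd₂ : d ∈ Cfsg.wOf K₂) (hd : d ≠ 1) : K₂ ≤ K₁ := by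
  obtain ⟨M, hML, -, -, hab, -, hodd⟩ := exists_layer am hLT
  have hM₁ := K_le_layer am hLT h₁ hL₁ hodd
  have hM₂ := K_le_layer am hLT h₂ hL₂ hodd
  have h12 : K₁ ≤ normalizer (K₂ : Set G) := layer_le_nzK am hLT h₂ hL₂ hML hab hodd |> hM₁.trans
  obtain ⟨x, hxK, hx⟩ := exists_three h₁
  obtain ⟨y, hyK, hy⟩ := exists_three h₂
  have hW : Cfsg.wOf K₁ = Cfsg.wOf K₂ := by
    refine Subgroup.eq_of_le_of_card_ge (W_le_of_two am hLT h₁ hL₁ hxK hx hd₁ hd hd₂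
      (conj_mem_of_nz (nzK_le_nzW h₂ (h12 hxK)) hd₂)) ?_
    rw [h₁.2.2.2.2.1, h₂.2.2.2.2.1]
  obtain ⟨i, hi⟩ := exists_pow_fix am hLT h₁ hL₁ hxK hx (hL₂ hyK) (hab y (hM₂ hyK) x (hM₁ hxK))
  set u := (x ^ i)⁻¹ * y
  have huC : u ∈ cOf L := by
    refine ⟨L.mul_mem (L.inv_mem (L.pow_mem (hL₁ hxK) i)) (hL₂ hyK),
      Subgroup.mem_centralizer_iff.2 fun v hv => ?_⟩
    obtain ⟨v₁, hv₁, d₀, -, e, hc, v', hv', rfl⟩ := V_split am hLT h₁ hL₁ hxK hx hv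
    have hdW := comm_V_le_W am hLT h₁ hL₁ hxK hx hv'
    have hv₁' : y * v₁ * y⁻¹ ∈ vOf L := conj_mem_of_nz (L_le_nzV L (hL₂ hyK)) hv₁
    have hs : y * v₁ * y⁻¹ * v₁⁻¹ ∈ Cfsg.wOf K₁ := hW ▸ comm_V_le_W am hLT h₂ hL₂ hyK hy hv₁
    have hxy : Commute x (y * v₁ * y⁻¹) := by
      have hc' : x * y * x⁻¹ * y⁻¹ ∈ cOf L := hab x (hM₁ hxK) y (hM₂ hyK)
      have h2 : Commute (x * y * x⁻¹ * y⁻¹) (y * v₁ * y⁻¹) :=
        (Subgroup.mem_centralizer_iff.1 hc'.2 _ hv₁').symm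
      show x * (y * v₁ * y⁻¹) = y * v₁ * y⁻¹ * x
      calc x * (y * v₁ * y⁻¹) = (x * y * x⁻¹ * y⁻¹) * (y * (x * v₁ * x⁻¹) * y⁻¹) *
            (x * y * x⁻¹ * y⁻¹)⁻¹ * x := by group
        _ = _ := by rw [hc.eq, mul_inv_cancel_right, h2.eq, mul_inv_cancel_right]
    have hy1 : Commute y v₁ :=
      mul_inv_eq_iff_eq_mul.1 (mul_inv_eq_one.1 (fix_free h₁ hxK hx hs (hxy.mul_right hc.inv_right)))
    rw [e]
    exact (((hc.pow_left i).inv_left.mul_left hy1).mul_right (hi _ hdW)).eq.symm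
  have hle : K₂ ≤ cOf L ⊔ K₁ := fun k hk => by
    obtain ⟨n, q, hq, rfl⟩ := mem_K h₂ hyK hy hk
    refine Subgroup.mul_mem _ (Subgroup.pow_mem _ ?_ n)
      (Subgroup.mem_sup_left (core_le_cOf L (Q_le_core am hLT h₂ hL₂ hq)))
    rw [show y = x ^ i * u by simp only [u]; group]
    exact Subgroup.mul_mem _ (Subgroup.mem_sup_right (K₁.pow_mem hxK i)) (Subgroup.mem_sup_left huC)
  have hcomm : K₂ ≤ Cfsg.pCoreOf 2 L ⊔ K₁ := by
    conv_lhs => rw [← h₂.2.1]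
    refine Subgroup.commutator_le.2 fun k hk j hj => ?_
    obtain ⟨c, hc, k', hk', rfl⟩ := (mem_sup_iff_of_nz (cOf_le_nzK am hLT h₁ hL₁)).1 (hle hk)
    have e1 : j * c * j⁻¹ * c⁻¹ ∈ Cfsg.pCoreOf 2 L :=
      (JL_le_relCent am hLT h₁ hL₁ (J_le_JL am hLT hj)).2 c hc
    have e2 : k' * j * k'⁻¹ * j⁻¹ ∈ K₁ := by
      have := K₁.mul_mem hk' (conj_mem_of_nz (J_le_nzK h₁ hj) (K₁.inv_mem hk'))
      simpa [mul_assoc] using this
    have e3 : c * (k' * j * k'⁻¹ * j⁻¹) * c⁻¹ ∈ K₁ := conj_mem_of_nz (cOf_le_nzK am hLT h₁ hL₁ hc) e2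
    rw [show ⁅c * k', j⁆ = (c * (k' * j * k'⁻¹ * j⁻¹) * c⁻¹) * (j * c * j⁻¹ * c⁻¹)⁻¹ by
      rw [commutatorElement_def]; group]
    exact Subgroup.mul_mem _ (Subgroup.mem_sup_right e3) (Subgroup.mem_sup_left (Subgroup.inv_mem _ e1))
  exact le_K_of_le_sup am hLT h₁ hL₁ h₂.1 fun g hg _ => hcomm hg

omit h₁ hL₁ h₂ hL₂ in
theorem comp_eq (h₁ : Cfsg.IsJComponent T K₁) (hL₁ : K₁ ≤ L) (h₂ : Cfsg.IsJComponent T K₂) (hL₂ : K₂ ≤ L)
    {d : G} (hd₁ : d ∈ Cfsg.wOf K₁) (hd₂ : d ∈ Cfsg.wOf K₂) (hd : d ≠ 1) : K₁ = K₂ :=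
  le_antisymm (comp_le am hLT h₂ hL₂ h₁ hL₁ hd₂ hd₁ hd) (comp_le am hLT h₁ hL₁ h₂ hL₂ hd₁ hd₂ hd)

theorem comp_cent (hne : K₁ ≠ K₂) : Cfsg.wOf K₂ ≤ centralizer (K₁ : Set G) := by
  have h12 : K₁ ≤ normalizer (K₂ : Set G) := comp_le_nz am hLT h₁ hL₁ h₂ hL₂
  obtain ⟨x, hxK, hx⟩ := exists_three h₁
  refine fun w hw => Subgroup.mem_centralizer_iff.2 fun k hk => ?_
  obtain ⟨i, q, hq, rfl⟩ := mem_K h₁ hxK hx hk
  have hwV : w ∈ vOf L := W_le_V am hLT h₂ hL₂ hw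
  have h1 : x * w * x⁻¹ * w⁻¹ = 1 := by
    by_contra hd
    exact hne (comp_eq am hLT h₁ hL₁ h₂ hL₂ (comm_V_le_W am hLT h₁ hL₁ hxK hx hwV)
      ((Cfsg.wOf K₂).mul_mem (conj_mem_of_nz (nzK_le_nzW h₂ (h12 hxK)) hw) ((Cfsg.wOf K₂).inv_mem hw)) hd)
  have hxw : Commute x w := mul_inv_eq_iff_eq_mul.1 (mul_inv_eq_one.1 h1)
  exact ((hxw.pow_left i).mul_left ((mem_omegaCenter_iff.1 hwV).2.1 q (Q_le_core am hLT h₁ hL₁ hq))).eq

theorem comp_line (hne : K₁ ≠ K₂) : wl T K₂ ≤ zc T K₁ :=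
  fun _ hw => ⟨hw.1, comp_cent am hLT h₁ hL₁ h₂ hL₂ hne hw.2⟩

end

/-! ### Good components -/

theorem Good.comp (h : Good T K) : Cfsg.IsJComponent T K := h.1

theorem Good.congr (h : Good T K) (e : 𝐉 T' = 𝐉 T) : Good T' K :=
  ⟨component_congr e.symm h.1, fun L hL hle P hP hJP => by
    rw [e] at hle hJP ⊢
    exact h.2 L hL hle P hP hJP⟩

theorem Good.zero (h : Good T K) : K ∈ Cfsg.jComponentsZero T :=
  ⟨h.1, fun P hJP hP => (h.2 _ ⟨_, Thompson.isPGroup_of_elementary (W_elem h.1), W_ne_bot h.1, rfl⟩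
    (H_le_nzW h.1) P hP hJP).1⟩

theorem Good.overgroup (h : Good T K) (hT : IsPGroup 2 T) {L : Subgroup G} (hL : Cfsg.IsTwoLocal L)
    (hKL : K ≤ L) (hJL : 𝐉 T ≤ L) :
    ∃ P : Subgroup G, 𝐉 P = 𝐉 T ∧ L ∈ Cfsg.jOvergroups P := by
  obtain ⟨P, hP, hJP⟩ := exists_isSylowIn_ge (p := 2) (hT.to_le (thompsonOf_le T)) hJL
  exact ⟨P, h.2 L hL (sup_le hKL hJL) P (isSylowTwoIn_iff.2 hP) hJP⟩

theorem isTwoLocal_cj {L : Subgroup G} (g : G) (h : Cfsg.IsTwoLocal L) : Cfsg.IsTwoLocal (cj g L) := by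
  obtain ⟨R, hR, hR1, rfl⟩ := h
  exact ⟨cj g R, isPGroup_cj hR,
    fun e => hR1 (by rwa [Subgroup.map_eq_bot_iff_of_injective _ (MulEquiv.injective _)] at e),
    Subgroup.map_equiv_normalizer_eq _ (MulAut.conj g)⟩

theorem jOvergroups_cj {L P : Subgroup G} (g : G) (h : L ∈ Cfsg.jOvergroups P) :
    cj g L ∈ Cfsg.jOvergroups (cj g P) := by
  refine ⟨isSylowTwoIn_cj h.1, fun h1 => h.2.1 ?_, ?_⟩
  · rw [thompsonOf_cj, pCoreOf_cj] at h1
    exact (Subgroup.map_le_map_iff_of_injective (MulAut.conj g).injective).1 h1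
  · rw [pCoreOf_cj, ← cj_centralizer]
    exact cj_mono h.2.2

theorem Good.cj_apply (h : Good T K) (g : G) : Good (cj g T) (cj g K) := by
  refine ⟨component_cj g h.1, fun L hL hle P hP hJP => ?_⟩
  rw [thompsonOf_cj] at hle hJP ⊢
  have h1 : K ⊔ 𝐉 T ≤ cj g⁻¹ L := sup_le
    ((cj_inv_cj g K).ge.trans (cj_mono (le_sup_left.trans hle)))
    ((cj_inv_cj g _).ge.trans (cj_mono (le_sup_right.trans hle)))
  have h2 := cj_mono (g := g⁻¹) hJP
  rw [cj_inv_cj] at h2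
  obtain ⟨e, hov⟩ := h.2 _ (isTwoLocal_cj g⁻¹ hL) h1 _ (isSylowTwoIn_cj hP) h2
  refine ⟨?_, ?_⟩
  · have := congrArg (cj g) e
    rwa [← thompsonOf_cj, cj_cj_inv] at this
  · have := jOvergroups_cj g hov
    rwa [cj_cj_inv, cj_cj_inv] at this

theorem Good.nzJ_conj (h : Good T K) {g : G} (hg : g ∈ normalizer (𝐉 T : Set G)) : Good T (cj g K) :=
  (h.cj_apply g).congr (by rw [thompsonOf_cj, cj_eq_of_mem_nz hg])

theorem zc_nzJ {g : G} (hg : g ∈ normalizer (𝐉 T : Set G)) : zc T (cj g K) = cj g (zc T K) := by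
  rw [← zc_cj]
  exact zc_congr (by rw [thompsonOf_cj, cj_eq_of_mem_nz hg])

theorem wl_nzJ {g : G} (hg : g ∈ normalizer (𝐉 T : Set G)) : wl T (cj g K) = cj g (wl T K) := by
  rw [← wl_cj]
  exact wl_congr (by rw [thompsonOf_cj, cj_eq_of_mem_nz hg])

section

variable (am : Amb G) (hT : IsPGroup 2 T) (h₁ : Good T K₁) (h₂ : Cfsg.IsJComponent T K₂)
include am hT h₁ h₂

section

variable {L : Subgroup G} (hL : Cfsg.IsTwoLocal L) (hJL : 𝐉 T ≤ L) (hL₁ : K₁ ≤ L) (hL₂ : K₂ ≤ L)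
include hL hJL hL₁ hL₂

theorem Good.common_nz : K₂ ≤ normalizer (K₁ : Set G) ∧ K₁ ≤ normalizer (K₂ : Set G) := by
  obtain ⟨P, e, hP⟩ := h₁.overgroup hT hL hL₁ hJL
  have c₁ := component_congr e.symm h₁.1
  have c₂ := component_congr e.symm h₂
  exact ⟨comp_le_nz am hP c₂ hL₂ c₁ hL₁, comp_le_nz am hP c₁ hL₁ c₂ hL₂⟩

theorem Good.common_eq {d : G} (hd₁ : d ∈ Cfsg.wOf K₁) (hd₂ : d ∈ Cfsg.wOf K₂) (hd : d ≠ 1) : K₁ = K₂ := by
  obtain ⟨P, e, hP⟩ := h₁.overgroup hT hL hL₁ hJL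
  exact comp_eq am hP (component_congr e.symm h₁.1) hL₁ (component_congr e.symm h₂) hL₂ hd₁ hd₂ hd

theorem Good.common_cent (hne : K₁ ≠ K₂) :
    Cfsg.wOf K₂ ≤ centralizer (K₁ : Set G) ∧ Cfsg.wOf K₁ ≤ centralizer (K₂ : Set G) := by
  obtain ⟨P, e, hP⟩ := h₁.overgroup hT hL hL₁ hJL
  have c₁ := component_congr e.symm h₁.1
  have c₂ := component_congr e.symm h₂
  exact ⟨comp_cent am hP c₁ hL₁ c₂ hL₂ hne, comp_cent am hP c₂ hL₂ c₁ hL₁ hne.symm⟩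

theorem Good.common_line (hne : K₁ ≠ K₂) : wl T K₂ ≤ zc T K₁ ∧ wl T K₁ ≤ zc T K₂ :=
  ⟨fun _ hw => ⟨hw.1, (Good.common_cent am hT h₁ h₂ hL hJL hL₁ hL₂ hne).1 hw.2⟩,
    fun _ hw => ⟨hw.1, (Good.common_cent am hT h₁ h₂ hL hJL hL₁ hL₂ hne).2 hw.2⟩⟩

end

omit hT in
theorem zc_local {z : G} (hz : z ∈ zc T K₂) (hz1 : z ≠ 1) :
    Cfsg.IsTwoLocal (centralizer ({z} : Set G)) := by
  have h2 : z ^ 2 = 1 := (zJ_elem T).2 z hz.1
  have ho : orderOf z = 2 := orderOf_eq_prime h2 hz1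
  have := isTwoLocal_cent_two (H := zpowers z) (by rw [Nat.card_zpowers, ho])
  rwa [Subgroup.zpowers_eq_closure, Subgroup.centralizer_closure] at this

theorem Good.zc_meet {z : G} (hz₁ : z ∈ zc T K₁) (hz₂ : z ∈ zc T K₂) (hz : z ≠ 1) :
    ∃ L : Subgroup G, Cfsg.IsTwoLocal L ∧ 𝐉 T ≤ L ∧ K₁ ≤ L ∧ K₂ ≤ L ∧ L = centralizer ({z} : Set G) := by
  have hs : ({z} : Set G) ⊆ (zJ T : Set G) := Set.singleton_subset_iff.2 hz₁.1
  refine ⟨_, zc_local am h₁ h₂ hz₂ hz, ?_, ?_, ?_, rfl⟩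
  · exact fun j hj => Subgroup.mem_centralizer_singleton_iff.2
      ((mem_omegaCenter_iff.1 hz₁.1).2.1 j hj).eq
  · exact fun k hk => Subgroup.mem_centralizer_singleton_iff.2 (Subgroup.mem_centralizer_iff.1 hz₁.2 k hk)
  · exact fun k hk => Subgroup.mem_centralizer_singleton_iff.2 (Subgroup.mem_centralizer_iff.1 hz₂.2 k hk)

theorem Good.mutual (h : K₂ ≤ normalizer (K₁ : Set G)) : K₁ ≤ normalizer (K₂ : Set G) :=
  (Good.common_nz am hT h₁ h₂ ⟨_, Thompson.isPGroup_of_elementary (W_elem h₁.1), W_ne_bot h₁.1, rfl⟩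
    (le_sup_right.trans (H_le_nzW h₁.1)) (le_sup_left.trans (H_le_nzW h₁.1)) (h.trans (nzK_le_nzW h₁.1))).2

theorem Good.nz_line (hne : K₁ ≠ K₂) (h : K₂ ≤ normalizer (K₁ : Set G)) :
    wl T K₂ ≤ zc T K₁ ∧ wl T K₁ ≤ zc T K₂ :=
  Good.common_line am hT h₁ h₂ ⟨_, Thompson.isPGroup_of_elementary (W_elem h₁.1), W_ne_bot h₁.1, rfl⟩
    (le_sup_right.trans (H_le_nzW h₁.1)) (le_sup_left.trans (H_le_nzW h₁.1)) (h.trans (nzK_le_nzW h₁.1)) hne

/-- No nontrivial 2-group is normalised by two components that do not normalise each other. -/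
theorem Good.no_common (h : ¬ K₂ ≤ normalizer (K₁ : Set G)) {R : Subgroup G} (hR : IsPGroup 2 R)
    (hJR : 𝐉 T ≤ normalizer (R : Set G)) (hR₁ : K₁ ≤ normalizer (R : Set G))
    (hR₂ : K₂ ≤ normalizer (R : Set G)) : R = ⊥ :=
  by_contra fun hne => h (Good.common_nz am hT h₁ h₂ ⟨R, hR, hne, rfl⟩ hJR hR₁ hR₂).1

theorem Good.zc_disjoint (h : ¬ K₂ ≤ normalizer (K₁ : Set G)) : zc T K₁ ⊓ zc T K₂ = ⊥ :=
  (Subgroup.eq_bot_iff_forall _).2 fun z hz => by_contra fun hz1 => by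
    obtain ⟨L, hL, hJL, hL₁, hL₂, -⟩ := Good.zc_meet am hT h₁ h₂ hz.1 hz.2 hz1
    exact h (Good.common_nz am hT h₁ h₂ hL hJL hL₁ hL₂).1

theorem Good.card_zJ_le (h : ¬ K₂ ≤ normalizer (K₁ : Set G)) : Nat.card ↥(zJ T) ≤ 4 := by
  have hd := Good.zc_disjoint am hT h₁ h₂ h
  have hs := Coprime.card_sup_mul_card_inf_of_le_normalizer (A := zc T K₁) (N := zc T K₂)
    (fun a ha => centralizer_le_nz _ (Subgroup.mem_centralizer_iff.2 fun b hb =>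
      (Thompson.commute_of_elementary (zJ_elem T) hb.1 ha.1)))
  rw [hd, Subgroup.card_bot, mul_one] at hs
  have hle : Nat.card ↥(zc T K₁ ⊔ zc T K₂) ≤ Nat.card ↥(zJ T) :=
    Subgroup.card_le_of_le (sup_le inf_le_left inf_le_left)
  have e₁ := card_zJ h₁.1 hT
  have e₂ := card_zJ h₂ hT
  have e : Nat.card ↥(zc T K₂) = Nat.card ↥(zc T K₁) := by omega
  rw [e] at hs
  have hpos : 0 < Nat.card ↥(zc T K₁) := Nat.card_pos
  nlinarith

end

/-- If `C_{Z₀}(K)` has order 2, its centralizer normalises `K`. -/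
theorem Good.cent_le (am : Amb G) (hT : IsPGroup 2 T) (h : Good T K) (h2 : Nat.card ↥(zc T K) = 2) :
    centralizer (zc T K : Set G) ≤ normalizer (K : Set G) := by
  set L := centralizer (zc T K : Set G)
  have hle : K ⊔ 𝐉 T ≤ L := zc_cent h.1
  have hL : Cfsg.IsTwoLocal L := isTwoLocal_cent_two h2
  have huniq : ∀ K' : Subgroup G, Cfsg.IsJComponent T K' → K' ≤ L → K' = K := fun K' hK' hK'L => by
    by_contra hne
    obtain ⟨h1, -⟩ := Good.common_line am hT h hK' hL (le_sup_right.trans hle) (le_sup_left.trans hle) hK'L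
      (Ne.symm hne)
    obtain ⟨w, hw, hw1⟩ := (Subgroup.bot_or_exists_ne_one _).resolve_left (wl_ne_bot hK' hT)
    refine hw1 (Subgroup.mem_bot.1 ((zc_inf_W hK').le ⟨⟨hw.1, ?_⟩, hw.2⟩))
    exact Subgroup.le_centralizer_iff.1 hK'L (h1 hw)
  obtain ⟨P, e, hP⟩ := h.overgroup hT hL (le_sup_left.trans hle) (le_sup_right.trans hle)
  refine le_of_components' am hP ?_ fun K' hK' hK'L => (huniq K' (component_congr e hK') hK'L).le.trans
    Subgroup.le_normalizer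
  rw [e]
  rintro g ⟨hgL, hgJ⟩
  refine mem_nz_of_cj_eq (huniq _ (h.nzJ_conj hgJ).1 (cj_le_iff.2 fun k hk => ?_))
  exact L.mul_mem (L.mul_mem hgL (hle (Subgroup.mem_sup_left hk))) (L.inv_mem hgL)

end Cfsg.Agent.Lib.LocalChar.JComp
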