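import Cfsg.Agent.Lib.LocalChar.JAmalgam

/-! The structure of an edge whose two planes do not lie in the opposite 2-cores. -/

set_option autoImplicit false
set_option linter.unusedSectionVars false
open scoped commutatorElement
open Subgroup (centralizer normalizer zpowers)

namespace Cfsg.Agent.Lib.LocalChar.JComp

variable {G : Type*} [Group G] [Finite G] {P K K₁ K₂ : Subgroup G}

local notation "𝐉" T:max => Cfsg.thompsonSubgroupOf 2 T

/-- `P` has two elementary abelian subgroups of index 2 containing all its elementary abelian subgroups. -/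
def Small (P : Subgroup G) : Prop :=
  ∃ A B : Subgroup G, A ≤ P ∧ B ≤ P ∧ Cfsg.IsElementaryAbelian 2 A ∧ Cfsg.IsElementaryAbelian 2 B ∧
    Nat.card A = Nat.card ↥(zJ P) * 2 ∧ Nat.card B = Nat.card ↥(zJ P) * 2 ∧
    Nat.card P = Nat.card ↥(zJ P) * 4 ∧ A ⊓ B ≤ zJ P ∧
    ∀ E : Subgroup G, Cfsg.IsElementaryAbelian 2 E → E ≤ P → E ≤ A ∨ E ≤ B

theorem Small.conj_apply (h : Small P) (g : G) : Small (cj g P) := by
  obtain ⟨A, B, hA, hB, hAe, hBe, hAc, hBc, hPc, hAB, hall⟩ := h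
  refine ⟨cj g A, cj g B, cj_mono hA, cj_mono hB, Thompson.isElementaryAbelian_map _ hAe,
    Thompson.isElementaryAbelian_map _ hBe, ?_, ?_, ?_, ?_, fun E hE hEP => ?_⟩
  · rw [zJ_cj, card_cj, card_cj, hAc]
  · rw [zJ_cj, card_cj, card_cj, hBc]
  · rw [zJ_cj, card_cj, card_cj, hPc]
  · rw [zJ_cj, ← Subgroup.map_inf _ _ _ (MulAut.conj g).injective]
    exact cj_mono hAB
  · have h1 := cj_mono (g := g⁻¹) hEP
    rw [cj_inv_cj] at h1
    rcases hall _ (Thompson.isElementaryAbelian_map _ hE) h1 with h2 | h2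
    · exact Or.inl ((cj_cj_inv g E).ge.trans (cj_mono h2))
    · exact Or.inr ((cj_cj_inv g E).ge.trans (cj_mono h2))

theorem sq_closure_le {Q Q' : Subgroup G} (h : ∀ q ∈ Q, ∃ d ∈ Q', q * q = d * d) :
    Subgroup.closure {y | ∃ q ∈ Q, y = q * q} ≤ Subgroup.closure {y | ∃ q ∈ Q', y = q * q} :=
  (Subgroup.closure_le _).2 fun _ ⟨q, hq, e⟩ =>
    let ⟨d, hd, e'⟩ := h q hq
    Subgroup.subset_closure ⟨d, hd, e.trans e'⟩

theorem le_nz_sq_closure {N Q : Subgroup G} (h : N ≤ normalizer (Q : Set G)) :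
    N ≤ normalizer ((Subgroup.closure {y | ∃ q ∈ Q, y = q * q} : Subgroup G) : Set G) :=
  le_nz_closure fun n hn _ ⟨q, hq, e⟩ =>
    Subgroup.subset_closure ⟨n * q * n⁻¹, conj_mem_of_nz (h hn) hq, by rw [e]; group⟩

/-- The structure theorem for the edge. -/
theorem small_of_cross (am : Amb G) (h₁ : Adm P K₁) (h₂ : Adm P K₂)
    (hn : ¬ K₂ ≤ normalizer (K₁ : Set G))
    (hW₁ : ¬ Cfsg.wOf K₁ ≤ centralizer (Cfsg.wOf K₂ : Set G)) : Small P := by
  set L₁ := lGrp K₁ (zc P K₁)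
  set L₂ := lGrp K₂ (zc P K₂)
  set Q₁ := Cfsg.pCoreOf 2 L₁
  set Q₂ := Cfsg.pCoreOf 2 L₂
  have e₁ : Q₁ = P ⊓ centralizer (Cfsg.wOf K₁ : Set G) := h₁.core_eq am
  have e₂ : Q₂ = P ⊓ centralizer (Cfsg.wOf K₂ : Set G) := h₂.core_eq am
  have hmem₁ : ∀ {p : G}, p ∈ P → (p ∈ Q₁ ↔ p ∈ centralizer (Cfsg.wOf K₁ : Set G)) := fun hp =>
    ⟨fun h => (e₁.le h).2, fun h => e₁.ge ⟨hp, h⟩⟩
  have hmem₂ : ∀ {p : G}, p ∈ P → (p ∈ Q₂ ↔ p ∈ centralizer (Cfsg.wOf K₂ : Set G)) := fun hp =>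
    ⟨fun h => (e₂.le h).2, fun h => e₂.ge ⟨hp, h⟩⟩
  obtain ⟨a, haW, hac⟩ := SetLike.not_le_iff_exists.1 hW₁
  obtain ⟨b, hbW, hbc⟩ : ∃ b ∈ Cfsg.wOf K₂, b ∉ centralizer (Cfsg.wOf K₁ : Set G) :=
    SetLike.not_le_iff_exists.1 fun h => hW₁ (Subgroup.le_centralizer_iff.1 h)
  have haP : a ∈ P := h₁.W_le_P haW
  have hbP : b ∈ P := h₂.W_le_P hbW
  have haQ : a ∈ Q₁ := (h₁.Z_le_core am) (Subgroup.mem_sup_right haW)
  have hbQ : b ∈ Q₂ := (h₂.Z_le_core am) (Subgroup.mem_sup_right hbW)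
  have hidx₁ : (Q₁.subgroupOf P).index = 2 := h₁.relIndex_core am
  have hidx₂ : (Q₂.subgroupOf P).index = 2 := h₂.relIndex_core am
  have hm₁ : ∀ {p q : G}, p ∈ P → q ∈ P → (p * q ∈ Q₁ ↔ (p ∈ Q₁ ↔ q ∈ Q₁)) := fun {p q} hp hq => by
    have := Subgroup.mul_mem_iff_of_index_two hidx₁ (a := (⟨p, hp⟩ : P)) (b := ⟨q, hq⟩)
    simpa [Subgroup.mem_subgroupOf] using this
  have hm₂ : ∀ {p q : G}, p ∈ P → q ∈ P → (p * q ∈ Q₂ ↔ (p ∈ Q₂ ↔ q ∈ Q₂)) := fun {p q} hp hq => by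
    have := Subgroup.mul_mem_iff_of_index_two hidx₂ (a := (⟨p, hp⟩ : P)) (b := ⟨q, hq⟩)
    simpa [Subgroup.mem_subgroupOf] using this
  have haQ₂ : a ∉ Q₂ := fun h => hac (e₂.le h).2
  have hbQ₁ : b ∉ Q₁ := fun h => hbc (e₁.le h).2
  have hP₁ : Q₁ ≤ P := h₁.core_le_P am
  have hP₂ : Q₂ ≤ P := h₂.core_le_P am
  have hca : ∀ q ∈ Q₁, q * a = a * q := fun q hq =>
    (Subgroup.mem_centralizer_iff.1 (e₁.le hq).2 a haW).symm
  have hcb : ∀ q ∈ Q₂, q * b = b * q := fun q hq =>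
    (Subgroup.mem_centralizer_iff.1 (e₂.le hq).2 b hbW).symm
  have ha2 : a * a = 1 := h₁.comp.2.2.2.2.2 a haW
  have hb2 : b * b = 1 := h₂.comp.2.2.2.2.2 b hbW
  -- the closures of the squares agree
  set R := Subgroup.closure {y : G | ∃ q ∈ Q₁, y = q * q}
  have hR12 : R = Subgroup.closure {y : G | ∃ q ∈ Q₂, y = q * q} := by
    refine le_antisymm (sq_closure_le fun q hq => ?_) (sq_closure_le fun q hq => ?_)
    · by_cases h : q ∈ Q₂
      · exact ⟨q, h, rfl⟩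
      refine ⟨q * a, (hm₂ (hP₁ hq) haP).2 (iff_of_false h haQ₂), ?_⟩
      rw [show q * a * (q * a) = q * (a * q) * a by group, ← hca q hq,
        show q * (q * a) * a = q * q * (a * a) by group, ha2, mul_one]
    · by_cases h : q ∈ Q₁
      · exact ⟨q, h, rfl⟩
      refine ⟨q * b, (hm₁ (hP₂ hq) hbP).2 (iff_of_false h hbQ₁), ?_⟩
      rw [show q * b * (q * b) = q * (b * q) * b by group, ← hcb q hq,
        show q * (q * b) * b = q * q * (b * b) by group, hb2, mul_one]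
  have hR2 : IsPGroup 2 R := (isPGroup_pCoreOf (p := 2) L₁).to_le
    ((Subgroup.closure_le _).2 fun _ ⟨q, hq, e⟩ => e ▸ Q₁.mul_mem hq hq)
  have hRb : R = ⊥ := Good.no_common am h₁.p2 h₁.good h₂.comp hn hR2
    (((thompsonOf_le P).trans h₁.P_le_L).trans (le_nz_sq_closure (le_nz_pCoreOf L₁)))
    (h₁.K_le_L.trans (le_nz_sq_closure (le_nz_pCoreOf L₁)))
    (by rw [hR12]; exact h₂.K_le_L.trans (le_nz_sq_closure (le_nz_pCoreOf L₂)))
  have hsq₁ : ∀ q ∈ Q₁, q * q = 1 := fun q hq =>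
    Subgroup.mem_bot.1 (hRb ▸ (Subgroup.subset_closure ⟨q, hq, rfl⟩ : q * q ∈ R))
  have hsq₂ : ∀ q ∈ Q₂, q * q = 1 := fun q hq => by
    have h1 : q * q ∈ Subgroup.closure {y : G | ∃ q ∈ Q₂, y = q * q} := Subgroup.subset_closure ⟨q, hq, rfl⟩
    rw [← hR12, hRb] at h1
    exact Subgroup.mem_bot.1 h1
  have hel : ∀ {Q : Subgroup G}, (∀ q ∈ Q, q * q = 1) → Cfsg.IsElementaryAbelian 2 Q := fun {Q} h =>
    ⟨⟨⟨fun x y => Subtype.ext (by
      have hx := inv_eq_of_mul_eq_one_right (h x x.2)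
      have hy := inv_eq_of_mul_eq_one_right (h y y.2)
      have hxy := inv_eq_of_mul_eq_one_right (h _ (Q.mul_mem x.2 y.2))
      rw [mul_inv_rev, hx, hy] at hxy
      exact hxy.symm)⟩⟩, fun q hq => by rw [pow_two]; exact h q hq⟩
  have hE₁ := hel hsq₁
  have hE₂ := hel hsq₂
  -- `Q₁ ⊓ Q₂ = zJ P`
  have hzle : zJ P ≤ Q₁ ⊓ Q₂ :=
    le_inf (h₁.zJ_le_Z.trans (h₁.Z_le_core am)) (h₂.zJ_le_Z.trans (h₂.Z_le_core am))
  have hD : Q₁ ⊓ Q₂ = zJ P := by
    refine le_antisymm ((?_ : Q₁ ⊓ Q₂ ≤ Cfsg.omegaCenterOf P).trans (omZ_le_zJ P)) hzle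
    rintro d ⟨hd₁, hd₂⟩
    refine mem_omegaCenter_iff.2 ⟨hP₁ hd₁, fun p hp => ?_, by rw [pow_two]; exact hsq₁ d hd₁⟩
    by_cases hp₁ : p ∈ Q₁
    · exact Thompson.commute_of_elementary hE₁ hp₁ hd₁
    by_cases hp₂ : p ∈ Q₂
    · exact Thompson.commute_of_elementary hE₂ hp₂ hd₂
    have h1 : a * p ∈ Q₂ := (hm₂ haP hp).2 (iff_of_false haQ₂ hp₂)
    have h2 : Commute (a * p) d := Thompson.commute_of_elementary hE₂ h1 hd₂
    have h3 : Commute a d := Thompson.commute_of_elementary hE₁ haQ hd₁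
    simpa using h3.inv_left.mul_left h2
  have hrel : (zJ P).relIndex Q₁ = 2 := by
    rw [← hD, Subgroup.inf_relIndex_left, Subgroup.relIndex, Subgroup.index_eq_two_iff]
    refine ⟨⟨a, haQ⟩, fun q => ?_⟩
    simp only [Subgroup.mem_subgroupOf, Subgroup.coe_mul]
    rw [hm₂ (hP₁ q.2) haP, xor_iff_not_iff]
    simp [haQ₂]
  have hc₁ : Nat.card Q₁ = Nat.card ↥(zJ P) * 2 := by
    rw [← card_mul_relIndex' (hzle.trans inf_le_left), hrel]
  have hcP := h₁.card_core am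
  have hcP₂ := h₂.card_core am
  refine ⟨Q₁, Q₂, hP₁, hP₂, hE₁, hE₂, hc₁, ?_, ?_, hD.le, fun E hE hEP => ?_⟩
  · have : Nat.card Q₂ = Nat.card Q₁ := by simp only [Q₁, Q₂, L₁, L₂]; omega
    rw [this, hc₁]
  · rw [hcP, show Cfsg.pCoreOf 2 L₁ = Q₁ from rfl, hc₁]; ring
  have hcover : ∀ e ∈ E, e ∈ Q₁ ∨ e ∈ Q₂ := fun e he => by
    by_contra h
    push Not at h
    obtain ⟨he₁, he₂⟩ := h
    have hp := hEP he
    have hee : e * e = 1 := by rw [← pow_two]; exact hE.2 e he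
    set y := a * e
    have hy : y ∈ Q₂ := (hm₂ haP hp).2 (iff_of_false haQ₂ he₂)
    have hyy : y * y = 1 := hsq₂ y hy
    have hy₁ : y ∉ Q₁ := fun h => he₁ (by
      have := Q₁.mul_mem haQ h
      simp only [y] at this
      rwa [← mul_assoc, ha2, one_mul] at this)
    have hyc : Commute y a := by
      show a * e * a = a * (a * e)
      rw [← mul_assoc a a e, ha2, one_mul]
      have h5 : a * e * a = e⁻¹ := eq_inv_of_mul_eq_one_left (by
        simp only [y] at hyy; rw [← hyy]; group)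
      rw [h5]; exact inv_eq_of_mul_eq_one_right hee
    have hal : a ∉ wl P K₁ := fun h => haQ₂ (hzle h.1).2
    exact hy₁ ((hmem₁ (hP₂ hy)).2 (h₁.cent_of_fix
      (fun s hs => (Subgroup.mem_centralizer_iff.1 (h₁.cen (hP₂ hy)) s hs.1).symm) haW hal hyc))
  by_contra h
  push Not at h
  obtain ⟨h1, h2⟩ := h
  obtain ⟨e, he, he₁⟩ := SetLike.not_le_iff_exists.1 h1
  obtain ⟨f, hf, hf₂⟩ := SetLike.not_le_iff_exists.1 h2
  have he₂ := (hcover e he).resolve_left he₁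
  have hf₁ := (hcover f hf).resolve_right hf₂
  have hfa : f * a ∈ zJ P := hD ▸
    (⟨Q₁.mul_mem hf₁ haQ, (hm₂ (hP₁ hf₁) haP).2 (iff_of_false hf₂ haQ₂)⟩ : f * a ∈ Q₁ ⊓ Q₂)
  have hc : Commute e (f * a) := (Subgroup.mem_centralizer_iff.1 (h₁.cen (hEP he)) _ hfa).symm
  have hca' : Commute e a := by
    have h3 : Commute e f := Thompson.commute_of_elementary hE he hf
    simpa using h3.inv_right.mul_right hc
  exact he₁ ((hmem₁ (hEP he)).2 (h₁.cent_of_fix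
    (fun s hs => (Subgroup.mem_centralizer_iff.1 (h₁.cen (hEP he)) s hs.1).symm) haW
    (fun h => haQ₂ (hzle h.1).2) hca'))

namespace Adm

variable (h : Adm P K) (am : Amb G) (hs : Small P)
include h am hs

theorem Q_eq_Z : Cfsg.pCoreOf 2 (lGrp K (zc P K)) = zc P K ⊔ Cfsg.wOf K := by
  refine (Subgroup.eq_of_le_of_card_ge (h.Z_le_core am) ?_).symm
  obtain ⟨A, B, -, -, -, -, -, -, hPc, -, -⟩ := hs
  have e1 := h.card_core am
  have e2 := Coprime.card_sup_mul_card_inf_of_le_normalizer (A := zc P K) (N := Cfsg.wOf K)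
    (fun q hq => centralizer_le_nz _ (Subgroup.mem_centralizer_iff.2 fun w hw =>
      ((mem_omegaCenter_iff.1 hq.1).2.1 w (W_le_J h.comp h.p2 hw)).eq))
  rw [zc_inf_W h.comp, Subgroup.card_bot, mul_one, h.comp.2.2.2.2.1] at e2
  have e3 := card_zJ h.comp h.p2
  omega

omit hs in
theorem Z_elem : Cfsg.IsElementaryAbelian 2 (zc P K ⊔ Cfsg.wOf K : Subgroup G) :=
  Thompson.isElementaryAbelian_sup (Thompson.isElementaryAbelian_le (zJ_elem P) inf_le_left) (W_elem h.comp)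
    fun q hq w hw => (((mem_omegaCenter_iff.1 hq.1).2.1 w (W_le_J h.comp h.p2 hw)).eq).symm

theorem single : Single P K := by
  intro X hX hle
  by_contra hne
  have hl := (Good.nz_line am h.p2 h.good hX (Ne.symm hne) hle).1
  obtain ⟨hcent, -⟩ := Good.common_cent am h.p2 h.good hX h.nW_local (le_sup_right.trans (H_le_nzW h.comp))
    (le_sup_left.trans (H_le_nzW h.comp)) (hle.trans (nzK_le_nzW h.comp)) (Ne.symm hne)
  have hle2 : Cfsg.wOf X ≤ zc P K := fun w hw => by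
    have h1 : w ∈ Cfsg.pCoreOf 2 (lGrp K (zc P K)) := by
      rw [h.core_eq am]
      refine ⟨(W_le_J hX h.p2).trans (thompsonOf_le P) hw, Subgroup.mem_centralizer_iff.2 fun u hu => ?_⟩
      exact Subgroup.mem_centralizer_iff.1 (hcent hw) u (pCoreOf_le K (W_le_Q h.comp hu))
    rw [h.Q_eq_Z am hs] at h1
    obtain ⟨q, hq, u, hu, rfl⟩ := h.Z_mem h1
    obtain ⟨x, hx, hx3⟩ := exists_three h.comp
    have h2 : Commute x u := by
      have h3 : Commute x (q * u) := Subgroup.mem_centralizer_iff.1 (hcent hw) x hx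
      have h4 : Commute x q := Subgroup.mem_centralizer_iff.1 hq.2 x hx
      simpa using h4.inv_right.mul_right h3
    rw [fix_free h.comp hx hx3 hu h2, mul_one]
    exact hq
  have := Subgroup.card_le_of_le hle2
  rw [hX.2.2.2.2.1] at this
  have := card_zJ h.comp h.p2
  have := h.four
  omega

theorem cent_Q : centralizer (Cfsg.pCoreOf 2 (lGrp K (zc P K)) : Set G) ≤
    Cfsg.pCoreOf 2 (lGrp K (zc P K)) := by
  obtain ⟨x, hxK, hx⟩ := exists_three h.comp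
  set N := normalizer (Cfsg.wOf K : Set G)
  have hle : Cfsg.pCoreOf 2 N ≤ Cfsg.pCoreOf 2 (lGrp K (zc P K)) := by
    rw [h.core_eq am]
    exact le_inf (pCoreOf_le_sylowIn h.sylow_nW) (two_group_cent h.comp hxK hx (isPGroup_pCoreOf N)
      (le_nz_pCoreOf N (H_le_nzW h.comp (Subgroup.mem_sup_left hxK))) (pCoreOf_le N))
  exact ((Subgroup.centralizer_le hle).trans h.nW_over.2.2).trans hle

theorem centW_eq : centralizer (Cfsg.wOf K : Set G) = Cfsg.pCoreOf 2 (lGrp K (zc P K)) := by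
  refine le_antisymm (fun g hg => h.cent_Q am hs ?_) ((h.core_eq am).le.trans inf_le_right)
  have hgL : g ∈ lGrp K (zc P K) := by
    rw [← h.nzK_eq_L am (h.single am hs), normalizer_eq am h.p2 h.good.zero]
    exact centralizer_le_nz _ hg
  rw [h.Q_eq_Z am hs, Subgroup.mem_centralizer_iff]
  intro z hz
  obtain ⟨q, hq, w, hw, rfl⟩ := h.Z_mem hz
  have h1 : Commute q g := Subgroup.mem_centralizer_iff.1 hgL.2 q hq
  have h2 : Commute w g := Subgroup.mem_centralizer_iff.1 hg w hw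
  exact (h1.mul_left h2).eq

theorem nzK_eq_join : normalizer (K : Set G) = K ⊔ P := by
  refine le_antisymm (fun g hg => ?_) (sup_le Subgroup.le_normalizer h.norm)
  rw [h.nzK_eq_L am (h.single am hs)] at hg
  obtain ⟨k, hk, p, hp, y, hy, rfl⟩ := h.L_decomp hg
  exact Subgroup.mul_mem _ (Subgroup.mul_mem _ (Subgroup.mem_sup_left hk) (Subgroup.mem_sup_right hp))
    (Subgroup.mem_sup_right (h.core_le_P am ((h.centW_eq am hs).le hy.2)))

theorem core_join : Cfsg.pCoreOf 2 (K ⊔ P) = Cfsg.pCoreOf 2 (lGrp K (zc P K)) := by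
  rw [← h.nzK_eq_join am hs, h.nzK_eq_L am (h.single am hs)]

theorem join_local : Cfsg.IsTwoLocal (K ⊔ P) := by
  rw [← h.nzK_eq_join am hs, normalizer_eq am h.p2 h.good.zero]
  exact h.nW_local

theorem join_unique {L : Subgroup G} (hL : Cfsg.IsTwoLocal L) (hle : K ⊔ 𝐉 P ≤ L) : L ≤ K ⊔ P := by
  rw [← h.nzK_eq_join am hs]
  obtain ⟨R, e, hR⟩ := h.good.overgroup h.p2 hL (le_sup_left.trans hle) (le_sup_right.trans hle)
  have huniq : ∀ X : Subgroup G, Cfsg.IsJComponent P X → X ≤ L → X = K := fun X hX hXL =>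
    h.single am hs X hX (Good.common_nz am h.p2 h.good hX hL (le_sup_right.trans hle) (le_sup_left.trans hle)
      hXL).1
  refine le_of_components' am hR ?_ fun X hX hXL =>
    (huniq X (component_congr e hX) hXL).le.trans Subgroup.le_normalizer
  rw [e]
  rintro g ⟨hgL, hgJ⟩
  refine mem_nz_of_cj_eq (huniq _ (h.good.nzJ_conj hgJ).1 (cj_le_iff.2 fun k hk => ?_))
  exact L.mul_mem (L.mul_mem hgL (hle (Subgroup.mem_sup_left hk))) (L.inv_mem hgL)

theorem join_maximal : Cfsg.IsMaximalTwoLocal (K ⊔ P) :=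
  ⟨h.join_local am hs, fun _ hN hle => le_antisymm
    (h.join_unique am hs hN ((sup_le_sup_left (thompsonOf_le P) K).trans hle)) hle⟩

omit hs in
theorem card_join : Nat.card ↥(K ⊔ P) = 3 * Nat.card P := by
  have hK3 := h.comp.2.2.1
  have e := Coprime.card_sup_mul_card_inf_of_le_normalizer (A := P) (N := K) h.norm
  rw [sup_comm] at e
  have hKP : P ⊓ K = Cfsg.pCoreOf 2 K := by
    refine le_antisymm (fun g hg => two_el_mem_Q h.comp hg.2 (exists_pow_eq_one h.p2 hg.1))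
      (le_inf ?_ (pCoreOf_le K))
    have h2 : Cfsg.pCoreOf 2 K ≤ Cfsg.pCoreOf 2 (lGrp K (zc P K)) :=
      h.two_le_core am (isPGroup_pCoreOf _) (le_inf ((pCoreOf_le K).trans h.K_le_L)
        fun q hq => Subgroup.mem_centralizer_iff.2 fun y hy => (Q_comm_W h.comp hq hy).eq.symm)
    exact h2.trans (h.core_le_P am)
  rw [hKP, ← card_mul_relIndex' (pCoreOf_le (p := 2) K), hK3] at e
  exact Nat.eq_of_mul_eq_mul_right Nat.card_pos (e.trans (by ring))

theorem relIndex_six : (Cfsg.pCoreOf 2 (K ⊔ P)).relIndex (K ⊔ P) = 6 := by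
  have e := card_mul_relIndex' (pCoreOf_le (p := 2) (K ⊔ P))
  rw [h.card_join am, h.card_core am, h.core_join am hs] at e
  rw [h.core_join am hs]
  exact Nat.eq_of_mul_eq_mul_left Nat.card_pos (e.trans (by ring))

theorem not_comm : ¬ ⁅K ⊔ P, K ⊔ P⁆ ≤ Cfsg.pCoreOf 2 (K ⊔ P) := fun hle => by
  obtain ⟨x, hxK, hx⟩ := exists_three h.comp
  refine not_mem_Q h.comp hx (two_el_mem_Q h.comp hxK ?_)
  obtain ⟨p, hp, hpc⟩ := h.exists_mover
  rw [h.core_join am hs] at hle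
  have hKQ : K ≤ Cfsg.pCoreOf 2 (lGrp K (zc P K)) := by
    conv_lhs => rw [← h.comp.2.1]
    exact (Subgroup.commutator_mono le_sup_left ((thompsonOf_le P).trans le_sup_right)).trans hle
  exact exists_pow_eq_one (isPGroup_pCoreOf _) (hKQ hxK)

theorem comm_omZ_ne : ⁅Cfsg.omegaCenterOf P, K ⊔ P⁆ ≠ ⊥ := fun hb => by
  obtain ⟨x, hxK, hx⟩ := exists_three h.comp
  refine wl_ne_bot h.comp h.p2 ((Subgroup.eq_bot_iff_forall _).2 fun w hw => fix_free h.comp hxK hx hw.2 ?_)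
  have h1 : ⁅w, x⁆ ∈ ⁅Cfsg.omegaCenterOf P, K ⊔ P⁆ :=
    Subgroup.commutator_mem_commutator ((omZ_eq_zJ h.cen).ge hw.1) (Subgroup.mem_sup_left hxK)
  rw [hb, Subgroup.mem_bot, commutatorElement_eq_one_iff_commute] at h1
  exact h1.symm

end Adm

end Cfsg.Agent.Lib.LocalChar.JComp
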