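import Cfsg.Agent.Lib.LocalChar.JExist

/-! Maximal straddling 2-subgroups. -/

set_option autoImplicit false
set_option linter.unusedSectionVars false
open scoped commutatorElement
open Subgroup (centralizer normalizer zpowers)

namespace Cfsg.Agent.Lib.LocalChar.JComp

variable {G : Type*} [Group G] [Finite G]

local notation "𝐉" T:max => Cfsg.thompsonSubgroupOf 2 T

theorem maxElemAbelianOrder_eq {U A : Subgroup G} (hA : A ∈ jset U) :
    Cfsg.maxElemAbelianOrder U = Nat.card A := by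
  refine IsGreatest.csSup_eq ⟨⟨A.subgroupOf U, subgroupOf_mem hA,
    Nat.card_congr (Subgroup.subgroupOfEquivOfLe hA.2.1).toEquiv⟩, ?_⟩
  rintro _ ⟨B, hB, rfl⟩
  show Nat.card B ≤ Nat.card A
  rw [← Subgroup.card_map_of_injective (K := B) U.subtype_injective]
  exact hA.2.2 _ (map_mem hB).1 (map_mem hB).2.1

variable {M T : Subgroup G}

theorem thompson_ne_bot {U : Subgroup G} (hU : IsPGroup 2 U) (hU1 : U ≠ ⊥) : 𝐉 U ≠ ⊥ := by
  intro h
  obtain ⟨A, hA⟩ := jset_nonempty U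
  obtain ⟨u, hu, hu1⟩ := (Subgroup.bot_or_exists_ne_one _).resolve_left hU1
  obtain ⟨n, hn⟩ := exists_pow_eq_one hU hu
  obtain ⟨m, rfl⟩ : ∃ m, n = m + 1 := ⟨n - 1, by
    rcases n with _ | n
    · exact absurd (by simpa using hn) hu1
    · rfl⟩
  obtain ⟨z, hz, hz1, hz2⟩ : ∃ z ∈ U, z ≠ 1 ∧ z ^ 2 = 1 := by
    clear hn
    haveI : Fact (Nat.Prime 2) := ⟨Nat.prime_two⟩
    have h2 : 2 ∣ Nat.card U := by
      obtain ⟨k, hk⟩ := IsPGroup.iff_card.1 hU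
      rw [hk]
      refine dvd_pow_self 2 fun h0 => hU1 (Subgroup.card_eq_one.1 ?_)
      rw [hk, h0, pow_zero]
    obtain ⟨z, hz⟩ := exists_prime_orderOf_dvd_card' 2 h2
    refine ⟨z, z.2, fun h1 => ?_, ?_⟩
    · rw [← Subgroup.orderOf_coe, h1, orderOf_one] at hz; omega
    · have := pow_orderOf_eq_one z
      rw [hz] at this
      simpa using congrArg Subtype.val this
  have hzA : z ∈ A := mem_of_commute hA hz hz2 fun a ha => by
    rw [show a = 1 from Subgroup.mem_bot.1 (h ▸ jset_le hA ha)]; exact Commute.one_left z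
  exact hz1 (Subgroup.mem_bot.1 (h ▸ jset_le hA hzA))

/-- A straddling group containing `J(T)` has the same Thompson subgroup and is not larger. -/
theorem max_facts (hT : T ∈ Cfsg.maxStraddlingTwoSubgroups M) {U : Subgroup G}
    (hU : U ∈ Cfsg.straddlingTwoSubgroups M) (hJU : 𝐉 T ≤ U) : 𝐉 U = 𝐉 T ∧ Nat.card U ≤ Nat.card T := by
  obtain ⟨A, hA⟩ := jset_nonempty T
  obtain ⟨D, hD⟩ := jset_nonempty U
  obtain ⟨h1, h2⟩ := hT.2 U hU
  rw [maxElemAbelianOrder_eq hD, maxElemAbelianOrder_eq hA] at h1 h2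
  have hmem : ∀ B ∈ jset T, B ∈ jset U := fun B hB => jset_of_card hD hB.1 ((jset_le hB).trans hJU)
    (h1.trans (hB.2.2 A hA.1 hA.2.1))
  have hle : 𝐉 T ≤ 𝐉 U := by
    rw [thompsonOf_eq T]
    exact sSup_le fun B hB => jset_le (hmem B hB)
  have heq : Nat.card D = Nat.card A :=
    le_antisymm h1 (hD.2.2 A hA.1 ((jset_le hA).trans hJU))
  obtain ⟨h3, h4⟩ := h2 heq
  exact ⟨(Subgroup.eq_of_le_of_card_ge hle h3).symm,
    h4 (le_antisymm h3 (Subgroup.card_le_of_le hle))⟩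

variable (S : Sylow 2 G)
  (hMJ : normalizer (𝐉 (S : Subgroup G) : Set G) ≤ M) (hT : T ∈ Cfsg.maxStraddlingTwoSubgroups M)
include hMJ hT

theorem normalizer_J_le : normalizer (𝐉 T : Set G) ≤ M := by
  by_contra hn
  obtain ⟨hT2, hT1, hTM, -⟩ := hT.1
  have hJne : 𝐉 T ≠ ⊥ := thompson_ne_bot hT2 hT1
  have hSM : (S : Subgroup G) ≤ M :=
    (Subgroup.le_normalizer.trans (nz_le_nz_thompson (S : Subgroup G))).trans hMJ
  obtain ⟨x, hx, hle⟩ := (IsSylowIn.of_le S hSM).conj_le hT2 hTM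
  set S' := cj x⁻¹ (S : Subgroup G)
  have hTS : T ≤ S' := by
    have := cj_mono (g := x⁻¹) hle
    rwa [cj_inv_cj] at this
  have hS'M : S' ≤ M := by
    intro s hs
    rw [mem_cj, inv_inv] at hs
    simpa [mul_assoc] using M.mul_mem (M.mul_mem (M.inv_mem hx) (hSM hs)) hx
  have hnS' : normalizer (𝐉 S' : Set G) ≤ M := by
    intro g hg
    rw [show 𝐉 S' = cj x⁻¹ (𝐉 (S : Subgroup G)) from thompsonOf_cj _ _] at hg
    have h1 : x * g * x⁻¹ ∈ normalizer (𝐉 (S : Subgroup G) : Set G) := by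
      refine mem_nz_of_cj_eq ?_
      have h2 := congrArg (cj x) (cj_eq_of_mem_nz hg)
      rw [cj_cj_inv, cj_cj, cj_cj] at h2
      exact h2
    simpa [mul_assoc] using M.mul_mem (M.mul_mem (M.inv_mem hx) (hMJ h1)) hx
  have hlt : T < S' := lt_of_le_of_ne hTS fun h => hn (h ▸ hnS')
  obtain ⟨s, hs, hsn, hsT⟩ : ∃ s ∈ S', s ∈ normalizer (T : Set G) ∧ s ∉ T := by
    haveI : Group.IsNilpotent ↥S' := (isPGroup_cj S.isPGroup').isNilpotent
    have hne : T.subgroupOf S' < ⊤ := lt_top_iff_ne_top.2 fun h => hlt.ne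
      (le_antisymm hTS (Subgroup.subgroupOf_eq_top.1 h))
    obtain ⟨s, hsn, hsT⟩ := SetLike.exists_of_lt
      (Group.normalizerCondition_of_isNilpotent (G := S') _ hne)
    refine ⟨s, s.2, mem_nz_of_cj_le (cj_le_iff.2 fun t ht => ?_), hsT⟩
    exact Subgroup.mem_subgroupOf.1 (conj_mem_of_nz hsn (show (⟨t, hTS ht⟩ : S') ∈ T.subgroupOf S' from ht))
  have hsJ : s ∈ normalizer (𝐉 T : Set G) := nz_le_nz_thompson T hsn
  set U := S' ⊓ normalizer (𝐉 T : Set G)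
  have hTU : T ≤ U := le_inf hTS (Subgroup.le_normalizer.trans (nz_le_nz_thompson T))
  have hU : U ∈ Cfsg.straddlingTwoSubgroups M := ⟨(isPGroup_cj S.isPGroup').to_le inf_le_left,
    fun h => hT1 (le_bot_iff.1 (hTU.trans h.le)), inf_le_left.trans hS'M,
    normalizer (𝐉 T : Set G), ⟨𝐉 T, hT2.to_le (thompsonOf_le T), hJne, rfl⟩, inf_le_right, hn⟩
  obtain ⟨-, hcard⟩ := max_facts hT hU
    ((thompsonOf_le T).trans hTU)
  exact hsT ((Subgroup.eq_of_le_of_card_ge hTU hcard).ge ⟨hs, hsJ⟩)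

/-- A 2-local subgroup outside `M` whose Sylow subgroup contains `J(T)`. -/
theorem overgroup_facts (am : Amb G) {L T₀ : Subgroup G} (hL2 : Cfsg.IsTwoLocal L) (hLM : ¬ L ≤ M)
    (hT₀ : Cfsg.IsSylowTwoIn T₀ L) (hJT₀ : 𝐉 T ≤ T₀) :
    𝐉 T = 𝐉 T₀ ∧ T₀ ∈ Cfsg.straddlingTwoSubgroups M ∧ L ∈ Cfsg.jOvergroups T₀ := by
  obtain ⟨hT2, hT1, hTM, -⟩ := hT.1
  have hNJ := normalizer_J_le S hMJ hT
  have hJne : 𝐉 T ≠ ⊥ := thompson_ne_bot hT2 hT1
  have hT₀' := isSylowTwoIn_iff.1 hT₀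
  set T₁ := T₀ ⊓ M
  have hJM : 𝐉 T ≤ M := (thompsonOf_le T).trans hTM
  have hT₁ : T₁ ∈ Cfsg.straddlingTwoSubgroups M :=
    ⟨hT₀'.2.1.to_le inf_le_left, fun h => hJne (le_bot_iff.1 ((le_inf hJT₀ hJM).trans h.le)), inf_le_right,
      L, hL2, inf_le_left.trans hT₀'.1, hLM⟩
  have hJ₁ : 𝐉 T₁ = 𝐉 T := (max_facts hT hT₁ (le_inf hJT₀ hJM)).1
  have hT₀M : T₀ ≤ M := by
    by_contra hn
    have hne : T₁.subgroupOf T₀ < ⊤ := lt_top_iff_ne_top.2 fun h => hn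
      ((Subgroup.subgroupOf_eq_top.1 h).trans inf_le_right)
    haveI : Group.IsNilpotent ↥T₀ := hT₀'.2.1.isNilpotent
    obtain ⟨s, hsn, hsT⟩ := SetLike.exists_of_lt
      (Group.normalizerCondition_of_isNilpotent (G := T₀) _ hne)
    have hsn' : (s : G) ∈ normalizer (T₁ : Set G) := mem_nz_of_cj_le (cj_le_iff.2 fun t ht =>
      Subgroup.mem_subgroupOf.1 (conj_mem_of_nz hsn (show (⟨t, ht.1⟩ : T₀) ∈ T₁.subgroupOf T₀ from ht)))
    have hsJ : (s : G) ∈ normalizer (𝐉 T : Set G) := hJ₁ ▸ nz_le_nz_thompson T₁ hsn'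
    exact hsT (Subgroup.mem_subgroupOf.2 ⟨s.2, hNJ hsJ⟩)
  have hst : T₀ ∈ Cfsg.straddlingTwoSubgroups M :=
    ⟨hT₀'.2.1, fun h => hJne (le_bot_iff.1 (hJT₀.trans h.le)), hT₀M, L, hL2, hT₀'.1, hLM⟩
  have hJ₀ : 𝐉 T₀ = 𝐉 T := (max_facts hT hst hJT₀).1
  refine ⟨hJ₀.symm, hst, hT₀, fun hle => hLM ?_, ?_⟩
  · have hOT : Cfsg.pCoreOf 2 L ≤ T₀ := pCoreOf_le_sylowIn hT₀'
    have hmem : ∀ A ∈ jset T₀, A ∈ jset (Cfsg.pCoreOf 2 L) := fun A hA =>
      ⟨hA.1, (jset_le hA).trans hle, fun B hB hBO => hA.2.2 B hB (hBO.trans hOT)⟩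
    have heq : 𝐉 (Cfsg.pCoreOf 2 L) = 𝐉 T₀ := by
      obtain ⟨A, hA⟩ := jset_nonempty T₀
      refine le_antisymm ?_ ?_
      · rw [thompsonOf_eq (Cfsg.pCoreOf 2 L)]
        exact sSup_le fun D hD => jset_le (jset_of_card hA hD.1 (hD.2.1.trans hOT)
          (hD.2.2 A hA.1 (hmem A hA).2.1))
      · rw [thompsonOf_eq T₀]
        exact sSup_le fun A hA => jset_le (hmem A hA)
    have h1 := (le_nz_pCoreOf L).trans (nz_le_nz_thompson (Cfsg.pCoreOf 2 L))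
    rw [heq, hJ₀] at h1
    exact h1.trans hNJ
  · obtain ⟨R, hR2, hR1, rfl⟩ := hL2
    intro g hg
    have hRO : R ≤ Cfsg.pCoreOf 2 (normalizer (R : Set G)) := le_pCoreOf Subgroup.le_normalizer le_rfl hR2
    exact charP_iff.1 (am.ch.2 R hR2 hR1) ⟨centralizer_le_nz R (Subgroup.centralizer_le hRO hg), hg⟩

theorem of_le (am : Amb G) {L : Subgroup G} (hL2 : Cfsg.IsTwoLocal L) (hLM : ¬ L ≤ M) (hTL : T ≤ L) :
    L ∈ Cfsg.jOvergroups T := by
  obtain ⟨T₁, hT₁, hle⟩ := exists_isSylowIn_ge (p := 2) hT.1.1 hTL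
  obtain ⟨-, hst, hL⟩ := overgroup_facts S hMJ hT am hL2 hLM (isSylowTwoIn_iff.2 hT₁)
    ((thompsonOf_le T).trans hle)
  have := Subgroup.eq_of_le_of_card_ge hle (max_facts hT hst ((thompsonOf_le T).trans hle)).2
  exact this ▸ hL

theorem exists_outside (am : Amb G) : (Cfsg.jComponentsOutside M T).Nonempty := by
  obtain ⟨L, hL2, hTL, hLM⟩ := hT.1.2.2.2
  have hLT := of_le S hMJ hT am hL2 hLM hTL
  obtain ⟨K, hK, hKL, hKM⟩ : ∃ K, Cfsg.IsJComponent T K ∧ K ≤ L ∧ ¬ K ≤ M := by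
    by_contra h
    push Not at h
    exact hLM (le_of_components am hLT (normalizer_J_le S hMJ hT) fun K hK hKL => h K hK hKL)
  refine ⟨K, ⟨hK, fun P hJP hP => ?_⟩, hKM, ?_⟩
  · have hW2 : IsPGroup 2 ↥(Cfsg.wOf K) := Thompson.isPGroup_of_elementary (W_elem hK)
    have hKN : K ≤ normalizer (Cfsg.wOf K : Set G) := le_sup_left.trans (H_le_nzW hK)
    exact (overgroup_facts S hMJ hT am ⟨_, hW2, W_ne_bot hK, rfl⟩ (fun h => hKM (hKN.trans h)) hP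
      hJP).1.symm
  · have hO : Cfsg.pCoreOf 2 L ≤ Cfsg.pCoreOf 2 (K ⊔ T) :=
      le_pCoreOf ((pCoreOf_le_sylowIn (hTsyl am hLT)).trans le_sup_right)
        ((sup_le hKL hTL).trans (le_nz_pCoreOf L)) (isPGroup_pCoreOf L)
    exact fun h => core_ne_bot am hLT (le_bot_iff.1 (hO.trans h.le))

end Cfsg.Agent.Lib.LocalChar.JComp
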