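import Cfsg.Agent.Lib.LocalChar.JConj

/-! A component for a conjugate of `T`, subnormal in `⟨K, J(T)⟩`, is normalised by `J(T)`. -/

set_option autoImplicit false
set_option linter.unusedSectionVars false
open scoped commutatorElement
open Subgroup (centralizer normalizer zpowers)

namespace Cfsg.Agent.Lib.LocalChar.JComp

variable {G : Type*} [Group G] [Finite G]

local notation "𝐉" T:max => Cfsg.thompsonSubgroupOf 2 T

theorem resOf_subgroupOf_eq {K H : Subgroup G} (hKH : K ≤ H)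
    (hgen : Subgroup.closure {g : G | g ∈ K ∧ Odd (orderOf g)} = K) :
    resOf 2 (K.subgroupOf H) = K.subgroupOf H := by
  refine le_antisymm (resOf_le _) ?_
  have h : K ≤ (resOf 2 (K.subgroupOf H)).map H.subtype := by
    conv_lhs => rw [← hgen]
    exact (Subgroup.closure_le _).2 fun g hg => ⟨⟨g, hKH hg.1⟩,
      mem_resOf (show (⟨g, hKH hg.1⟩ : H) ∈ K.subgroupOf H from hg.1)
        (by rw [← Subgroup.orderOf_coe]; exact Nat.coprime_two_right.2 hg.2), rfl⟩
  intro k hk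
  obtain ⟨k', hk', e⟩ := h hk
  have : k' = k := Subtype.ext e
  exact this ▸ hk'

variable {T' T K : Subgroup G} (hK : Cfsg.IsJComponent T' K) {H : Subgroup G} (hKH : K ≤ H)
  (hsn : (K.subgroupOf H).IsSubnormal)
include hK hKH hsn

theorem Q_le_coreH : Cfsg.pCoreOf 2 K ≤ Cfsg.pCoreOf 2 H := by
  have hQH : Cfsg.pCoreOf 2 K ≤ H := (pCoreOf_le K).trans hKH
  have h1 : ((Cfsg.pCoreOf 2 K).subgroupOf H).IsSubnormal := by
    refine Subgroup.IsSubnormal.step _ (K.subgroupOf H) (Subgroup.comap_mono (pCoreOf_le K)) hsn ?_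
    refine normal_subgroupOf (fun g hg => mem_nz_of_cj_le (cj_le_iff.2 fun k hk => ?_))
    exact Subgroup.mem_subgroupOf.2 (conj_mem_of_nz (le_nz_pCoreOf K (Subgroup.mem_subgroupOf.1 hg))
      (Subgroup.mem_subgroupOf.1 hk))
  intro q hq
  exact ⟨⟨q, hQH hq⟩, le_pCore_of_subnormal h1 (isPGroup_subgroupOf (isPGroup_pCoreOf K))
    (show (⟨q, hQH hq⟩ : H) ∈ (Cfsg.pCoreOf 2 K).subgroupOf H from hq), rfl⟩

theorem coreH_le_nzK : Cfsg.pCoreOf 2 H ≤ normalizer (K : Set G) := by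
  rintro _ ⟨d, hd, rfl⟩
  have h := pCore_le_nz_resOf hsn hd
  rw [resOf_subgroupOf_eq hKH hK.1] at h
  refine mem_nz_of_cj_le (cj_le_iff.2 fun k hk => ?_)
  exact Subgroup.mem_subgroupOf.1 (conj_mem_of_nz h (show (⟨k, hKH hk⟩ : H) ∈ K.subgroupOf H from hk))

theorem K_inf_coreH {k : G} (hk : k ∈ K) (hd : k ∈ Cfsg.pCoreOf 2 H) : k ∈ Cfsg.pCoreOf 2 K :=
  le_pCoreOf (N := K ⊓ Cfsg.pCoreOf 2 H) inf_le_left
    (le_nz_inf Subgroup.le_normalizer (hKH.trans (le_nz_pCoreOf H)))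
    ((isPGroup_pCoreOf H).to_le inf_le_right) ⟨hk, hd⟩

theorem W_le_omZ_coreH : Cfsg.wOf K ≤ omZ 2 (Cfsg.pCoreOf 2 H) := by
  obtain ⟨x, hxK, hx⟩ := exists_three hK
  have hcent := two_group_cent hK hxK hx (R := Cfsg.pCoreOf 2 H) (isPGroup_pCoreOf H)
    (le_nz_pCoreOf H (hKH hxK)) ((coreH_le_nzK hK hKH hsn).trans (nzK_le_nzW hK))
  exact fun w hw => mem_omegaCenter_iff.2 ⟨Q_le_coreH hK hKH hsn (W_le_Q hK hw), fun d hd =>
    (Subgroup.mem_centralizer_iff.1 (hcent hd) w hw).symm, (W_elem hK).2 w hw⟩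

theorem comm_mem_W {x : G} (hxK : x ∈ K) (hx : orderOf x = 3) {v : G} (hv : v ∈ omZ 2 (Cfsg.pCoreOf 2 H)) :
    x * v * x⁻¹ * v⁻¹ ∈ Cfsg.wOf K := by
  set V := omZ 2 (Cfsg.pCoreOf 2 H)
  have hnV : x ∈ normalizer (V : Set G) := (le_nz_pCoreOf H).trans (nz_le_nz_omZ _) (hKH hxK)
  have hcomm : ∀ v ∈ V, x * v * x⁻¹ * v⁻¹ ∈ omZ 2 (Cfsg.pCoreOf 2 K) := by
    intro v hv
    have hinV : x * v * x⁻¹ * v⁻¹ ∈ V := V.mul_mem (conj_mem_of_nz hnV hv) (V.inv_mem hv)
    have hinK : x * v * x⁻¹ * v⁻¹ ∈ K := by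
      have := K.mul_mem hxK (conj_mem_of_nz (coreH_le_nzK hK hKH hsn (omZ_le _ hv)) (K.inv_mem hxK))
      simpa [mul_assoc] using this
    obtain ⟨hD, hc, h2⟩ := mem_omegaCenter_iff.1 hinV
    exact mem_omegaCenter_iff.2 ⟨K_inf_coreH hK hKH hsn hinK hD,
      fun q hq => hc q (Q_le_coreH hK hKH hsn hq), h2⟩
  have hV : ∀ a ∈ V, ∀ b ∈ V, Commute a b := fun a ha b hb =>
    (mem_omegaCenter_iff.1 hb).2.1 a (omZ_le _ ha)
  have hsq : ∀ a ∈ V, a⁻¹ = a := fun a ha =>
    inv_eq_of_mul_eq_one_right (by rw [← pow_two]; exact (mem_omegaCenter_iff.1 ha).2.2)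
  have hx3 : x ^ 3 = 1 := hx ▸ pow_orderOf_eq_one x
  set a := x * v * x⁻¹
  set b := x * a * x⁻¹
  have ha : a ∈ V := conj_mem_of_nz hnV hv
  have hb : b ∈ V := conj_mem_of_nz hnV ha
  set d := b * a⁻¹
  have hd : d ∈ omZ 2 (Cfsg.pCoreOf 2 K) := hcomm a ha
  have h1 := (Cfsg.wOf K).inv_mem (Subgroup.commutator_mem_commutator hd hxK (H₂ := K))
  rw [commutatorElement_inv, commutatorElement_def] at h1
  have e3 : x * b * x⁻¹ = v := by
    calc x * b * x⁻¹ = x ^ 3 * v * (x ^ 3)⁻¹ := by simp only [b, a, pow_succ, pow_zero, one_mul]; group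
      _ = v := by rw [hx3]; simp
  have e : x * d * x⁻¹ * d⁻¹ = a * v⁻¹ := by
    calc x * d * x⁻¹ * d⁻¹ = (x * b * x⁻¹) * (x * a * x⁻¹)⁻¹ * (a * b⁻¹) := by simp only [d]; group
      _ = v * b⁻¹ * (a * b⁻¹) := by rw [e3]
      _ = v * (b * a) * b := by rw [hsq b hb]; group
      _ = v * (a * b) * b := by rw [(hV b hb a ha).eq]
      _ = v * a * (b * b) := by group
      _ = v * a := by
        rw [show b * b = 1 by rw [← pow_two]; exact (mem_omegaCenter_iff.1 hb).2.2, mul_one]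
      _ = a * v := (hV v hv a ha).eq
      _ = _ := by rw [hsq v hv]
  rw [e] at h1
  exact h1

/-- The offenders of `H` normalise `W`. -/
theorem offender_le_nzW (hsol : Group.IsSolvable ↥H) {A : Subgroup G} (hA : A ∈ jset H) :
    A ≤ normalizer (Cfsg.wOf K : Set G) := by
  set W := Cfsg.wOf K
  set D := Cfsg.pCoreOf 2 H
  set V := conjClosure H W
  obtain ⟨x, hxK, hx⟩ := exists_three hK
  have hxH : x ∈ H := hKH hxK
  have hVD : V ≤ omZ 2 D := conjClosure_le (W_le_omZ_coreH hK hKH hsn)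
    ((le_nz_pCoreOf H).trans (nz_le_nz_omZ _))
  have hVH : V ≤ H := hVD.trans ((omZ_le _).trans (pCoreOf_le H))
  have hWV : W ≤ V := le_conjClosure H W
  haveI : (V.subgroupOf H).Normal := normal_subgroupOf (le_nz_conjClosure H W)
  set V' := V.subgroupOf H
  have hVe : Cfsg.IsElementaryAbelian 2 V' := Thompson.isElementaryAbelian_comap H.subtype_injective
    (Thompson.isElementaryAbelian_le (isEA_omegaCenter (p := 2) D) hVD)
  set C := centralizer ((V' : Subgroup H) : Set H)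
  set π := QuotientGroup.mk' C
  haveI : Fact (Nat.Prime 3) := ⟨by norm_num⟩
  have hQC : ∀ q : H, (q : G) ∈ Cfsg.pCoreOf 2 K → π q = 1 := fun q hq =>
    (QuotientGroup.eq_one_iff q).2 (Subgroup.mem_centralizer_iff.2 fun v hv => Subtype.ext
      ((mem_omegaCenter_iff.1 (hVD hv)).2.1 _ (Q_le_coreH hK hKH hsn hq)).symm)
  have hx3 : x ^ 3 = 1 := hx ▸ pow_orderOf_eq_one x
  have hx' : π ⟨x, hxH⟩ ∈ Cfsg.pCore 3 (↥H ⧸ C) := by
    have h1 : ((K.subgroupOf H).map π).IsSubnormal := hsn.map (QuotientGroup.mk'_surjective C)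
    have h3 : IsPGroup 3 ((K.subgroupOf H).map π) := by
      rintro ⟨_, k, hk, rfl⟩
      obtain ⟨i, q, hq, e⟩ := mem_K hK hxK hx (Subgroup.mem_subgroupOf.1 hk)
      have hk' : k = ⟨x, hxH⟩ ^ i * ⟨q, hKH (pCoreOf_le K hq)⟩ := Subtype.ext (by simpa using e)
      refine ⟨1, Subtype.ext ?_⟩
      have hx3' : (⟨x, hxH⟩ : H) ^ 3 = 1 := Subtype.ext (by simpa using hx3)
      show (π k) ^ 3 ^ 1 = 1
      rw [hk', map_mul, hQC ⟨q, hKH (pCoreOf_le K hq)⟩ hq, mul_one, ← map_pow, ← pow_mul, pow_one, mul_comm, pow_mul, hx3',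
        one_pow, map_one]
    exact le_pCore_of_subnormal h1 h3 (Subgroup.mem_map_of_mem π hxK)
  have hnxW : ∀ w ∈ W, x * w * x⁻¹ ∈ W := fun w hw =>
    conj_mem_of_nz (H_le_nzW hK (Subgroup.mem_sup_left hxK)) hw
  have hcommV : ∀ v : H, v ∈ V' → (⁅(⟨x, hxH⟩ : H), v⁆ : H) ∈ W.subgroupOf H := fun v hv => by
    rw [Subgroup.mem_subgroupOf]
    exact comm_mem_W hK hKH hsn hxK hx (hVD hv)
  have hsurj : ∀ w ∈ W, ∃ u ∈ W, w = x * u * x⁻¹ * u⁻¹ := by
    intro w hw
    let f : W → W := fun u => ⟨x * u * x⁻¹ * (u : G)⁻¹, W.mul_mem (hnxW u u.2) (W.inv_mem u.2)⟩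
    have hf : Function.Injective f := fun a b hab => by
      have e : x * (a : G) * x⁻¹ * (a : G)⁻¹ = x * (b : G) * x⁻¹ * (b : G)⁻¹ := congrArg Subtype.val hab
      have h1 : x * ((b : G)⁻¹ * a) * x⁻¹ = (b : G)⁻¹ * a := by
        calc x * ((b : G)⁻¹ * a) * x⁻¹ = (x * b * x⁻¹)⁻¹ * (x * a * x⁻¹ * (a : G)⁻¹) * a := by group
          _ = (x * b * x⁻¹)⁻¹ * (x * b * x⁻¹ * (b : G)⁻¹) * a := by rw [e]
          _ = _ := by group
      exact Subtype.ext (inv_mul_eq_one.1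
        (fix_free hK hxK hx (W.mul_mem (W.inv_mem b.2) a.2) (mul_inv_eq_iff_eq_mul.1 h1))).symm
    obtain ⟨u, hu⟩ := Finite.injective_iff_surjective.1 hf ⟨w, hw⟩
    exact ⟨u, u.2, (congrArg Subtype.val hu).symm⟩
  have hcore : Cfsg.pCore 2 (↥H ⧸ C) = ⊥ := by
    haveI hn2 : (Cfsg.pCore 2 (↥H ⧸ C)).Normal := pCore_normal
    haveI hn3 : (Cfsg.pCore 3 (↥H ⧸ C)).Normal := pCore_normal
    have hdis : Disjoint (Cfsg.pCore 2 (↥H ⧸ C)) (Cfsg.pCore 3 (↥H ⧸ C)) :=
      IsPGroup.disjoint_of_ne 2 3 (by norm_num) _ _ pCore_isPGroup pCore_isPGroup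
    set R := ((Cfsg.pCore 2 (↥H ⧸ C)).comap π).map H.subtype
    have hRH : R ≤ H := Subgroup.map_subtype_le _
    have hRW : R ≤ centralizer (W : Set G) := by
      rintro _ ⟨r, hr, rfl⟩
      rw [SetLike.mem_coe, Subgroup.mem_comap] at hr
      have hc : r * ⟨x, hxH⟩ * r⁻¹ * (⟨x, hxH⟩ : H)⁻¹ ∈ C := by
        refine (QuotientGroup.eq_one_iff _).1 ?_
        show π (r * ⟨x, hxH⟩ * r⁻¹ * (⟨x, hxH⟩ : H)⁻¹) = 1
        simp only [map_mul, map_inv]
        rw [(Subgroup.commute_of_normal_of_disjoint _ _ hn2 hn3 hdis _ _ hr hx').eq]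
        group
      have hrW : ∀ w ∈ W, (r : G) * w * (r : G)⁻¹ ∈ W := by
        intro w hw
        obtain ⟨u, hu, rfl⟩ := hsurj w hw
        set u' := (r : G) * u * (r : G)⁻¹
        have hu' : u' ∈ V := conj_mem_of_nz (le_nz_conjClosure H W r.2) (hWV hu)
        set c := (r : G) * x * (r : G)⁻¹ * x⁻¹
        have hxu : x * u' * x⁻¹ ∈ V := conj_mem_of_nz (le_nz_conjClosure H W hxH) hu'
        have hcc : x * u' * x⁻¹ * c = c * (x * u' * x⁻¹) := congrArg Subtype.val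
          (Subgroup.mem_centralizer_iff.1 hc ⟨_, hVH hxu⟩ hxu)
        have e : (r : G) * (x * u * x⁻¹ * u⁻¹) * (r : G)⁻¹ = c * (x * u' * x⁻¹) * c⁻¹ * u'⁻¹ := by
          simp only [c, u']; group
        rw [e, ← hcc, mul_inv_cancel_right]
        exact comm_mem_W hK hKH hsn hxK hx (hVD hu')
      -- a 2-element modulo `C` commuting with `x` on `W` is trivial there
      obtain ⟨k, hk⟩ := pCore_isPGroup ⟨_, hr⟩
      have hrC : r ^ 2 ^ k ∈ C := (QuotientGroup.eq_one_iff _).1 (by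
        show π (r ^ 2 ^ k) = 1
        rw [map_pow]
        have := congrArg Subtype.val hk
        simpa using this)
      set n := 2 ^ k
      have hfixn : ∀ w ∈ W, Commute ((r : G) ^ n) w := fun w hw => by
        have h1 := congrArg Subtype.val (Subgroup.mem_centralizer_iff.1 hrC ⟨w, hVH (hWV hw)⟩ (hWV hw))
        simp only [Subgroup.coe_mul, SubgroupClass.coe_pow] at h1
        exact h1.symm
      have hcx : ∀ w ∈ W, (r : G) * (x * w * x⁻¹) * (r : G)⁻¹ = x * ((r : G) * w * (r : G)⁻¹) * x⁻¹ := by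
        intro w hw
        set u' := (r : G) * w * (r : G)⁻¹
        set c := (r : G) * x * (r : G)⁻¹ * x⁻¹
        have hxu : x * u' * x⁻¹ ∈ V := hWV (hnxW _ (hrW w hw))
        have hcc : x * u' * x⁻¹ * c = c * (x * u' * x⁻¹) := congrArg Subtype.val
          (Subgroup.mem_centralizer_iff.1 hc ⟨_, hVH hxu⟩ hxu)
        calc (r : G) * (x * w * x⁻¹) * (r : G)⁻¹ = c * (x * u' * x⁻¹) * c⁻¹ := by simp only [c, u']; group
          _ = _ := by rw [← hcc, mul_inv_cancel_right]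
      obtain ⟨w₀, hw₀, h0⟩ := (Subgroup.bot_or_exists_ne_one _).resolve_left (W_ne_bot hK)
      -- the action on the cycle `w₀, x w₀, x² w₀`
      obtain ⟨i, hi⟩ : ∃ i : ℕ, (r : G) * w₀ * (r : G)⁻¹ = x ^ i * w₀ * (x ^ i)⁻¹ := by
        set a := x * w₀ * x⁻¹
        set b := x * a * x⁻¹
        have ha : a ∈ W := hnxW w₀ hw₀
        have hb : b ∈ W := hnxW a ha
        have ha1 : a ≠ 1 := fun h => h0 (conj_eq_one_iff.1 h)
        have hb1 : b ≠ 1 := fun h => ha1 (conj_eq_one_iff.1 h)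
        have ha0 : a ≠ w₀ := fun h => h0 (fix_free hK hxK hx hw₀ (mul_inv_eq_iff_eq_mul.1 h))
        have hba : b ≠ a := fun h => ha1 (fix_free hK hxK hx ha (mul_inv_eq_iff_eq_mul.1 h))
        have hb0 : b ≠ w₀ := fun h => by
          have e : x * b * x⁻¹ = x ^ 3 * w₀ * (x ^ 3)⁻¹ := by
            simp only [b, a, pow_succ, pow_zero, one_mul]; group
          rw [hx3, inv_one, mul_one, one_mul, h] at e
          exact ha0 e
        have hsub : ({1, w₀, a, b} : Set G) ⊆ (W : Set G) := by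
          rintro _ (rfl | rfl | rfl | rfl)
          exacts [W.one_mem, hw₀, ha, hb]
        have hcard : ({1, w₀, a, b} : Set G).ncard = 4 := by
          rw [Set.ncard_insert_of_notMem, Set.ncard_insert_of_notMem, Set.ncard_pair]
          · exact hba.symm
          · simp [ha0.symm, hb0.symm]
          · simp [h0.symm, ha1.symm, hb1.symm]
        have he := Set.eq_of_subset_of_ncard_le hsub
          (by rw [hcard, ← Nat.card_coe_set_eq]; exact hK.2.2.2.2.1.le) (Set.toFinite _)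
        have : (r : G) * w₀ * (r : G)⁻¹ ∈ ({1, w₀, a, b} : Set G) := he.symm ▸ hrW w₀ hw₀
        rcases this with h | h | h | h
        · exact absurd (conj_eq_one_iff.1 h) h0
        · exact ⟨0, by simpa using h⟩
        · exact ⟨1, by simpa [a] using h⟩
        · exact ⟨2, by rw [h]; simp only [b, a, pow_two]; group⟩
      have hpowr : ∀ m : ℕ, (r : G) ^ m * w₀ * ((r : G) ^ m)⁻¹ = x ^ (i * m) * w₀ * (x ^ (i * m))⁻¹ := by
        have hci : ∀ j : ℕ, ∀ w ∈ W, (r : G) * (x ^ j * w * (x ^ j)⁻¹) * (r : G)⁻¹ =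
            x ^ j * ((r : G) * w * (r : G)⁻¹) * (x ^ j)⁻¹ := by
          intro j
          induction j with
          | zero => intro w _; simp
          | succ j ih =>
            intro w hw
            rw [show x ^ (j + 1) * w * (x ^ (j + 1))⁻¹ = x ^ j * (x * w * x⁻¹) * (x ^ j)⁻¹ by
              rw [pow_succ]; group, ih _ (hnxW w hw), hcx w hw, pow_succ]
            group
        intro m
        induction m with
        | zero => simp
        | succ m ih =>
          calc (r : G) ^ (m + 1) * w₀ * ((r : G) ^ (m + 1))⁻¹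
              = (r : G) * ((r : G) ^ m * w₀ * ((r : G) ^ m)⁻¹) * (r : G)⁻¹ := by rw [pow_succ']; group
            _ = _ := by rw [ih, hci _ w₀ hw₀, hi, Nat.mul_succ, pow_add]; group
      have h3i : 3 ∣ i := by
        by_contra h3
        have h := hpowr n
        rw [(hfixn w₀ hw₀).eq, mul_inv_cancel_right] at h
        have hc0 : Commute (x ^ (i * n)) w₀ := (mul_inv_eq_iff_eq_mul.1 h.symm)
        have hcop : (orderOf x).Coprime (i * n) := by
          rw [hx]
          exact Nat.Coprime.mul_right (((show Nat.Prime 3 by norm_num).coprime_iff_not_dvd).2 h3)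
            (Nat.Coprime.pow_right _ (by norm_num))
        obtain ⟨m, hm⟩ := exists_pow_eq_self_of_coprime hcop.symm
        exact h0 (fix_free hK hxK hx hw₀ (hm ▸ hc0.pow_left m))
      have hr0 : Commute (r : G) w₀ := by
        obtain ⟨m, rfl⟩ := h3i
        rw [pow_mul, hx3, one_pow, inv_one, mul_one, one_mul] at hi
        exact mul_inv_eq_iff_eq_mul.1 hi
      have hr1 : Commute (r : G) (x * w₀ * x⁻¹) := by
        have h := hcx w₀ hw₀
        rw [hr0.eq, mul_inv_cancel_right] at h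
        exact mul_inv_eq_iff_eq_mul.1 h
      exact Subgroup.le_centralizer_iff.1 (W_le_of_two' hK (Y := centralizer (zpowers (r : G) : Set G))
        hxK hx hw₀ h0
        (by rw [Subgroup.mem_centralizer_iff]; rintro _ ⟨m, rfl⟩; exact (hr0.zpow_left m).eq)
        (by rw [Subgroup.mem_centralizer_iff]; rintro _ ⟨m, rfl⟩; exact (hr1.zpow_left m).eq))
        (Subgroup.mem_zpowers _)
    have hnR : H ≤ normalizer (R : Set G) := by
      rw [le_nz_iff]
      rintro l hl _ ⟨d, hd, rfl⟩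
      exact ⟨⟨l, hl⟩ * d * ⟨l, hl⟩⁻¹, (hn2.comap π).conj_mem _ hd _, rfl⟩
    have hRV : R ≤ centralizer (V : Set G) := Subgroup.le_centralizer_iff.1
      (conjClosure_le (Subgroup.le_centralizer_iff.1 hRW) (le_nz_centralizer hnR))
    refine (Subgroup.eq_bot_iff_forall _).2 fun q hq => ?_
    obtain ⟨r, rfl⟩ := QuotientGroup.mk'_surjective C q
    exact (QuotientGroup.eq_one_iff r).2 (Subgroup.mem_centralizer_iff.2 fun v hv =>
      Subtype.ext (Subgroup.mem_centralizer_iff.1 (hRV ⟨r, hq, rfl⟩) v hv))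
  haveI := hsol
  have hWH : W ≤ H := hWV.trans hVH
  have key := JOddLayer.normalizes_plane V' hVe (HallHigman.isPSolvable_of_isSolvable 2) hcore
    (x := ⟨x, hxH⟩) (W := W.subgroupOf H) hx' (Subgroup.comap_mono hWV)
    (by rw [Nat.card_congr (Subgroup.subgroupOfEquivOfLe hWH).toEquiv]; exact hK.2.2.2.2.1)
    (fun w hw => hnxW w hw)
    (fun w hw hc => Subtype.ext (fix_free hK hxK hx hw (congrArg Subtype.val hc)))
    hcommV (subgroupOf_mem hA)
  intro a ha
  have h := key (show (⟨a, hA.2.1 ha⟩ : H) ∈ A.subgroupOf H from ha)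
  refine mem_nz_of_cj_le (cj_le_iff.2 fun w hw => ?_)
  exact Subgroup.mem_subgroupOf.1 (conj_mem_of_nz h (show (⟨w, hWH hw⟩ : H) ∈ W.subgroupOf H from hw))

end Cfsg.Agent.Lib.LocalChar.JComp
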