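import Cfsg.Agent.Lib.LocalChar.JTwo

/-! The group `KP` of a small edge is `S₄` or `S₄ × Z/2`. -/

set_option autoImplicit false
set_option linter.unusedSectionVars false
open scoped commutatorElement
open Subgroup (centralizer normalizer zpowers)

namespace Cfsg.Agent.Lib.LocalChar.JComp

variable {G : Type*} [Group G] [Finite G] {P K : Subgroup G}

local notation "𝐉" T:max => Cfsg.thompsonSubgroupOf 2 T

/-- A group of order 24 with a core-free subgroup of index 4 is `S₄`. -/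
theorem equiv_perm_four {X : Type*} [Group X] [Finite X] (H : Subgroup X) (hX : Nat.card X = 24)
    (hH : Nat.card H = 6) (hcore : H.normalCore = ⊥) : Nonempty (X ≃* Equiv.Perm (Fin 4)) := by
  have hidx : Nat.card (X ⧸ H) = 4 := by
    have := Subgroup.card_mul_index H
    rw [hH, hX, Subgroup.index_eq_card] at this
    omega
  let e : X ⧸ H ≃ Fin 4 := Finite.equivFinOfCardEq hidx
  let f : X →* Equiv.Perm (Fin 4) :=
    { toFun := fun x => e.permCongr (MulAction.toPermHom X (X ⧸ H) x)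
      map_one' := by ext; simp
      map_mul' := fun a b => by ext; simp [map_mul] }
  have hinj : Function.Injective f := fun a b h => by
    have h1 : MulAction.toPermHom X (X ⧸ H) a = MulAction.toPermHom X (X ⧸ H) b := e.permCongr.injective h
    have h2 : a⁻¹ * b ∈ (MulAction.toPermHom X (X ⧸ H)).ker := by
      rw [MonoidHom.mem_ker, map_mul, map_inv, h1, inv_mul_cancel]
    rw [← Subgroup.normalCore_eq_ker, hcore, Subgroup.mem_bot] at h2
    exact inv_mul_eq_one.1 h2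
  refine ⟨MulEquiv.ofBijective f (hinj.bijective_of_nat_card_le ?_)⟩
  rw [hX, Nat.card_perm, Nat.card_fin]
  rfl

namespace Adm

variable (h : Adm P K) (am : Amb G) (hs : Small P)
include h am hs

theorem exists_inverted : ∃ g t : G, g ∈ K ∧ orderOf g = 3 ∧ t ∈ P ∧
    t ∉ centralizer (Cfsg.wOf K : Set G) ∧ t * t = 1 ∧ t * g * t⁻¹ = g⁻¹ := by
  obtain ⟨t, htP, htc, ht2⟩ : ∃ t ∈ P, t ∉ centralizer (Cfsg.wOf K : Set G) ∧ t * t = 1 := by
    have hQ := h.core_eq am
    obtain ⟨A, B, hA, hB, hAe, hBe, hAc, hBc, hPc, hAB, hall⟩ := hs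
    by_contra hno
    push Not at hno
    have hle : ∀ X : Subgroup G, X ≤ P → Cfsg.IsElementaryAbelian 2 X →
        X ≤ Cfsg.pCoreOf 2 (lGrp K (zc P K)) := fun X hXP hX y hy => hQ.ge ⟨hXP hy, by
      by_contra hc
      exact hno y (hXP hy) hc (by rw [← pow_two]; exact hX.2 y hy)⟩
    have e1 : A = Cfsg.pCoreOf 2 (lGrp K (zc P K)) := by
      refine Subgroup.eq_of_le_of_card_ge (hle A hA hAe) ?_
      rw [h.Q_eq_Z am ⟨A, B, hA, hB, hAe, hBe, hAc, hBc, hPc, hAB, hall⟩, hAc]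
      have e2 := Coprime.card_sup_mul_card_inf_of_le_normalizer (A := zc P K) (N := Cfsg.wOf K)
        (fun q hq => centralizer_le_nz _ (Subgroup.mem_centralizer_iff.2 fun w hw =>
          ((mem_omegaCenter_iff.1 hq.1).2.1 w (W_le_J h.comp h.p2 hw)).eq))
      rw [zc_inf_W h.comp, Subgroup.card_bot, mul_one, h.comp.2.2.2.2.1] at e2
      have e3 := card_zJ h.comp h.p2
      omega
    have e2 : B ≤ zJ P := fun y hy => hAB ⟨e1.ge (hle B hB hBe hy), hy⟩
    have := Subgroup.card_le_of_le e2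
    have := Nat.card_pos (α := ↥(zJ P))
    omega
  obtain ⟨x, hxK, hx⟩ := exists_three h.comp
  have hti : t⁻¹ = t := inv_eq_of_mul_eq_one_right ht2
  set c := t * (x * t * x⁻¹)
  have hcK : c ∈ K := by
    have h1 : t * x * t⁻¹ ∈ K := conj_mem_of_nz (h.norm htP) hxK
    have := K.mul_mem h1 (K.inv_mem hxK)
    rw [hti] at this
    simpa [c, mul_assoc] using this
  have hinv : t * c * t⁻¹ = c⁻¹ := by
    simp only [c, mul_inv_rev, inv_inv, hti]
    calc t * (t * (x * t * x⁻¹)) * t = (t * t) * (x * t * x⁻¹) * t := by group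
      _ = x * t * x⁻¹ * t := by rw [ht2, one_mul]
      _ = x * (t * x⁻¹) * t := by group
      _ = _ := by group
  obtain ⟨a, g, ha, hg, hcag, ⟨ka, hka⟩, hgo⟩ := exists_ppart (p := 2) c
  have hgK : g ∈ K := Subgroup.zpowers_le.2 hcK hg
  have hg1 : g ≠ 1 := fun e => by
    rw [e, mul_one] at hcag
    have haQ : c ∈ centralizer (Cfsg.wOf K : Set G) := by
      have : c ∈ Cfsg.pCoreOf 2 K := two_el_mem_Q h.comp hcK ⟨ka, by rw [hcag, ← hka, pow_orderOf_eq_one]⟩
      exact Subgroup.mem_centralizer_iff.2 fun w hw => (Q_comm_W h.comp this hw).eq.symm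
    obtain ⟨r, hr, hr1, -, hrl⟩ := exists_gen_two (card_wl h.comp h.p2)
    have hn : x⁻¹ * r * x ∈ Cfsg.wOf K := by
      simpa using conj_mem_of_nz (H_le_nzW h.comp (Subgroup.mem_sup_left (K.inv_mem hxK))) hr.2
    have hnl : x⁻¹ * r * x ∉ wl P K := fun hl => by
      rcases hrl _ hl with e' | e'
      · refine hr1 ?_
        calc r = x * (x⁻¹ * r * x) * x⁻¹ := by group
          _ = 1 := by rw [e']; group
      · refine hr1 (fix_free h.comp hxK hx hr.2 ?_)
        show x * r = r * x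
        conv_lhs => rw [← e']
        group
    have hmv := h.moves htP htc hn hnl hr hr1
    have hr2 : Commute c r := (Subgroup.mem_centralizer_iff.1 haQ r hr.2).symm
    have htr : Commute t r := (Subgroup.mem_centralizer_iff.1 (h.cen htP) r hr.1).symm
    have h5 : t * (x⁻¹ * r * x) * t⁻¹ = x⁻¹ * r * x := by
      have h6 : c⁻¹ * r * c = r := by rw [mul_assoc, ← hr2.eq, inv_mul_cancel_left]
      have h7 : t⁻¹ * r * t = r := by rw [mul_assoc, ← htr.eq, inv_mul_cancel_left]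
      have h8 : x * t⁻¹ * x⁻¹ * (t⁻¹ * r * t) * x * t * x⁻¹ = r := by
        calc x * t⁻¹ * x⁻¹ * (t⁻¹ * r * t) * x * t * x⁻¹ = c⁻¹ * r * c := by simp only [c]; group
          _ = r := h6
      rw [h7] at h8
      calc t * (x⁻¹ * r * x) * t⁻¹ = x⁻¹ * (x * t⁻¹ * x⁻¹ * r * x * t * x⁻¹) * x := by rw [hti]; group
        _ = _ := by rw [h8]
    exact hr1 (mul_eq_right.1 (hmv.symm.trans h5))
  refine ⟨g, t, hgK, odd_order_three h.comp hgK (Nat.coprime_two_right.1 hgo) hg1, htP, htc, ht2, ?_⟩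
  obtain ⟨k, hk⟩ := Subgroup.mem_zpowers_iff.1 hg
  rw [← hk, ← conj_zpow, hinv, inv_zpow]

theorem equiv_join : (Nat.card ↥(zc P K) = 1 ∧ Nonempty (↥(K ⊔ P) ≃* Equiv.Perm (Fin 4))) ∨
    (Nat.card ↥(zc P K) = 2 ∧
      Nonempty (↥(K ⊔ P) ≃* Equiv.Perm (Fin 4) × Multiplicative (ZMod 2))) := by
  obtain ⟨g, t, hgK, hg, htP, htc, ht2, htg⟩ := h.exists_inverted am hs
  set W := Cfsg.wOf K
  set H := zpowers t ⊔ zpowers g
  have hti : t⁻¹ = t := inv_eq_of_mul_eq_one_right ht2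
  have ht1 : t ≠ 1 := fun e => htc (e ▸ Subgroup.one_mem _)
  have hnt : zpowers t ≤ normalizer (zpowers g : Set G) := by
    rw [Subgroup.zpowers_le]
    refine mem_nz_of_cj_le ?_
    show Subgroup.map (MulAut.conj t).toMonoidHom (zpowers g) ≤ zpowers g
    rw [MonoidHom.map_zpowers, Subgroup.zpowers_le]
    show t * g * t⁻¹ ∈ zpowers g
    rw [htg]
    exact Subgroup.inv_mem _ (Subgroup.mem_zpowers g)
  have hnotP : ∀ {y : G}, y ∈ zpowers g → y ∈ P → y = 1 := fun {y} hy hyP => by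
    refine eq_one_of_isPGroup_of_coprime h.p2 hyP ?_
    exact Nat.Coprime.coprime_dvd_left (orderOf_dvd_of_mem_zpowers hy) (by rw [hg]; norm_num)
  have htpow : ∀ {s : G}, s ∈ zpowers t → s = 1 ∨ s = t := fun {s} hs' => by
    have hc : Nat.card ↥(zpowers t) = 2 := by
      rw [Nat.card_zpowers]; exact orderOf_eq_prime (by rw [pow_two, ht2]) ht1
    exact (em (s = 1)).imp id fun hs1 => eq_of_card_two hc hs' hs1 (Subgroup.mem_zpowers t) ht1
  have hfaith : ∀ y ∈ H, y ∈ centralizer (W : Set G) → y = 1 := fun y hy hyc => by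
    obtain ⟨s, hs', q, hq, rfl⟩ := (mem_sup_iff_of_nz hnt).1 hy
    have hyP : s * q ∈ P := h.core_le_P am ((h.centW_eq am hs).le hyc)
    have hsP : s ∈ P := Subgroup.zpowers_le.2 htP hs'
    have hq1 : q = 1 := hnotP hq (by simpa using P.mul_mem (P.inv_mem hsP) hyP)
    rw [hq1, mul_one] at hyc ⊢
    exact (htpow hs').resolve_right fun e => htc (e ▸ hyc)
  have hHW : H ⊓ W = ⊥ := (Subgroup.eq_bot_iff_forall _).2 fun y hy => hfaith y hy.1
    (Subgroup.mem_centralizer_iff.2 fun u hu => (W_comm h.comp hu hy.2).eq)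
  have hHc : Nat.card H = 6 := by
    have e := Coprime.card_sup_mul_card_inf_of_le_normalizer hnt
    have hb : zpowers t ⊓ zpowers g = ⊥ := (Subgroup.eq_bot_iff_forall _).2 fun y hy =>
      hnotP hy.2 (Subgroup.zpowers_le.2 htP hy.1)
    rw [hb, Subgroup.card_bot, mul_one, Nat.card_zpowers, Nat.card_zpowers, hg,
      orderOf_eq_prime (by rw [pow_two, ht2]) ht1] at e
    exact e
  have hHL : H ≤ lGrp K (zc P K) :=
    sup_le (Subgroup.zpowers_le.2 (h.P_le_L htP)) (Subgroup.zpowers_le.2 (h.K_le_L hgK))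
  set X := H ⊔ W
  have hXc : Nat.card X = 24 := by
    have e := Coprime.card_sup_mul_card_inf_of_le_normalizer (hHL.trans h.L_le_nzW)
    rw [hHW, Subgroup.card_bot, mul_one, hHc, h.comp.2.2.2.2.1] at e
    exact e
  have hXP : X ≤ K ⊔ P := sup_le (sup_le (Subgroup.zpowers_le.2 (Subgroup.mem_sup_right htP))
    (Subgroup.zpowers_le.2 (Subgroup.mem_sup_left hgK))) (h.W_le_P.trans le_sup_right)
  have hcore : (H.subgroupOf X).normalCore = ⊥ := (Subgroup.eq_bot_iff_forall _).2 fun n hn => by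
    have hnH : (n : G) ∈ H := Subgroup.mem_subgroupOf.1 (Subgroup.normalCore_le _ hn)
    refine Subtype.ext (hfaith _ hnH (Subgroup.mem_centralizer_iff.2 fun w hw => ?_))
    have h1 : (⟨w, Subgroup.mem_sup_right hw⟩ : X) * n * (⟨w, Subgroup.mem_sup_right hw⟩ : X)⁻¹ ∈
        H.subgroupOf X := hn _
    have h2 : w * n * w⁻¹ ∈ H := Subgroup.mem_subgroupOf.1 h1
    have h3 : w * (n : G) * w⁻¹ * (n : G)⁻¹ ∈ W := by
      have := W.mul_mem hw (conj_mem_of_nz ((hHL.trans h.L_le_nzW) hnH) (W.inv_mem hw))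
      simpa [mul_assoc] using this
    have h4 : w * (n : G) * w⁻¹ * (n : G)⁻¹ ∈ H ⊓ W := ⟨H.mul_mem h2 (H.inv_mem hnH), h3⟩
    rw [hHW, Subgroup.mem_bot] at h4
    exact mul_inv_eq_iff_eq_mul.1 (mul_inv_eq_one.1 h4)
  obtain ⟨eX⟩ := equiv_perm_four (H.subgroupOf X) hXc
    (by rw [Nat.card_congr (Subgroup.subgroupOfEquivOfLe (le_sup_left : H ≤ X)).toEquiv, hHc]) hcore
  have hcard : Nat.card ↥(K ⊔ P) = 24 * Nat.card ↥(zc P K) := by
    obtain ⟨A, B, -, -, -, -, -, -, hPc, -, -⟩ := hs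
    rw [h.card_join am, hPc, card_zJ h.comp h.p2]
    ring
  rcases (show Nat.card ↥(zc P K) = 1 ∨ Nat.card ↥(zc P K) = 2 by
    have := h.four
    have := card_zJ h.comp h.p2
    have := Nat.card_pos (α := ↥(zc P K))
    omega) with h1 | h2
  · refine Or.inl ⟨h1, ⟨(MulEquiv.subgroupCongr (Subgroup.eq_of_le_of_card_ge hXP ?_).symm).trans eX⟩⟩
    rw [hcard, h1, hXc]
  refine Or.inr ⟨h2, ?_⟩
  have hXL : X ≤ lGrp K (zc P K) := sup_le hHL (h.W_le_P.trans h.P_le_L)
  have hcomm : ∀ (a : X) (b : zc P K), Commute (X.subtype a) ((zc P K).subtype b) := fun a b =>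
    (Subgroup.mem_centralizer_iff.1 (hXL a.2).2 b b.2).symm
  let φ : X × zc P K →* ↥(K ⊔ P) := (MonoidHom.noncommCoprod X.subtype (zc P K).subtype hcomm).codRestrict _
    fun p => Subgroup.mul_mem _ (hXP p.1.2) (Subgroup.mem_sup_right (h.zJ_le_P p.2.2.1))
  have hinj : Function.Injective φ := by
    rw [injective_iff_map_eq_one]
    rintro ⟨a, b⟩ hab
    have e : (a : G) * b = 1 := congrArg Subtype.val hab
    have hbX : (b : G) ∈ X := by
      rw [eq_inv_of_mul_eq_one_right e]; exact X.inv_mem a.2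
    obtain ⟨y, hy, w, hw, e'⟩ := (mem_sup_iff_of_nz (hHL.trans h.L_le_nzW)).1 hbX
    have hbc : (b : G) ∈ centralizer (W : Set G) := Subgroup.mem_centralizer_iff.2 fun u hu =>
      ((mem_omegaCenter_iff.1 b.2.1).2.1 u (W_le_J h.comp h.p2 hu)).eq
    have hy1 : y = 1 := hfaith y hy (by
      rw [show y = (b : G) * w⁻¹ by rw [e']; group]
      exact Subgroup.mul_mem _ hbc (Subgroup.inv_mem _
        (Subgroup.mem_centralizer_iff.2 fun u hu => (W_comm h.comp hu hw).eq)))
    rw [hy1, one_mul] at e'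
    have hb1 : (b : G) = 1 := Subgroup.mem_bot.1 ((zc_inf_W h.comp).le ⟨b.2, e' ▸ hw⟩)
    rw [hb1, mul_one] at e
    exact Prod.ext (Subtype.ext e) (Subtype.ext hb1)
  have hbij : Function.Bijective φ := hinj.bijective_of_nat_card_le (by
    rw [Nat.card_prod, hXc, hcard])
  haveI : Fact (Nat.Prime 2) := ⟨Nat.prime_two⟩
  have hz : Nat.card (Multiplicative (ZMod 2)) = 2 := by simp
  exact ⟨(MulEquiv.ofBijective φ hbij).symm.trans
    (MulEquiv.prodCongr eX (mulEquivOfPrimeCardEq h2 hz))⟩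

end Adm

end Cfsg.Agent.Lib.LocalChar.JComp
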