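import Cfsg.Agent.Lib.LocalChar.JCenter

/-! Two components not normalising each other, for a maximal straddling group. -/

set_option autoImplicit false
set_option linter.unusedSectionVars false
open scoped commutatorElement
open Subgroup (centralizer normalizer zpowers)

namespace Cfsg.Agent.Lib.LocalChar.JComp

variable {G : Type*} [Group G] [Finite G] {M T K : Subgroup G}

local notation "𝐉" T:max => Cfsg.thompsonSubgroupOf 2 T

/-- If `K` has a partner, a component not normalising it is single and gives a short edge. -/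
theorem small_of_partnered (am : Amb G) (S : Sylow 2 G) {K K' X : Subgroup G}
    (hp : Partner (S : Subgroup G) K K') (hne : K' ≠ K)
    (hK : (S : Subgroup G) ≤ normalizer (K : Set G))
    (hX : Cfsg.IsJComponent (S : Subgroup G) X) (hnX : (S : Subgroup G) ≤ normalizer (X : Set G))
    (hXK : ¬ X ≤ normalizer (K : Set G)) : Small (S : Subgroup G) := by
  have hS2 := S.isPGroup'
  have hgK := good_of_sylow am S hp.good.1
  have hgX := good_of_sylow am S hX
  have h4 := Good.card_zJ_le am hS2 hgK hX hXK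
  have haK := adm_sylow am S hp.good.1 hK h4
  have haX := adm_sylow am S hX hnX h4
  obtain ⟨hz, hw⟩ := hp.lines.resolve_left hne
  have hzne : zc (S : Subgroup G) K ≠ zc (S : Subgroup G) K' := fun e => wl_ne_bot hp.good.1 hS2 (by
    rw [← hz, ← e]
    exact le_bot_iff.1 ((le_inf le_rfl ((e.trans hz).le.trans inf_le_right)).trans (zc_inf_W hp.good.1).le))
  have hK'S : (S : Subgroup G) ≤ normalizer (K' : Set G) := fun s hs => by
    have hsJ : s ∈ normalizer (𝐉 (S : Subgroup G) : Set G) :=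
      Subgroup.le_normalizer.trans (nz_le_nz_thompson _) hs
    refine mem_nz_of_cj_eq (Good.eq_of_zc am hS2 hp.good' (hp.good'.nzJ_conj hsJ).1
      (by rw [hz]; exact wl_ne_bot hp.good.1 hS2) ?_).symm
    rw [zc_nzJ hsJ, hz, ← wl_nzJ hsJ, cj_eq_of_mem_nz (hK hs)]
  have hc2 : Nat.card ↥(zc (S : Subgroup G) K) = 2 := by rw [← hw, card_wl hp.good'.1 hS2]
  have hz4 : Nat.card ↥(zJ (S : Subgroup G)) = 4 := by rw [card_zJ hp.good.1 hS2, hc2]
  have hc2' : ∀ Y : Subgroup G, Cfsg.IsJComponent (S : Subgroup G) Y →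
      Nat.card ↥(zc (S : Subgroup G) Y) = 2 := fun Y hY => by
    have := card_zJ hY hS2
    omega
  have hXK' : ¬ X ≤ normalizer (K' : Set G) := fun hle => by
    by_cases h : X = K'
    · exact hXK (h ▸ hp.nz')
    obtain ⟨l, -⟩ := Good.nz_line am hS2 hp.good' hX (Ne.symm h) hle
    obtain ⟨-, l'⟩ := Good.nz_line am hS2 hp.good' hX (Ne.symm h) hle
    refine hXK ((Good.eq_of_zc am hS2 hgK hX (by rw [← hw]; exact wl_ne_bot hp.good'.1 hS2) ?_).ge.trans
      Subgroup.le_normalizer)
    rw [← hw]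
    exact (Subgroup.eq_of_le_of_card_ge l' (by rw [hc2' X hX, card_wl hp.good'.1 hS2])).symm
  -- `X` is single
  have hsX : Single (S : Subgroup G) X := by
    intro Y hY hle
    by_contra hYX
    obtain ⟨-, hzY, -⟩ := haX.partner_eq am hY hle hYX
    have hcase : ∀ H : Subgroup G, Nat.card H = 2 → H ≤ zJ (S : Subgroup G) →
        H ≠ zc (S : Subgroup G) K → H ≠ zc (S : Subgroup G) K' →
        ∀ H' : Subgroup G, Nat.card H' = 2 → H' ≤ zJ (S : Subgroup G) →
        H' ≠ zc (S : Subgroup G) K → H' ≠ zc (S : Subgroup G) K' → H = H' := by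
      intro H hH hHz h1 h2 H' hH' hH'z h1' h2'
      obtain ⟨a, ha, ha1, -, hal⟩ := exists_gen_two (card_wl hp.good.1 hS2)
      obtain ⟨b, hb, hb1, -, hbl⟩ := exists_gen_two hc2
      have hthird : ∀ H : Subgroup G, Nat.card H = 2 → H ≤ zJ (S : Subgroup G) →
          H ≠ zc (S : Subgroup G) K → H ≠ zc (S : Subgroup G) K' → b * a ∈ H := by
        intro H hH hHz h1 h2
        obtain ⟨d, hd, hd1, -, -⟩ := exists_gen_two hH
        obtain ⟨q, hq, r, hr, e⟩ := zJ_mem hp.good.1 hS2 (hHz hd)
        rcases hbl q hq with rfl | rfl <;> rcases hal r hr with rfl | rfl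
        · exact absurd (e.trans (one_mul 1)) hd1
        · rw [one_mul] at e
          exact absurd (eq_of_two_two hH (by rw [hz]; exact card_wl hp.good.1 hS2) hd (hz ▸ e ▸ hr) hd1) h2
        · rw [mul_one] at e
          exact absurd (eq_of_two_two hH hc2 hd (e ▸ hq) hd1) h1
        · exact e ▸ hd
      refine eq_of_two_two hH hH' (hthird H hH hHz h1 h2) (hthird H' hH' hH'z h1' h2') fun e => ?_
      exact ha1 (Subgroup.mem_bot.1 ((zc_inf_W hp.good.1).le
        ⟨by rw [eq_inv_of_mul_eq_one_right e]; exact Subgroup.inv_mem _ hb, ha.2⟩))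
    have hX1 : zc (S : Subgroup G) X ≠ zc (S : Subgroup G) K := fun e => hXK
      ((Good.eq_of_zc am hS2 hgK hX (fun h => by rw [h, Subgroup.card_bot] at hc2; omega) e).ge.trans
        Subgroup.le_normalizer)
    have hX2 : zc (S : Subgroup G) X ≠ zc (S : Subgroup G) K' := fun e => hXK'
      ((Good.eq_of_zc am hS2 hp.good' hX (by rw [hz]; exact wl_ne_bot hp.good.1 hS2) e).ge.trans
        Subgroup.le_normalizer)
    have hY1 : zc (S : Subgroup G) Y ≠ zc (S : Subgroup G) K := fun e => by
      have := Good.eq_of_zc am hS2 hgK hY (fun h => by rw [h, Subgroup.card_bot] at hc2; omega) e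
      exact hXK (Good.mutual am hS2 hgX hp.good.1 (this ▸ hle))
    have hY2 : zc (S : Subgroup G) Y ≠ zc (S : Subgroup G) K' := fun e => by
      have := Good.eq_of_zc am hS2 hp.good' hY (by rw [hz]; exact wl_ne_bot hp.good.1 hS2) e
      exact hXK' (Good.mutual am hS2 hgX hp.good'.1 (this ▸ hle))
    have heq := hcase _ (hc2' X hX) inf_le_left hX1 hX2 _ (hc2' Y hY) inf_le_left hY1 hY2
    exact wl_ne_bot hX hS2 (le_bot_iff.1
      ((le_inf ((hzY.symm.trans heq.symm).le) inf_le_right).trans (zc_inf_W hX).le))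
  by_cases hcase : wl (S : Subgroup G) X = zc (S : Subgroup G) K
  · exact small_sylow am S hp.good'.1 hK'S hX hnX hXK' (fun e => absurd (hcase.symm.trans e) hzne)
      (fun _ => hsX)
  · exact small_sylow am S hp.good.1 hK hX hnX hXK (fun e => absurd e hcase) (fun _ => hsX)

/-- Two admissible components not normalising each other, on a small edge. -/
theorem exists_two (am : Amb G) (hO : Cfsg.pCore 2 G = ⊥) (S : Sylow 2 G)
    (hMJ : normalizer (𝐉 (S : Subgroup G) : Set G) ≤ M) (hT : T ∈ Cfsg.maxStraddlingTwoSubgroups M) :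
    ∃ K₁ K₂ : Subgroup G, Adm T K₁ ∧ Adm T K₂ ∧ Small T ∧ ¬ K₂ ≤ normalizer (K₁ : Set G) := by
  obtain ⟨K, hK⟩ := exists_outside S hMJ hT am
  obtain ⟨S', hTS, hS'M⟩ := exists_sylow_le S hMJ hT
  by_cases hne : T = (S' : Subgroup G)
  swap
  · obtain ⟨u, h⟩ := exists_NS am S hMJ hT hK hTS hS'M hne
    refine ⟨K, cj u K, h.adm, ?_, h.small, h.not_nz⟩
    have := h.adm.conj_apply u
    rwa [cj_eq_of_mem_nz h.hun] at this
  subst hne
  have ha := outside_adm am hO S hMJ hT hK
  obtain ⟨K', hp⟩ := exists_partner am ha (Or.inr fun X hX => good_of_sylow am S' hX)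
  set N := normalizer ((Cfsg.wOf K ⊔ Cfsg.wOf K' : Subgroup G) : Set G)
  have hS2 := S'.isPGroup'
  have hTN : (S' : Subgroup G) ≤ N := hp.T_le am hS2 ha.norm
  have hin : ∀ X, (X = K ∨ X = K') → X ≤ N := fun X hX => by
    rcases hX with rfl | rfl
    · exact le_sup_left.trans hp.K_le
    · exact le_nz_sup (hp.nz'.trans (nzK_le_nzW hp.good.1)) (le_sup_left.trans (H_le_nzW hp.good'.1))
  obtain ⟨X, hX, hnX, hXK⟩ : ∃ X, Cfsg.IsJComponent (S' : Subgroup G) X ∧
      (S' : Subgroup G) ≤ normalizer (X : Set G) ∧ ¬ X ≤ normalizer (K : Set G) := by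
    by_cases hJ : normalizer (𝐉 (S' : Subgroup G) : Set G) ≤ N
    · obtain ⟨L, hL, hSL, hLN⟩ : ∃ L, Cfsg.IsTwoLocal L ∧ (S' : Subgroup G) ≤ L ∧ ¬ L ≤ N := by
        by_contra hno
        push Not at hno
        exact full_A am hO S' (hp.local_V hS2) hJ hK.1.1 (le_sup_left.trans hp.K_le) ha.norm hno
      have hov := (local_cases am S' hL hSL).resolve_left fun h => hLN (h.trans hJ)
      obtain ⟨X, hX, hXL, hXN⟩ : ∃ X, Cfsg.IsJComponent (S' : Subgroup G) X ∧ X ≤ L ∧ ¬ X ≤ N := by
        by_contra hno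
        push Not at hno
        exact hLN (le_of_components am hov hJ hno)
      exact ⟨X, hX, sylow_comp_norm am S' ha.cen hov hX hXL, fun h => hXN (hin X (hp.only X hX h))⟩
    · obtain ⟨n, hn, hnN⟩ := SetLike.not_le_iff_exists.1 hJ
      refine ⟨cj n K, (hp.good.nzJ_conj hn).1, ?_,
        fun h => hnN (hp.perm am hS2 hn (hp.only _ (hp.good.nzJ_conj hn).1 h))⟩
      have := (ha.conj_apply n).norm
      rwa [cj_eq_of_mem_nz (nzJ_le_nzS am S' ha.cen hn)] at this
  refine ⟨K, X, ha, adm_sylow am S' hX hnX ha.four, ?_, hXK⟩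
  by_cases h1 : Single (S' : Subgroup G) K
  · obtain ⟨X', hq⟩ := exists_partner am (adm_sylow am S' hX hnX ha.four)
      (Or.inr fun Y hY => good_of_sylow am S' hY)
    by_cases h2 : X' = X
    · subst h2
      exact small_sylow am S' hp.good.1 ha.norm hX hnX hXK (fun _ => h1)
        (fun _ Y hY hle => (hq.only Y hY hle).elim id id)
    · exact small_of_partnered am S' hq h2 hnX hp.good.1 ha.norm
        (fun h => hXK (Good.mutual am hS2 (good_of_sylow am S' hX) hp.good.1 h))
  · refine small_of_partnered am S' hp (fun e => h1 fun Y hY hle => ?_) ha.norm hX hnX hXK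
    subst e
    exact (hp.only Y hY hle).elim id id

end Cfsg.Agent.Lib.LocalChar.JComp
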