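import Cfsg.Agent.Lib.LocalChar.JOvergroup

/-! Conjugates of `J(T)`-components with meeting planes. -/

set_option autoImplicit false
set_option linter.unusedSectionVars false
open scoped commutatorElement
open Subgroup (centralizer normalizer zpowers)

namespace Cfsg.Agent.Lib.LocalChar.JComp

variable {G : Type*} [Group G] [Finite G] {T L K : Subgroup G}

local notation "𝐉" T:max => Cfsg.thompsonSubgroupOf 2 T

variable (am : Amb G) (hLT : L ∈ Cfsg.jOvergroups T) (hK : Cfsg.IsJComponent T K) (hKL : K ≤ L)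
include am hLT hK hKL

/-- The components are subnormal. -/
theorem subnormal_comp : (K.subgroupOf L).IsSubnormal := by
  obtain ⟨M, hML, hLM, -, hab, -, hodd⟩ := exists_layer am hLT
  have hKM := K_le_layer am hLT hK hKL hodd
  refine Subgroup.IsSubnormal.step _ (M.subgroupOf L) (Subgroup.comap_mono hKM) ?_ ?_
  · haveI : (M.subgroupOf L).Normal := normal_subgroupOf hLM
    exact Subgroup.IsSubnormal.step _ ⊤ le_top Subgroup.IsSubnormal.top inferInstance
  · refine normal_subgroupOf (fun g hg => mem_nz_of_cj_le (cj_le_iff.2 fun k hk => ?_))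
    exact Subgroup.mem_subgroupOf.2 (conj_mem_of_nz
      (layer_le_nzK am hLT hK hKL hML hab hodd (Subgroup.mem_subgroupOf.1 hg)) (Subgroup.mem_subgroupOf.1 hk))

/-- A conjugate of `K` in `L` whose plane meets `W` lies in `C_L(V)K`. -/
theorem conj_le_sup {g d : G} (hg : g ∈ L) (hd : d ∈ Cfsg.wOf K) (hd1 : d ≠ 1)
    (hd' : g⁻¹ * d * g ∈ Cfsg.wOf K) : cj g K ≤ cOf L ⊔ K := by
  set W := Cfsg.wOf K
  obtain ⟨M, hML, hLM, -, hab, -, hodd⟩ := exists_layer am hLT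
  have hKM := K_le_layer am hLT hK hKL hodd
  obtain ⟨x, hxK, hx⟩ := exists_three hK
  set y := g * x * g⁻¹
  have hyM : y ∈ M := conj_mem_of_nz (hLM hg) (hKM hxK)
  have hyL : y ∈ L := hML hyM
  have hyW : y * d * y⁻¹ ∈ W := by
    obtain ⟨i, hi⟩ := exists_pow_fix am hLT hK hKL hxK hx hyL (hab y hyM x (hKM hxK))
    have e : y * d * y⁻¹ = x ^ i * (((x ^ i)⁻¹ * y) * d * ((x ^ i)⁻¹ * y)⁻¹) * (x ^ i)⁻¹ := by group
    rw [e, (hi d hd).eq, mul_inv_cancel_right]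
    exact conj_mem_of_nz (H_le_nzW hK (Subgroup.mem_sup_left (K.pow_mem hxK i))) hd
  -- the conjugate plane is `W`
  have hWc : ∀ w ∈ W, g * w * g⁻¹ ∈ W := by
    have hd1' : g⁻¹ * d * g ≠ 1 := fun h => hd1 (by
      calc d = g * (g⁻¹ * d * g) * g⁻¹ := by group
        _ = 1 := by rw [h]; group)
    have h1 : W ≤ cj g⁻¹ W := W_le_of_two am hLT hK hKL hxK hx hd' hd1'
      (by rw [mem_cj]; simpa [mul_assoc] using hd)
      (by
        rw [mem_cj]
        convert hyW using 1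
        simp only [y]; group)
    intro w hw
    have := h1 hw
    rwa [mem_cj, inv_inv] at this
  obtain ⟨i, hi⟩ := exists_pow_fix am hLT hK hKL hxK hx hyL (hab y hyM x (hKM hxK))
  set u := (x ^ i)⁻¹ * y
  have huC : u ∈ cOf L := by
    refine ⟨L.mul_mem (L.inv_mem (L.pow_mem (hKL hxK) i)) hyL, Subgroup.mem_centralizer_iff.2 fun v hv => ?_⟩
    obtain ⟨v₁, hv₁, d₀, -, e, hc, v', hv', rfl⟩ := V_split am hLT hK hKL hxK hx hv
    have hdW := comm_V_le_W am hLT hK hKL hxK hx hv'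
    -- `y` fixes the vectors fixed by `x`
    have hv₁' : y * v₁ * y⁻¹ ∈ vOf L := conj_mem_of_nz (L_le_nzV L hyL) hv₁
    have hs : y * v₁ * y⁻¹ * v₁⁻¹ ∈ W := by
      have hw : g⁻¹ * v₁ * g ∈ vOf L := by simpa using conj_mem_of_nz (L_le_nzV L (L.inv_mem hg)) hv₁
      have := hWc _ (comm_V_le_W am hLT hK hKL hxK hx hw)
      convert this using 1
      simp only [y]; group
    have hxy : Commute x (y * v₁ * y⁻¹) := by
      have hc' : x * y * x⁻¹ * y⁻¹ ∈ cOf L := hab x (hKM hxK) y hyM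
      have h2 : Commute (x * y * x⁻¹ * y⁻¹) (y * v₁ * y⁻¹) :=
        (Subgroup.mem_centralizer_iff.1 hc'.2 _ hv₁').symm
      show x * (y * v₁ * y⁻¹) = y * v₁ * y⁻¹ * x
      calc x * (y * v₁ * y⁻¹) = (x * y * x⁻¹ * y⁻¹) * (y * (x * v₁ * x⁻¹) * y⁻¹) *
            (x * y * x⁻¹ * y⁻¹)⁻¹ * x := by group
        _ = _ := by rw [hc.eq, mul_inv_cancel_right, h2.eq, mul_inv_cancel_right]
    have hy1 : Commute y v₁ :=
      mul_inv_eq_iff_eq_mul.1 (mul_inv_eq_one.1 (fix_free hK hxK hx hs (hxy.mul_right hc.inv_right)))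
    rw [e]
    exact (((hc.pow_left i).inv_left.mul_left hy1).mul_right (hi _ hdW)).eq.symm
  have hy2 : y ∈ cOf L ⊔ K := by
    rw [show y = x ^ i * u by simp only [u]; group]
    exact Subgroup.mul_mem _ (Subgroup.mem_sup_right (K.pow_mem hxK i)) (Subgroup.mem_sup_left huC)
  rintro _ ⟨k, hk, rfl⟩
  obtain ⟨n, q, hq, rfl⟩ := mem_K hK hxK hx hk
  show g * (x ^ n * q) * g⁻¹ ∈ cOf L ⊔ K
  rw [show g * (x ^ n * q) * g⁻¹ = y ^ n * (g * q * g⁻¹) by rw [conj_pow]; group]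
  exact Subgroup.mul_mem _ (Subgroup.pow_mem _ hy2 n) (Subgroup.mem_sup_left
    (core_le_cOf L (conj_mem_of_nz (le_nz_pCoreOf L hg) (Q_le_core am hLT hK hKL hq))))

/-- The elements of `J(L)` centralise `C_L(V)` modulo `O₂(L)`. -/
theorem JL_le_relCent : 𝐉 L ≤ relCent L (cOf L) (Cfsg.pCoreOf 2 L) (L_le_nzC L) (le_nz_pCoreOf L) := by
  set R := relCent L (cOf L) (Cfsg.pCoreOf 2 L) (L_le_nzC L) (le_nz_pCoreOf L)
  rw [thompsonOf_eq]
  refine sSup_le fun A hA a ha => ?_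
  obtain ⟨l, hl, hle⟩ := (hTsyl am hLT).conj_le (Thompson.isPGroup_of_elementary hA.1) hA.2.1
  have h1 : l * a * l⁻¹ ∈ T := hle (conj_mem_cj ha)
  have h2 : l * a * l⁻¹ ∈ R := ⟨(hTsyl am hLT).1 h1, fun c hc => by
    have := (Cfsg.pCoreOf 2 L).inv_mem (comm_cOf_T am hLT hc h1)
    convert this using 1
    group⟩
  have := conj_mem_of_nz (relCent_le_nz L _ _ (L_le_nzC L) (le_nz_pCoreOf L) (L.inv_mem hl)) h2
  simpa [mul_assoc] using this

/-- `K` is characterised inside `C_L(V)K`. -/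
theorem conj_le {g : G} (hg : g ∈ L) (h : cj g K ≤ cOf L ⊔ K)
    (hJ : cj g (𝐉 T) ≤ normalizer (K : Set G)) : g ∈ normalizer (K : Set G) := by
  refine mem_nz_of_cj_le (le_K_of_le_sup am hLT hK hKL (closure_odd_cj hK.1 g) fun y hy _ => ?_)
  have hcomm : cj g K ≤ Cfsg.pCoreOf 2 L ⊔ K := by
    conv_lhs => rw [← hK.2.1, cj_commutator]
    refine Subgroup.commutator_le.2 fun k hk j hj => ?_
    have hjL : j ∈ 𝐉 L := by
      obtain ⟨j', hj', rfl⟩ := hj
      exact conj_mem_of_nz ((Subgroup.le_normalizer.trans (nz_le_nz_thompson L)) hg) (J_le_JL am hLT hj')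
    obtain ⟨c, hc, k', hk', rfl⟩ := (mem_sup_iff_of_nz (cOf_le_nzK am hLT hK hKL)).1 (h hk)
    have h1 : j * c * j⁻¹ * c⁻¹ ∈ Cfsg.pCoreOf 2 L := (JL_le_relCent am hLT hK hKL hjL).2 c hc
    have h2 : k' * j * k'⁻¹ * j⁻¹ ∈ K := by
      have := K.mul_mem hk' (conj_mem_of_nz (hJ hj) (K.inv_mem hk'))
      simpa [mul_assoc] using this
    have h2' : c * (k' * j * k'⁻¹ * j⁻¹) * c⁻¹ ∈ K := conj_mem_of_nz (cOf_le_nzK am hLT hK hKL hc) h2
    have e : ⁅c * k', j⁆ = (c * (k' * j * k'⁻¹ * j⁻¹) * c⁻¹) * (j * c * j⁻¹ * c⁻¹)⁻¹ := by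
      rw [commutatorElement_def]; group
    rw [e]
    exact Subgroup.mul_mem _ (Subgroup.mem_sup_right h2') (Subgroup.mem_sup_left (Subgroup.inv_mem _ h1))
  exact hcomm hy

/-- An element of `L` normalising `J(T)` whose plane meets `W` normalises `K`. -/
theorem mem_nzK {g d : G} (hg : g ∈ L) (hgJ : g ∈ normalizer (𝐉 T : Set G)) (hd : d ∈ Cfsg.wOf K)
    (hd1 : d ≠ 1) (hd' : g⁻¹ * d * g ∈ Cfsg.wOf K) : g ∈ normalizer (K : Set G) :=
  conj_le am hLT hK hKL hg (conj_le_sup am hLT hK hKL hg hd hd1 hd')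
    (by rw [cj_eq_of_mem_nz hgJ]; exact J_le_nzK hK)

/-- If `T` normalises `K` then so does `J(L)`. -/
theorem JL_le_nzK (hTK : T ≤ normalizer (K : Set G)) : 𝐉 L ≤ normalizer (K : Set G) := by
  obtain ⟨M, hML, hLM, -, hab, -, hodd⟩ := exists_layer am hLT
  have hS : IsSylowIn 2 (T ⊓ 𝐉 L) (𝐉 L) :=
    (hTsyl am hLT).inf (thompsonOf_le L) (Subgroup.le_normalizer.trans (nz_le_nz_thompson L))
  rw [← hS.resOf_sup]
  refine sup_le (resOf_le_iff.2 fun g hg ho => ?_) (inf_le_left.trans hTK)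
  exact layer_le_nzK am hLT hK hKL hML hab hodd (hodd g hg (Nat.coprime_two_right.1 ho))

end Cfsg.Agent.Lib.LocalChar.JComp
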