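import Cfsg.Agent.Lib.LocalChar.JGeo

/-! Walks, and the first step of the amalgam argument. -/

set_option autoImplicit false
set_option linter.unusedSectionVars false
open scoped commutatorElement
open Subgroup (centralizer normalizer zpowers)

namespace Cfsg.Agent.Lib.LocalChar.JComp

variable {G : Type*} [Group G] [Finite G]

local notation "𝐉" T:max => Cfsg.thompsonSubgroupOf 2 T

theorem four_le {W Y : Subgroup G} (hW : Nat.card W = 4) {a b : G} (ha : a ∈ W) (hb : b ∈ W) (haY : a ∈ Y)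
    (hbY : b ∈ Y) (ha1 : a ≠ 1) (hb1 : b ≠ 1) (hab : a ≠ b) : W ≤ Y := by
  have hsub : ({1, a, b} : Set G) ⊆ ((W ⊓ Y : Subgroup G) : Set G) := by
    rintro _ (rfl | rfl | rfl)
    exacts [one_mem _, ⟨ha, haY⟩, ⟨hb, hbY⟩]
  have h3 := Set.ncard_le_ncard hsub (Set.toFinite _)
  rw [Set.ncard_insert_of_notMem (by simp [Ne.symm ha1, Ne.symm hb1]), Set.ncard_pair hab,
    ← Nat.card_coe_set_eq] at h3
  change 3 ≤ Nat.card ↥(W ⊓ Y) at h3
  have h4 : Nat.card ↥(W ⊓ Y) ∣ 4 := hW ▸ Subgroup.card_dvd_of_le inf_le_left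
  have h5 : Nat.card ↥(W ⊓ Y) = 4 := by
    have h6 := Nat.le_of_dvd (by norm_num) h4
    rcases Nat.eq_or_lt_of_le h6 with h8 | h8
    · exact h8
    · rw [show Nat.card ↥(W ⊓ Y) = 3 by omega] at h4
      norm_num at h4
  exact inf_eq_left.1 (Subgroup.eq_of_le_of_card_ge inf_le_left (by rw [h5, hW]))

theorem cube_mem_Q {T K : Subgroup G} (hK : Cfsg.IsJComponent T K) {k : G} (hk : k ∈ K) :
    k ^ 3 ∈ Cfsg.pCoreOf 2 K := by
  haveI : ((Cfsg.pCoreOf 2 K).subgroupOf K).Normal := normal_subgroupOf (le_nz_pCoreOf K)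
  have h := Subgroup.pow_index_mem ((Cfsg.pCoreOf 2 K).subgroupOf K) ⟨k, hk⟩
  rw [show ((Cfsg.pCoreOf 2 K).subgroupOf K).index = 3 from hK.2.2.1] at h
  exact Subgroup.mem_subgroupOf.1 h

theorem two_el_mem_Q {T K : Subgroup G} (hK : Cfsg.IsJComponent T K) {k : G} (hk : k ∈ K)
    (h2 : ∃ n : ℕ, k ^ 2 ^ n = 1) : k ∈ Cfsg.pCoreOf 2 K :=
  mem_of_pow_coprime (p := 2) (show Nat.Coprime 3 2 by norm_num)
    (h2.imp fun n (hn : k ^ 2 ^ n = 1) => by rw [hn]; exact Subgroup.one_mem _) (cube_mem_Q hK hk)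

theorem odd_order_three {T K : Subgroup G} (hK : Cfsg.IsJComponent T K) {k : G} (hk : k ∈ K)
    (ho : Odd (orderOf k)) (h1 : k ≠ 1) : orderOf k = 3 := by
  haveI : Fact (Nat.Prime 3) := ⟨by norm_num⟩
  refine orderOf_eq_prime (eq_one_of_isPGroup_of_coprime (isPGroup_pCoreOf (p := 2) K) (cube_mem_Q hK hk) ?_) h1
  exact Nat.Coprime.coprime_dvd_left (orderOf_pow_dvd 3) (Nat.coprime_two_right.2 ho)

/-- A component is generated by the odd-order elements of `D⟨g⟩`. -/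
theorem comp_odd_closure {T K D Q' : Subgroup G} (hK : Cfsg.IsJComponent T K) {g : G} (hg : g ∈ K)
    (hg3 : orderOf g = 3) (hQ : IsPGroup 2 Q') (hKQ : Cfsg.pCoreOf 2 K ≤ Q')
    (hQK : Q' ≤ normalizer (K : Set G)) (hgQ : g ∈ normalizer (Q' : Set G)) (hDQ : D ≤ Q')
    (hidx : D.relIndex Q' = 2) (hgD : g ∈ normalizer (D : Set G)) :
    K = Subgroup.closure {y | y ∈ D ⊔ zpowers g ∧ Odd (orderOf y)} := by
  haveI : (D.subgroupOf Q').Normal := Subgroup.normal_of_index_eq_two hidx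
  set X := D ⊔ zpowers g
  have hQX : Q' ≤ normalizer (X : Set G) := fun q hq => by
    refine mem_nz_of_cj_le ((Subgroup.map_sup _ _ _).trans_le (sup_le ?_ ?_))
    · refine le_trans (cj_le_iff.2 fun d hd => ?_) le_sup_left
      exact Subgroup.mem_subgroupOf.1 ((‹(D.subgroupOf Q').Normal›).conj_mem ⟨d, hDQ hd⟩
        (Subgroup.mem_subgroupOf.2 hd) ⟨q, hq⟩)
    · rw [MonoidHom.map_zpowers, Subgroup.zpowers_le]
      have h1 : g * q⁻¹ * g⁻¹ ∈ Q' := conj_mem_of_nz hgQ (Q'.inv_mem hq)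
      have h2 : q * (g * q⁻¹ * g⁻¹) ∈ D := by
        have h3 : ((⟨q, hq⟩ : Q') * ⟨_, h1⟩ : Q') ∈ D.subgroupOf Q' := by
          rw [Subgroup.mul_mem_iff_of_index_two hidx, Subgroup.mem_subgroupOf, Subgroup.mem_subgroupOf]
          refine ⟨fun h => conj_mem_of_nz hgD (D.inv_mem h), fun h => ?_⟩
          have := D.inv_mem (conj_mem_of_nz (Subgroup.inv_mem _ hgD) h)
          simpa [mul_assoc] using this
        exact Subgroup.mem_subgroupOf.1 h3
      show q * g * q⁻¹ ∈ X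
      rw [show q * g * q⁻¹ = q * (g * q⁻¹ * g⁻¹) * g by group]
      exact Subgroup.mul_mem _ (Subgroup.mem_sup_left h2) (Subgroup.mem_sup_right (Subgroup.mem_zpowers g))
  refine le_antisymm ?_ ((Subgroup.closure_le _).2 fun y hy => ?_)
  · conv_lhs => rw [← hK.1]
    refine Subgroup.closure_mono fun k hk => ⟨?_, hk.2⟩
    have h1 : k ∈ Q' ⊔ X := by
      refine sup_le (hKQ.trans le_sup_left) ((le_sup_right : zpowers g ≤ X).trans le_sup_right) ?_
      rw [← K_eq hK hg hg3]; exact hk.1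
    obtain ⟨q, hq, y, hy, rfl⟩ := (mem_sup_iff_of_nz hQX).1 h1
    exact mem_of_mul_coprime (p := 2) (hQX hq) (exists_pow_eq_one hQ hq) hy (Nat.coprime_two_right.2 hk.2)
  · have h1 : y ∈ Q' ⊔ K := sup_le (hDQ.trans le_sup_left) ((Subgroup.zpowers_le.2 hg).trans le_sup_right) hy.1
    obtain ⟨q, hq, k, hk, rfl⟩ := (mem_sup_iff_of_nz hQK).1 h1
    exact mem_of_mul_coprime (p := 2) (hQK hq) (exists_pow_eq_one hQ hq) hk (Nat.coprime_two_right.2 hy.2)

namespace Geo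

variable {Γ : Geo G}

theorem Adj.exists_moverQ (am : Amb G) {P : Subgroup G} {v u : Vtx G} (h : Γ.Adj P v u) :
    ∃ q ∈ v.Q, q ∉ centralizer (Cfsg.wOf u.K : Set G) := by
  refine SetLike.not_le_iff_exists.1 fun hle => h.Q_ne am (Subgroup.eq_of_le_of_card_ge ?_ ?_)
  · rw [h.2.1.Q_eq am]
    exact le_inf (h.1.Q_le am) hle
  · have e1 := h.1.card_Q am
    have e2 := h.2.1.card_Q am
    omega

theorem Inc.mem_Q (am : Amb G) {P : Subgroup G} {v : Vtx G} (h : Γ.Inc P v) {p : G} (hp : p ∈ P)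
    (hc : p ∈ centralizer (Cfsg.wOf v.K : Set G)) : p ∈ v.Q := h.Q_eq am ▸ ⟨hp, hc⟩

theorem Inc.two_le_Q (am : Amb G) {P : Subgroup G} {v : Vtx G} (h : Γ.Inc P v) {R : Subgroup G}
    (hR : IsPGroup 2 R) (hle : R ≤ v.L ⊓ centralizer (Cfsg.wOf v.K : Set G)) : R ≤ v.Q := by
  rw [Vtx.Q, h.L_eq]; exact h.ad.two_le_core am hR (h.L_eq ▸ hle)

theorem Walk.sub {b : ℕ} {f : ℕ → Vtx G} {E : ℕ → Subgroup G} (hw : Walk Γ b f E) {s n : ℕ} (h : s + n ≤ b) :
    Walk Γ n (fun i => f (s + i)) (fun i => E (s + i)) := fun i hi => hw (s + i) (by omega)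

theorem low {b : ℕ} (hb : Below Γ b) {f : ℕ → Vtx G} {E : ℕ → Subgroup G} {c : ℕ} (hw : Walk Γ c f E)
    {i j : ℕ} (hij : i < j) (hjc : j ≤ c) (hn : j - i < b) : (f i).Z ≤ (f j).Q := by
  have := hb (j - i) (by omega) hn _ _ (hw.sub (s := i) (n := j - i) (by omega))
  simp only [Nat.add_zero, show i + (j - i) = j by omega] at this
  exact this

theorem low_rev (am : Amb G) {b : ℕ} (hb : Below Γ b) {f : ℕ → Vtx G} {E : ℕ → Subgroup G} {c : ℕ}
    (hw : Walk Γ c f E) {i j : ℕ} (hij : i < j) (hjc : j ≤ c) (hn : j - i < b) : (f j).Z ≤ (f i).Q := by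
  have := hb (j - i) (by omega) hn _ _ ((hw.sub (s := i) (n := j - i) (by omega)).reverse am)
  simp only [Nat.sub_zero, Nat.sub_self, Nat.add_zero, show i + (j - i) = j by omega] at this
  exact this

/-- The first consequences of a separating walk. -/
theorem step_two (am : Amb G) {b : ℕ} (hb2 : 2 ≤ b) (hb : Below Γ b) {f : ℕ → Vtx G} {E : ℕ → Subgroup G}
    (hw : Walk Γ b f E) (hne : ¬ (f 0).Z ≤ (f b).Q) :
    ∃ e r : G, e ∈ (f b).Z ∧ e ∈ E 0 ∧ e ∉ centralizer (Cfsg.wOf (f 0).K : Set G) ∧ r ∈ wl (E 0) (f 0).K ∧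
      r ≠ 1 ∧ wl (E (b - 1)) (f b).K = wl (E 0) (f 0).K := by
  have h0 := hw 0 (by omega)
  have hl := hw (b - 1) (by omega)
  rw [show b - 1 + 1 = b by omega] at hl
  have hZb : (f b).Z ≤ E 0 := (low_rev am hb hw (by omega : 1 < b) le_rfl (by omega)).trans (h0.2.1.Q_le am)
  have hZ0 : (f 0).Z ≤ E (b - 1) := (low hb hw (by omega : 0 < b - 1) (by omega) (by omega)).trans (hl.1.Q_le am)
  obtain ⟨e, he, hec⟩ : ∃ e ∈ (f b).Z, e ∉ centralizer (Cfsg.wOf (f 0).K : Set G) := by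
    refine SetLike.not_le_iff_exists.1 fun hle => hne fun z hz => hl.2.1.mem_Q am (hZ0 hz) ?_
    refine Subgroup.mem_centralizer_iff.2 fun w hw' => ?_
    have hwQ : w ∈ (f 0).Q := h0.1.mem_Q am (hZb (Subgroup.mem_sup_right hw')) (hle (Subgroup.mem_sup_right hw'))
    exact (Subgroup.mem_centralizer_iff.1 (h0.1.Q_cent_Z am hwQ) z hz).symm
  obtain ⟨r, hr, hr1, -, -⟩ := exists_gen_two (card_wl h0.1.ad.comp h0.1.ad.p2)
  obtain ⟨w, hw', hwl⟩ := h0.1.ad.exists_not_line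
  have hmov := h0.1.ad.moves (hZb he) hec hw' hwl hr hr1
  have hr' : r ∈ wl (E (b - 1)) (f b).K := by
    have := (wl (E (b - 1)) (f b).K).inv_mem (hl.2.1.comm_Z he (hZ0 (Subgroup.mem_sup_right hw')))
    convert this using 1
    rw [show (w * e * w⁻¹ * e⁻¹)⁻¹ = e * w * e⁻¹ * w⁻¹ by group, hmov, mul_inv_cancel_right]
  exact ⟨e, r, he, hZb he, hec, hr, hr1, eq_of_two_two (card_wl hl.2.1.ad.comp hl.2.1.ad.p2)
    (card_wl h0.1.ad.comp h0.1.ad.p2) hr' hr hr1⟩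

end Geo

end Cfsg.Agent.Lib.LocalChar.JComp
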