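import Cfsg.Agent.Lib.LocalChar.WeaklyClosed

/-! Centralizers of `O_p` of subgroups containing a large subgroup. -/

set_option autoImplicit false
set_option linter.unusedSectionVars false

open scoped commutatorElement Pointwise

namespace Cfsg.Agent.Lib.LocalChar

variable {G : Type*} [Group G] [Finite G] {p : ℕ} [hp : Fact p.Prime]

/-- `p'`-elements of `[Q, K]` centralise `P` when `Q` is trivial on `P/M` and `K` fixes `M`. -/
theorem commute_of_stabilizes {P M Q K : Subgroup G} (hP : IsPGroup p P)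
    (hKP : K ≤ Subgroup.normalizer (P : Set G)) (hQP : Q ≤ Subgroup.normalizer (P : Set G))
    (hKM : K ≤ Subgroup.normalizer (M : Set G)) (hQM : Q ≤ Subgroup.normalizer (M : Set G))
    (hQK : Q ≤ Subgroup.normalizer (K : Set G)) (hPQ : ⁅P, Q⁆ ≤ M)
    (hfix : ∀ x ∈ K, (orderOf x).Coprime p → ∀ m ∈ M, Commute x m)
    {d : G} (hd : d ∈ ⁅Q, K⁆) (ho : (orderOf d).Coprime p) : ∀ u ∈ P, Commute d u := by
  let S : Subgroup G :=
    { carrier := {g | g ∈ Subgroup.normalizer (P : Set G) ∧ g ∈ Subgroup.normalizer (M : Set G) ∧ ∀ u ∈ P, ⁅u, g⁆ ∈ M}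
      one_mem' := ⟨Subgroup.one_mem _, Subgroup.one_mem _, fun u _ => by simp⟩
      mul_mem' := by
        rintro a b ⟨ha, ha', ha''⟩ ⟨hb, hb', hb''⟩
        refine ⟨Subgroup.mul_mem _ ha hb, Subgroup.mul_mem _ ha' hb', fun u hu => ?_⟩
        rw [show ⁅u, a * b⁆ = ⁅u, a⁆ * (a * ⁅u, b⁆ * a⁻¹) by simp [commutatorElement_def, mul_assoc]]
        exact M.mul_mem (ha'' u hu) (conj_mem_of_nz ha' (hb'' u hu))
      inv_mem' := by
        rintro a ⟨ha, ha', ha''⟩
        refine ⟨Subgroup.inv_mem _ ha, Subgroup.inv_mem _ ha', fun u hu => ?_⟩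
        rw [show ⁅u, a⁻¹⁆ = a⁻¹ * ⁅u, a⁆⁻¹ * a⁻¹⁻¹ by simp [commutatorElement_def, mul_assoc]]
        exact conj_mem_of_nz (Subgroup.inv_mem _ ha') (M.inv_mem (ha'' u hu)) }
  have hQS : Q ≤ S := fun q hq => ⟨hQP hq, hQM hq, fun u hu => hPQ (Subgroup.commutator_mem_commutator hu hq)⟩
  have hle : ⁅Q, K⁆ ≤ S := by
    rw [Subgroup.commutator_le]
    intro q hq k hk
    rw [commutatorElement_def, mul_assoc, mul_assoc]
    refine S.mul_mem (hQS hq) ?_
    rw [← mul_assoc]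
    obtain ⟨h1, h2, h3⟩ := hQS (Q.inv_mem hq)
    refine ⟨Subgroup.mul_mem _ (Subgroup.mul_mem _ (hKP hk) h1) (Subgroup.inv_mem _ (hKP hk)),
      Subgroup.mul_mem _ (Subgroup.mul_mem _ (hKM hk) h2) (Subgroup.inv_mem _ (hKM hk)), fun u hu => ?_⟩
    have e : ⁅u, k * q⁻¹ * k⁻¹⁆ = k * ⁅k⁻¹ * u * k, q⁻¹⁆ * k⁻¹ := by
      simp [commutatorElement_def, mul_assoc]
    rw [e]
    refine conj_mem_of_nz (hKM hk) (h3 _ ?_)
    simpa using conj_mem_of_nz (Subgroup.inv_mem _ (hKP hk)) hu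
  obtain ⟨hdP, hdM, hdu⟩ := hle hd
  have hdK : d ∈ K := by
    have := commutator_le_left_of_nz hQK
    exact this (Subgroup.commutator_comm Q K ▸ hd)
  refine commute_of_chain hP (fun a ha => conj_mem_of_nz hdP ha) ho (hfix d hdK ho) fun a ha => ?_
  have := hdu a⁻¹ (P.inv_mem ha)
  simpa [commutatorElement_def, mul_assoc] using this

/-- If `[Q, C(O_p(L))]` is a `p`-group, so is `C(O_p(L))`. -/
theorem centralizer_core_pGroup_step {Q : Subgroup G} (hwc : Cfsg.IsWeaklyClosedSubgroup p Q)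
    (hQp : IsPGroup p Q) (hCQ : Subgroup.centralizer (Q : Set G) ≤ Q) {L : Subgroup G} (hQL : Q ≤ L)
    (hD : IsPGroup p (⁅Q, Subgroup.centralizer (Cfsg.pCoreOf p L : Set G)⁆ : Subgroup G)) :
    ⁅Q, Subgroup.centralizer (Cfsg.pCoreOf p L : Set G)⁆ ≤ Q ⊓ Cfsg.pCoreOf p L ∧
      IsPGroup p (Subgroup.centralizer (Cfsg.pCoreOf p L : Set G)) := by
  set O := Cfsg.pCoreOf p L
  set K := Subgroup.centralizer (O : Set G)
  set D := ⁅Q, K⁆
  have hLK : L ≤ Subgroup.normalizer (K : Set G) := le_nz_centralizer (le_nz_pCoreOf L)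
  have hKD : K ≤ Subgroup.normalizer (D : Set G) := right_le_nz_commutator Q K
  have hQD : Q ≤ Subgroup.normalizer (D : Set G) := left_le_nz_commutator Q K
  have hR : IsPGroup p (D ⊔ Q : Subgroup G) := hD.to_sup_of_normal_left' hQp hQD
  have hKR : K ≤ Subgroup.normalizer ((D ⊔ Q : Subgroup G) : Set G) := fun k hk => mem_nz_of_cj_le (by
    show (D ⊔ Q).map _ ≤ _
    rw [Subgroup.map_sup]
    refine sup_le ((cj_eq_of_mem_nz (hKD hk)).le.trans le_sup_left) (cj_le_iff.2 fun q hq => ?_)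
    rw [show k * q * k⁻¹ = ⁅q, k⁆⁻¹ * q by simp [commutatorElement_def, mul_assoc]]
    exact Subgroup.mul_mem_sup (D.inv_mem (Subgroup.commutator_mem_commutator hq hk)) hq)
  have hKQ : K ≤ Subgroup.normalizer (Q : Set G) := hKR.trans (wc_nz hwc hR le_sup_right)
  have hDK : D ≤ K := (Subgroup.commutator_comm Q K).le.trans (commutator_le_left_of_nz (hQL.trans hLK))
  have hDQ : D ≤ Q := commutator_le_left_of_nz hKQ
  have hDO : D ≤ O := by
    refine le_trans (le_pCoreOf (H := L ⊓ K) (le_inf (hDQ.trans hQL) hDK) (inf_le_right.trans hKD) hD) ?_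
    exact pCoreOf_mono_normal inf_le_left (le_nz_inf Subgroup.le_normalizer hLK)
  refine ⟨le_inf hDQ hDO, ?_⟩
  refine (isPGroup_iff_forall_coprime _).2 fun x hx ho => ?_
  have hxQ : x ∈ Subgroup.centralizer (Q : Set G) := Subgroup.mem_centralizer_iff.2 fun q hq => by
    have h1 : q⁻¹ * (x * q * x⁻¹) ∈ D := by
      have := Subgroup.commutator_mem_commutator (Q.inv_mem hq) hx
      simpa [commutatorElement_def, mul_assoc] using this
    have hc : Commute x (q⁻¹ * (x * q * x⁻¹)) := (Subgroup.mem_centralizer_iff.1 hx _ (hDO h1)).symm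
    obtain ⟨k, hk⟩ := hD ⟨_, h1⟩
    exact ((commute_of_two_step (p := p) ho hc ⟨k, by simpa using congrArg Subtype.val hk⟩).eq).symm
  exact eq_one_of_isPGroup_of_coprime hQp (hCQ hxQ) ho

/-- `C(O_p(L))` is a `p`-group for `Q ≤ L` when it lies in a subgroup of characteristic `p`. -/
theorem centralizer_core_pGroup {Q : Subgroup G} (hwc : Cfsg.IsWeaklyClosedSubgroup p Q)
    (hQp : IsPGroup p Q) (hCQ : Subgroup.centralizer (Q : Set G) ≤ Q) {L X : Subgroup G} (hQL : Q ≤ L)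
    (hX : IsCharPOf p X) (hCX : Subgroup.centralizer (Cfsg.pCoreOf p L : Set G) ≤ X) (hQX : Q ≤ X) :
    ⁅Q, Subgroup.centralizer (Cfsg.pCoreOf p L : Set G)⁆ ≤ Q ⊓ Cfsg.pCoreOf p L ∧
      IsPGroup p (Subgroup.centralizer (Cfsg.pCoreOf p L : Set G)) ∧ IsCharPOf p L := by
  set O := Cfsg.pCoreOf p L
  set C := Subgroup.centralizer (O : Set G)
  have hLC : L ≤ Subgroup.normalizer (C : Set G) := le_nz_centralizer (le_nz_pCoreOf L)
  set L₁ := L ⊔ C
  set O₁ := Cfsg.pCoreOf p L₁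
  have hL₁O : L₁ ≤ Subgroup.normalizer (O : Set G) :=
    sup_le (le_nz_pCoreOf L) (Subgroup.centralizer_le_normalizer _)
  have hOO₁ : O ≤ O₁ := le_pCoreOf ((pCoreOf_le L).trans le_sup_left) hL₁O (isPGroup_pCoreOf L)
  set C₁ := Subgroup.centralizer (O₁ : Set G)
  have hC₁C : C₁ ≤ C := Subgroup.centralizer_le hOO₁
  have hC₁L : C₁ ≤ L₁ := hC₁C.trans le_sup_right
  have hL₁C₁ : L₁ ≤ Subgroup.normalizer (C₁ : Set G) := le_nz_centralizer (le_nz_pCoreOf L₁)
  have hQL₁ : Q ≤ L₁ := hQL.trans le_sup_left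
  have hnQ : ∀ P : Subgroup G, IsPGroup p P → Q ≤ Subgroup.normalizer (P : Set G) →
      ⁅P, Q⁆ ≤ P ⊓ Q := fun P hP hQP => by
    have h1 : P ≤ Subgroup.normalizer (Q : Set G) := le_sup_left.trans
      (Subgroup.le_normalizer.trans (wc_nz hwc (hP.to_sup_of_normal_left' hQp hQP) le_sup_right))
    exact le_inf (commutator_le_left_of_nz hQP)
      (Subgroup.commutator_comm P Q ▸ commutator_le_left_of_nz h1)
  -- first stage: `C(O₁)`
  set P := Cfsg.pCoreOf p X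
  have hP : IsPGroup p P := isPGroup_pCoreOf X
  have hC₁X : C₁ ≤ X := hC₁C.trans hCX
  have h1 : IsPGroup p (⁅Q, C₁⁆ : Subgroup G) := (isPGroup_iff_forall_coprime _).2 fun d hd ho => by
    have hXP := le_nz_pCoreOf (p := p) X
    have hdK : d ∈ C₁ := commutator_le_left_of_nz (hQL₁.trans hL₁C₁) (Subgroup.commutator_comm Q C₁ ▸ hd)
    have hc := commute_of_stabilizes (M := P ⊓ L₁) hP (hC₁X.trans hXP) (hQX.trans hXP)
      (le_nz_inf (hC₁X.trans hXP) (hC₁L.trans Subgroup.le_normalizer))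
      (le_nz_inf (hQX.trans hXP) (hQL₁.trans Subgroup.le_normalizer)) (hQL₁.trans hL₁C₁)
      ((hnQ P hP (hQX.trans hXP)).trans (inf_le_inf_left _ hQL₁))
      (fun x hx hxo => by
        have hB : ∀ b ∈ P ⊓ C₁, Commute x b := fun b hb => by
          have hbO : b ∈ O₁ := pCoreOf_mono_normal hC₁L hL₁C₁
            (le_pCoreOf inf_le_right (le_nz_inf (hC₁X.trans hXP) Subgroup.le_normalizer) (hP.to_le inf_le_left) hb)
          exact (Subgroup.mem_centralizer_iff.1 hx b hbO).symm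
        refine commute_of_chain (hP.to_le inf_le_left)
          (fun a ha => conj_mem_of_nz (le_nz_inf (hC₁X.trans hXP) (hC₁L.trans Subgroup.le_normalizer) hx) ha)
          hxo hB fun a ha => ⟨P.mul_mem (P.inv_mem ha.1) (conj_mem_of_nz (hXP (hC₁X hx)) ha.1), ?_⟩
        rw [show a⁻¹ * (x * a * x⁻¹) = (a⁻¹ * x * a⁻¹⁻¹) * x⁻¹ by group]
        exact C₁.mul_mem (conj_mem_of_nz (Subgroup.inv_mem _ (hL₁C₁ ha.2)) hx) (C₁.inv_mem hx))
      hd ho
    have hdP : d ∈ P := hX ⟨hC₁X hdK, Subgroup.mem_centralizer_iff.2 fun u hu => (hc u hu).eq.symm⟩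
    exact eq_one_of_isPGroup_of_coprime hP hdP ho
  obtain ⟨-, hC₁p⟩ := centralizer_core_pGroup_step hwc hQp hCQ hQL₁ h1
  -- second stage: `C(O)`
  have h2 : IsPGroup p (⁅Q, C⁆ : Subgroup G) := (isPGroup_iff_forall_coprime _).2 fun d hd ho => by
    have hdC : d ∈ C := commutator_le_left_of_nz (hQL.trans hLC) (Subgroup.commutator_comm Q C ▸ hd)
    have hc := commute_of_stabilizes (M := O) (isPGroup_pCoreOf L₁) (le_sup_right.trans (le_nz_pCoreOf L₁))
      (hQL₁.trans (le_nz_pCoreOf L₁)) (Subgroup.centralizer_le_normalizer _) (hQL.trans (le_nz_pCoreOf L))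
      (hQL.trans hLC)
      (((hnQ O₁ (isPGroup_pCoreOf L₁) (hQL₁.trans (le_nz_pCoreOf L₁))).trans
        (inf_le_inf_left _ hQL)).trans (le_pCoreOf inf_le_right
          (le_nz_inf (le_sup_left.trans (le_nz_pCoreOf L₁)) Subgroup.le_normalizer)
          ((isPGroup_pCoreOf L₁).to_le inf_le_left)))
      (fun x hx _ m hm => (Subgroup.mem_centralizer_iff.1 hx m hm).symm) hd ho
    exact eq_one_of_isPGroup_of_coprime hC₁p
      (show d ∈ C₁ from Subgroup.mem_centralizer_iff.2 fun u hu => (hc u hu).eq.symm) ho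
  obtain ⟨hQO, hCp⟩ := centralizer_core_pGroup_step hwc hQp hCQ hQL h2
  exact ⟨hQO, hCp, le_pCoreOf inf_le_left (le_nz_inf Subgroup.le_normalizer hLC) (hCp.to_le inf_le_right)⟩

end Cfsg.Agent.Lib.LocalChar

namespace Cfsg.Agent.Lib.LocalChar

variable {G : Type*} [Group G] [Finite G] {p : ℕ} [hp : Fact p.Prime]

/-- Subgroups over a large subgroup with nontrivial `O_p`. -/
theorem large_centralizer_core {Q : Subgroup G} (hQp : IsPGroup p Q) (hQ1 : Q ≠ ⊥) (hL : Cfsg.IsLarge Q)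
    {L : Subgroup G} (hQL : Q ≤ L) (hne : Cfsg.pCoreOf p L ≠ ⊥) :
    ⁅Q, Subgroup.centralizer (Cfsg.pCoreOf p L : Set G)⁆ ≤ Q ⊓ Cfsg.pCoreOf p L ∧
      IsPGroup p (Subgroup.centralizer (Cfsg.pCoreOf p L : Set G)) ∧ IsCharPOf p L := by
  obtain ⟨u, hu, hu1, hc⟩ := exists_fixed (isPGroup_pCoreOf L) hQp (hQL.trans (le_nz_pCoreOf L)) hne
  have huC : u ∈ Subgroup.centralizer (Q : Set G) := Subgroup.mem_centralizer_iff.2 fun q hq => (hc q hq).eq
  set X := Subgroup.centralizer ({u} : Set G)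
  have hQX : Q ≤ X := fun q hq => Subgroup.mem_centralizer_singleton_iff.2 (hc q hq).eq
  have hXQ : X ≤ Subgroup.normalizer (Q : Set G) := by
    refine le_trans ?_ (hL.2 (Subgroup.zpowers u) (Subgroup.zpowers_le.2 huC)
      (fun e => hu1 (Subgroup.zpowers_eq_bot.1 e)))
    refine le_trans (le_of_eq ?_) (Subgroup.centralizer_le_normalizer _)
    rw [Subgroup.zpowers_eq_closure, Subgroup.centralizer_closure]
  have hQP : Q ≤ Cfsg.pCoreOf p X := le_pCoreOf hQX hXQ hQp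
  refine centralizer_core_pGroup (wc_of_isLarge hQp hQ1 hL) hQp hL.1 hQL (X := X) ?_ ?_ hQX
  · exact inf_le_right.trans ((Subgroup.centralizer_le hQP).trans (hL.1.trans hQP))
  · exact fun x hx => Subgroup.mem_centralizer_singleton_iff.2 (Subgroup.mem_centralizer_iff.1 hx u hu).symm

theorem pCoreOf_ne_bot {L : Subgroup G} (h : Cfsg.pCore p L ≠ ⊥) : Cfsg.pCoreOf p L ≠ ⊥ := fun e =>
  h ((Subgroup.map_eq_bot_iff_of_injective _ L.subtype_injective).1 e)

/-- Parabolic subgroups of a group with a large subgroup are in `𝓛`. -/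
theorem large_parabolic_centralizer {Q : Subgroup G} (hQp : IsPGroup p Q) (hQ1 : Q ≠ ⊥) (hL : Cfsg.IsLarge Q)
    {R : Subgroup G} (hR : Cfsg.IsParabolic p R) (hne : Cfsg.pCoreOf p R ≠ ⊥) :
    Subgroup.centralizer (Cfsg.pCoreOf p R : Set G) ≤ Cfsg.pCoreOf p R := by
  obtain ⟨T, hT⟩ := hR
  obtain ⟨S, hS⟩ := hQp.exists_le_sylow
  obtain ⟨g, rfl⟩ := MulAction.exists_smul_eq G S T
  set R' := cj g⁻¹ R
  have hT' : (S : Subgroup G) ≤ R' := by
    refine le_trans (le_of_eq ?_) (cj_mono (g := g⁻¹) hT)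
    show _ = cj g⁻¹ (cj g (S : Subgroup G))
    rw [cj_cj, inv_mul_cancel, cj_one]
  have hback : ∀ X : Subgroup G, cj g (cj g⁻¹ X) = X := fun X => by rw [cj_cj, mul_inv_cancel, cj_one]
  have hne' : Cfsg.pCoreOf p R' ≠ ⊥ := fun e => hne (by
    rw [← hback (Cfsg.pCoreOf p R), ← pCoreOf_cj, e]
    exact Subgroup.map_bot _)
  obtain ⟨-, hCp, hchar⟩ := large_centralizer_core hQp hQ1 hL (hS.trans hT') hne'
  set C := Subgroup.centralizer (Cfsg.pCoreOf p R' : Set G)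
  have hCR : C ≤ R' := by
    refine le_trans (le_sup_left (b := (S : Subgroup G))) ?_
    rw [S.is_maximal' (hCp.to_sup_of_normal_left' S.isPGroup'
      (hT'.trans (le_nz_centralizer (le_nz_pCoreOf R')))) le_sup_right]
    exact hT'
  have h1 : C ≤ Cfsg.pCoreOf p R' := le_trans (le_inf hCR le_rfl) hchar
  intro x hx
  have h2 : g⁻¹ * x * g ∈ Cfsg.pCoreOf p R' := h1 (Subgroup.mem_centralizer_iff.2 fun y hy => by
    rw [show Cfsg.pCoreOf p R' = cj g⁻¹ (Cfsg.pCoreOf p R) from pCoreOf_cj g⁻¹ R, SetLike.mem_coe, mem_cj, inv_inv] at hy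
    have := Subgroup.mem_centralizer_iff.1 hx _ hy
    calc y * (g⁻¹ * x * g) = g⁻¹ * ((g * y * g⁻¹) * x) * g := by group
      _ = g⁻¹ * (x * (g * y * g⁻¹)) * g := by rw [this]
      _ = _ := by group)
  rw [show Cfsg.pCoreOf p R' = cj g⁻¹ (Cfsg.pCoreOf p R) from pCoreOf_cj g⁻¹ R, mem_cj] at h2
  simpa [mul_assoc] using h2

end Cfsg.Agent.Lib.LocalChar
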