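import Cfsg.Agent.Lib.Fusion.Mathieu24

/-! A Sylow 2-subgroup of `M24` is its own normalizer. -/

set_option autoImplicit false
set_option linter.unusedVariables false

namespace Cfsg.Agent.Lib.LocalChar.M24Sylow

open Cfsg Cfsg.Agent.Lib Cfsg.Agent.Lib.Golay Cfsg.Agent.Lib.Fusion Cfsg.Agent.Lib.Fusion.Mathieu

/-- The orbit of a point under a coded list. -/
def orb (L : List ℕ) (i : ℕ) : List ℕ := L.map fun g => Golay.img g i

/-- Two orbits of equal length are equal. -/
def orbitsDistinct (L : List ℕ) : Bool :=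
  idx.all fun i => idx.all fun j => (orb L i).contains j ||
    (idx.filter fun k => (orb L i).contains k).length != (idx.filter fun k => (orb L j).contains k).length

theorem m24_orbits : orbitsDistinct (span (m24A ++ m24B)) = true := by decide +kernel

theorem normalizer_eq {H : Subgroup (Equiv.Perm GolayPt)} {inH : ℕ → Bool}
    (hinH : ∀ p, inH p = true → valid p = true ∧ toPerm p ∈ H) {A B : List ℕ} {z : ℕ}
    {ws : List (List ℕ)} {ks : List ℕ} {steps : List Step}
    (h : cert inH A B z ws ks steps = true) (horb : orbitsDistinct (span (A ++ B)) = true) (m : ℕ)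
    (hcard : Nat.card H = 2 ^ (A ++ B).length * m) (hm : Odd m) (hlen : 0 < (A ++ B).length)
    (S : Sylow 2 H) : Subgroup.normalizer ((S : Subgroup H) : Set H) = (S : Subgroup H) := by
  classical
  simp only [cert, Bool.and_eq_true] at h
  obtain ⟨⟨⟨⟨⟨⟨⟨⟨⟨⟨hpc, hpcB⟩, hin⟩, hsq⟩, hws⟩, hword⟩, hzv⟩, hcen⟩, hks⟩, hcount⟩, hder⟩ := h
  have hval := valid_of_pcOK _ hpc
  have hvS := valid_span _ hval
  have hvB := valid_of_pcOK B hpcB
  have hvSB := valid_span B hvB
  obtain ⟨hKset, hKcard⟩ := grp_spec _ hpc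
  set K := grp (A ++ B)
  have hKH : K ≤ H := by
    refine (Subgroup.closure_le _).2 ?_
    rintro _ ⟨l, hl, rfl⟩
    exact (hinH l (List.all_eq_true.1 hin l hl)).2
  -- the Sylow subgroup and the embedding
  have : Fact (Nat.Prime 2) := ⟨Nat.prime_two⟩
  have hKp : IsPGroup 2 (K.subgroupOf H) :=
    (IsPGroup.of_card hKcard).of_equiv (Subgroup.subgroupOfEquivOfLe hKH).symm
  have hidx : ¬ 2 ∣ (K.subgroupOf H).index := by
    have h1 := Subgroup.card_mul_index (K.subgroupOf H)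
    rw [Nat.card_congr (Subgroup.subgroupOfEquivOfLe hKH).toEquiv, hKcard, hcard] at h1
    rw [Nat.eq_of_mul_eq_mul_left (Nat.two_pow_pos _) h1]
    exact fun hd => (Nat.not_even_iff_odd.2 hm) (even_iff_two_dvd.2 hd)
  obtain ⟨g, hg⟩ := MulAction.exists_smul_eq H (hKp.toSylow hidx) S
  let φ : H →* Equiv.Perm GolayPt := H.subtype.comp (MulAut.conj g⁻¹).toMonoidHom
  have hφinj : Function.Injective φ := H.subtype_injective.comp (MulAut.conj g⁻¹).injective
  have hφH : ∀ x, φ x ∈ H := fun x => ((MulAut.conj g⁻¹) x).2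
  have hφS : ∀ x : H, x ∈ (S : Subgroup H) ↔ φ x ∈ K := by
    intro x
    rw [← hg, Sylow.coe_subgroup_smul, Subgroup.mem_pointwise_smul_iff_inv_smul_mem, ← map_inv]
    exact Iff.rfl
  have hφsurj : ∀ σ ∈ H, ∃ x : H, φ x = σ := fun σ hσ =>
    ⟨(MulAut.conj g⁻¹).symm ⟨σ, hσ⟩, congrArg Subtype.val ((MulAut.conj g⁻¹).apply_symm_apply _)⟩
  set T₂ := ((S : Subgroup H) : Subgroup H)
  -- `φ(S) = K`
  have hKsurj : ∀ σ ∈ K, ∃ s : T₂, φ s = σ := fun σ hσ => by
    obtain ⟨x, rfl⟩ := hφsurj σ (hKH hσ)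
    exact ⟨⟨x, (hφS x).2 hσ⟩, rfl⟩
  have hS1 : T₂ ≠ ⊥ := by
    intro h1
    have h2 : Nat.card K = 1 := by
      rw [Nat.card_eq_one_iff_unique]
      refine ⟨⟨fun a b => Subtype.ext ?_⟩, inferInstance⟩
      obtain ⟨s, hs⟩ := hKsurj a a.2
      obtain ⟨t, ht⟩ := hKsurj b b.2
      rw [← hs, ← ht, Subgroup.mem_bot.1 (h1.le s.2), Subgroup.mem_bot.1 (h1.le t.2)]
    rw [hKcard] at h2
    exact absurd h2 (Nat.one_lt_two_pow (by omega)).ne'
  -- the squares
  set N := grp B
  have hNset := (grp_spec B hpcB).1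
  let N' : Subgroup T₂ := N.comap (φ.comp T₂.subtype)
  have hsqN : ∀ s : T₂, φ s * φ s ∈ N := fun s => by
    obtain ⟨l, hl, he⟩ := hKset.le ((hφS s).1 s.2)
    rw [← he, ← SetLike.mem_coe, hNset, ← toPerm_comp (hvS l hl) (hvS l hl)]
    exact (memP_iff (valid_comp (hvS l hl) (hvS l hl)) hvSB).1 (List.all_eq_true.1 hsq l hl)
  set Q : Subgroup T₂ := Subgroup.closure {y | ∃ s : T₂, s * s = y}
  have hQN : Q ≤ N' := (Subgroup.closure_le _).2 (by
    rintro _ ⟨s, rfl⟩
    show φ ((s * s : T₂) : H) ∈ N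
    rw [Subgroup.coe_mul, map_mul]; exact hsqN s)
  have hQQ : N ≤ Q.map (φ.comp T₂.subtype) := by
    refine (Subgroup.closure_le _).2 ?_
    rintro _ ⟨b, hb, rfl⟩
    obtain ⟨w, hw, hwe⟩ := List.any_eq_true.1 (List.all_eq_true.1 hword b hb)
    have key : ∀ v : List ℕ, (∀ l ∈ v, memP l (span (A ++ B)) = true ∧ valid l = true) →
        valid (v.foldr (fun l acc => comp (comp l l) acc) idCode) = true ∧
        toPerm (v.foldr (fun l acc => comp (comp l l) acc) idCode) ∈
          Q.map (φ.comp T₂.subtype) := by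
      intro v
      induction v with
      | nil => exact fun _ => ⟨valid_idCode, by rw [List.foldr_nil, toPerm_id]; exact one_mem _⟩
      | cons l v ih =>
        intro hl
        obtain ⟨h1, h2⟩ := hl l (by simp)
        obtain ⟨h3, h4⟩ := ih fun x hx => hl x (by simp [hx])
        rw [List.foldr_cons]
        refine ⟨valid_comp (valid_comp h2 h2) h3, ?_⟩
        rw [toPerm_comp (valid_comp h2 h2) h3, toPerm_comp h2 h2]
        refine mul_mem ?_ h4
        obtain ⟨s, hs⟩ := hKsurj _ (hKset.ge ((memP_iff h2 hvS).1 h1))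
        exact ⟨s * s, Subgroup.subset_closure ⟨s, rfl⟩, by rw [map_mul, ← hs]; rfl⟩
    have hw' := List.all_eq_true.1 (List.all_eq_true.1 hws w hw)
    simp only [Bool.and_eq_true] at hw'
    obtain ⟨h1, h2⟩ := key w hw'
    rw [SetLike.mem_coe, (eqv_iff (hvB b hb) h1).1 hwe]
    exact h2
  have hN'Q : N' ≤ Q := fun s hs => by
    obtain ⟨t, ht, hts⟩ := hQQ hs
    rwa [← (hφinj.comp T₂.subtype_injective) hts]
  have hFr : N' ≤ frattini T₂ := hN'Q.trans ((Subgroup.closure_le _).2 (by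
    rintro _ ⟨s, rfl⟩
    rw [← pow_two]
    exact PGroupFrattini.pow_mem_frattini S.2 s))
  have hNinv : ∀ α : MulAut T₂, ∀ x ∈ N', α x ∈ N' := fun α x hx => by
    have h1 : Q ≤ Q.comap α.toMonoidHom := (Subgroup.closure_le _).2 (by
      rintro _ ⟨s, rfl⟩
      exact Subgroup.subset_closure ⟨α s, (map_mul α s s).symm⟩)
    exact hQN (h1 (hN'Q hx))
  suffices hall : ∀ q : ℕ, q.Prime → ∀ n : H, n ∈ Subgroup.normalizer ((S : Subgroup H) : Set H) →
      orderOf n = q → q = 2 by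
    set Nz := Subgroup.normalizer ((S : Subgroup H) : Set H)
    have hp : IsPGroup 2 Nz := by
      have h2 := Nat.eq_prime_pow_of_unique_prime_dvd (p := 2) (Nat.card_pos (α := Nz)).ne' fun {q} hq hqd => by
        have : Fact q.Prime := ⟨hq⟩
        obtain ⟨⟨n, hn⟩, hord⟩ := exists_prime_orderOf_dvd_card' q hqd
        rw [Subgroup.orderOf_mk] at hord
        exact hall q hq n hn hord
      exact IsPGroup.of_card h2
    exact S.is_maximal' hp Subgroup.le_normalizer
  intro q hq n hnS hord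
  by_contra hq2
  let α : MulAut T₂ := T₂.normalizerMonoidHom ⟨n, hnS⟩
  have hαq : α ^ q = 1 := by
    rw [← map_pow, show (⟨n, hnS⟩ : ↥(Subgroup.normalizer (T₂ : Set H))) ^ q = 1 from
      Subtype.ext (by rw [Subgroup.coe_pow, ← hord, pow_orderOf_eq_one]; rfl), map_one]
  have hn' : ∀ s : T₂, φ (α s : H) = φ n * φ s * (φ n)⁻¹ := fun s => by
    rw [← map_inv, ← map_mul, ← map_mul]; rfl
  -- the invariant
  have hFs : ∀ p, φ n p ∈ fixSet N ↔ p ∈ fixSet N := by
    have hfwd : ∀ a : MulAut T₂, ∀ u : Equiv.Perm GolayPt,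
        (∀ s : T₂, φ (a s : H) = u * φ s * u⁻¹) → ∀ p, p ∈ fixSet N → u p ∈ fixSet N := by
      intro a u hau p hp σ hσ
      obtain ⟨s, hs⟩ := hKsurj σ (grp_right_le A B hσ)
      have h2 : φ ((a.symm s : T₂) : H) ∈ N := hNinv a.symm s (by show φ s ∈ N; rwa [hs])
      have h3 := hau (a.symm s)
      rw [a.apply_symm_apply, hs] at h3
      rw [h3]
      simp only [Equiv.Perm.mul_apply, Equiv.Perm.inv_def, Equiv.symm_apply_apply]
      rw [hp _ h2]
    intro p
    refine ⟨fun h => ?_, hfwd α (φ n) hn' p⟩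
    have h1 := hfwd α⁻¹ (φ n)⁻¹ (fun s => by
      have h2 := hn' (α⁻¹ s)
      rw [MulAut.apply_inv_self] at h2
      rw [h2]
      group) (φ n p) h
    rwa [← Equiv.Perm.mul_apply, inv_mul_cancel] at h1
  have h1 : α = 1 := eq_one_of_invariant S.2 hq hq2 hαq hFr
    (hNinv α) (fun s : T₂ => {v : ℕ | ∃ m ∈ N, keyP (fixSet N) (φ s * m) = v})
    (fun s => by
      ext v
      simp only [Set.mem_ofPred_eq]
      constructor
      · rintro ⟨m, hm, rfl⟩
        obtain ⟨t, ht⟩ := hKsurj m (grp_right_le A B hm)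
        have h3 : φ ((α⁻¹ t : T₂) : H) ∈ N := hNinv α⁻¹ t (by show φ t ∈ N; rwa [ht])
        refine ⟨_, h3, ?_⟩
        have h4 := hn' (α⁻¹ t)
        rw [MulAut.apply_inv_self, ht] at h4
        rw [hn' s, h4, ← keyP_conj (φ n) (φ s * φ ((α⁻¹ t : T₂) : H)) hFs]
        congr 1
        group
      · rintro ⟨m, hm, rfl⟩
        obtain ⟨t, ht⟩ := hKsurj m (grp_right_le A B hm)
        have h3 : φ ((α t : T₂) : H) ∈ N := hNinv α t (by show φ t ∈ N; rwa [ht])
        refine ⟨_, h3, ?_⟩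
        rw [hn' s, hn' t, ht, ← keyP_conj (φ n) (φ s * m) hFs]
        congr 1
        group)
    (by
      intro x y w hxy hxw
      have hex : ∀ s : T₂, ∃ a ∈ span A, ∃ b ∈ N, φ s = toPerm a * b := fun s => by
        obtain ⟨a, ha, b, hb, he⟩ := span_append A B hval _ (hKset.le ((hφS s).1 s.2))
        exact ⟨a, ha, b, hNset.ge hb, he⟩
      have hvA := valid_span A fun x hx => hval x (List.mem_append.2 (Or.inl hx))
      have hkey : ∀ {s : T₂} {a : ℕ} {b : Equiv.Perm GolayPt}, a ∈ span A → b ∈ N →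
          φ s = toPerm a * b → ∀ v, (cosetKey (fixList (span B)) (span B) a).testBit v = true ↔
            ∃ m ∈ N, keyP (fixSet N) (φ s * m) = v := by
        intro s a b ha hb he v
        rw [testBit_cosetKey hpcB (hvA a ha)]
        constructor
        · rintro ⟨m, hm, rfl⟩
          exact ⟨b⁻¹ * m, mul_mem (inv_mem hb) hm, by rw [he, mul_assoc, mul_inv_cancel_left]⟩
        · rintro ⟨m, hm, rfl⟩
          exact ⟨b * m, mul_mem hb hm, by rw [he, mul_assoc]⟩
      obtain ⟨a₁, ha₁, b₁, hb₁, e₁⟩ := hex x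
      obtain ⟨a₂, ha₂, b₂, hb₂, e₂⟩ := hex y
      obtain ⟨a₃, ha₃, b₃, hb₃, e₃⟩ := hex w
      have hk12 : cosetKey (fixList (span B)) (span B) a₂ = cosetKey (fixList (span B)) (span B) a₁ := by
        apply Nat.eq_of_testBit_eq; intro v
        rw [Bool.eq_iff_iff, hkey ha₂ hb₂ e₂, hkey ha₁ hb₁ e₁]
        exact (Set.ext_iff.1 hxy v).symm
      have hk13 : cosetKey (fixList (span B)) (span B) a₃ = cosetKey (fixList (span B)) (span B) a₁ := by
        apply Nat.eq_of_testBit_eq; intro v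
        rw [Bool.eq_iff_iff, hkey ha₃ hb₃ e₃, hkey ha₁ hb₁ e₁]
        exact (Set.ext_iff.1 hxw v).symm
      rw [beq_iff_eq] at hks
      have hc := List.all_eq_true.1 hcount (cosetKey (fixList (span B)) (span B) a₁)
        (hks ▸ List.mem_map.2 ⟨a₁, ha₁, rfl⟩)
      rw [Nat.ble_eq, ← hks] at hc
      have same : ∀ {s t : T₂} {a : ℕ} {b b' : Equiv.Perm GolayPt}, b ∈ N → b' ∈ N →
          φ s = toPerm a * b → φ t = toPerm a * b' → s⁻¹ * t ∈ N' := by
        intro s t a b b' hb hb' hs ht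
        show φ ((s⁻¹ * t : T₂) : H) ∈ N
        rw [Subgroup.coe_mul, Subgroup.coe_inv, map_mul, map_inv, hs, ht]
        simpa [mul_assoc] using mul_mem (inv_mem hb) hb'
      rcases filter_map_count _ hc ha₁ ha₂ ha₃ rfl hk12 hk13 with h | h | h
      · exact Or.inl (same hb₁ hb₂ e₁ (h ▸ e₂))
      · exact Or.inr (Or.inl (same hb₁ hb₃ e₁ (h ▸ e₃)))
      · exact Or.inr (Or.inr (same hb₂ hb₃ e₂ (h ▸ e₃))))
  -- `n` centralises the Sylow subgroup
  have hc : ∀ σ ∈ K, φ n * σ = σ * φ n := by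
    intro σ hσ
    obtain ⟨s, rfl⟩ := hKsurj σ hσ
    have h3 := hn' s
    rw [show α s = s from congrFun (congrArg DFunLike.coe h1) s] at h3
    exact (mul_inv_eq_iff_eq_mul.1 h3.symm)
  have horb' : ∀ i < 24, ∀ k < 24, (orb (span (A ++ B)) i).contains k = true ↔ ∃ σ ∈ K, σ (pt i) = pt k := by
    intro i hi k hk
    rw [List.contains_iff_mem, orb, List.mem_map]
    constructor
    · rintro ⟨g, hg, rfl⟩
      exact ⟨_, hKset.ge ⟨g, hg, rfl⟩, toPerm_pt (hvS g hg) hi⟩
    · rintro ⟨σ, hσ, he⟩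
      obtain ⟨g, hg, rfl⟩ := hKset.le hσ
      rw [toPerm_pt (hvS g hg) hi] at he
      exact ⟨g, hg, by rw [← ix_pt (img_lt (hvS g hg) hi), he, ix_pt hk]⟩
  have hlenO : ∀ i < 24, (idx.filter fun k => (orb (span (A ++ B)) i).contains k).length =
      Nat.card {p // ∃ σ ∈ K, σ (pt i) = p} := fun i hi =>
    card_filter_idx _ _ fun k hk => horb' i hi k hk
  have hfix : ∀ p, ∃ σ ∈ K, σ p = φ n p := by
    intro p
    by_contra hno
    have h2 := List.all_eq_true.1 (List.all_eq_true.1 horb (ix p) (mem_idx.2 (ix_lt p))) (ix (φ n p))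
      (mem_idx.2 (ix_lt _))
    rw [Bool.or_eq_true] at h2
    rcases h2 with h2 | h2
    · rw [horb' _ (ix_lt _) _ (ix_lt _), pt_ix, pt_ix] at h2
      exact hno h2
    · rw [bne_iff_ne, hlenO _ (ix_lt _), hlenO _ (ix_lt _), pt_ix, pt_ix] at h2
      refine h2 (Nat.card_congr (Equiv.subtypeEquiv (φ n) fun a => ?_))
      constructor
      · rintro ⟨σ, hσ, rfl⟩
        exact ⟨σ, hσ, (congrArg (fun f : Equiv.Perm GolayPt => f p) (hc σ hσ)).symm⟩
      · rintro ⟨σ, hσ, he⟩
        refine ⟨σ, hσ, (φ n).injective ?_⟩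
        rw [← he]
        exact congrArg (fun f : Equiv.Perm GolayPt => f p) (hc σ hσ)
  have hn1 : φ n ^ Nat.card K = 1 := by
    ext p
    obtain ⟨σ, hσ, he⟩ := hfix p
    have hj : ∀ j : ℕ, (φ n ^ j) p = (σ ^ j) p := by
      intro j
      induction j with
      | zero => rfl
      | succ j ih =>
        rw [pow_succ', pow_succ, Equiv.Perm.mul_apply, ih, Equiv.Perm.mul_apply, he]
        exact congrArg (fun f : Equiv.Perm GolayPt => f p) (hc _ (pow_mem hσ j))
    rw [hj, ← Subgroup.coe_mk K σ hσ, ← Subgroup.coe_pow, pow_card_eq_one']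
    rfl
  have h4 : orderOf n ∣ Nat.card K := by
    refine orderOf_dvd_of_pow_eq_one (hφinj ?_)
    rw [map_pow, hn1, map_one]
  rw [hord, hKcard] at h4
  exact hq2 ((Nat.prime_dvd_prime_iff_eq hq Nat.prime_two).1 (hq.dvd_of_dvd_pow h4))

theorem m24 (S : Sylow 2 M24) : Subgroup.normalizer ((S : Subgroup M24) : Set M24) = (S : Subgroup M24) :=
  normalizer_eq (fun p hp => ⟨valid_of_inM24 hp, toPerm_mem_M24 hp⟩)
    m24_cert m24_orbits 239085 (by rw [M24_card]; rfl) (by decide) (by decide) S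

end Cfsg.Agent.Lib.LocalChar.M24Sylow
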