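import Cfsg.Agent.Lib.PStab.Dickson

/-!
Quadratic (or small) irreducible modules of `SL(2, F)` in the natural characteristic are natural.
-/

set_option autoImplicit false

namespace Cfsg.Agent.Lib.LocalChar.NaturalSLTwo

open Matrix Cfsg.Agent.Lib.PStab
open scoped MatrixGroups

universe u v

variable {F : Type u} [Field F]

/-- The Weyl element with parameter `t`. -/
def wt (t : Fˣ) : SL(2, F) :=
  slMk 0 (t : F) (-((t⁻¹ : Fˣ) : F)) 0 (by simp)

theorem wt_eq (t : Fˣ) : wt t = ux (t : F) * uy (-((t⁻¹ : Fˣ) : F)) * ux (t : F) := by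
  refine sl_ext ?_ ?_ ?_ ?_ <;> simp [wt, coe_slMk, coe_ux, coe_uy, mul_apply_two]

theorem wt_conj_ux (t : Fˣ) (a : F) :
    wt t * ux a = uy (-(((t⁻¹ : Fˣ) : F) ^ 2) * a) * wt t := by
  refine sl_ext ?_ ?_ ?_ ?_ <;> simp [wt, coe_slMk, coe_ux, coe_uy, mul_apply_two] <;> field_simp

theorem wt_conj_uy (t : Fˣ) (a : F) : wt t * uy a = ux (-((t : F) ^ 2) * a) * wt t := by
  refine sl_ext ?_ ?_ ?_ ?_ <;> simp [wt, coe_slMk, coe_ux, coe_uy, mul_apply_two] <;> field_simp

/-- A torus element through two Weyl elements. -/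
def ht (t : Fˣ) : SL(2, F) := (wt 1)⁻¹ * wt t

theorem ht_mul (s t : Fˣ) : ht (s * t) = ht s * ht t := by
  simp only [ht]
  refine sl_ext ?_ ?_ ?_ ?_ <;> simp [wt, coe_slMk, coe_inv_two, mul_apply_two, mul_comm]

theorem closure_ux_uy : Subgroup.closure (Set.range (ux (F := F)) ∪ Set.range uy) = ⊤ := by
  refine eq_top_iff.2 fun g _ => ?_
  refine Classical.SL_transvection_induction (· ∈ Subgroup.closure _) (one_mem _) ?_ (fun _ _ => mul_mem) g
  intro i j hij c
  refine Subgroup.subset_closure ?_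
  fin_cases i <;> fin_cases j
  · exact absurd rfl hij
  · refine Or.inl ⟨c, sl_ext ?_ ?_ ?_ ?_⟩ <;> simp [coe_ux, SpecialLinearGroup.transvection_coe]
  · refine Or.inr ⟨c, sl_ext ?_ ?_ ?_ ?_⟩ <;> simp [coe_uy, SpecialLinearGroup.transvection_coe]
  · exact absurd rfl hij

/-- Every Sylow subgroup for the characteristic is conjugate to the upper root group. -/
theorem sylow_upper [Finite F] {p : ℕ} [Fact p.Prime] [CharP F p] (S : Sylow p SL(2, F)) :
    ∃ h : SL(2, F), ∀ g, g ∈ (S : Subgroup SL(2, F)) ↔ ∃ a, h * g * h⁻¹ = ux a := by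
  classical
  have hp : p.Prime := Fact.out
  rcases subsingleton_or_nontrivial ↥(S : Subgroup SL(2, F)) with hS | hS
  · exfalso
    have hne : (S : Subgroup SL(2, F)) ≠ ⊥ := by
      refine S.ne_bot_of_dvd_card ?_
      have h1 : ux (1 : F) ≠ 1 := fun h => by
        have := congrArg (fun g : SL(2, F) => (g : Matrix (Fin 2) (Fin 2) F) 0 1) h
        simp [coe_ux] at this
      rw [← orderOf_eq_prime (ux_pow_p (1 : F)) h1]
      exact orderOf_dvd_natCard _
    exact hne (Subgroup.eq_bot_of_subsingleton _)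
  · haveI := S.2.center_nontrivial
    obtain ⟨z, hz⟩ := exists_ne (1 : Subgroup.center ↥(S : Subgroup SL(2, F)))
    obtain ⟨k, hk⟩ := S.2 z.1
    obtain ⟨h, a, ha, hh⟩ := exists_conj_ux_ne (g := (z.1.1 : SL(2, F))) (k := k)
      (congrArg Subtype.val hk) fun e => hz (Subtype.ext (Subtype.ext e))
    have hfwd : ∀ g ∈ (S : Subgroup SL(2, F)), ∃ a, h * g * h⁻¹ = ux a := by
      intro g hg
      have hgz : Commute g (z.1.1 : SL(2, F)) := congrArg Subtype.val (Subgroup.mem_center_iff.1 z.2 ⟨g, hg⟩)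
      have hc : Commute (h * g * h⁻¹) (ux a) := by
        rw [← hh]
        exact hgz.map (MulAut.conj h).toMonoidHom
      obtain ⟨h10, -⟩ := commute_ux ha hc
      obtain ⟨m, hm⟩ := S.2 ⟨g, hg⟩
      have hm' : (h * g * h⁻¹) ^ p ^ m = 1 := by
        rw [conj_pow, show g ^ p ^ m = 1 from congrArg Subtype.val hm, mul_one, mul_inv_cancel]
      exact ⟨_, eq_ux_of_trace (trace_eq_two hm') h10⟩
    refine ⟨h, fun g => ⟨hfwd g, fun hg => ?_⟩⟩
    let U : Subgroup SL(2, F) :=
      { carrier := {g | ∃ a, h * g * h⁻¹ = ux a}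
        one_mem' := ⟨0, by rw [ux_zero]; simp⟩
        mul_mem' := fun {x y} ⟨a, hx⟩ ⟨b, hy⟩ => ⟨a + b, by rw [← ux_mul, ← hx, ← hy]; group⟩
        inv_mem' := fun {x} ⟨a, hx⟩ => ⟨-a, by rw [← ux_inv, ← hx]; group⟩ }
    have hU : IsPGroup p U := fun x => ⟨1, Subtype.ext (by
      obtain ⟨a, hx⟩ := x.2
      rw [pow_one, Subgroup.coe_pow, Subgroup.coe_one, show (x : SL(2, F)) = h⁻¹ * ux a * h by rw [← hx]; group]
      have := conj_pow (a := h⁻¹) (b := ux a) (i := p)
      rw [inv_inv] at this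
      rw [this, ux_pow_p]; simp)⟩
    rw [← S.3 hU hfwd]
    exact hg

section

variable [Fintype F] {M : Type v} [AddCommGroup M]

/-- An element set on which the action stabilises a subgroup generates everything. -/
theorem invariant_of_gens (r : SL(2, F) →* AddMonoid.End M) (U : AddSubgroup M)
    (h1 : ∀ a, ∀ v ∈ U, r (ux a) v ∈ U) (h2 : ∀ a, ∀ v ∈ U, r (uy a) v ∈ U) :
    ∀ g, ∀ v ∈ U, r g v ∈ U := by
  haveI : Finite SL(2, F) := inferInstance
  have hm : Submonoid.closure (Set.range (ux (F := F)) ∪ Set.range uy) = ⊤ := by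
    rw [← Subgroup.closure_toSubmonoid_of_finite, closure_ux_uy]; rfl
  intro g
  have hg : g ∈ Submonoid.closure (Set.range (ux (F := F)) ∪ Set.range uy) := hm ▸ Submonoid.mem_top g
  induction hg using Submonoid.closure_induction with
  | mem x hx =>
    rcases hx with ⟨a, rfl⟩ | ⟨a, rfl⟩
    · exact h1 a
    · exact h2 a
  | one => intro v hv; rw [map_one]; exact hv
  | mul x y _ _ hx hy => intro v hv; rw [map_mul]; exact hx _ (hy v hv)

/-- Fixed vectors of a root group. -/
def fixed (r : SL(2, F) →* AddMonoid.End M) (f : F → SL(2, F)) : AddSubgroup M where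
  carrier := {v | ∀ a, r (f a) v = v}
  zero_mem' := fun a => map_zero _
  add_mem' := fun hx hy a => by rw [map_add, hx a, hy a]
  neg_mem' := fun hx a => by rw [map_neg, hx a]

theorem mem_fixed {r : SL(2, F) →* AddMonoid.End M} {f : F → SL(2, F)} {v : M} :
    v ∈ fixed r f ↔ ∀ a, r (f a) v = v := Iff.rfl

/-- Vectors on which a root group acts trivially modulo its fixed vectors. -/
def quad (r : SL(2, F) →* AddMonoid.End M) (f : F → SL(2, F)) : AddSubgroup M where
  carrier := {v | ∀ a, r (f a) v - v ∈ fixed r f}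
  zero_mem' := fun a => by rw [map_zero, sub_zero]; exact zero_mem _
  add_mem' := fun {x y} hx hy a => by
    rw [map_add, add_sub_add_comm]; exact add_mem (hx a) (hy a)
  neg_mem' := fun {x} hx a => by
    rw [map_neg, show -r (f a) x - -x = -(r (f a) x - x) by abel]; exact neg_mem (hx a)

theorem mem_quad {r : SL(2, F) →* AddMonoid.End M} {f : F → SL(2, F)} {v : M} :
    v ∈ quad r f ↔ ∀ a, r (f a) v - v ∈ fixed r f := Iff.rfl

theorem natural {F : Type u} [Field F] [Fintype F] {M : Type v} [AddCommGroup M] [Finite M] {p : ℕ} [Fact p.Prime] [CharP F p] (hM : ∀ v : M, p • v = 0)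
    (r : SL(2, F) →* AddMonoid.End M)
    (hirr : ∀ U : AddSubgroup M, (∀ g, ∀ v ∈ U, r g v ∈ U) → U = ⊥ ∨ U = ⊤)
    (hnt : ∃ g v, r g v ≠ v)
    (hyp : (∀ a b v, r (ux a) (r (ux b) v - v) = r (ux b) v - v) ∨
      Nat.card M ≤ Nat.card (fixed r ux) ^ 2) :
    ∃ ψ : M →+ (Fin 2 → F), Function.Bijective ψ ∧
      ∀ g v, ψ (r g v) = (g : Matrix (Fin 2) (Fin 2) F) *ᵥ ψ v := by
  classical
  have act : ∀ (x y : SL(2, F)) (v : M), r (x * y) v = r x (r y v) := fun x y v => by rw [map_mul]; rfl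
  have inv_act : ∀ (x : SL(2, F)) (v : M), r x⁻¹ (r x v) = v := fun x v => by
    rw [← act, inv_mul_cancel, map_one]; rfl
  have act_inv : ∀ (x : SL(2, F)) (v : M), r x (r x⁻¹ v) = v := fun x v => by
    rw [← act, mul_inv_cancel, map_one]; rfl
  set W := fixed r ux with hW
  set W' := fixed r uy with hW'
  have hdis : ∀ v, v ∈ W → v ∈ W' → v = 0 := by
    intro v h1 h2
    rcases hirr (W ⊓ W') (invariant_of_gens r _ (fun a x hx => by rw [hx.1 a]; exact hx)
      (fun a x hx => by rw [hx.2 a]; exact hx)) with h | h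
    · exact (AddSubgroup.mem_bot).1 (h ▸ AddSubgroup.mem_inf.2 ⟨h1, h2⟩)
    · exfalso
      obtain ⟨g, x, hx⟩ := hnt
      have hmem : ∀ y, y ∈ W ⊓ W' := fun y => h ▸ AddSubgroup.mem_top y
      refine hx ?_
      have hg : g ∈ Subgroup.closure (Set.range (ux (F := F)) ∪ Set.range uy) := (by rw [closure_ux_uy]; exact Subgroup.mem_top g)
      clear hx
      induction hg using Subgroup.closure_induction generalizing x with
      | mem y hy =>
        rcases hy with ⟨a, rfl⟩ | ⟨a, rfl⟩
        · exact (hmem x).1 a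
        · exact (hmem x).2 a
      | one => rw [map_one]; rfl
      | mul y z _ _ hy hz => rw [act, hz, hy]
      | inv y _ hy => conv_lhs => rw [← hy x]
                      exact inv_act y x
  have hwW : ∀ (t : Fˣ) (v : M), v ∈ W → r (wt t) v ∈ W' := fun t v hv b => by
    have h := wt_conj_ux t (-(t : F) ^ 2 * b)
    rw [show -(((t⁻¹ : Fˣ) : F) ^ 2) * (-(t : F) ^ 2 * b) = b by
      simp only [Units.val_inv_eq_inv_val]; field_simp] at h
    rw [← act, ← h, act, hv]
  have hwW' : ∀ (t : Fˣ) (v : M), v ∈ W' → r (wt t) v ∈ W := fun t v hv b => by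
    have h := wt_conj_uy t (-((t⁻¹ : Fˣ) : F) ^ 2 * b)
    rw [show -((t : F) ^ 2) * (-((t⁻¹ : Fˣ) : F) ^ 2 * b) = b by
      simp only [Units.val_inv_eq_inv_val]; field_simp] at h
    rw [← act, ← h, act, hv]
  have hcardW : Nat.card W ≤ Nat.card W' :=
    Nat.card_le_card_of_injective (fun v : W => (⟨r (wt 1) v, hwW 1 v v.2⟩ : W')) fun a b h =>
      Subtype.ext (by have := congrArg (fun x : W' => r (wt 1)⁻¹ (x : M)) h; simpa only [inv_act] using this)
  -- the module is the sum of the two fixed spaces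
  have hsum : ∀ v : M, ∃ x ∈ W, ∃ y ∈ W', v = x + y := by
    suffices h : W ⊔ W' = ⊤ by
      intro v
      obtain ⟨x, hx, y, hy, e⟩ := AddSubgroup.mem_sup.1 (h ▸ AddSubgroup.mem_top v)
      exact ⟨x, hx, y, hy, e.symm⟩
    rcases hyp with hq | hc
    · have hq' : ∀ b v, r (ux b) v - v ∈ W := fun b v a => hq a b v
      have hq'' : ∀ b v, r (uy b) v - v ∈ W' := fun b v => by
        have h := wt_conj_ux 1 (-b)
        simp only [inv_one, Units.val_one, one_pow, neg_one_mul, neg_neg] at h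
        have := hwW 1 _ (hq' (-b) (r (wt 1)⁻¹ v))
        rw [map_sub, act_inv, ← act, h, act, act_inv] at this
        exact this
      rcases hirr (W ⊔ W') (invariant_of_gens r _
          (fun a x hx => by
            rw [← sub_add_cancel (r (ux a) x) x]
            exact add_mem (AddSubgroup.mem_sup_left (hq' a x)) hx)
          (fun a x hx => by
            rw [← sub_add_cancel (r (uy a) x) x]
            exact add_mem (AddSubgroup.mem_sup_right (hq'' a x)) hx)) with h | h
      · exfalso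
        obtain ⟨g, x, hx⟩ := hnt
        have hW0 : ∀ y ∈ W, y = 0 := fun y hy => (AddSubgroup.mem_bot).1 (h ▸ AddSubgroup.mem_sup_left hy)
        have hW0' : ∀ y ∈ W', y = 0 := fun y hy => (AddSubgroup.mem_bot).1 (h ▸ AddSubgroup.mem_sup_right hy)
        have hx0 : x = 0 := hdis x (fun a => sub_eq_zero.1 (hW0 _ (hq' a x))) (fun a => sub_eq_zero.1 (hW0' _ (hq'' a x)))
        exact hx (by rw [hx0, map_zero])
      · exact h
    · refine AddSubgroup.eq_top_of_card_eq _ (le_antisymm (Nat.card_le_card_of_injective _ Subtype.val_injective) ?_)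
      have : Nat.card (W × W') ≤ Nat.card ↥(W ⊔ W') :=
        Nat.card_le_card_of_injective (fun z => (⟨z.1 + z.2, add_mem (AddSubgroup.mem_sup_left z.1.2)
          (AddSubgroup.mem_sup_right z.2.2)⟩ : ↥(W ⊔ W'))) fun a b h => by
          have h' : (a.1 : M) - b.1 = b.2 - a.2 := by
            have := congrArg Subtype.val h
            simp only at this
            rw [sub_eq_sub_iff_add_eq_add, this]; abel
          have h1 := hdis _ (sub_mem a.1.2 b.1.2) (h' ▸ sub_mem b.2.2 a.2.2)
          have h2 : (b.2 : M) - a.2 = 0 := h' ▸ h1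
          exact Prod.ext (Subtype.ext (sub_eq_zero.1 h1)) (Subtype.ext (sub_eq_zero.1 h2).symm)
      rw [Nat.card_prod] at this
      calc Nat.card M ≤ Nat.card W ^ 2 := hc
        _ = Nat.card W * Nat.card W := sq _
        _ ≤ Nat.card W * Nat.card W' := Nat.mul_le_mul_left _ hcardW
        _ ≤ _ := this
  -- the key formula
  have hwq : ∀ (t : Fˣ) (v : M), v ∈ quad r ux → r (wt t) v ∈ quad r uy := fun t v hv b => by
    have h := wt_conj_ux t (-(t : F) ^ 2 * b)
    rw [show -(((t⁻¹ : Fˣ) : F) ^ 2) * (-(t : F) ^ 2 * b) = b by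
      simp only [Units.val_inv_eq_inv_val]; field_simp] at h
    rw [← act, ← h, act, ← map_sub]
    exact hwW t _ (hv _)
  have key : ∀ (t : Fˣ) (y : M), y ∈ W' → y ∈ quad r ux →
      r (ux (t : F)) y = y + r (wt t) y ∧ r (uy (-((t⁻¹ : Fˣ) : F))) (r (wt t) y) = r (wt t) y - y := by
    intro t y hy hyq
    set u := r (ux (t : F)) with hu
    set vv := r (uy (-((t⁻¹ : Fˣ) : F))) with hv
    set z := u y - y with hz
    have hzW : z ∈ W := hyq _
    have hwy : r (wt t) y ∈ W := hwW' t y hy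
    have hwy' : r (wt t) y ∈ quad r uy := hwq t y hyq
    have huy : u y = y + z := by rw [hz]; abel
    have huw : u (r (wt t) y) = r (wt t) y := hwy _
    have h1 : vv (u y) = r (wt t) y := by
      have h2 : u (vv (u y)) = u (r (wt t) y) := by rw [huw, hu, hv, ← act, ← act, ← wt_eq]
      have := congrArg (r (ux (t : F))⁻¹) h2
      rwa [hu, inv_act, inv_act] at this
    rw [huy, map_add, show vv y = y from hy _] at h1
    obtain hvz : vv z = r (wt t) y - y := by rw [← h1]; abel
    have hzinv : z = r (uy (-((t⁻¹ : Fˣ) : F)))⁻¹ (r (wt t) y - y) := by rw [← hvz, hv, inv_act]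
    rw [map_sub, uy_inv, neg_neg] at hzinv
    have hd : r (uy ((t⁻¹ : Fˣ) : F)) (r (wt t) y) - r (wt t) y ∈ W' := hwy' _
    have hzeq : z = r (wt t) y := by
      refine sub_eq_zero.1 (hdis _ (sub_mem hzW hwy) ?_)
      rw [hzinv, show r (uy ((t⁻¹ : Fˣ) : F)) y = y from hy _, sub_right_comm]
      exact sub_mem hd hy
    exact ⟨by rw [huy, hzeq], by rw [← hzeq, hvz, hzeq]⟩
  -- a nonzero vector of `W'` on which the upper root group is quadratic
  have hNW : ∀ (a : F) (v : M), v ∈ W → r (ux a) v - v = 0 := fun a v hv => sub_eq_zero.2 (hv a)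
  obtain ⟨y₁, hy₁q, hy₁W⟩ : ∃ v, v ∈ quad r ux ∧ v ∉ W := by
    have hex : ∃ v, v ∉ W := by
      by_contra hall
      push Not at hall
      obtain ⟨g, x, hx⟩ := hnt
      have hW'0 : ∀ y ∈ W', y = 0 := fun y hy => hdis y (hall y) hy
      have := hW'0 _ (hwW 1 x (hall x))
      have hx0 : x = 0 := by rw [← inv_act (wt 1) x, this, map_zero]
      exact hx (by rw [hx0, map_zero])
    suffices h : ∀ s : Finset F, ∃ v, v ∉ W ∧ ∀ a ∈ s, r (ux a) v - v ∈ W by
      obtain ⟨v, hv, hs⟩ := h Finset.univ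
      exact ⟨v, fun a => hs a (Finset.mem_univ a), hv⟩
    intro s
    induction s using Finset.induction with
    | empty => obtain ⟨v, hv⟩ := hex; exact ⟨v, hv, by simp⟩
    | insert a s _ ih =>
      obtain ⟨v, hv, hs⟩ := ih
      let N : AddMonoid.End M := r (ux a) - 1
      have hN : N ^ p = 0 := by
        obtain ⟨k, hk⟩ := Commute.exists_add_pow_prime_eq (Fact.out : p.Prime) (Commute.one_right N)
        rw [show N + 1 = r (ux a) from sub_add_cancel _ _, ← map_pow, ux_pow_p, map_one, one_pow] at hk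
        have h0 : (p : AddMonoid.End M) = 0 := AddMonoidHom.ext fun v => by
          show ((p : AddMonoid.End M)) v = 0
          rw [AddMonoid.End.natCast_apply]; exact hM v
        rw [h0, zero_mul, zero_mul, zero_mul, add_zero] at hk
        exact add_right_cancel (b := (1 : AddMonoid.End M)) (by rw [← hk, zero_add])
      have hfin : ∃ k, (N ^ k) v ∈ W := ⟨p, by rw [hN]; exact zero_mem _⟩
      obtain ⟨k, hk⟩ : ∃ k, Nat.find hfin = k + 1 := by
        rcases h : Nat.find hfin with _ | k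
        · have := Nat.find_spec hfin
          rw [h, pow_zero] at this
          exact absurd this hv
        · exact ⟨k, rfl⟩
      refine ⟨(N ^ k) v, Nat.find_min hfin (by omega), fun b hb => ?_⟩
      rcases Finset.mem_insert.1 hb with rfl | hb
      · have := Nat.find_spec hfin
        rw [hk, pow_succ'] at this
        exact this
      · have hc : Commute (r (ux b) - 1) (N ^ k) := by
          refine Commute.pow_right ?_ k
          refine (Commute.sub_left ?_ (Commute.one_left _))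
          refine Commute.sub_right ?_ (Commute.one_right _)
          show r (ux b) * r (ux a) = r (ux a) * r (ux b)
          rw [← map_mul, ← map_mul, ux_mul, ux_mul, add_comm]
        have h1 : (r (ux b) - 1) ((N ^ k) v) = (N ^ k) (r (ux b) v - v) :=
          congrArg (fun T : AddMonoid.End M => T v) hc.eq
        show (r (ux b) - 1) ((N ^ k) v) ∈ W
        rw [h1]
        have hNk : ∀ (j : ℕ) (x : M), x ∈ W → (N ^ j) x ∈ W := by
          intro j
          induction j with
          | zero => intro x hx; exact hx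
          | succ j ihj => intro x hx; rw [pow_succ]; exact ihj _ (by
              show r (ux a) x - x ∈ W
              rw [hNW a x hx]; exact zero_mem _)
        exact hNk k _ (hs b hb)
  obtain ⟨x₁, hx₁, y₀, hy₀, e₁⟩ := hsum y₁
  have hy₀q : y₀ ∈ quad r ux := by
    rw [show y₀ = y₁ - x₁ by rw [e₁]; abel]
    exact sub_mem hy₁q fun a => by rw [hx₁ a, sub_self]; exact zero_mem _
  have hy₀0 : y₀ ≠ 0 := fun h => hy₁W (by rw [e₁, h, add_zero]; exact hx₁)
  -- everything in `W'` is quadratic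
  have hX : ∀ y ∈ W', y ∈ quad r ux := by
    let X : AddSubgroup M := W' ⊓ quad r ux
    let X' : AddSubgroup M :=
      { carrier := {w | ∃ z ∈ X, r (wt 1) z = w}
        zero_mem' := ⟨0, zero_mem _, map_zero _⟩
        add_mem' := by rintro _ _ ⟨a, ha, rfl⟩ ⟨b, hb, rfl⟩; exact ⟨a + b, add_mem ha hb, map_add _ _ _⟩
        neg_mem' := by rintro _ ⟨a, ha, rfl⟩; exact ⟨-a, neg_mem ha, map_neg _ _⟩ }
    let V₀ : AddSubgroup M := X' ⊔ X
    have hwX : ∀ t : Fˣ, ∀ y ∈ X, r (wt t) y ∈ X' := by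
      intro t y hy
      have hmem : r (wt 1)⁻¹ (r (wt t) y) ∈ X := by
        have h1 : ∀ v, v ∈ W → r (wt 1)⁻¹ v ∈ W' := fun v hv b => by
          have h := wt_conj_uy 1 b
          simp only [Units.val_one, one_pow, neg_one_mul] at h
          have h2 : r (wt 1) (r (uy b) (r (wt 1)⁻¹ v)) = v := by
            rw [← act, h, act, act_inv, hv]
          have := congrArg (r (wt 1)⁻¹) h2
          rwa [inv_act] at this
        refine ⟨h1 _ (hwW' t y hy.1), fun b => ?_⟩
        have h := wt_conj_ux 1 b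
        simp only [inv_one, Units.val_one, one_pow, neg_one_mul] at h
        have h2 : r (wt 1) (r (ux b) (r (wt 1)⁻¹ (r (wt t) y))) = r (uy (-b)) (r (wt t) y) := by
          rw [← act, h, act, act_inv]
        have h3 : r (wt 1) (r (ux b) (r (wt 1)⁻¹ (r (wt t) y)) - r (wt 1)⁻¹ (r (wt t) y)) ∈ W' := by
          rw [map_sub, h2, act_inv]; exact hwq t y hy.2 _
        intro c
        have h4 := wt_conj_ux 1 c
        simp only [inv_one, Units.val_one, one_pow, neg_one_mul] at h4
        set d := r (ux b) (r (wt 1)⁻¹ (r (wt t) y)) - r (wt 1)⁻¹ (r (wt t) y)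
        have h5 : r (wt 1) (r (ux c) d) = r (wt 1) d := by rw [← act, h4, act, h3]
        have := congrArg (r (wt 1)⁻¹) h5
        rwa [inv_act, inv_act] at this
      exact ⟨_, hmem, act_inv _ _⟩
    have hV₀ : V₀ = ⊤ := by
      refine (hirr V₀ (invariant_of_gens r V₀ (fun a x hx => ?_) (fun a x hx => ?_))).resolve_left fun h => ?_
      · obtain ⟨u, ⟨z, hz, rfl⟩, y, hy, rfl⟩ := AddSubgroup.mem_sup.1 hx
        rw [map_add, hwW' 1 z hz.1 a]
        refine add_mem (AddSubgroup.mem_sup_left ⟨z, hz, rfl⟩) ?_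
        rcases eq_or_ne a 0 with rfl | ha
        · rw [ux_zero, map_one]; exact AddSubgroup.mem_sup_right hy
        · rw [show r (ux a) y = y + r (wt (Units.mk0 a ha)) y from (key (Units.mk0 a ha) y hy.1 hy.2).1]
          exact add_mem (AddSubgroup.mem_sup_right hy) (AddSubgroup.mem_sup_left (hwX _ y hy))
      · obtain ⟨u, ⟨z, hz, rfl⟩, y, hy, rfl⟩ := AddSubgroup.mem_sup.1 hx
        rw [map_add, hy.1 a]
        refine add_mem ?_ (AddSubgroup.mem_sup_right hy)
        rcases eq_or_ne a 0 with rfl | ha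
        · rw [uy_zero, map_one]; exact AddSubgroup.mem_sup_left ⟨z, hz, rfl⟩
        · let t : Fˣ := (Units.mk0 (-a) (neg_ne_zero.2 ha))⁻¹
          obtain ⟨y', hy', e'⟩ := hwX t⁻¹ z hz
          -- express the lower root element through the Weyl element
          obtain ⟨z', hz', ez⟩ : ∃ z' ∈ X, r (wt t) z' = r (wt 1) z := by
            have hsurj : ∀ w ∈ X', ∃ z' ∈ X, r (wt t) z' = w := by
              let φ : X → X' := fun z' => ⟨r (wt t) z', hwX t z' z'.2⟩
              have hφ : Function.Injective φ := fun c d h => Subtype.ext (by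
                have := congrArg (fun w : X' => r (wt t)⁻¹ (w : M)) h
                simpa only [φ, inv_act] using this)
              have hle : Nat.card ↥(X') ≤ Nat.card X :=
                Nat.card_le_card_of_surjective (fun z' : X => (⟨r (wt 1) z', z', z'.2, rfl⟩ : X'))
                  (by rintro ⟨_, z', hz', rfl⟩; exact ⟨⟨z', hz'⟩, rfl⟩)
              intro w hw
              obtain ⟨z', hz'⟩ := (hφ.bijective_of_nat_card_le hle).2 ⟨w, hw⟩
              exact ⟨z', z'.2, congrArg Subtype.val hz'⟩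
            exact hsurj _ ⟨z, hz, rfl⟩
          have hk := (key t z' hz'.1 hz'.2).2
          rw [show -((t⁻¹ : Fˣ) : F) = a by simp [t]] at hk
          rw [← ez, hk]
          exact sub_mem (AddSubgroup.mem_sup_left (ez ▸ ⟨z, hz, rfl⟩)) (AddSubgroup.mem_sup_right hz')
      · exact hy₀0 (AddSubgroup.mem_bot.1 (h ▸ AddSubgroup.mem_sup_right (show y₀ ∈ X from ⟨hy₀, hy₀q⟩)))
    intro y hy
    obtain ⟨u, ⟨z, hz, rfl⟩, y', hy', e⟩ := AddSubgroup.mem_sup.1 (hV₀ ▸ AddSubgroup.mem_top y : y ∈ V₀)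
    have : r (wt 1) z = 0 := hdis _ (hwW' 1 z hz.1) (by rw [eq_sub_of_add_eq e]; exact sub_mem hy hy'.1)
    rw [← e, this, zero_add]
    exact hy'.2
  have hh : ∀ (t : Fˣ) (y : M), y ∈ W' → r (ht t) y ∈ W' := fun t y hy b => by
    have h := wt_conj_uy 1 b
    simp only [Units.val_one, one_pow, neg_one_mul] at h
    rw [ht, act]
    have h2 : r (wt 1) (r (uy b) (r (wt 1)⁻¹ (r (wt t) y))) = r (wt t) y := by
      rw [← act, h, act, act_inv, hwW' t y hy]
    have := congrArg (r (wt 1)⁻¹) h2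
    rwa [inv_act] at this
  -- the field acting on `W'`
  let fo : Fˣ → AddMonoid.End W' := fun t =>
    (AddMonoidHom.mk' (fun y : W' => (⟨r (ht t) (y : M), hh t y y.2⟩ : W')) fun y z =>
      Subtype.ext (map_add (r (ht t)) (y : M) (z : M)) : W' →+ W')
  let f : F → AddMonoid.End W' := fun t => if h : t = 0 then 0 else fo (Units.mk0 t h)
  have fval : ∀ (t : Fˣ) (y : W'), (f (t : F) y : M) = r (ht t) (y : M) := fun t y => by
    have h : f (t : F) = fo t := (dif_neg t.ne_zero).trans (congrArg fo (Units.ext rfl))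
    rw [h]; rfl
  have hf : ∀ (t : F) (y : W'), r (ux t) (y : M) = y + r (wt 1) (f t y : M) := by
    intro t y
    rcases eq_or_ne t 0 with rfl | ht0
    · rw [show f 0 = 0 from dif_pos rfl, ux_zero, map_one]
      show (y : M) = y + r (wt 1) 0
      rw [map_zero, add_zero]
    · obtain ⟨u, rfl⟩ : ∃ u : Fˣ, (u : F) = t := ⟨Units.mk0 t ht0, rfl⟩
      rw [(key u y y.2 (hX y y.2)).1, fval, ← act]
      simp only [ht, mul_inv_cancel_left]
  have hf_inj : ∀ {y z : W'}, r (wt 1) (y : M) = r (wt 1) (z : M) → y = z := fun {y z} h => Subtype.ext (by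
    have := congrArg (r (wt 1)⁻¹) h
    rwa [inv_act, inv_act] at this)
  have f0 : f 0 = 0 := dif_pos rfl
  have f1 : f 1 = 1 := by
    refine AddMonoidHom.ext fun y => Subtype.ext ?_
    show (f 1 y : M) = (y : M)
    rw [show (1 : F) = ((1 : Fˣ) : F) from Units.val_one.symm, fval, ht, inv_mul_cancel, map_one]; rfl
  have fmul : ∀ s t, f (s * t) = f s * f t := by
    intro s t
    rcases eq_or_ne s 0 with rfl | hs
    · rw [zero_mul, f0, zero_mul]
    rcases eq_or_ne t 0 with rfl | ht0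
    · rw [mul_zero, f0, mul_zero]
    obtain ⟨a, rfl⟩ : ∃ u : Fˣ, (u : F) = s := ⟨Units.mk0 s hs, rfl⟩
    obtain ⟨b, rfl⟩ : ∃ u : Fˣ, (u : F) = t := ⟨Units.mk0 t ht0, rfl⟩
    refine AddMonoidHom.ext fun y => Subtype.ext ?_
    show (f ((a : F) * b) y : M) = (f (a : F) (f (b : F) y) : M)
    rw [← Units.val_mul, fval, fval, fval, ht_mul, act]
  have fadd : ∀ s t, f (s + t) = f s + f t := by
    intro s t
    refine AddMonoidHom.ext fun y => hf_inj ?_
    have h1 := hf (s + t) y
    rw [← ux_mul, act, hf t y, map_add, hf s y, hwW' 1 _ (f t y).2 s, add_assoc] at h1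
    show r (wt 1) (f (s + t) y : M) = r (wt 1) (((f s y : W') : M) + ((f t y : W') : M))
    rw [map_add]
    exact (add_left_cancel h1).symm
  have hfy : ∀ (s : F) (y : W'), r (uy s) (r (wt 1) (y : M)) = r (wt 1) (y : M) + (f s y : M) := by
    intro s y
    rcases eq_or_ne s 0 with rfl | hs
    · rw [uy_zero, map_one, f0]
      simp [AddMonoid.End.coe_one]
    · let t : Fˣ := (Units.mk0 (-s) (neg_ne_zero.2 hs))⁻¹
      let z : W' := f (-s) y
      have hz : r (wt t) (z : M) = r (wt 1) (y : M) := by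
        have : f (t : F) z = y := by
          show (f (t : F) * f (-s)) y = y
          rw [← fmul, show (t : F) * (-s) = 1 by simp [t]; field_simp, f1]; rfl
        conv_rhs => rw [← this]
        rw [fval, ← act]
        simp only [ht, mul_inv_cancel_left]
      have hk := (key t z z.2 (hX z z.2)).2
      rw [show -((t⁻¹ : Fˣ) : F) = s by simp [t], hz] at hk
      rw [hk, sub_eq_add_neg]
      congr 1
      have h0 : f (-s) y + f s y = 0 := by
        rw [← AddMonoid.End.zero_apply (M := W') y, ← f0, ← neg_add_cancel s, fadd]; rfl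
      show -(z : M) = (f s y : M)
      exact neg_eq_of_add_eq_zero_right (congrArg Subtype.val h0)
  have hy₀ne : (⟨y₀, hy₀⟩ : W') ≠ 0 := fun h => hy₀0 (congrArg Subtype.val h)
  let φ : (Fin 2 → F) →+ M :=
    { toFun := fun c => r (wt 1) (f (c 0) ⟨y₀, hy₀⟩ : M) + (f (c 1) ⟨y₀, hy₀⟩ : M)
      map_zero' := by simp [f0]
      map_add' := fun c d => by
        show r (wt 1) (f (c 0 + d 0) _ : M) + (f (c 1 + d 1) _ : M) = _
        rw [fadd, fadd]
        show r (wt 1) (((f (c 0) _ : W') : M) + ((f (d 0) _ : W') : M)) + (((f (c 1) _ : W') : M) + ((f (d 1) _ : W') : M)) = _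
        rw [map_add]
        abel }
  have φ_ux : ∀ a c, r (ux a) (φ c) = φ ![c 0 + a * c 1, c 1] := by
    intro a c
    show r (ux a) (r (wt 1) _ + _) = r (wt 1) (f (c 0 + a * c 1) _ : M) + (f (c 1) _ : M)
    rw [map_add, hwW' 1 _ (f _ _).2 a, hf, fadd, fmul]
    show _ + (_ + r (wt 1) (f a (f (c 1) _) : M)) = r (wt 1) (((f (c 0) _ : W') : M) + (f a (f (c 1) _) : M)) + _
    rw [map_add]
    abel
  have φ_uy : ∀ a c, r (uy a) (φ c) = φ ![c 0, a * c 0 + c 1] := by
    intro a c
    show r (uy a) (r (wt 1) _ + _) = r (wt 1) (f (c 0) _ : M) + (f (a * c 0 + c 1) _ : M)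
    rw [map_add, (f (c 1) _).2 a, hfy, fadd, fmul]
    show (_ + (f a (f (c 0) _) : M)) + _ = _ + ((f a (f (c 0) _) : M) + ((f (c 1) _ : W') : M))
    abel
  have φ_equiv : ∀ (g : SL(2, F)) c, r g (φ c) = φ ((g : Matrix (Fin 2) (Fin 2) F) *ᵥ c) := by
    intro g
    have hg : g ∈ Subgroup.closure (Set.range (ux (F := F)) ∪ Set.range uy) := (by rw [closure_ux_uy]; exact Subgroup.mem_top g)
    induction hg using Subgroup.closure_induction with
    | mem x hx =>
      intro c
      rcases hx with ⟨a, rfl⟩ | ⟨a, rfl⟩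
      · rw [φ_ux]
        congr 1
        ext i; fin_cases i <;> simp [coe_ux, Matrix.mulVec, dotProduct, Fin.sum_univ_two]
      · rw [φ_uy]
        congr 1
        ext i; fin_cases i <;> simp [coe_uy, Matrix.mulVec, dotProduct, Fin.sum_univ_two]
    | one =>
      intro c
      rw [map_one]
      show φ c = φ ((1 : Matrix (Fin 2) (Fin 2) F) *ᵥ c)
      rw [Matrix.one_mulVec]
    | mul x y _ _ hx hy =>
      intro c
      rw [act, hy, hx, Matrix.mulVec_mulVec]
      rfl
    | inv x _ hx =>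
      intro c
      have := hx (((x⁻¹ : SL(2, F)) : Matrix (Fin 2) (Fin 2) F) *ᵥ c)
      rw [Matrix.mulVec_mulVec, show ((x : Matrix (Fin 2) (Fin 2) F) * ((x⁻¹ : SL(2, F)) : Matrix (Fin 2) (Fin 2) F)) = 1 from
        congrArg Subtype.val (mul_inv_cancel x), Matrix.one_mulVec] at this
      rw [← this, inv_act]
  have φ_inj : Function.Injective φ := by
    refine (injective_iff_map_eq_zero φ).2 fun c hc => ?_
    have hc' : r (wt 1) (f (c 0) ⟨y₀, hy₀⟩ : M) + (f (c 1) ⟨y₀, hy₀⟩ : M) = 0 := hc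
    have h0 : r (wt 1) (f (c 0) ⟨y₀, hy₀⟩ : M) = 0 := hdis _ (hwW' 1 _ (f _ _).2)
      (by rw [eq_neg_of_add_eq_zero_left hc']; exact neg_mem (f _ _).2)
    have h1 : (f (c 1) ⟨y₀, hy₀⟩ : M) = 0 := by rwa [h0, zero_add] at hc'
    have h0' : f (c 0) ⟨y₀, hy₀⟩ = 0 := hf_inj (by rw [h0]; exact (map_zero _).symm)
    have hzero : ∀ t, f t ⟨y₀, hy₀⟩ = 0 → t = 0 := fun t h => by
      by_contra ht0
      refine hy₀ne ?_
      calc (⟨y₀, hy₀⟩ : W') = f (t⁻¹ * t) ⟨y₀, hy₀⟩ := by rw [inv_mul_cancel₀ ht0, f1]; rfl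
        _ = f t⁻¹ (f t ⟨y₀, hy₀⟩) := by rw [fmul]; rfl
        _ = 0 := by rw [h, map_zero]
    ext i
    fin_cases i
    · exact hzero _ h0'
    · exact hzero _ (Subtype.ext h1)
  have φ_surj : Function.Surjective φ := by
    have htop : φ.range = ⊤ := by
      refine (hirr φ.range ?_).resolve_left fun h => ?_
      · rintro g _ ⟨c, rfl⟩
        exact ⟨_, (φ_equiv g c).symm⟩
      · have : φ ![0, 1] = 0 := AddSubgroup.mem_bot.1 (h ▸ ⟨_, rfl⟩)
        have := congrFun (φ_inj (this.trans (map_zero φ).symm)) 1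
        simp at this
    exact AddMonoidHom.range_eq_top.1 htop
  let ψ := AddEquiv.ofBijective φ ⟨φ_inj, φ_surj⟩
  refine ⟨ψ.symm.toAddMonoidHom, ψ.symm.bijective, fun g v => ?_⟩
  obtain ⟨c, rfl⟩ := φ_surj v
  show ψ.symm (r g (φ c)) = _ *ᵥ ψ.symm (φ c)
  rw [φ_equiv]
  exact (ψ.symm_apply_apply _).trans (by rw [show ψ.symm (φ c) = c from ψ.symm_apply_apply c])

end

end Cfsg.Agent.Lib.LocalChar.NaturalSLTwo
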