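import Cfsg.Agent.Lib.LocalChar.ThreeSub
import Cfsg.Agent.Lib.PGroupFrattini

/-! For odd `p`, a `p'`-element fixing all elements of order `p` of a `p`-group centralises it. -/

set_option autoImplicit false
set_option linter.unusedSectionVars false

open scoped commutatorElement Pointwise

namespace Cfsg.Agent.Lib.LocalChar

variable {G : Type*} [Group G] [Finite G] {p : ℕ} [hp : Fact p.Prime]

theorem mul_pow_class_two {a b c : G} (hc : b * a = c * (a * b)) (hca : Commute c a) (hcb : Commute c b)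
    (n : ℕ) : (a * b) ^ n = c ^ n.choose 2 * (a ^ n * b ^ n) := by
  have h1 : ∀ m : ℕ, b ^ m * a = c ^ m * (a * b ^ m) := by
    intro m
    induction m with
    | zero => simp
    | succ m ih =>
      calc b ^ (m + 1) * a = b * (b ^ m * a) := by rw [pow_succ']; group
        _ = (b * c ^ m) * a * b ^ m := by rw [ih]; group
        _ = c ^ m * (b * a) * b ^ m := by rw [(hcb.pow_left m).symm.eq]; group
        _ = c ^ (m + 1) * (a * b ^ (m + 1)) := by rw [hc, pow_succ c, pow_succ' b]; group
  induction n with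
  | zero => simp
  | succ n ih =>
    calc (a * b) ^ (n + 1) = c ^ n.choose 2 * a ^ n * (b ^ n * a) * b := by rw [pow_succ, ih]; group
      _ = c ^ n.choose 2 * (a ^ n * c ^ n) * (a * b ^ n) * b := by rw [h1]; group
      _ = c ^ n.choose 2 * (c ^ n * a ^ n) * (a * b ^ n) * b := by rw [(hca.pow_pow n n).eq]
      _ = _ := by
        rw [Nat.choose_succ_succ' n 1, Nat.choose_one_right, add_comm n (n.choose 2), pow_add,
          pow_succ a, pow_succ b]
        group

theorem frattini_map_nz {Q : Subgroup G} {x : G} (hx : x ∈ Subgroup.normalizer (Q : Set G)) :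
    ∀ f ∈ (frattini Q).map Q.subtype, x * f * x⁻¹ ∈ (frattini Q).map Q.subtype := by
  let c : Q ≃* Q :=
    { toFun := fun s => ⟨x * s * x⁻¹, conj_mem_of_nz hx s.2⟩
      invFun := fun s => ⟨x⁻¹ * s * x, by simpa using conj_mem_of_nz (Subgroup.inv_mem _ hx) s.2⟩
      left_inv := fun s => Subtype.ext (by simp [mul_assoc])
      right_inv := fun s => Subtype.ext (by simp [mul_assoc])
      map_mul' := fun a b => Subtype.ext (by simp [mul_assoc]) }
  rintro _ ⟨f, hf, rfl⟩
  have := Subgroup.characteristic_iff_map_eq.1 (inferInstance : (frattini Q).Characteristic) c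
  exact ⟨c f, this ▸ ⟨f, hf, rfl⟩, rfl⟩

theorem commute_of_fixed_orderP (hp2 : p ≠ 2) {x : G} (hx : (orderOf x).Coprime p) :
    ∀ Q : Subgroup G, IsPGroup p Q → x ∈ Subgroup.normalizer (Q : Set G) →
      (∀ u ∈ Q, u ^ p = 1 → Commute x u) → ∀ u ∈ Q, Commute x u := by
  intro Q
  induction Q using WellFoundedLT.induction with
  | _ Q ih =>
    intro hQ hxQ hfix
    rcases eq_or_ne Q ⊥ with hb | hne
    · intro u hu
      rw [hb, Subgroup.mem_bot] at hu
      rw [hu]; exact Commute.one_right x
    set X := Subgroup.zpowers x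
    have hXQ : X ≤ Subgroup.normalizer (Q : Set G) := Subgroup.zpowers_le.2 hxQ
    set D := ⁅Q, X⁆
    have hDQ : D ≤ Q := commutator_le_left_of_nz hXQ
    rcases hDQ.lt_or_eq with hlt | heq
    · have hxD : x ∈ Subgroup.normalizer (D : Set G) :=
        le_nz_commutator hXQ Subgroup.le_normalizer (Subgroup.mem_zpowers x)
      have hcomm := ih D hlt (hQ.to_le hDQ) hxD fun u hu => hfix u (hDQ hu)
      refine commute_of_chain hQ (fun a ha => conj_mem_of_nz hxQ ha) hx hcomm fun a ha => ?_
      have := Subgroup.commutator_mem_commutator (Q.inv_mem ha) (Subgroup.mem_zpowers x)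
      simpa [commutatorElement_def, mul_assoc] using this
    haveI : Group.IsNilpotent Q := hQ.isNilpotent
    haveI : Nontrivial Q := Q.nontrivial_iff_ne_bot.2 hne
    set F := (frattini Q).map Q.subtype
    have hFQ : F < Q := by
      refine lt_of_le_of_ne (Subgroup.map_subtype_le _) fun e => ?_
      obtain ⟨M, hM, -⟩ := (eq_top_or_exists_le_coatom (⊥ : Subgroup Q)).resolve_left bot_ne_top
      refine hM.1 (top_le_iff.1 ?_)
      have : frattini Q = ⊤ := Subgroup.map_injective Q.subtype_injective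
        (by rw [← MonoidHom.range_eq_map, Subgroup.range_subtype]; exact e)
      exact this ▸ frattini_le_coatom hM
    have hxF : x ∈ Subgroup.normalizer (F : Set G) := by
      refine (le_nz_iff (K := X)).2 (fun k hk f hf => ?_) (Subgroup.mem_zpowers x)
      exact frattini_map_nz (hXQ hk) f hf
    have hcomm := ih F hFQ (hQ.to_le hFQ.le) hxF fun u hu => hfix u (hFQ.le hu)
    have hQF : Q ≤ Subgroup.normalizer (F : Set G) :=
      le_nz_iff.2 fun k hk f hf => frattini_map_nz (Subgroup.le_normalizer hk) f hf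
    have hXF : ⁅X, F⁆ = ⊥ := by
      rw [Subgroup.commutator_eq_bot_iff_le_centralizer, Subgroup.zpowers_le]
      exact Subgroup.mem_centralizer_iff.2 fun f hf => (hcomm f hf).symm.eq
    have hcen : ∀ f ∈ F, ∀ q ∈ Q, Commute q f := by
      have h1 : ⁅⁅F, Q⁆, X⁆ = ⊥ := le_bot_iff.1 ((Subgroup.commutator_mono
        ((Subgroup.commutator_comm F Q).le.trans (Subgroup.commutator_le.2 fun q hq f hf => by
          rw [commutatorElement_def]
          exact F.mul_mem (conj_mem_of_nz (hQF hq) hf) (F.inv_mem hf))) le_rfl).trans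
            ((Subgroup.commutator_comm F X).trans hXF).le)
      have h3 := Subgroup.commutator_commutator_eq_bot_of_rotate
        (H₁ := Q) (H₂ := X) (H₃ := F) (by rw [hXF, Subgroup.commutator_bot_left]) h1
      rw [show ⁅Q, X⁆ = Q from heq, Subgroup.commutator_eq_bot_iff_le_centralizer] at h3
      exact fun f hf q hq => (Subgroup.mem_centralizer_iff.1 (h3 hq) f hf).symm
    intro u hu
    set v := x * u * x⁻¹
    have hv : v ∈ Q := conj_mem_of_nz hxQ hu
    have hpow : ∀ w ∈ Q, w ^ p ∈ F := fun w hw =>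
      ⟨⟨w, hw⟩ ^ p, Cfsg.Agent.Lib.PGroupFrattini.pow_mem_frattini hQ ⟨w, hw⟩, by simp⟩
    have hcom : ∀ a ∈ Q, ∀ b ∈ Q, ⁅a, b⁆ ∈ F := fun a ha b hb =>
      ⟨⁅(⟨a, ha⟩ : Q), ⟨b, hb⟩⁆, Cfsg.Agent.Lib.PGroupFrattini.commutator_le_frattini hQ (Subgroup.commutator_mem_commutator (Subgroup.mem_top _) (Subgroup.mem_top _)), rfl⟩
    set c := ⁅v, u⁻¹⁆
    have hcF : c ∈ F := hcom v hv u⁻¹ (Q.inv_mem hu)
    have hcv : Commute v c := hcen c hcF v hv
    have hcu : Commute u⁻¹ c := hcen c hcF _ (Q.inv_mem hu)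
    have hcp : c ^ p = 1 := by
      have hk : ∀ k : ℕ, v ^ k * u⁻¹ = c ^ k * (u⁻¹ * v ^ k) := by
        intro k
        induction k with
        | zero => simp
        | succ k ih =>
          calc v ^ (k + 1) * u⁻¹ = v * (v ^ k * u⁻¹) := by rw [pow_succ']; group
            _ = (v * c ^ k) * u⁻¹ * v ^ k := by rw [ih]; group
            _ = c ^ k * (v * u⁻¹) * v ^ k := by rw [(hcv.pow_right k).eq]; group
            _ = c ^ (k + 1) * (u⁻¹ * v ^ (k + 1)) := by
              rw [show v * u⁻¹ = c * (u⁻¹ * v) by simp [c, commutatorElement_def, mul_assoc],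
                pow_succ c, pow_succ' v]
              group
      have h := hk p
      rw [(hcen _ (hpow v hv) _ (Q.inv_mem hu)).eq] at h
      exact mul_eq_right.1 h.symm
    have hd : (u⁻¹ * v) ^ p = 1 := by
      rw [mul_pow_class_two (c := c) (by simp [c, commutatorElement_def, mul_assoc]) hcu.symm hcv.symm]
      have hdvd : p ∣ p.choose 2 := Nat.Prime.dvd_choose_self hp.out (by norm_num) (lt_of_le_of_ne hp.out.two_le (Ne.symm hp2))
      obtain ⟨k, hk⟩ := hdvd
      have : v ^ p = u ^ p := by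
        rw [conj_pow, (hcomm _ (hpow u hu)).eq]; group
      rw [hk, pow_mul, hcp, one_pow, one_mul, this, inv_pow, inv_mul_cancel]
    exact commute_of_two_step hx (hfix _ (Q.mul_mem (Q.inv_mem hu) hv) hd) ⟨1, by rw [pow_one]; exact hd⟩

end Cfsg.Agent.Lib.LocalChar
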