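import Cfsg.Agent.Lib.LocalChar.Subnormal

/-! `p`-closed, `p`-irreducible and minimal groups over a subgroup. -/

set_option autoImplicit false
set_option linter.unusedSectionVars false
set_option linter.style.haveILetI false

open scoped commutatorElement Pointwise

namespace Cfsg.Agent.Lib.LocalChar

variable {H : Type*} [Group H] [Finite H] {p : ℕ} [hp : Fact p.Prime]

theorem isPClosed_iff : Cfsg.IsPClosed p H ↔ ∀ P : Subgroup H, IsPGroup p P → P ≤ Cfsg.pCore p H := by
  constructor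
  · intro h P hP
    obtain ⟨T, hT⟩ := hP.exists_le_sylow
    exact hT.trans (le_pCore (h T) T.isPGroup')
  · intro h T
    have : (T : Subgroup H) = Cfsg.pCore p H := le_antisymm (h T T.isPGroup') (pCore_le_sylow T)
    rw [this]
    exact pCore_normal

theorem isPClosed_subgroup_iff {N : Subgroup H} (hN : N.Normal) :
    Cfsg.IsPClosed p ↥N ↔ ∀ P : Subgroup H, IsPGroup p P → P ≤ N → P ≤ Cfsg.pCore p H := by
  rw [isPClosed_iff]
  constructor
  · intro h P hP hPN x hx
    have h1 := h (P.subgroupOf N) (isPGroup_subgroupOf hP) (show (⟨x, hPN hx⟩ : N) ∈ P.subgroupOf N from hx)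
    rw [← pCoreOf_top]
    exact pCoreOf_mono_normal (p := p) (A := N) (H := ⊤) le_top
      (by rw [Subgroup.normalizer_eq_top]) ⟨⟨x, hPN hx⟩, h1, rfl⟩
  · intro h P hP x hx
    have h1 : (x : H) ∈ Cfsg.pCore p H := h (P.map N.subtype) (hP.map _) (Subgroup.map_subtype_le P) ⟨x, hx, rfl⟩
    have h2 : (Cfsg.pCore p H).subgroupOf N ≤ Cfsg.pCore p ↥N :=
      le_pCore ((pCore_normal (G := H) (p := p)).comap N.subtype) (isPGroup_subgroupOf pCore_isPGroup)
    exact h2 h1

theorem resOf_sup_sylow (T : Sylow p H) : Cfsg.pResidual p H ⊔ (T : Subgroup H) = ⊤ := by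
  rw [← resOf_top]
  exact (IsSylowIn.of_le T le_top).resOf_sup

theorem pResidual_le_of_sup {A B : Subgroup H} (hA : IsPGroup p A) (hn : A ≤ Subgroup.normalizer (B : Set H))
    (h : A ⊔ B = ⊤) : Cfsg.pResidual p H ≤ B := by
  rw [← resOf_top, ← h, resOf_sup_pGroup hA hn]
  exact resOf_le B

theorem mem_pResidual {x : H} (hx : (orderOf x).Coprime p) : x ∈ Cfsg.pResidual p H := by
  rw [← resOf_top]; exact mem_resOf (Subgroup.mem_top x) hx

theorem pResidual_le_iff {N : Subgroup H} :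
    Cfsg.pResidual p H ≤ N ↔ ∀ x : H, (orderOf x).Coprime p → x ∈ N :=
  ⟨fun h _ hx => h (mem_pResidual hx), fun h => (Subgroup.closure_le N).2 fun x hx => h x hx⟩

theorem resOf_pResidual : resOf p (Cfsg.pResidual p H) = Cfsg.pResidual p H := by
  rw [← resOf_top, resOf_idem]

theorem normalClosure_top_le {Y : Subgroup H} (hY : Subgroup.normalClosure (Y : Set H) = ⊤) {N : Subgroup H}
    (hN : N.Normal) (h : Y ≤ N) : N = ⊤ :=
  top_le_iff.1 (hY ▸ Subgroup.normalClosure_le_normal h)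

/-- In a `Y`-minimal group a proper subgroup over `Y` lies in the maximal one. -/
theorem minimalOver_le {Y M X : Subgroup H} (h : Cfsg.IsMinimalOver Y) (hM : IsCoatom M) (hYM : Y ≤ M)
    (hYX : Y ≤ X) (hX : X ≠ ⊤) : X ≤ M := by
  obtain ⟨Z, hZ, hXZ⟩ := (eq_top_or_exists_le_coatom X).resolve_left hX
  obtain ⟨M0, -, huniq⟩ := h.2
  rw [huniq M ⟨hM, hYM⟩, ← huniq Z ⟨hZ, hYX.trans hXZ⟩]
  exact hXZ

/-- A group minimal over a Sylow subgroup is `p`-irreducible. -/
theorem irreducible_of_minimalOver (T : Sylow p H) (hmin : Cfsg.IsMinimalOver (T : Subgroup H)) :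
    Cfsg.IsPIrreducible p H := by
  obtain ⟨M, ⟨hM, hTM⟩, -⟩ := hmin.2
  refine ⟨fun h => hM.1 (top_le_iff.1 ?_), fun N hN hNc => ?_⟩
  · rw [← normalClosure_top_le hmin.1 (h T) le_rfl]; exact hTM
  have hNn : (⊤ : Subgroup H) ≤ Subgroup.normalizer (N : Set H) := by
    rw [Subgroup.normalizer_eq_top]
  by_contra hres
  have hNT : N ⊔ (T : Subgroup H) ≠ ⊤ := fun h =>
    hres (pResidual_le_of_sup T.isPGroup' (le_top.trans hNn) (by rw [sup_comm]; exact h))
  have hP : IsSylowIn p ((T : Subgroup H) ⊓ N) N := (IsSylowIn.of_le T le_top).inf le_top hNn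
  have hTn : (T : Subgroup H) ≤ Subgroup.normalizer (((T : Subgroup H) ⊓ N : Subgroup H) : Set H) :=
    le_nz_inf Subgroup.le_normalizer (le_top.trans hNn)
  have hnz : Subgroup.normalizer (((T : Subgroup H) ⊓ N : Subgroup H) : Set H) ≠ ⊤ := by
    intro h
    refine hNc ((isPClosed_subgroup_iff hN).2 fun P hP' hPN => ?_)
    obtain ⟨x, -, hle⟩ := hP.conj_le hP' hPN
    have hn : ((T : Subgroup H) ⊓ N).Normal := Subgroup.normalizer_eq_top_iff.1 h
    intro y hy
    have h1 := le_pCore hn (T.isPGroup'.to_le inf_le_left) (hle (conj_mem_cj (g := x) hy))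
    simpa [mul_assoc] using (pCore_normal (G := H) (p := p)).conj_mem _ h1 x⁻¹
  have h1 := minimalOver_le hmin hM hTM le_sup_right hNT
  have h2 := minimalOver_le hmin hM hTM hTn hnz
  refine hM.1 (top_le_iff.1 ?_)
  rw [← hP.frattini' le_top hNn]
  exact sup_le (le_sup_left.trans h1) (inf_le_right.trans h2)

theorem mem_quotient_pCore_iff {D : Subgroup H} [D.Normal] (hD : IsPGroup p D) {x : H} :
    QuotientGroup.mk' D x ∈ Cfsg.pCore p (H ⧸ D) ↔ x ∈ Cfsg.pCore p H := by
  constructor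
  · intro hx
    refine le_pCore ((pCore_normal (G := H ⧸ D) (p := p)).comap (QuotientGroup.mk' D)) ?_ hx
    exact pCore_isPGroup.comap_of_ker_isPGroup _ (by rw [QuotientGroup.ker_mk']; exact hD)
  · intro hx
    exact le_pCore ((pCore_normal (G := H) (p := p)).map _ (QuotientGroup.mk'_surjective D))
      (pCore_isPGroup.map _) (Subgroup.mem_map_of_mem _ hx)

theorem pResidual_quotient (D : Subgroup H) [D.Normal] :
    Cfsg.pResidual p (H ⧸ D) = (Cfsg.pResidual p H).map (QuotientGroup.mk' D) := by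
  refine le_antisymm ((Subgroup.closure_le _).2 fun x hx => ?_) ?_
  · obtain ⟨g, rfl⟩ := QuotientGroup.mk'_surjective D x
    obtain ⟨a, b, ha, -, hab, ⟨k, hk⟩, hbo⟩ := exists_ppart (p := p) g
    refine ⟨b, mem_pResidual hbo, ?_⟩
    have h1 : QuotientGroup.mk' D a ∈ Subgroup.zpowers (QuotientGroup.mk' D g) := by
      rw [← MonoidHom.map_zpowers]; exact Subgroup.mem_map_of_mem _ ha
    have h2 : QuotientGroup.mk' D a = 1 := eq_one_of_pow_coprime
      (Nat.Coprime.coprime_dvd_left (orderOf_dvd_of_mem_zpowers h1) hx)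
      ⟨k, by rw [← map_pow, ← hk, pow_orderOf_eq_one, map_one]⟩ (pow_orderOf_eq_one _)
    rw [hab, map_mul, h2, one_mul]
  · rw [Subgroup.map_le_iff_le_comap, pResidual_le_iff]
    exact fun x hx => mem_pResidual (Nat.Coprime.coprime_dvd_left (orderOf_map_dvd _ x) hx)

end Cfsg.Agent.Lib.LocalChar
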