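import Cfsg.Agent.Lib.LocalChar.PIrred
import Cfsg.Agent.Lib.LocalChar.FStar
import Cfsg.Agent.Lib.LocalChar.SPE
import Cfsg.Agent.Lib.GS.JoinSubnormal
import Cfsg.Prelude.Def_LocalEven

/-! `p`-minimal groups. -/

set_option autoImplicit false
set_option linter.unusedSectionVars false
set_option linter.style.haveILetI false

namespace Cfsg.Agent.Lib.LocalChar

open Subgroup Cfsg
open scoped commutatorElement

variable {P : Type*} [Group P] [Finite P] {p : ℕ} [hp : Fact p.Prime]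

/-- A join of subnormal subgroups is subnormal. -/
theorem isSubnormal_iSup {ι : Type*} [Finite ι] {f : ι → Subgroup P} (h : ∀ i, (f i).IsSubnormal) :
    (⨆ i, f i).IsSubnormal := by
  classical
  haveI := Fintype.ofFinite ι
  rw [← Finset.sup_univ_eq_iSup]
  exact Finset.sup_induction IsSubnormal.bot (fun _ ha _ hb => GS.isSubnormal_sup ha hb) (fun i _ => h i)

/-- A perfect subgroup lies in `O^p`. -/
theorem perfect_le_pResidual {A : Subgroup P} (hA : ⁅A, A⁆ = A) : A ≤ pResidual p P := by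
  haveI hKn : (pResidual p P).Normal := pResidual_normal
  set π := QuotientGroup.mk' (pResidual p P)
  have hQp : IsPGroup p (P ⧸ pResidual p P) := by
    intro q
    obtain ⟨g, rfl⟩ := QuotientGroup.mk_surjective q
    obtain ⟨k, hk⟩ := pow_mem_resOf (p := p) (mem_top g)
    rw [resOf_top] at hk
    exact ⟨k, by rw [← QuotientGroup.mk_pow, QuotientGroup.eq_one_iff]; exact hk⟩
  haveI : Group.IsNilpotent ↥(A.map π) := (hQp.to_subgroup _).isNilpotent
  by_contra h
  have hne : A.map π ≠ ⊥ := fun e => h (by rwa [Subgroup.map_eq_bot_iff, QuotientGroup.ker_mk'] at e)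
  haveI := (nontrivial_iff_ne_bot _).2 hne
  have h2 : commutator ↥(A.map π) = ⊤ := by
    apply map_injective (A.map π).subtype_injective
    rw [commutator_def, map_commutator, ← MonoidHom.range_eq_map, range_subtype, ← map_commutator, hA]
  exact (Group.IsSolvable.commutator_lt_top_of_nontrivial ↥(A.map π)).ne h2

/-- A supplement of a normal subgroup has index dividing a relative index. -/
theorem index_dvd_of_sup {N H T : Subgroup P} [N.Normal] (h : N ⊔ H = ⊤) (hTN : T ≤ N) (hTH : T ≤ H) :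
    H.index ∣ T.relIndex N := by
  have h1 : N.index = N.relIndex H := by
    rw [← relIndex_top_right, ← h, sup_comm, relIndex_sup_right]
  have h2 := card_mul_index H
  have h3 := card_mul_index N
  have h4 : Nat.card ↥(N.subgroupOf H) * N.relIndex H = Nat.card ↥H := card_mul_index _
  have h5 : Nat.card ↥(N.subgroupOf H) * H.index = Nat.card ↥N := by
    rw [← h1] at h4
    refine Nat.eq_of_mul_eq_mul_left (Nat.pos_of_ne_zero (index_ne_zero_of_finite (H := N))) ?_
    rw [← mul_assoc, mul_comm N.index, h4, h2, mul_comm, h3]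
  have h6 : Nat.card ↥T * T.relIndex N = Nat.card ↥N := by
    rw [← Nat.card_congr (subgroupOfEquivOfLe hTN).toEquiv]
    exact card_mul_index _
  have h7 : Nat.card ↥T ∣ Nat.card ↥(N.subgroupOf H) := by
    rw [← inf_subgroupOf_right, Nat.card_congr (subgroupOfEquivOfLe (inf_le_right : N ⊓ H ≤ H)).toEquiv]
    exact card_dvd_of_le (le_inf hTN hTH)
  obtain ⟨c, hc⟩ := h7
  refine ⟨c, Nat.eq_of_mul_eq_mul_left (Nat.card_pos (α := ↥T)) ?_⟩
  rw [h6, ← h5, hc]; ring

/-- A subgroup of index prime to `p` contains a conjugate of every Sylow subgroup. -/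
theorem exists_cj_le (S : Sylow p P) {H : Subgroup P} (h : ¬ p ∣ H.index) : ∃ g : P, cj g (S : Subgroup P) ≤ H := by
  obtain ⟨R, hR⟩ := exists_isSylowIn (p := p) H
  have hR' : IsSylowIn p R ⊤ := by
    refine ⟨le_top, hR.2.1, ?_⟩
    rw [relIndex_top_right, ← relIndex_mul_index hR.1]
    exact hp.out.not_dvd_mul hR.2.2 h
  obtain ⟨g, -, hle⟩ := hR'.conj_le S.isPGroup' le_top
  exact ⟨g, hle.trans hR.1⟩

section
variable (hP : Cfsg.IsPMinimal p P) (S : Sylow p P) {M : Subgroup P} (hM : IsCoatom M) (hSM : (S : Subgroup P) ≤ M)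
include hP hM hSM

theorem pmin_le {X : Subgroup P} (hSX : (S : Subgroup P) ≤ X) (hX : X ≠ ⊤) : X ≤ M := by
  obtain ⟨Z, hZ, hXZ⟩ := (eq_top_or_exists_le_coatom X).resolve_left hX
  obtain ⟨M0, -, huniq⟩ := (hP S).2
  rw [huniq M ⟨hM, hSM⟩, ← huniq Z ⟨hZ, hSX.trans hXZ⟩]
  exact hXZ

theorem pmin_res_not_le : ¬ pResidual p P ≤ M := fun h =>
  hM.1 (top_le_iff.1 (resOf_sup_sylow S ▸ sup_le h hSM))

theorem pmin_res_le_of_not_le {N : Subgroup P} [N.Normal] (h : ¬ N ≤ M) : pResidual p P ≤ N := by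
  refine pResidual_le_of_sup S.isPGroup' (fun x _ => (normalizer_eq_top (H := N)) ▸ mem_top x) ?_
  by_contra hne
  exact h (le_sup_right.trans (pmin_le hP S hM hSM le_sup_left hne))

theorem pmin_res_le_or {N : Subgroup P} (hN : N.Normal) : pResidual p P ≤ N ∨ N ≤ M.normalCore := by
  by_cases h : N ≤ M
  · exact Or.inr (normal_le_normalCore.2 h)
  · exact Or.inl (pmin_res_le_of_not_le hP S hM hSM h)

theorem pmin_subnormal_inf_le {N : Subgroup P} (hN : N.IsSubnormal) (hNM : N ≤ M) :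
    N ⊓ (S : Subgroup P) ≤ pCore p P := by
  -- a maximal subnormal subgroup inside `M` is normal
  obtain ⟨X, ⟨hX, hNX, hXM⟩, hmax⟩ := (Finite.to_wellFoundedGT (α := Subgroup P)).wf.has_min
    {X : Subgroup P | X.IsSubnormal ∧ N ≤ X ∧ X ≤ M} ⟨N, hN, le_rfl, hNM⟩
  have hXS : (S : Subgroup P) ≤ normalizer (X : Set P) := by
    set X' := ⨆ s : ↥(S : Subgroup P), cj (s : P) X
    have hle : X ≤ X' := le_orbitJoin (S : Subgroup P) X
    have hsub : X'.IsSubnormal := isSubnormal_iSup fun s => isSubnormal_cj hX _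
    have hXM' : X' ≤ M := iSup_le fun s => by
      rw [← cj_eq_of_mem_nz (le_normalizer (hSM s.2) : (s : P) ∈ normalizer (M : Set P))]
      exact map_mono hXM
    have : X' = X := by
      by_contra hne
      exact hmax X' ⟨hsub, hNX.trans hle, hXM'⟩ (lt_of_le_of_ne hle (Ne.symm hne))
    rw [← this]
    exact le_nz_orbitJoin (S : Subgroup P) X
  have hXn : X.Normal := by
    rw [← normalizer_eq_top_iff]
    by_contra hne
    have hXne : X ≠ ⊤ := fun h => hM.1 (top_le_iff.1 (h ▸ hXM))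
    obtain ⟨Y, hXY, hY, hn⟩ : ∃ Y, X < Y ∧ Y.IsSubnormal ∧ Y ≤ normalizer (X : Set P) := by
      clear hmax hXS hne hXM hNX
      induction hX with
      | top => exact absurd rfl hXne
      | step H K hle hK hn ih =>
        rcases hle.eq_or_lt with rfl | hlt
        · exact ih hXne
        · exact ⟨K, hlt, hK, le_nz_pointwise hlt.le hn⟩
    exact hmax Y ⟨hY, hNX.trans hXY.le, hn.trans (pmin_le hP S hM hSM hXS hne)⟩ hXY
  haveI := hXn
  have hT : IsSylowIn p ((S : Subgroup P) ⊓ X) X :=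
    (IsSylowIn.of_le S le_top).inf le_top (by rw [normalizer_eq_top])
  set T := (S : Subgroup P) ⊓ X with hTdef
  have hTn : T.Normal := by
    rw [← normalizer_eq_top_iff]
    by_contra hne
    refine hM.1 (top_le_iff.1 ?_)
    rw [← hT.frattini' le_top (by rw [normalizer_eq_top])]
    exact sup_le hXM (inf_le_right.trans (pmin_le hP S hM hSM
      (le_nz_inf le_normalizer (by rw [normalizer_eq_top]; exact le_top)) hne))
  intro x hx
  exact le_pCore hTn hT.2.1 (⟨hx.2, hNX hx.1⟩ : x ∈ T)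

/-- For a normal subgroup and a prime, some conjugate of a normalised extension of a Sylow subgroup
is normalised by `S`. -/
theorem pmin_exists_nz {q : ℕ} [Fact q.Prime] {N : Subgroup P} [N.Normal] {T : Subgroup P} [T.Normal]
    (hTN : T ≤ N) (hT : ¬ p ∣ T.relIndex N) :
    ∃ Q : Subgroup P, IsSylowIn q Q N ∧ (S : Subgroup P) ≤ normalizer ((T ⊔ Q : Subgroup P) : Set P) ∧
      N ⊔ normalizer ((T ⊔ Q : Subgroup P) : Set P) = ⊤ := by
  obtain ⟨Q, hQ⟩ := exists_isSylowIn (p := q) N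
  set W := T ⊔ Q with hW
  have hsup : N ⊔ normalizer (W : Set P) = ⊤ := by
    rw [eq_top_iff, ← hQ.frattini' (H := ⊤) le_top (by rw [normalizer_eq_top])]
    exact sup_le_sup_left (inf_le_right.trans (le_nz_sup (fun x _ => (normalizer_eq_top (H := T)) ▸ mem_top x) le_rfl)) _
  have hTW : T ≤ normalizer (W : Set P) := le_sup_left.trans le_normalizer
  obtain ⟨g, hg⟩ := exists_cj_le S (H := normalizer (W : Set P))
    (fun hd => hT (hd.trans (index_dvd_of_sup hsup hTN hTW)))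
  have hTg : cj g⁻¹ T = T := cj_eq_of_mem_nz ((normalizer_eq_top (H := T)) ▸ mem_top g⁻¹)
  have hNg : cj g⁻¹ N = N := cj_eq_of_mem_nz ((normalizer_eq_top (H := N)) ▸ mem_top g⁻¹)
  have hWg : cj g⁻¹ W = T ⊔ cj g⁻¹ Q := by
    rw [hW, cj, Subgroup.map_sup]
    exact congrArg (· ⊔ _) hTg
  refine ⟨cj g⁻¹ Q, hQ.conj ((normalizer_eq_top (H := N)) ▸ mem_top g⁻¹), ?_, ?_⟩
  · rw [← hWg]
    intro s hs
    have h1 : g * s * g⁻¹ ∈ normalizer (W : Set P) :=
      hg (show g * s * g⁻¹ ∈ cj g (S : Subgroup P) from ⟨s, hs, rfl⟩)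
    refine mem_nz_of_cj_eq ?_
    rw [cj_cj, show s * g⁻¹ = g⁻¹ * (g * s * g⁻¹) by group, ← cj_cj, cj_eq_of_mem_nz h1]
  · rw [← hWg]
    have : normalizer ((cj g⁻¹ W : Subgroup P) : Set P) = cj g⁻¹ (normalizer (W : Set P)) := (cj_normalizer g⁻¹ W).symm
    rw [this, ← hNg, cj, cj, ← Subgroup.map_sup, hsup, map_top_of_surjective _ (MulEquiv.surjective _)]

/-- A normal `p'`-subgroup of a `p`-minimal group lies in `M` and is nilpotent, unless `O^p` is
contained in a nilpotent subgroup. -/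
theorem pmin_normal_p' {N : Subgroup P} [N.Normal] (hN : ¬ p ∣ Nat.card ↥N) :
    (N ≤ M ∧ Group.IsNilpotent ↥N) ∨ ∃ Q : Subgroup P, Group.IsNilpotent ↥Q ∧ pResidual p P ≤ Q := by
  have key : ∀ (q : ℕ), q.Prime → ∃ Q : Subgroup P, IsSylowIn q Q N ∧
      (Q ≤ M ∧ (N ≤ M → Q.Normal) ∨ Group.IsNilpotent ↥Q ∧ pResidual p P ≤ Q) := by
    intro q hq
    haveI := Fact.mk hq
    obtain ⟨Q, hQ, hS, hsup⟩ := pmin_exists_nz (q := q) hP S hM hSM (N := N) (T := ⊥) bot_le
      (by rwa [relIndex_bot_left])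
    rw [bot_sup_eq] at hS hsup
    refine ⟨Q, hQ, ?_⟩
    by_cases hn : normalizer (Q : Set P) = ⊤
    · haveI : Q.Normal := normalizer_eq_top_iff.1 hn
      by_cases hQM : Q ≤ M
      · exact Or.inl ⟨hQM, fun _ => inferInstance⟩
      · exact Or.inr ⟨hQ.2.1.isNilpotent, pmin_res_le_of_not_le hP S hM hSM hQM⟩
    · refine Or.inl ⟨le_normalizer.trans (pmin_le hP S hM hSM hS hn), fun hNM => absurd ?_ hM.1⟩
      rw [eq_top_iff, ← hsup]
      exact sup_le hNM (pmin_le hP S hM hSM hS hn)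
  by_cases hex : ∃ Q : Subgroup P, Group.IsNilpotent ↥Q ∧ pResidual p P ≤ Q
  · exact Or.inr hex
  left
  have hNM : N ≤ M := by
    refine inf_eq_right.1 (le_antisymm inf_le_right (relIndex_eq_one.1 ?_))
    by_contra hne
    obtain ⟨q, hq, hqd⟩ := Nat.exists_prime_and_dvd hne
    obtain ⟨Q, hQ, h⟩ := key q hq
    rcases h with ⟨hQM, -⟩ | h
    · exact hQ.2.2 (hqd.trans (relIndex_dvd_of_le_left _ (le_inf hQM hQ.1)))
    · exact hex ⟨Q, h⟩
  refine ⟨hNM, (Group.isNilpotent_of_finite_tfae.out 0 3 rfl rfl).2 fun q hq R => ?_⟩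
  obtain ⟨Q, hQ, h⟩ := key q hq.out
  rcases h with ⟨-, hQn⟩ | h
  · haveI := hQn hNM
    haveI : ((hQ.sylow : Sylow q ↥N) : Subgroup ↥N).Normal := by
      rw [hQ.sylow_coe]; exact (inferInstance : Q.Normal).subgroupOf N
    obtain ⟨x, hx⟩ := MulAction.exists_smul_eq ↥N hQ.sylow R
    rw [← hx, Sylow.smul_eq_of_normal]
    infer_instance
  · exact absurd ⟨Q, h⟩ hex

end

end Cfsg.Agent.Lib.LocalChar
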