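import Cfsg.Prelude.Def_PLocal
import Cfsg.Agent.Lib.Hall.Basic
import Cfsg.Agent.Lib.Thompson.Stable
import Cfsg.Agent.Lib.LocalP2.FusionCenter
import Cfsg.Agent.Lib.LocalP2.Replacement

/-! Elementary reductions for rank-one pushing up: a Sylow subgroup in a unique maximal subgroup. -/

set_option autoImplicit false
set_option linter.unusedSectionVars false

namespace Cfsg.Agent.Lib.LocalChar.PushingUp

open Subgroup Cfsg.Agent.Lib.LocalP2
open scoped commutatorElement

variable {G : Type*} [Group G] [Finite G] {p : ℕ} [Fact p.Prime] (S : Sylow p G)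

/-- A normal subgroup either covers `G` with `S`, or meets `S` in a normal subgroup. -/
theorem dichotomy (hE₂ : ∃! M : Subgroup G, IsCoatom M ∧ (S : Subgroup G) ≤ M) (N : Subgroup G)
    [N.Normal] : N ⊔ (S : Subgroup G) = ⊤ ∨ ((S : Subgroup G) ⊓ N).Normal := by
  obtain ⟨M, hM, huniq⟩ := hE₂
  refine or_iff_not_imp_left.2 fun hne => ?_
  obtain ⟨M', hM', hle⟩ := (eq_top_or_exists_le_coatom (N ⊔ (S : Subgroup G))).resolve_left hne
  obtain rfl := huniq M' ⟨hM', le_sup_right.trans hle⟩
  obtain ⟨P, hP⟩ := Lib.Thompson.exists_sylow_inf_normal S N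
  have hfr := Sylow.normalizer_sup_eq_top P
  rw [hP] at hfr
  rw [← normalizer_eq_top_iff]
  by_contra hne'
  obtain ⟨M₂, hM₂, hle₂⟩ := (eq_top_or_exists_le_coatom _).resolve_left hne'
  have hS : (S : Subgroup G) ≤ normalizer (((S : Subgroup G) ⊓ N : Subgroup G) : Set G) :=
    (le_inf le_normalizer le_normalizer_of_normal).trans inf_normalizer_le_normalizer_inf
  obtain rfl := huniq M₂ ⟨hM₂, hS.trans hle₂⟩
  exact hM.1.1 (top_le_iff.1 (hfr ▸ sup_le hle₂ (le_sup_left.trans hle)))

/-- A subgroup centralised by `S` and by a normal subgroup covering `G` with `S` is normal. -/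
theorem normal_of_centralized {N X : Subgroup G} (hN : N ⊔ (S : Subgroup G) = ⊤)
    (h1 : N ≤ centralizer (X : Set G)) (h2 : (S : Subgroup G) ≤ centralizer (X : Set G)) : X.Normal := by
  have h : (⊤ : Subgroup G) ≤ centralizer (X : Set G) := hN ▸ sup_le h1 h2
  refine ⟨fun x hx g => ?_⟩
  rw [← mem_centralizer_iff.1 (h (mem_top g)) x hx, mul_inv_cancel_right]
  exact hx

/-- A normal abelian subgroup of a `p`-group is normalised by a suitable offender. -/
theorem exists_quadratic {V : Subgroup G} (hVS : V ≤ S) (hVn : (S : Subgroup G) ≤ normalizer (V : Set G))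
    (hVc : IsMulCommutative V) (hex : ∃ A, MaxAb A (S : Subgroup G) ∧ ¬ A ≤ centralizer (V : Set G)) :
    ∃ A, MaxAb A (S : Subgroup G) ∧ ¬ A ≤ centralizer (V : Set G) ∧ V ≤ normalizer (A : Set G) := by
  classical
  set T := (S : Subgroup G)
  obtain ⟨A₀, hA₀⟩ := hex
  obtain ⟨A, ⟨hAm, hAR⟩, hmax⟩ := Set.exists_max_image
    {A : Subgroup G | MaxAb A T ∧ ¬ A ≤ centralizer (V : Set G)}
    (fun A : Subgroup G => Nat.card ↥(A ⊓ V)) (Set.toFinite _) ⟨A₀, hA₀⟩
  refine ⟨A, hAm, hAR, ?_⟩
  by_contra hnot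
  have hnot' : ¬ V.subgroupOf T ≤ normalizer ((A.subgroupOf T : Subgroup T) : Set T) := by
    intro h
    refine hnot fun v hv => ?_
    refine mem_normalizer_iff.2 fun a => ⟨fun ha => ?_, fun ha => ?_⟩
    · exact (mem_normalizer_iff.1 (h (show (⟨v, hVS hv⟩ : T) ∈ V.subgroupOf T from hv)) ⟨a, hAm.1 ha⟩).1 ha
    · have haT : a ∈ T := by
        have := T.mul_mem (T.mul_mem (T.inv_mem (hVS hv)) (hAm.1 ha)) (hVS hv)
        simpa [mul_assoc] using this
      exact (mem_normalizer_iff.1 (h (show (⟨v, hVS hv⟩ : T) ∈ V.subgroupOf T from hv)) ⟨a, haT⟩).2 ha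
  obtain ⟨A', hA'c, hA'card, hA'V, hA'N, -⟩ := thompson_replacement (G := T) S.2
    (A := A.subgroupOf T) (D := V.subgroupOf T) ((ab_subgroupOf hAm.1).2 hAm.2.1)
    ((ab_subgroupOf hVS).2 hVc)
    (fun a ha => mem_normalizer_iff.2 fun b => mem_normalizer_iff.1 (hVn a.2) b) hnot'
  set B := A'.map T.subtype with hB
  have hBm : MaxAb B T := maxAb_of_card (map_subtype_le _) inferInstance (by
    rw [← hAm.card_eq, hB, card_subtype, ← Nat.card_congr (subgroupOfEquivOfLe hAm.1).toEquiv]
    exact hA'card)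
  have hlt : A ⊓ V < B ⊓ V := by
    have h1 := map_lt_map_iff_of_injective (f := T.subtype) T.subtype_injective |>.2 hA'V
    rwa [map_inf _ _ _ T.subtype_injective, map_inf _ _ _ T.subtype_injective,
      map_subgroupOf_eq_of_le hAm.1, map_subgroupOf_eq_of_le hVS] at h1
  have hBV : B ≤ centralizer (V : Set G) := by
    by_contra hBR
    exact (Nat.not_lt.2 (hmax B ⟨hBm, hBR⟩)) (lt_of_le_of_ne (card_le_of_le hlt.le)
      fun e => hlt.ne (eq_of_le_of_card_ge hlt.le e.ge))
  have hBVc : IsMulCommutative (B ⊔ V : Subgroup G) := by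
    rw [← le_centralizer_iff_isMulCommutative]
    have hVV : V ≤ centralizer (V : Set G) := le_centralizer_iff_isMulCommutative.2 hVc
    have hBB : B ≤ centralizer (B : Set G) := le_centralizer_iff_isMulCommutative.2 inferInstance
    have hVB : V ≤ centralizer (B : Set G) := le_centralizer_iff.1 hBV
    rw [le_centralizer_iff]
    refine sup_le ?_ ?_ <;> rw [le_centralizer_iff]
    · exact sup_le hBB hVB
    · exact sup_le hBV hVV
  have hBeq : B = B ⊔ V := eq_of_le_of_card_ge le_sup_left (hBm.2.2 _ (sup_le hBm.1 hVS) hBVc)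
  refine hnot' fun v hv => hA'N ?_
  have : (v : G) ∈ B := hBeq ▸ mem_sup_right hv
  obtain ⟨w, hw, he⟩ := this
  exact Subtype.ext he ▸ hw

/-- An offending element whose `p`-th power acts trivially centralises the `p`-th powers. -/
theorem exists_centralizing_powers {V : Subgroup G} (hVS : V ≤ S)
    (hVn : (S : Subgroup G) ≤ normalizer (V : Set G)) (hVc : IsMulCommutative V)
    (hex : ∃ A, MaxAb A (S : Subgroup G) ∧ ¬ A ≤ centralizer (V : Set G)) :
    ∃ a ∈ (S : Subgroup G), a ∉ centralizer (V : Set G) ∧ ∀ v ∈ V, Commute a (v ^ p) := by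
  classical
  obtain ⟨A, hAm, hAR, hVA⟩ := exists_quadratic S hVS hVn hVc hex
  obtain ⟨b, hbA, hb⟩ := SetLike.not_le_iff_exists.1 hAR
  have hfin : ∃ k, b ^ p ^ k ∈ centralizer (V : Set G) := by
    obtain ⟨k, hk⟩ := S.2 ⟨b, hAm.1 hbA⟩
    exact ⟨k, by rw [show b ^ p ^ k = 1 from congrArg Subtype.val hk]; exact one_mem _⟩
  obtain ⟨k, hk⟩ : ∃ k, Nat.find hfin = k + 1 := by
    rcases h : Nat.find hfin with _ | k
    · have := Nat.find_spec hfin
      rw [h, pow_zero, pow_one] at this
      exact absurd this hb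
    · exact ⟨k, rfl⟩
  set a := b ^ p ^ k with ha
  have haA : a ∈ A := pow_mem hbA _
  have hap : a ^ p ∈ centralizer (V : Set G) := by
    have := Nat.find_spec hfin
    rwa [hk, pow_succ, pow_mul] at this
  have haV : a ∉ centralizer (V : Set G) := Nat.find_min hfin (by omega)
  refine ⟨a, hAm.1 haA, haV, fun v hv => ?_⟩
  set c := v * a * v⁻¹ * a⁻¹ with hc
  have hcA : c ∈ A := mul_mem ((mem_normalizer_iff.1 (hVA hv) a).1 haA) (inv_mem haA)
  have hcV : c ∈ V := by
    rw [hc, mul_assoc, mul_assoc, ← mul_assoc a]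
    exact mul_mem hv ((mem_normalizer_iff.1 (hVn (hAm.1 haA)) _).1 (inv_mem hv))
  have hca : Commute c a := congrArg Subtype.val (hAm.2.1.is_comm.comm ⟨c, hcA⟩ ⟨a, haA⟩)
  have hcv : Commute v c := congrArg Subtype.val (hVc.is_comm.comm ⟨v, hv⟩ ⟨c, hcV⟩)
  have hcp : c ^ p = 1 := by
    have h1 : (v * a * v⁻¹) ^ p = a ^ p := by
      rw [conj_pow, mem_centralizer_iff.1 hap v hv, mul_inv_cancel_right]
    rw [show v * a * v⁻¹ = c * a by rw [hc]; group, hca.mul_pow] at h1
    exact mul_eq_right.1 h1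
  have hj : ∀ j : ℕ, v ^ j * a = c ^ j * a * v ^ j := by
    intro j
    induction j with
    | zero => simp
    | succ j ih =>
      calc v ^ (j + 1) * a = v * (v ^ j * a) := by rw [pow_succ', mul_assoc]
        _ = (v * c ^ j) * a * v ^ j := by rw [ih]; simp only [mul_assoc]
        _ = c ^ j * (v * a) * v ^ j := by rw [(hcv.pow_right j).eq]; simp only [mul_assoc]
        _ = c ^ j * (c * a * v) * v ^ j := by rw [show v * a = c * a * v by rw [hc]; group]
        _ = _ := by rw [pow_succ c, pow_succ' v]; simp only [mul_assoc]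
  have := hj p
  rw [hcp, one_mul] at this
  exact this.symm

/-- The Thompson subgroup of a normal subgroup is normal. -/
theorem thompson_normal (Q : Subgroup G) [hQ : Q.Normal] : (Cfsg.thompsonSubgroupAOf Q).Normal := by
  refine ⟨fun x hx g => ?_⟩
  let e : Q ≃* Q := MulAut.conjNormal (H := Q) g
  have := thompson_map_iso e (x := ⟨x, thompson_le Q hx⟩) hx
  simpa [e, MulAut.conjNormal_apply] using this

/-- `J(S) = J(Q)` as soon as every abelian subgroup of largest order lies in `Q`. -/
theorem thompson_eq {Q T : Subgroup G} (hQT : Q ≤ T) (h : ∀ A, MaxAb A T → A ≤ Q) :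
    Cfsg.thompsonSubgroupAOf T = Cfsg.thompsonSubgroupAOf Q := by
  obtain ⟨A, hA⟩ := exists_maxAb T
  refine le_antisymm (thompson_le_of_maxAb fun B hB => maxAb_le_thompson
    ⟨h B hB, hB.2.1, fun C hC hCc => hB.2.2 C (hC.trans hQT) hCc⟩) (thompson_mono hQT ?_)
  rw [← hA.card_eq]
  exact card_le_dAb (h A hA) hA.2.1

/-- Centre is in every abelian subgroup of largest order. -/
theorem center_le_maxAb {T A : Subgroup G} (hA : MaxAb A T) : T ⊓ centralizer (T : Set G) ≤ A := by
  intro z hz
  have hc : IsMulCommutative ↥(A ⊔ zpowers z) := by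
    rw [← le_centralizer_iff_isMulCommutative]
    have hAA : A ≤ centralizer (A : Set G) := le_centralizer_iff_isMulCommutative.2 hA.2.1
    have hZA : zpowers z ≤ centralizer (A : Set G) := by
      rw [zpowers_le]
      exact centralizer_le hA.1 hz.2
    have hZZ : zpowers z ≤ centralizer (zpowers z : Set G) :=
      le_centralizer_iff_isMulCommutative.2 inferInstance
    rw [le_centralizer_iff]
    refine sup_le ?_ ?_ <;> rw [le_centralizer_iff]
    · exact sup_le hAA hZA
    · exact sup_le (le_centralizer_iff.1 hZA) hZZ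
  have heq : A = A ⊔ zpowers z :=
    eq_of_le_of_card_ge le_sup_left (hA.2.2 _ (sup_le hA.1 (zpowers_le.2 hz.1)) hc)
  rw [heq]
  exact mem_sup_right (mem_zpowers z)

theorem center_le_centerThompson {T : Subgroup G} :
    T ⊓ centralizer (T : Set G) ≤ Cfsg.centerThompsonAOf T := by
  intro z hz
  obtain ⟨A, hA⟩ := exists_maxAb T
  exact ⟨maxAb_le_thompson hA (center_le_maxAb hA hz), centralizer_le (thompson_le T) hz.2⟩

/-- `℧¹(Z(S))` or `C_S(Z(J(S)))` is normal. -/
theorem agemo_center_or (hE₁ : centralizer (Cfsg.pCore p G : Set G) ≤ Cfsg.pCore p G)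
    (hE₂ : ∃! M : Subgroup G, IsCoatom M ∧ (S : Subgroup G) ≤ M) :
    (Cfsg.powerClosure p 1 ((S : Subgroup G) ⊓ centralizer ((S : Subgroup G) : Set G))).Normal ∨
      ((S : Subgroup G) ⊓ centralizer (Cfsg.centerThompsonAOf (S : Subgroup G) : Set G)).Normal := by
  set Z := (S : Subgroup G) ⊓ centralizer ((S : Subgroup G) : Set G) with hZ
  set Q := Cfsg.pCore p G with hQ
  haveI : Q.Normal := inferInstance
  have hQp : IsPGroup p Q := Lib.Hall.isPGroup_pCore p
  have hQS : Q ≤ (S : Subgroup G) := by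
    obtain ⟨T, hT⟩ := hQp.exists_le_sylow
    obtain ⟨g, hg⟩ := MulAction.exists_smul_eq G T S
    intro x hx
    rw [← hg, Sylow.coe_subgroup_smul, mem_pointwise_smul_iff_inv_smul_mem]
    exact hT (by simpa [MulAut.smul_def] using (inferInstance : Q.Normal).conj_mem x hx g⁻¹)
  set U := Cfsg.powerClosure p 1 Z with hU
  have hUZ : U ≤ Z := (closure_le _).2 (by rintro _ ⟨x, hx, rfl⟩; exact pow_mem hx _)
  have hUS : (S : Subgroup G) ≤ centralizer (U : Set G) := le_centralizer_iff.1 (hUZ.trans inf_le_right)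
  have hZQ : Z ≤ Q ⊓ centralizer (Q : Set G) :=
    le_inf ((inf_le_right.trans (centralizer_le hQS)).trans hE₁) (inf_le_right.trans (centralizer_le hQS))
  set V := normalClosure (Z : Set G) with hV
  have hVQ : V ≤ Q ⊓ centralizer (Q : Set G) := normalClosure_le_normal hZQ
  haveI hVc : IsMulCommutative V := by
    rw [← le_centralizer_iff_isMulCommutative]
    exact (hVQ.trans inf_le_right).trans (centralizer_le (hVQ.trans inf_le_left))
  have hZV : Z ≤ V := le_normalClosure
  haveI : (centralizer (V : Set G)).Normal := inferInstance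
  rcases dichotomy S hE₂ (centralizer (V : Set G)) with hN | hN
  · exact Or.inl (normal_of_centralized S hN (centralizer_le (hUZ.trans hZV)) hUS)
  have hCQ : (S : Subgroup G) ⊓ centralizer (V : Set G) ≤ Q :=
    Lib.Hall.le_pCore (S.2.to_le inf_le_left)
  by_cases hex : ∃ A, MaxAb A (S : Subgroup G) ∧ ¬ A ≤ centralizer (V : Set G)
  · obtain ⟨a, haS, haV, hav⟩ := exists_centralizing_powers S ((hVQ.trans inf_le_left).trans hQS)
      le_normalizer_of_normal hVc hex
    set X := Cfsg.powerClosure p 1 V with hX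
    haveI : X.Normal := ⟨fun x hx g => by
      induction hx using closure_induction with
      | mem y hy =>
        obtain ⟨v, hv, rfl⟩ := hy
        exact subset_closure ⟨g * v * g⁻¹, (inferInstance : V.Normal).conj_mem v hv g, conj_pow.symm⟩
      | one => simp
      | mul y z _ _ iy iz => simpa [mul_assoc] using mul_mem iy iz
      | inv y _ iy => simpa [mul_assoc] using inv_mem iy⟩
    have haX : a ∈ centralizer (X : Set G) := by
      rw [hX, Cfsg.powerClosure, centralizer_closure, mem_centralizer_iff]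
      rintro _ ⟨v, hv, rfl⟩
      rw [pow_one]
      exact (hav v hv).symm.eq
    rcases dichotomy S hE₂ (centralizer (X : Set G)) with hM | hM
    · refine Or.inl (normal_of_centralized S hM (centralizer_le ?_) hUS)
      exact closure_mono (by rintro _ ⟨x, hx, rfl⟩; exact ⟨x, hZV hx, rfl⟩)
    · exfalso
      have haQ : a ∈ Q := Lib.Hall.le_pCore (S.2.to_le inf_le_left) (mem_inf.2 ⟨haS, haX⟩)
      exact haV ((le_centralizer_iff.1 (hVQ.trans inf_le_right)) haQ)
  · push Not at hex
    have hJ : Cfsg.thompsonSubgroupAOf (S : Subgroup G) = Cfsg.thompsonSubgroupAOf Q :=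
      thompson_eq hQS fun A hA => (le_inf hA.1 (hex A hA)).trans hCQ
    haveI : (Cfsg.centerThompsonAOf (S : Subgroup G)).Normal := by
      haveI := thompson_normal Q
      rw [Cfsg.centerThompsonAOf, hJ]
      infer_instance
    rcases dichotomy S hE₂ (centralizer (Cfsg.centerThompsonAOf (S : Subgroup G) : Set G)) with hM | hM
    · exact Or.inl (normal_of_centralized S hM (centralizer_le (hUZ.trans center_le_centerThompson)) hUS)
    · exact Or.inr hM

end Cfsg.Agent.Lib.LocalChar.PushingUp
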