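import Cfsg.Agent.Lib.LocalChar.RankOneBound
import Cfsg.Agent.Lib.Coprime.Action

/-! Rank-one pushing up: `[Z(J(S)), S]`. -/

set_option autoImplicit false
set_option linter.unusedSectionVars false

namespace Cfsg.Agent.Lib.LocalChar.PushingUpZJ

open Subgroup Cfsg.Agent.Lib.LocalP2 Cfsg.Agent.Lib.LocalChar.PushingUp
open Cfsg.Agent.Lib.LocalChar.RankOneBound
open scoped commutatorElement IsMulCommutative

variable {G : Type*} [Group G] [Finite G] {p : ℕ} [Fact p.Prime]

theorem ab_sup {A B : Subgroup G} (hA : IsMulCommutative A) (hB : IsMulCommutative B)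
    (h : B ≤ centralizer (A : Set G)) : IsMulCommutative ↥(A ⊔ B) := by
  rw [← le_centralizer_iff_isMulCommutative] at hA hB ⊢
  refine sup_le (le_centralizer_iff.1 (sup_le hA h)) (le_centralizer_iff.1 (sup_le ?_ hB))
  exact le_centralizer_iff.1 h

/-- A largest abelian subgroup contains the abelian subgroups centralising it. -/
theorem le_of_maxAb {A T B : Subgroup G} (hA : MaxAb A T) (hBT : B ≤ T) (hBc : IsMulCommutative B)
    (h : B ≤ centralizer (A : Set G)) : B ≤ A :=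
  le_sup_right.trans (eq_of_le_of_card_ge (le_sup_left : A ≤ A ⊔ B)
    (hA.2.2 _ (sup_le hA.1 hBT) (ab_sup hA.2.1 hBc h))).ge

theorem zj_le {A T : Subgroup G} (hA : MaxAb A T) : Cfsg.centerThompsonAOf T ≤ A := by
  refine le_of_maxAb hA (inf_le_left.trans (thompson_le T)) ?_ (inf_le_right.trans (centralizer_le (maxAb_le_thompson hA)))
  exact le_centralizer_iff_isMulCommutative.1 (inf_le_right.trans (centralizer_le inf_le_left))

theorem le_normalizer_zj (T : Subgroup G) : T ≤ normalizer (Cfsg.centerThompsonAOf T : Set G) := by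
  have key : ∀ g ∈ T, ∀ x ∈ Cfsg.thompsonSubgroupAOf T, g * x * g⁻¹ ∈ Cfsg.thompsonSubgroupAOf T := by
    intro g hg
    refine thompson_le_of_maxAb (K := (Cfsg.thompsonSubgroupAOf T).comap (MulAut.conj g).toMonoidHom) fun A hA x hx => ?_
    have hm : MaxAb (A.map (MulAut.conj g).toMonoidHom) T := by
      have := hA.2.1
      refine ⟨?_, Subgroup.map_isMulCommutative A _, fun B hB hBc => ?_⟩
      · rintro _ ⟨y, hy, rfl⟩
        exact mul_mem (mul_mem hg (hA.1 hy)) (inv_mem hg)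
      · rw [card_map_of_injective (MulAut.conj g).injective]
        exact hA.2.2 B hB hBc
    exact maxAb_le_thompson hm (mem_map_of_mem _ hx)
  have hJ : ∀ g ∈ T, g ∈ normalizer (Cfsg.thompsonSubgroupAOf T : Set G) := fun g hg =>
    mem_normalizer_iff.2 fun x => ⟨key g hg x, fun h => by
      simpa [mul_assoc] using key g⁻¹ (inv_mem hg) _ h⟩
  intro g hg
  have h1 := hJ g hg
  refine mem_normalizer_iff.2 fun x => ?_
  simp only [Cfsg.centerThompsonAOf, mem_inf]
  refine and_congr ((mem_normalizer_iff.1 h1) x) ⟨fun h => mem_centralizer_iff.2 fun y hy => ?_,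
    fun h => mem_centralizer_iff.2 fun y hy => ?_⟩
  · have h2 := mem_centralizer_iff.1 h (g⁻¹ * y * g) ((mem_normalizer_iff''.1 h1 y).1 hy)
    calc y * (g * x * g⁻¹) = g * (g⁻¹ * y * g * x) * g⁻¹ := by group
      _ = g * (x * (g⁻¹ * y * g)) * g⁻¹ := by rw [h2]
      _ = _ := by group
  · have h2 := mem_centralizer_iff.1 h (g * y * g⁻¹) ((mem_normalizer_iff.1 h1 y).1 hy)
    calc y * x = g⁻¹ * (g * y * g⁻¹ * (g * x * g⁻¹)) * g := by group
      _ = g⁻¹ * (g * x * g⁻¹ * (g * y * g⁻¹)) * g := by rw [h2]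
      _ = _ := by group

variable (S : Sylow p G)

theorem pCore_le_sylow : Cfsg.pCore p G ≤ (S : Subgroup G) := by
  obtain ⟨T, hT⟩ := (Lib.Hall.isPGroup_pCore (G := G) p).exists_le_sylow
  obtain ⟨g, hg⟩ := MulAction.exists_smul_eq G T S
  intro x hx
  rw [← hg, Sylow.coe_subgroup_smul, mem_pointwise_smul_iff_inv_smul_mem]
  exact hT (by simpa [MulAut.smul_def] using
    (inferInstance : (Cfsg.pCore p G).Normal).conj_mem x hx g⁻¹)

/-- A subgroup centralised modulo `Y` by `S` either generates modulo `Y` a normal subgroup,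
or only `O_p` centralises the section. -/
theorem faith_or (hE₂ : ∃! M : Subgroup G, IsCoatom M ∧ (S : Subgroup G) ≤ M) (M Y W : Subgroup G)
    [M.Normal] [Y.Normal] (hWM : W ≤ M) (hW : M ≤ normalClosure (W : Set G))
    (hfix : ∀ g ∈ (S : Subgroup G), ∀ w ∈ W, ⁅g, w⁆ ∈ Y) :
    M ≤ W ⊔ Y ∨ ∀ g ∈ (S : Subgroup G), (∀ m ∈ M, ⁅g, m⁆ ∈ Y) → g ∈ Cfsg.pCore p G := by
  let f := QuotientGroup.mk' Y
  have hf : ∀ (X : Subgroup G) g, g ∈ (centralizer ((X.map f : Subgroup (G ⧸ Y)) : Set (G ⧸ Y))).comap f ↔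
      ∀ x ∈ X, ⁅g, x⁆ ∈ Y := by
    intro X g
    rw [mem_comap, mem_centralizer_iff]
    refine ⟨fun h x hx => ?_, ?_⟩
    · rw [← QuotientGroup.eq_one_iff, ← QuotientGroup.mk'_apply, map_commutatorElement,
        commutatorElement_eq_one_iff_mul_comm]
      exact (h _ (mem_map_of_mem f hx)).symm
    · rintro h _ ⟨x, hx, rfl⟩
      refine (commutatorElement_eq_one_iff_mul_comm.1 ?_).symm
      rw [← map_commutatorElement]
      exact (QuotientGroup.eq_one_iff _).2 (h x hx)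
  haveI : (M.map f).Normal := Subgroup.Normal.map inferInstance _ (QuotientGroup.mk'_surjective Y)
  let N := (centralizer ((M.map f : Subgroup (G ⧸ Y)) : Set (G ⧸ Y))).comap f
  rcases dichotomy S hE₂ N with h | h
  · refine Or.inl ?_
    let N' := (centralizer ((W.map f : Subgroup (G ⧸ Y)) : Set (G ⧸ Y))).comap f
    have hN' : (⊤ : Subgroup G) ≤ N' := h ▸ sup_le
      (fun g hg => (hf W g).2 fun x hx => (hf M g).1 hg x (hWM hx)) (fun g hg => (hf W g).2 (hfix g hg))
    have hWY : (W ⊔ Y).Normal := by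
      refine ⟨fun x hx g => ?_⟩
      have hle : W ⊔ Y ≤ (W ⊔ Y).comap (MulAut.conj g).toMonoidHom := by
        refine sup_le (fun w hw => ?_) (fun y hy => mem_sup_right ((inferInstance : Y.Normal).conj_mem y hy g))
        show g * w * g⁻¹ ∈ W ⊔ Y
        rw [show g * w * g⁻¹ = ⁅g, w⁆ * w by simp [commutatorElement_def]]
        exact mul_mem (mem_sup_right ((hf W g).1 (hN' (mem_top g)) w hw)) (mem_sup_left hw)
      exact hle hx
    exact hW.trans (normalClosure_le_normal (fun w hw => mem_sup_left hw))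
  · refine Or.inr fun g hg hgM => ?_
    exact Lib.Hall.le_pCore (S.2.to_le inf_le_left) (mem_inf.2 ⟨hg, (hf M g).2 hgM⟩)

theorem powerClosure_normal (M : Subgroup G) [M.Normal] : (Cfsg.powerClosure p 1 M).Normal :=
  ⟨fun x hx g => by
    induction hx using closure_induction with
    | mem y hy =>
      obtain ⟨v, hv, rfl⟩ := hy
      exact subset_closure ⟨g * v * g⁻¹, (inferInstance : M.Normal).conj_mem v hv g, conj_pow.symm⟩
    | one => simp
    | mul y z _ _ iy iz => simpa [mul_assoc] using mul_mem iy iz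
    | inv y _ iy => simpa [mul_assoc] using inv_mem iy⟩

theorem powerClosure_le (M : Subgroup G) : Cfsg.powerClosure p 1 M ≤ M :=
  (closure_le _).2 (by rintro _ ⟨x, hx, rfl⟩; exact pow_mem hx _)

/-- `℧¹` is omissible in generating an abelian `p`-group. -/
theorem le_of_le_sup_agemo {M H : Subgroup G} (hM : IsPGroup p M) (hMc : IsMulCommutative M) (hHM : H ≤ M)
    (h : M ≤ H ⊔ Cfsg.powerClosure p 1 M) : M ≤ H := by
  haveI : (H.subgroupOf M).Normal := ⟨fun x hx g => by
    rwa [hMc.is_comm.comm g x, mul_inv_cancel_right]⟩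
  have hq : IsPGroup p (↥M ⧸ H.subgroupOf M) := hM.to_quotient _
  let P : ↥M →* ↥M ⧸ H.subgroupOf M :=
    { toFun := fun x => QuotientGroup.mk' _ (x ^ p)
      map_one' := by simp
      map_mul' := fun x y => by rw [(show Commute x y from hMc.is_comm.comm x y).mul_pow, map_mul] }
  have hsurj : ∀ z : ↥M ⧸ H.subgroupOf M, ∃ w, w ^ p = z := by
    intro z
    obtain ⟨⟨x, hx⟩, rfl⟩ := QuotientGroup.mk'_surjective _ z
    have h2 : (H ⊔ Cfsg.powerClosure p 1 M) ≤
        (P.range.comap (QuotientGroup.mk' (H.subgroupOf M))).map M.subtype := by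
      refine sup_le (fun y hy => ⟨⟨y, hHM hy⟩, ?_, rfl⟩) ((closure_le _).2 ?_)
      · show QuotientGroup.mk' _ _ ∈ P.range
        rw [show QuotientGroup.mk' (H.subgroupOf M) ⟨y, hHM hy⟩ = 1 from
          (QuotientGroup.eq_one_iff _).2 (mem_subgroupOf.2 hy)]
        exact one_mem _
      · rintro _ ⟨y, hy, rfl⟩
        exact ⟨⟨y, hy⟩ ^ p, ⟨⟨y, hy⟩, rfl⟩, by simp⟩
    obtain ⟨y, ⟨w, hw⟩, hy⟩ := h2 (h hx)
    obtain rfl : y = ⟨x, hx⟩ := Subtype.ext hy
    exact ⟨QuotientGroup.mk' _ w, by rw [← hw, ← map_pow]; rfl⟩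
  have hinj : Function.Injective (fun w : ↥M ⧸ H.subgroupOf M => w ^ p) :=
    Finite.injective_iff_surjective.2 hsurj
  have htriv : ∀ (k : ℕ) (z : ↥M ⧸ H.subgroupOf M), z ^ p ^ k = 1 → z = 1 := by
    intro k
    induction k with
    | zero => intro z hz; simpa using hz
    | succ k ih =>
      intro z hz
      rw [pow_succ', pow_mul] at hz
      exact hinj (show z ^ p = 1 ^ p by rw [one_pow]; exact ih _ hz)
  intro x hx
  obtain ⟨k, hk⟩ := hq (QuotientGroup.mk' _ ⟨x, hx⟩)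
  exact mem_subgroupOf.1 ((QuotientGroup.eq_one_iff _).1 (htriv k _ hk))

/-- `[M, Q]` is omissible in generating a normal subgroup of a `p`-group `Q` modulo an invariant one. -/
theorem le_of_le_sup_commutator {Q M H : Subgroup G} (hQ : IsPGroup p Q) (hMQ : M ≤ Q) (hHQ : H ≤ Q)
    (hH : Q ≤ normalizer (H : Set G)) (h : M ≤ H ⊔ ⁅M, Q⁆) : M ≤ H := by
  haveI : Group.IsNilpotent Q := hQ.isNilpotent
  obtain ⟨c, hc⟩ := (Subgroup.isNilpotent_iff_lowerCentralSeries Q).1 ‹Group.IsNilpotent Q›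
  suffices hi : ∀ i, M ≤ H ⊔ Q.lowerCentralSeries i by simpa [hc] using hi c
  intro i
  induction i with
  | zero => exact hMQ.trans le_sup_right
  | succ i ih =>
    refine h.trans (sup_le le_sup_left ((commutator_mono ih le_rfl).trans ?_))
    have hLQ : ∀ j, Q.lowerCentralSeries j ≤ Q := fun j => (Q.lowerCentralSeries_antitone (Nat.zero_le j)).trans le_rfl
    have hn : Q ≤ normalizer ((H ⊔ Q.lowerCentralSeries (i + 1) : Subgroup G) : Set G) := by
      intro g hg
      refine Cfsg.Agent.Lib.LocalChar.mem_nz_of_cj_le (le_of_eq ?_)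
      rw [Cfsg.Agent.Lib.LocalChar.cj, Subgroup.map_sup]
      exact congrArg₂ (· ⊔ ·) (Cfsg.Agent.Lib.LocalChar.cj_eq_of_mem_nz (hH hg))
        (Cfsg.Agent.Lib.LocalChar.cj_eq_of_mem_nz (Q.self_le_normalizer_lowerCentralSeries (i + 1) hg))
    refine commutator_le.2 fun x hx q hq => ?_
    have hgen : ∀ y ∈ H ⊔ Q.lowerCentralSeries i, y ∈ Q ∧ ∀ q ∈ Q, ⁅y, q⁆ ∈ H ⊔ Q.lowerCentralSeries (i + 1) := by
      intro y hy
      rw [sup_eq_closure] at hy
      induction hy using closure_induction with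
      | mem y hy =>
        rcases hy with hy | hy
        · refine ⟨hHQ hy, fun q hq => mem_sup_left ?_⟩
          rw [commutatorElement_def, mul_assoc, mul_assoc, ← mul_assoc q]
          exact mul_mem hy ((mem_normalizer_iff.1 (hH hq) _).1 (inv_mem hy))
        · exact ⟨hLQ i hy, fun q hq => mem_sup_right (commutator_mem_commutator hy hq)⟩
      | one => exact ⟨one_mem _, fun q _ => by simp⟩
      | mul y z _ _ iy iz =>
        refine ⟨mul_mem iy.1 iz.1, fun q hq => ?_⟩
        rw [show ⁅y * z, q⁆ = y * ⁅z, q⁆ * y⁻¹ * ⁅y, q⁆ by simp only [commutatorElement_def]; group]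
        exact mul_mem ((mem_normalizer_iff.1 (hn iy.1) _).1 (iz.2 q hq)) (iy.2 q hq)
      | inv y _ iy =>
        refine ⟨inv_mem iy.1, fun q hq => ?_⟩
        rw [show ⁅y⁻¹, q⁆ = y⁻¹ * ⁅y, q⁆⁻¹ * y by simp only [commutatorElement_def]; group]
        exact (mem_normalizer_iff''.1 (hn iy.1) _).1 (inv_mem (iy.2 q hq))
    exact (hgen x hx).2 q hq

/-- The offender inequality. -/
theorem offender {A T Q M : Subgroup G} (hA : MaxAb A T) (hQT : Q ≤ T) (hMQ : M ≤ Q) (hMc : IsMulCommutative M)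
    (hcomm : M ≤ centralizer ((A ⊓ Q : Subgroup G) : Set G)) :
    (M ⊓ A).relIndex M ≤ Q.relIndex A ∧
      (Q.relIndex A ≤ (M ⊓ A).relIndex M → MaxAb ((A ⊓ Q) ⊔ M) T) := by
  have := hA.2.1
  have hc : IsMulCommutative ↥((A ⊓ Q) ⊔ M) := ab_sup
    (le_centralizer_iff_isMulCommutative.1 (inf_le_left.trans
      ((le_centralizer_iff_isMulCommutative.2 hA.2.1).trans (centralizer_le inf_le_left)))) hMc hcomm
  have hsub : (A ⊓ Q) ⊔ M ≤ T := sup_le (inf_le_right.trans hQT) (hMQ.trans hQT)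
  have h1 := Cfsg.Agent.Lib.Coprime.card_sup_mul_card_inf_of_le_normalizer (A := A ⊓ Q) (N := M)
    ((le_centralizer_iff.1 hcomm).trans (centralizer_le_normalizer _))
  have hinf : A ⊓ Q ⊓ M = M ⊓ A := by
    rw [inf_assoc, inf_eq_right.2 hMQ, inf_comm]
  rw [hinf] at h1
  have h2 : Nat.card ↥(M ⊓ A) * (M ⊓ A).relIndex M = Nat.card M := by
    rw [← relIndex_bot_left, ← relIndex_bot_left (H := M), relIndex_mul_relIndex _ _ _ bot_le inf_le_left]
  have h3 : Nat.card ↥(A ⊓ Q) * Q.relIndex A = Nat.card A := by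
    rw [← inf_relIndex_left, ← relIndex_bot_left, ← relIndex_bot_left (H := A),
      relIndex_mul_relIndex _ _ _ bot_le inf_le_left]
  rw [← h2, mul_left_comm] at h1
  have e : Nat.card ↥((A ⊓ Q) ⊔ M) = Nat.card ↥(A ⊓ Q) * (M ⊓ A).relIndex M :=
    Nat.eq_of_mul_eq_mul_right Nat.card_pos (by rw [h1]; ring)
  constructor
  · have h4 := hA.2.2 _ hsub hc
    rw [e, ← h3] at h4
    exact Nat.le_of_mul_le_mul_left h4 Nat.card_pos
  · refine fun h => ⟨hsub, hc, fun B hB hBc => (hA.2.2 B hB hBc).trans ?_⟩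
    rw [e, ← h3]
    exact Nat.mul_le_mul_left _ h

/-- `[Z(J(S)), S] ∩ Z(S)` or `C_S(Z(J(S)))` is normal. -/
theorem commutator_center_or (hE₁ : centralizer (Cfsg.pCore p G : Set G) ≤ Cfsg.pCore p G)
    (hE₂ : ∃! M : Subgroup G, IsCoatom M ∧ (S : Subgroup G) ≤ M) {F : Type*} [Field F] [Fintype F] {n : ℕ}
    (hn : 1 ≤ n) (hF : Fintype.card F = p ^ n) (π : G →* Matrix.ProjectiveSpecialLinearGroup (Fin 2) F)
    (hπs : Function.Surjective π) :
    (⁅Cfsg.centerThompsonAOf (S : Subgroup G), (S : Subgroup G)⁆ ⊓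
        ((S : Subgroup G) ⊓ centralizer ((S : Subgroup G) : Set G))).Normal ∨
      ((S : Subgroup G) ⊓ centralizer (Cfsg.centerThompsonAOf (S : Subgroup G) : Set G)).Normal := by
  set T := (S : Subgroup G) with hTdef
  set Q := Cfsg.pCore p G
  set R := Cfsg.centerThompsonAOf T with hRdef
  set Z := T ⊓ centralizer (T : Set G)
  set U := ⁅R, T⁆ ⊓ Z
  have hQp : IsPGroup p Q := Lib.Hall.isPGroup_pCore p
  have hQT : Q ≤ T := pCore_le_sylow S
  have hUS : T ≤ centralizer (U : Set G) := le_centralizer_iff.1 ((inf_le_right : U ≤ Z).trans inf_le_right)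
  have hUR : U ≤ R := (inf_le_right : U ≤ Z).trans center_le_centerThompson
  -- `T ∩ ker π = Q`
  have hQker : Q ≤ π.ker := by
    haveI : (Q.map π).Normal := Subgroup.Normal.map inferInstance π hπs
    exact (Subgroup.map_eq_bot_iff _).1 (normal_pgroup_eq_bot hn hF (hQp.map π))
  have hTker : T ⊓ π.ker ≤ Q := by
    rcases dichotomy S hE₂ π.ker with h | h
    · exfalso
      refine not_pgroup hn hF (IsPGroup.of_surjective ((S.2.map π)) (T.map π).subtype fun z => ?_)
      have htop : T.map π = ⊤ := by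
        have := congrArg (Subgroup.map π) h
        rwa [Subgroup.map_sup, (Subgroup.map_eq_bot_iff π.ker).2 le_rfl, bot_sup_eq, map_top_of_surjective π hπs] at this
      exact ⟨⟨z, htop ▸ mem_top z⟩, rfl⟩
    · exact Lib.Hall.le_pCore (S.2.to_le inf_le_left)
  have hq : ∀ A ≤ T, Q.relIndex A = Nat.card (A.map π) := by
    intro A hA
    rw [← relIndex_ker, ← inf_relIndex_left, ← inf_relIndex_left (H := A) (K := π.ker)]
    exact congrArg (Subgroup.relIndex · A) (le_antisymm (inf_le_inf_left A hQker)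
      (fun x hx => ⟨hx.1, hTker ⟨hA hx.1, hx.2⟩⟩))
  have hqle : ∀ A ≤ T, Q.relIndex A ≤ p ^ n := fun A hA =>
    (hq A hA).trans_le (pgroup_card_le hn hF ((S.2.to_le hA).map π))
  -- `V = ⟨Z^G⟩`
  set V := normalClosure (Z : Set G)
  have hZQ : Z ≤ Q ⊓ centralizer (Q : Set G) :=
    le_inf ((inf_le_right.trans (centralizer_le hQT)).trans hE₁) (inf_le_right.trans (centralizer_le hQT))
  have hVQ : V ≤ Q ⊓ centralizer (Q : Set G) := normalClosure_le_normal hZQ
  haveI hVc : IsMulCommutative V := by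
    rw [← le_centralizer_iff_isMulCommutative]
    exact (hVQ.trans inf_le_right).trans (centralizer_le (hVQ.trans inf_le_left))
  rcases dichotomy S hE₂ (centralizer (V : Set G)) with hN | hN
  · exact Or.inl (normal_of_centralized S hN (centralizer_le ((inf_le_right : U ≤ Z).trans le_normalClosure)) hUS)
  have hCQ : T ⊓ centralizer (V : Set G) ≤ Q := Lib.Hall.le_pCore (S.2.to_le inf_le_left)
  have fin : R.Normal → (U.Normal ∨ (T ⊓ centralizer (R : Set G)).Normal) := fun hRn => by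
    haveI := hRn
    rcases dichotomy S hE₂ (centralizer (R : Set G)) with hM | hM
    · exact Or.inl (normal_of_centralized S hM (centralizer_le hUR) hUS)
    · exact Or.inr hM
  by_cases hex : ∃ A, MaxAb A T ∧ ¬ A ≤ centralizer (V : Set G)
  swap
  · push Not at hex
    refine fin ?_
    have hJ : Cfsg.thompsonSubgroupAOf T = Cfsg.thompsonSubgroupAOf Q :=
      thompson_eq hQT fun A hA => (le_inf hA.1 (hex A hA)).trans hCQ
    haveI := thompson_normal Q
    rw [hRdef, Cfsg.centerThompsonAOf, hJ]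
    infer_instance
  obtain ⟨A, hA, hAV⟩ := hex
  have hAQ : ¬ A ≤ Q := fun h => hAV (le_centralizer_iff.1 ((hVQ.trans inf_le_right).trans (centralizer_le h)))
  obtain ⟨a, haA, haQ⟩ := SetLike.not_le_iff_exists.1 hAQ
  have haker : a ∉ π.ker := fun h => haQ (hTker ⟨hA.1 haA, h⟩)
  have hAc : ∀ x ∈ A, ⁅a, x⁆ = 1 := fun x hx =>
    commutatorElement_eq_one_iff_mul_comm.2 (congrArg Subtype.val (hA.2.1.is_comm.comm ⟨a, haA⟩ ⟨x, hx⟩))
  -- the lower bound on `V`
  set YV := Cfsg.powerClosure p 1 V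
  haveI : YV.Normal := powerClosure_normal V
  have hcommV : ∀ x ∈ V, ∀ y ∈ V, ⁅x, y⁆ = 1 := fun x hx y hy =>
    commutatorElement_eq_one_iff_mul_comm.2 (congrArg Subtype.val (hVc.is_comm.comm ⟨x, hx⟩ ⟨y, hy⟩))
  have hVb : p ^ n ≤ (V ⊓ A).relIndex V := by
    have hfaith : ∀ g ∈ T, (∀ m ∈ V, ⁅g, m⁆ ∈ YV) → g ∈ Q := by
      rcases faith_or S hE₂ V YV Z le_normalClosure le_rfl (fun g hg w hw => by
        rw [show ⁅g, w⁆ = 1 from commutatorElement_eq_one_iff_mul_comm.2 (mem_centralizer_iff.1 hw.2 g hg)]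
        exact one_mem _) with h | h
      · have hVZ : V ≤ Z := le_of_le_sup_agemo (hQp.to_le (hVQ.trans inf_le_left)) hVc le_normalClosure h
        exact absurd (hA.1.trans (le_centralizer_iff.1 (hVZ.trans inf_le_right))) hAV
      · exact h
    refine le_trans (quot_bound (T := S) hn hF hπs hQker V YV (V ⊓ A) (hVQ.trans inf_le_left) (powerClosure_le V)
      (fun x hx => ⟨subset_closure ⟨x, hx, by rw [pow_one]⟩, fun y hy => by rw [hcommV x hx y hy]; exact one_mem _⟩)
      hfaith (hA.1 haA) haker inf_le_left (fun c hc => by rw [hAc c hc.2]; exact one_mem _)) ?_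
    exact relIndex_le_of_le_left le_sup_left Subgroup.index_ne_zero_of_finite
  have hVcomm : V ≤ centralizer ((A ⊓ Q : Subgroup G) : Set G) :=
    (hVQ.trans inf_le_right).trans (centralizer_le inf_le_right)
  obtain ⟨hVi, hVm⟩ := offender hA hQT (hVQ.trans inf_le_left) hVc hVcomm
  have hAq : Q.relIndex A = p ^ n := le_antisymm (hqle A hA.1) (hVb.trans hVi)
  have hA' : MaxAb ((A ⊓ Q) ⊔ V) T := hVm ((hqle A hA.1).trans hVb)
  have hA'Q : (A ⊓ Q) ⊔ V ≤ Q := sup_le inf_le_right (hVQ.trans inf_le_left)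
  have hRQ : R ≤ Q := (zj_le hA').trans hA'Q
  -- `T = AQ`
  have hTAQ : T ≤ A ⊔ Q := by
    have hTq : T.map π = A.map π := (eq_of_le_of_card_ge (map_mono hA.1) (by
      rw [← hq A hA.1, hAq]; exact pgroup_card_le hn hF (S.2.map π))).symm
    intro t ht
    obtain ⟨b, hb, hbt⟩ : π t ∈ A.map π := hTq ▸ mem_map_of_mem π ht
    have h' : b⁻¹ * t ∈ Q := hTker ⟨T.mul_mem (T.inv_mem (hA.1 hb)) ht, by
      simp [MonoidHom.mem_ker, map_mul, map_inv, hbt]⟩
    have := mul_mem (mem_sup_left hb : b ∈ A ⊔ Q) (mem_sup_right h' : b⁻¹ * t ∈ A ⊔ Q)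
    rwa [mul_inv_cancel_left] at this
  -- `M = ⟨R^G⟩`
  set M := normalClosure (R : Set G)
  have hdQ : dAb T ≤ dAb Q := hA'.card_eq.ge.trans (card_le_dAb hA'Q hA'.2.1)
  have hJQ : Cfsg.thompsonSubgroupAOf Q ≤ Cfsg.thompsonSubgroupAOf T := thompson_mono hQT hdQ
  haveI := thompson_normal Q
  haveI hR0n : (Cfsg.centerThompsonAOf Q).Normal := by unfold Cfsg.centerThompsonAOf; infer_instance
  have hMR0 : M ≤ Cfsg.centerThompsonAOf Q := normalClosure_le_normal fun r hr =>
    ⟨(zj_le hA').trans (maxAb_le_thompson ⟨hA'Q, hA'.2.1, fun B hB hBc => hA'.2.2 B (hB.trans hQT) hBc⟩) hr,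
      centralizer_le hJQ hr.2⟩
  have hMQ : M ≤ Q := hMR0.trans (inf_le_left.trans (thompson_le Q))
  haveI hMc : IsMulCommutative M := le_centralizer_iff_isMulCommutative.1
    ((hMR0.trans inf_le_right).trans (centralizer_le (hMR0.trans inf_le_left)))
  have hMcomm : M ≤ centralizer ((A ⊓ Q : Subgroup G) : Set G) :=
    (hMR0.trans inf_le_right).trans (centralizer_le ((le_sup_left : A ⊓ Q ≤ (A ⊓ Q) ⊔ V).trans
      (maxAb_le_thompson ⟨hA'Q, hA'.2.1, fun B hB hBc => hA'.2.2 B (hB.trans hQT) hBc⟩)))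
  obtain ⟨hMi, -⟩ := offender hA hQT hMQ hMc hMcomm
  haveI : (⁅M, Q⁆ : Subgroup G).Normal := inferInstance
  set Y := ⁅M, Q⁆ ⊔ Cfsg.powerClosure p 1 M
  haveI : (Cfsg.powerClosure p 1 M).Normal := powerClosure_normal M
  haveI : Y.Normal := inferInstance
  have hYM : Y ≤ M := sup_le (commutator_le_left _ _) (powerClosure_le M)
  have hRT : R ≤ T := inf_le_left.trans (thompson_le T)
  have hRA : ∀ g ∈ A, ∀ w ∈ R, ⁅g, w⁆ = 1 := fun g hg w hw => commutatorElement_eq_one_iff_mul_comm.2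
    (congrArg Subtype.val (hA.2.1.is_comm.comm ⟨g, hg⟩ ⟨w, zj_le hA hw⟩))
  have hRM : R ≤ M := le_normalClosure
  have hfixR : ∀ g ∈ T, ∀ w ∈ R, ⁅g, w⁆ ∈ Y := by
    intro g hg w hw
    have hb : g ∈ A ⊔ Q := hTAQ hg
    rw [← SetLike.mem_coe, Subgroup.coe_mul_of_left_le_normalizer_right A Q le_normalizer_of_normal] at hb
    obtain ⟨b, hb, q, hq', rfl⟩ := hb
    rw [show ⁅b * q, w⁆ = b * ⁅q, w⁆ * b⁻¹ * ⁅b, w⁆ by simp only [commutatorElement_def]; group, hRA b hb w hw, mul_one]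
    refine (inferInstance : Y.Normal).conj_mem _ ?_ b
    rw [← commutatorElement_inv]
    exact inv_mem (mem_sup_left (commutator_mem_commutator (hRM hw) hq'))
  rcases faith_or S hE₂ M Y R hRM le_rfl hfixR with hc | hfaith
  · refine fin ?_
    have h1 : M ≤ R ⊔ ⁅M, Q⁆ := le_of_le_sup_agemo (hQp.to_le hMQ) hMc (sup_le hRM (commutator_le_left _ _))
      (hc.trans (sup_assoc _ _ _).ge)
    have h2 : M ≤ R := le_of_le_sup_commutator hQp hMQ hRQ (hQT.trans (le_normalizer_zj T)) h1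
    rw [show R = M from le_antisymm hRM h2]
    infer_instance
  have hb := quot_bound (T := S) hn hF hπs hQker M Y (M ⊓ A) hMQ hYM
    (fun x hx => ⟨mem_sup_right (subset_closure ⟨x, hx, by rw [pow_one]⟩), fun y hy => by
      rw [show ⁅x, y⁆ = 1 from commutatorElement_eq_one_iff_mul_comm.2
        (congrArg Subtype.val (hMc.is_comm.comm ⟨x, hx⟩ ⟨y, hy⟩))]; exact one_mem _⟩)
    hfaith (hA.1 haA) haker inf_le_left (fun c hc => by rw [hAc c hc.2]; exact one_mem _)
  have hYA : Y ≤ A := by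
    have h1 : (M ⊓ A).relIndex M ≤ ((M ⊓ A) ⊔ Y).relIndex M := hMi.trans ((hAq.le).trans hb)
    have h2 := relIndex_mul_relIndex (H := M ⊓ A) (K := (M ⊓ A) ⊔ Y) (L := M) le_sup_left (sup_le inf_le_left hYM)
    have h3 : (M ⊓ A).relIndex ((M ⊓ A) ⊔ Y) = 1 := by
      have hpos : 0 < ((M ⊓ A) ⊔ Y).relIndex M := Nat.pos_of_ne_zero Subgroup.index_ne_zero_of_finite
      have hpos' : 0 < (M ⊓ A).relIndex ((M ⊓ A) ⊔ Y) := Nat.pos_of_ne_zero Subgroup.index_ne_zero_of_finite
      rw [← h2] at h1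
      nlinarith
    exact le_sup_right.trans ((relIndex_eq_one.1 h3).trans inf_le_right)
  rcases dichotomy S hE₂ (centralizer (Y : Set G)) with hY | hY
  · refine Or.inl (normal_of_centralized S hY (centralizer_le ?_) hUS)
    refine inf_le_left.trans (commutator_le.2 fun r hr g hg => ?_)
    rw [← commutatorElement_inv]
    exact inv_mem (hfixR g hg r hr)
  · exfalso
    refine haQ ((Lib.Hall.le_pCore (p := p) (S.2.to_le inf_le_left) : T ⊓ centralizer (Y : Set G) ≤ Q)
      (mem_inf.2 ⟨hA.1 haA, mem_centralizer_iff.2 fun y hy => ?_⟩))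
    exact congrArg Subtype.val (hA.2.1.is_comm.comm ⟨y, hYA hy⟩ ⟨a, haA⟩)

end Cfsg.Agent.Lib.LocalChar.PushingUpZJ
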