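import Cfsg.Prelude.Def_BaumannBlocks
import Cfsg.Agent.Lib.LocalChar.PushingUpZJ
import Cfsg.Agent.Lib.LocalP2.ChermakDelgado

/-! Pushing up and centrally large subgroups: the bound on offenders. -/

set_option autoImplicit false
set_option linter.unusedSectionVars false

namespace Cfsg.Agent.Lib.LocalChar.PushingUpCL

open Subgroup Cfsg.Agent.S2788 Cfsg.Agent.Lib.LocalChar.RankOneBound
open scoped commutatorElement

section PSL

variable {F : Type*} [Field F]

local notation "SL₂" => Matrix.SpecialLinearGroup (Fin 2) F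
local notation "PSL₂" => Matrix.ProjectiveSpecialLinearGroup (Fin 2) F

def weyl (s : F) : SL₂ := up (-s⁻¹) * lo s * up (-s⁻¹)

theorem weyl_mul_up (s t : F) (hs : s ≠ 0) : weyl s * up t = lo (-(s ^ 2 * t)) * weyl s := by
  refine Subtype.ext ?_
  simp only [weyl, Matrix.SpecialLinearGroup.coe_mul, up_coe, lo_coe]
  ext i j
  fin_cases i <;> fin_cases j <;> simp [Matrix.mul_apply, Fin.sum_univ_two] <;> field_simp <;> simp

theorem mem_of_up_lo (H : Subgroup SL₂) (hu : ∀ t, up t ∈ H) (hl : ∀ t, lo t ∈ H) (A : SL₂) : A ∈ H := by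
  have key : ∀ A : SL₂, (A : Matrix (Fin 2) (Fin 2) F) 1 0 ≠ 0 → A ∈ H := by
    intro A hc
    set a := (A : Matrix (Fin 2) (Fin 2) F) 0 0 with ha
    set b := (A : Matrix (Fin 2) (Fin 2) F) 0 1 with hb
    set c := (A : Matrix (Fin 2) (Fin 2) F) 1 0 with hc'
    set d := (A : Matrix (Fin 2) (Fin 2) F) 1 1 with hd
    have hdet : a * d - b * c = 1 := by
      have := A.2
      rwa [Matrix.det_fin_two] at this
    clear_value a b c d
    have : A = up ((a - 1) / c) * lo c * up ((d - 1) / c) := by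
      refine Subtype.ext ?_
      simp only [Matrix.SpecialLinearGroup.coe_mul, up_coe, lo_coe]
      ext i j
      fin_cases i <;> fin_cases j <;> simp [Matrix.mul_apply, Fin.sum_univ_two, ← ha, ← hb, ← hc', ← hd] <;>
        field_simp <;> first | ring1 | linear_combination hdet | linear_combination -hdet
    rw [this]
    exact mul_mem (mul_mem (hu _) (hl _)) (hu _)
  by_cases hc : (A : Matrix (Fin 2) (Fin 2) F) 1 0 = 0
  · have h1 : lo 1 * A ∈ H := by
      refine key _ ?_
      have := A.2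
      rw [Matrix.det_fin_two, hc] at this
      simp only [Matrix.SpecialLinearGroup.coe_mul, lo_coe, Matrix.mul_apply, Fin.sum_univ_two, hc]
      simp
      intro h
      simp [h] at this
    simpa using mul_mem (inv_mem (hl 1)) h1
  · exact key A hc

variable [Fintype F]

theorem psl_eq_top (H : Subgroup PSL₂) (hu : upHom.range ≤ H) {s : Multiplicative F} (hs : s ≠ 1)
    (hl : loHom s ∈ H) : H = ⊤ := by
  set f : SL₂ →* PSL₂ := QuotientGroup.mk' (center SL₂)
  have hs0 : Multiplicative.toAdd s ≠ 0 := fun h => hs (Multiplicative.toAdd.injective h)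
  have hu' : ∀ t, up t ∈ H.comap f := fun t => hu ⟨Multiplicative.ofAdd t, rfl⟩
  have hl' : lo (Multiplicative.toAdd s) ∈ H.comap f := hl
  have hw : weyl (Multiplicative.toAdd s) ∈ H.comap f := mul_mem (mul_mem (hu' _) hl') (hu' _)
  refine eq_top_iff.2 fun x _ => ?_
  obtain ⟨A, rfl⟩ := QuotientGroup.mk'_surjective _ x
  refine mem_of_up_lo (H.comap f) hu' (fun u => ?_) A
  set σ := Multiplicative.toAdd s
  have h := weyl_mul_up σ (-(u / σ ^ 2)) hs0
  rw [show -(σ ^ 2 * -(u / σ ^ 2)) = u by field_simp] at h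
  rw [show lo u = weyl σ * up (-(u / σ ^ 2)) * (weyl σ)⁻¹ by rw [h, mul_inv_cancel_right]]
  exact mul_mem (mul_mem hw (hu' _)) (inv_mem hw)

theorem weyl_conj_upHom (t : Multiplicative F) :
    QuotientGroup.mk' (center SL₂) (weyl 1) * upHom t * (QuotientGroup.mk' (center SL₂) (weyl 1))⁻¹ = loHom t⁻¹ := by
  show QuotientGroup.mk' (center SL₂) _ * QuotientGroup.mk' (center SL₂) _ * _ = QuotientGroup.mk' (center SL₂) _
  rw [← map_mul, weyl_mul_up _ _ one_ne_zero, map_mul, mul_inv_cancel_right]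
  simp

theorem upHom_injective : Function.Injective (upHom (F := F)) := by
  refine (injective_iff_map_eq_one _).2 fun s hs => ?_
  obtain ⟨r, -, hre⟩ := Matrix.SpecialLinearGroup.mem_center_iff.1 ((QuotientGroup.eq_one_iff _).1 hs)
  have h01 := congrFun (congrFun hre 0) 1
  exact congrArg Multiplicative.ofAdd (show s.toAdd = 0 by simpa [up_coe] using h01.symm)

end PSL

variable {G : Type*} [Group G] [Finite G] {p : ℕ} [Fact p.Prime] {S : Subgroup G}

theorem isPGroup_of_situation (hE : Cfsg.IsPushingUpSituation p S) : IsPGroup p S := by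
  obtain ⟨-, ⟨P, rfl⟩, -⟩ := hE
  exact P.2

theorem pCore_le (hE : Cfsg.IsPushingUpSituation p S) : Cfsg.pCore p G ≤ S := by
  obtain ⟨-, ⟨P, rfl⟩, -⟩ := hE
  exact PushingUpZJ.pCore_le_sylow P

/-- An element of `S` outside `O_p(G)` generates `G` with a suitable conjugate of `S`. -/
theorem exists_generating (hE : Cfsg.IsPushingUpSituation p S) :
    ∃ g : G, ∀ b ∈ S, b ∉ Cfsg.pCore p G → ∀ H : Subgroup G, b ∈ H → (∀ x ∈ S, g⁻¹ * x * g ∈ H) → H = ⊤ := by
  obtain ⟨-, ⟨T, rfl⟩, -, hE₂, K, hK, F, _, _, n, hF, ⟨e⟩⟩ := hE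
  have hn : 1 ≤ n := by
    by_contra h
    obtain rfl : n = 0 := by omega
    have := Fintype.one_lt_card (α := F)
    simp [hF] at this
  let π : G →* Matrix.ProjectiveSpecialLinearGroup (Fin 2) F := e.toMonoidHom.comp (QuotientGroup.mk' K)
  have hπs : Function.Surjective π := e.surjective.comp (QuotientGroup.mk'_surjective K)
  have hTne : ¬ π.ker ⊔ (T : Subgroup G) = ⊤ := by
    intro h
    refine not_pgroup hn hF (IsPGroup.of_surjective (T.2.map π) ((T : Subgroup G).map π).subtype fun z => ?_)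
    have htop : (T : Subgroup G).map π = ⊤ := by
      have := congrArg (Subgroup.map π) h
      rwa [Subgroup.map_sup, (Subgroup.map_eq_bot_iff π.ker).2 le_rfl, bot_sup_eq, map_top_of_surjective π hπs] at this
    exact ⟨⟨z, htop ▸ mem_top z⟩, rfl⟩
  have hTker : (T : Subgroup G) ⊓ π.ker ≤ Cfsg.pCore p G := by
    rcases PushingUp.dichotomy T hE₂ π.ker with h | h
    · exact absurd h hTne
    · exact Lib.Hall.le_pCore (T.2.to_le inf_le_left)
  obtain ⟨M, ⟨hM, hTM⟩, huniq⟩ := hE₂
  have hkM : π.ker ≤ M := by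
    obtain ⟨M', hM', hle⟩ := (eq_top_or_exists_le_coatom _).resolve_left hTne
    exact huniq M' ⟨hM', le_sup_right.trans hle⟩ ▸ le_sup_left.trans hle
  obtain ⟨h, hh⟩ : ∃ h : Matrix.ProjectiveSpecialLinearGroup (Fin 2) F,
      ∀ x, h⁻¹ * x * h ∈ upHom.range ↔ x ∈ (T : Subgroup G).map π := by
    have hup : Nat.card (upHom (F := F)).range = p ^ n := by
      rw [← Nat.card_congr (MonoidHom.ofInjective upHom_injective).toEquiv, Nat.card_eq_fintype_card,
        Fintype.card_multiplicative, hF]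
    obtain ⟨P, hP⟩ := (IsPGroup.of_card hup : IsPGroup p (upHom (F := F)).range).exists_le_sylow
    have hPeq : (upHom (F := F)).range = P := eq_of_le_of_card_ge hP (hup ▸ pgroup_card_le hn hF P.2)
    obtain ⟨h, hh⟩ := MulAction.exists_smul_eq (Matrix.ProjectiveSpecialLinearGroup (Fin 2) F) P (T.mapSurjective hπs)
    refine ⟨h, fun x => ?_⟩
    rw [hPeq, ← Sylow.coe_mapSurjective hπs T, ← hh, Sylow.coe_subgroup_smul,
      mem_pointwise_smul_iff_inv_smul_mem]
    simp [MulAut.smul_def, mul_assoc]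
  set w := QuotientGroup.mk' (center (Matrix.SpecialLinearGroup (Fin 2) F)) (weyl 1) with hw
  obtain ⟨g, hg⟩ := hπs (h * w * h⁻¹)
  refine ⟨g, fun b hb hbU H hbH hgH => ?_⟩
  by_contra hne
  obtain ⟨M', hM', hle⟩ := (eq_top_or_exists_le_coatom H).resolve_left hne
  have hM'' : M'.map (MulAut.conj g).toMonoidHom = M := by
    refine huniq _ ⟨((MulAut.conj g).mapSubgroup.isCoatom_iff M').2 hM', fun x hx => ?_⟩
    exact ⟨g⁻¹ * x * g, hle (hgH x hx), by simp [mul_assoc]⟩
  have hgb : g * b * g⁻¹ ∈ M := hM'' ▸ ⟨b, hle hbH, rfl⟩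
  obtain ⟨t, ht⟩ := (hh _).2 (mem_map_of_mem π hb)
  by_cases ht1 : t = 1
  · refine hbU (hTker ⟨hb, MonoidHom.mem_ker.2 ?_⟩)
    rw [ht1, map_one] at ht
    calc π b = h * (h⁻¹ * π b * h) * h⁻¹ := by group
      _ = 1 := by rw [← ht]; group
  refine hM.1 ?_
  have htop : (M.map π).comap (MulAut.conj h).toMonoidHom = ⊤ := by
    refine psl_eq_top _ (fun y hy => ?_) (inv_ne_one.2 ht1) ⟨g * b * g⁻¹, hgb, ?_⟩
    · have h1 : h⁻¹ * (h * y * h⁻¹) * h ∈ upHom.range := by simpa [mul_assoc] using hy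
      exact map_mono hTM ((hh _).1 h1)
    · rw [← weyl_conj_upHom, ← hw]
      simp only [map_mul, map_inv, hg, MulEquiv.coe_toMonoidHom, MulAut.conj_apply, ht]
      group
  refine eq_top_iff.2 fun x _ => ?_
  have hx : h⁻¹ * π x * h ∈ (M.map π).comap (MulAut.conj h).toMonoidHom := htop ▸ mem_top _
  rw [mem_comap, MulEquiv.coe_toMonoidHom, MulAut.conj_apply,
    show h * (h⁻¹ * π x * h) * h⁻¹ = π x by group] at hx
  obtain ⟨m, hm, hmx⟩ := hx
  have hk : m⁻¹ * x ∈ π.ker := MonoidHom.mem_ker.2 (by rw [map_mul, map_inv, hmx, inv_mul_cancel])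
  simpa using mul_mem hm (hkM hk)

/-- A normal subgroup with `[W,G] = W` bounds the index of `O_p(G)` in every subgroup of `S`. -/
theorem offender_bound (hE : Cfsg.IsPushingUpSituation p S) {W : Subgroup G} [hWn : W.Normal]
    (hWc : IsMulCommutative W) (hWU : W ≤ Cfsg.pCore p G)
    (hW1 : W ≠ ⊥) (hWG : ⁅W, (⊤ : Subgroup G)⁆ = W) (B : Subgroup G) (hB : B ≤ S) :
    (Cfsg.pCore p G).relIndex B ≤ (W ⊓ centralizer (B : Set G)).relIndex W := by
  classical
  obtain ⟨g, hg⟩ := exists_generating hE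
  letI : CommGroup W := { (inferInstance : Group W) with mul_comm := fun a b => hWc.is_comm.comm a b }
  set N := (⁅W, S⁆).subgroupOf W with hN
  have hN1 : N ≠ ⊤ := by
    intro h
    have hle : W ≤ ⁅W, S⁆ := subgroupOf_eq_top.1 h
    have hWS : W ≤ S := hWU.trans (pCore_le hE)
    have := PushingUpZJ.le_of_le_sup_commutator (M := W) (H := ⊥) (isPGroup_of_situation hE) hWS bot_le
      (le_normalizer_of_normal (H := (⊥ : Subgroup G))) (hle.trans le_sup_right)
    exact hW1 (le_bot_iff.1 this)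
  obtain ⟨x, hx⟩ : ∃ x : W, x ∉ N := by
    by_contra h
    push Not at h
    exact hN1 (eq_top_iff.2 fun x _ => h x)
  obtain ⟨φ, hφ⟩ := CommGroup.exists_apply_ne_one_of_hasEnoughRootsOfUnity (W ⧸ N) ℂ
    (a := QuotientGroup.mk' N x) (fun h => hx ((QuotientGroup.eq_one_iff x).1 h))
  -- conjugation by elements of `G` on `W`
  let c : G →* MulAut W := MulAut.conjNormal
  let χ : W →* ℂˣ := φ.comp ((QuotientGroup.mk' N).comp (c g).toMonoidHom)
  have hχS : ∀ s ∈ S, ∀ v : W, χ (c (g⁻¹ * s * g) v) = χ v := by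
    intro s hs v
    have e : c g (c (g⁻¹ * s * g) v) = c s (c g v) := by
      refine Subtype.ext ?_
      simp only [c, MulAut.conjNormal_apply]
      group
    show φ (QuotientGroup.mk' N (c g (c (g⁻¹ * s * g) v))) = φ (QuotientGroup.mk' N (c g v))
    rw [e]
    congr 1
    rw [QuotientGroup.mk'_eq_mk']
    refine ⟨(c s (c g v))⁻¹ * c g v, mem_subgroupOf.2 ?_, mul_inv_cancel_left _ _⟩
    have : ⁅((c g v : W) : G)⁻¹, s⁆ ∈ ⁅W, S⁆ := commutator_mem_commutator (inv_mem (c g v).2) hs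
    have h' : ((((c s (c g v))⁻¹ * c g v : W)) : G) = ⁅((c g v : W) : G)⁻¹, s⁆⁻¹ := by
      rw [← inv_inj, inv_inv]
      simp only [c, Subgroup.coe_mul, InvMemClass.coe_inv, MulAut.conjNormal_apply, commutatorElement_def]
      group
    rw [h']
    exact inv_mem this
  let St : Subgroup G :=
    { carrier := {a | ∀ v : W, χ (c a v) = χ v}
      one_mem' := fun v => by simp
      mul_mem' := fun {a b} ha hb v => by rw [map_mul, MulAut.mul_apply, ha, hb]
      inv_mem' := fun {a} ha v => by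
        have h2 := ha (c a⁻¹ v)
        rw [← MulAut.mul_apply, ← map_mul, mul_inv_cancel, map_one, MulAut.one_apply] at h2
        exact h2.symm }
  have hSt : St ≠ ⊤ := by
    intro h
    have hker : W ≤ χ.ker.map W.subtype := by
      conv_lhs => rw [← hWG]
      refine commutator_le.2 fun v hv a _ => ⟨⟨v, hv⟩ * (c a ⟨v, hv⟩)⁻¹, ?_, ?_⟩
      · have := (h.symm ▸ mem_top a : a ∈ St) ⟨v, hv⟩
        rw [SetLike.mem_coe, MonoidHom.mem_ker, map_mul, map_inv, this, mul_inv_cancel]
      · simp [c, commutatorElement_def, MulAut.conjNormal_apply, mul_assoc]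
    obtain ⟨z, hz⟩ := (c g).surjective x
    obtain ⟨z', hz', e⟩ := hker z.2
    obtain rfl : z' = z := Subtype.ext e
    refine hφ ?_
    rw [← hz]
    exact hz'
  set C := (W ⊓ centralizer (B : Set G)).subgroupOf W
  -- the differences
  let δ : B → (W →* ℂˣ) := fun b => (χ.comp (c (b : G)).toMonoidHom) / χ
  have hδC : ∀ b : B, C ≤ (δ b).ker := by
    intro b v hv
    have hvb : ((b : G) * (v : G)) = (v : G) * b := mem_centralizer_iff.1 (mem_subgroupOf.1 hv).2 b b.2
    have : c (b : G) v = v := Subtype.ext (by simp only [c, MulAut.conjNormal_apply]; rw [hvb, mul_inv_cancel_right])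
    simp [δ, MonoidHom.mem_ker, MonoidHom.div_apply, this]
  let Δ : B → (W ⧸ C →* ℂˣ) := fun b => QuotientGroup.lift C (δ b) (hδC b)
  have hΔ : ∀ a b : B, Δ a = Δ b → (a : G)⁻¹ * b ∈ Cfsg.pCore p G := by
    intro a b hab
    have h1 : ∀ v : W, χ (c (a : G) v) = χ (c (b : G) v) := fun v => by
      have := DFunLike.congr_fun hab (QuotientGroup.mk v)
      simp only [Δ, QuotientGroup.lift_mk, δ, MonoidHom.div_apply, div_left_inj] at this
      exact this
    have hmem : (a : G) * (b : G)⁻¹ ∈ St := fun v => by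
      rw [map_mul, MulAut.mul_apply, h1, ← MulAut.mul_apply, ← map_mul, mul_inv_cancel, map_one, MulAut.one_apply]
    have h2 : (a : G) * (b : G)⁻¹ ∈ Cfsg.pCore p G := by
      by_contra hU
      exact hSt (hg _ (S.mul_mem (hB a.2) (S.inv_mem (hB b.2))) hU St hmem fun s hs => hχS s hs)
    have h3 := (inferInstance : (Cfsg.pCore p G).Normal).conj_mem _ (inv_mem h2) (a : G)⁻¹
    simpa [mul_assoc] using h3
  calc (Cfsg.pCore p G).relIndex B = Nat.card (B ⧸ (Cfsg.pCore p G).subgroupOf B) := rfl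
    _ ≤ Nat.card (W ⧸ C →* ℂˣ) := by
        refine Nat.card_le_card_of_injective (fun q => Δ q.out) fun q r hqr => ?_
        rw [← QuotientGroup.out_eq' q, ← QuotientGroup.out_eq' r, QuotientGroup.eq, mem_subgroupOf]
        exact hΔ _ _ hqr
    _ = Nat.card (W ⧸ C) := CommGroup.card_monoidHom_of_hasEnoughRootsOfUnity (W ⧸ C) ℂ

/-- Elements of order prime to `p` centralise `V`. -/
def Moved (p : ℕ) (V : Subgroup G) : Prop :=
  ∃ y : G, (orderOf y).Coprime p ∧ ∃ v ∈ V, y * v ≠ v * y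

theorem commute_of_fixed_comm {y v : G} (hy : (orderOf y).Coprime p) (k : ℕ) (hc : (y * v * y⁻¹ * v⁻¹) ^ p ^ k = 1)
    (hyc : Commute y (y * v * y⁻¹ * v⁻¹)) : y * v = v * y := by
  set c := y * v * y⁻¹ * v⁻¹ with hcdef
  have hj : ∀ j : ℕ, y ^ j * v * (y ^ j)⁻¹ = c ^ j * v := by
    intro j
    induction j with
    | zero => simp
    | succ j ih =>
      rw [pow_succ', mul_inv_rev, show y * y ^ j * v * ((y ^ j)⁻¹ * y⁻¹) = y * (y ^ j * v * (y ^ j)⁻¹) * y⁻¹ by group,
        ih, show y * (c ^ j * v) * y⁻¹ = (y * c ^ j * y⁻¹) * (y * v * y⁻¹) by group,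
        (hyc.pow_right j).eq, mul_inv_cancel_right, show y * v * y⁻¹ = c * v by rw [hcdef]; group, ← mul_assoc,
        ← pow_succ]
  have h1 := hj (orderOf y)
  rw [pow_orderOf_eq_one, one_mul, inv_one, mul_one, eq_comm, mul_eq_right] at h1
  have h2 : c = 1 := by
    rw [← orderOf_eq_one_iff]
    exact Nat.eq_one_of_dvd_coprimes (Nat.Coprime.pow_right k hy)
      (orderOf_dvd_of_pow_eq_one h1) (orderOf_dvd_of_pow_eq_one hc)
  rw [hcdef, mul_inv_eq_one, mul_inv_eq_iff_eq_mul] at h2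
  exact h2

theorem moved_omega {V E : Subgroup G} [V.Normal] (hV : IsPGroup p V) (hVc : IsMulCommutative V)
    (hEV : ∀ v ∈ V, v ^ p = 1 → v ∈ E) (h : Moved p V) : Moved p E := by
  obtain ⟨y, hy, hmv⟩ := h
  by_contra hno
  have hE : ∀ v ∈ E, y * v = v * y := fun v hv => by
    by_contra hne
    exact hno ⟨y, hy, v, hv, hne⟩
  suffices hall : ∀ k, ∀ v ∈ V, v ^ p ^ k = 1 → y * v = v * y by
    obtain ⟨v, hv, hne⟩ := hmv
    obtain ⟨k, hk⟩ := hV ⟨v, hv⟩
    exact hne (hall k v hv (congrArg Subtype.val hk))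
  intro k
  induction k with
  | zero => intro v hv h1; simp only [pow_zero, pow_one] at h1; simp [h1]
  | succ k ih =>
    intro v hv hk
    have hyv : y * v * y⁻¹ ∈ V := (inferInstance : V.Normal).conj_mem v hv y
    have hvp : y * v ^ p = v ^ p * y := ih _ (pow_mem hv p) (by rw [← pow_mul, ← pow_succ']; exact hk)
    have hcp : (y * v * y⁻¹ * v⁻¹) ^ p = 1 := by
      rw [(show Commute (y * v * y⁻¹) v⁻¹ from
        congrArg Subtype.val (hVc.is_comm.comm ⟨_, hyv⟩ ⟨_, inv_mem hv⟩)).mul_pow, conj_pow, hvp,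
        mul_inv_cancel_right, inv_pow, mul_inv_cancel]
    exact commute_of_fixed_comm hy 1 (by rw [pow_one]; exact hcp) (hE _ (hEV _ (mul_mem hyv (inv_mem hv)) hcp))

theorem exists_moved_minimal {V : Subgroup G} [hVn : V.Normal] (hV : IsPGroup p V) (h : Moved p V) :
    ∃ W : Subgroup G, W.Normal ∧ W ≤ V ∧ W ≠ ⊥ ∧ ⁅W, (⊤ : Subgroup G)⁆ = W := by
  obtain ⟨W, ⟨hWn, hWV, hW⟩, hmin⟩ :=
    (Set.toFinite {W : Subgroup G | W.Normal ∧ W ≤ V ∧ Moved p W}).exists_minimal ⟨V, hVn, le_rfl, h⟩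
  haveI := hWn
  obtain ⟨y, hy, v, hv, hne⟩ := hW
  refine ⟨W, hWn, hWV, fun h => hne (by simp [mem_bot.1 (h ▸ hv : v ∈ (⊥ : Subgroup G))]), ?_⟩
  refine le_antisymm (commutator_le_left _ _) (hmin ⟨inferInstance, (commutator_le_left _ _).trans hWV, ?_⟩
    (commutator_le_left _ _))
  by_contra hno
  have hc : y * v * y⁻¹ * v⁻¹ ∈ ⁅W, (⊤ : Subgroup G)⁆ := by
    rw [commutator_comm]
    exact commutator_mem_commutator (mem_top y) hv
  refine hne ?_
  obtain ⟨k, hk⟩ := hV ⟨_, (hWV ((commutator_le_left W ⊤) hc))⟩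
  refine commute_of_fixed_comm hy k (congrArg Subtype.val hk) ?_
  by_contra h'
  exact hno ⟨y, hy, _, hc, h'⟩

/-- A subgroup centralised by `S` and by all elements of order prime to `p` is normal. -/
theorem normal_of_not_moved (hE : Cfsg.IsPushingUpSituation p S) {X : Subgroup G}
    (hS : S ≤ centralizer (X : Set G)) (h : ¬ Moved p X) : X.Normal := by
  obtain ⟨-, ⟨T, rfl⟩, -⟩ := hE
  set N := closure {y : G | (orderOf y).Coprime p}
  haveI : N.Normal := ⟨fun x hx a => by
    induction hx using closure_induction with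
    | mem y hy =>
      refine subset_closure ?_
      show (orderOf (a * y * a⁻¹)).Coprime p
      rwa [show orderOf (a * y * a⁻¹) = orderOf y from
        orderOf_injective (MulAut.conj a).toMonoidHom (MulAut.conj a).injective y]
    | one => simp
    | mul y z _ _ iy iz => simpa [mul_assoc] using mul_mem iy iz
    | inv y _ iy => simpa [mul_assoc] using inv_mem iy⟩
  have hN : N ≤ centralizer (X : Set G) := (closure_le _).2 fun y hy => mem_centralizer_iff.2 fun v hv => by
    by_contra hne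
    exact h ⟨y, hy, v, hv, fun e => hne e.symm⟩
  refine PushingUp.normal_of_centralized T ?_ hN hS
  -- `G / N` is a `p`-group
  have hq : IsPGroup p (G ⧸ N) := by
    intro z
    obtain ⟨a, rfl⟩ := QuotientGroup.mk'_surjective N z
    obtain ⟨k, m, hm, hkm⟩ := Nat.exists_eq_pow_mul_and_not_dvd (orderOf_pos a).ne' p (Fact.out : p.Prime).ne_one
    refine ⟨k, ?_⟩
    rw [← map_pow]
    refine (QuotientGroup.eq_one_iff _).2 (subset_closure ?_)
    show (orderOf (a ^ p ^ k)).Coprime p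
    rw [orderOf_pow, hkm, Nat.gcd_mul_right_left, Nat.mul_div_cancel_left _ (pow_pos (Fact.out : p.Prime).pos k)]
    exact ((Fact.out : p.Prime).coprime_iff_not_dvd.2 hm).symm
  have hs : Function.Surjective (QuotientGroup.mk' N) := QuotientGroup.mk'_surjective N
  have htop : (T : Subgroup G).map (QuotientGroup.mk' N) = ⊤ := by
    rw [← Sylow.coe_mapSurjective hs T]
    exact ((T.mapSurjective hs).3 (hq.to_subgroup ⊤) le_top).symm
  refine eq_top_iff.2 fun a _ => ?_
  obtain ⟨t, ht, hta⟩ := (htop ▸ mem_top _ : QuotientGroup.mk' N a ∈ (T : Subgroup G).map (QuotientGroup.mk' N))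
  have : a * t⁻¹ ∈ N := (QuotientGroup.eq_one_iff _).1 (by
    rw [← QuotientGroup.mk'_apply, map_mul, map_inv, hta, mul_inv_cancel])
  simpa using mul_mem (mem_sup_left this : _ ∈ N ⊔ (T : Subgroup G)) (mem_sup_right ht)

end Cfsg.Agent.Lib.LocalChar.PushingUpCL
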