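import Cfsg.Agent.Lib.LocalChar.PushingUpCL
import Cfsg.Agent.Lib.PGroupFrattini
import Cfsg.Agent.S3007

/-! Pushing up with minimal centrally large subgroups. -/

set_option autoImplicit false
set_option linter.unusedSectionVars false

namespace Cfsg.Agent.Lib.LocalChar.PushingUpCLNormal

open Subgroup Cfsg.Agent.Lib.LocalP2 Cfsg.Agent.Lib.LocalChar.PushingUpCL
open scoped commutatorElement

section Transport

variable {A B : Type*} [Group A] [Group B]

theorem map_inf_centralizer (f : A →* B) (hf : Function.Injective f) (X : Subgroup A) :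
    (X ⊓ centralizer (X : Set A)).map f = X.map f ⊓ centralizer (X.map f : Set B) := by
  ext y
  constructor
  · rintro ⟨x, ⟨hx, hxc⟩, rfl⟩
    refine ⟨mem_map_of_mem f hx, mem_centralizer_iff.2 ?_⟩
    rintro _ ⟨z, hz, rfl⟩
    rw [← map_mul, ← map_mul, mem_centralizer_iff.1 hxc z hz]
  · rintro ⟨⟨x, hx, rfl⟩, hyc⟩
    exact ⟨x, ⟨hx, mem_centralizer_iff.2 fun z hz => hf (by
      rw [map_mul, map_mul, mem_centralizer_iff.1 hyc _ (mem_map_of_mem f hz)])⟩, rfl⟩

theorem map_omegaOneCenter (p : ℕ) (f : A →* B) (hf : Function.Injective f) (X : Subgroup A) :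
    (Cfsg.omegaOneCenter p X).map f = Cfsg.omegaOneCenter p (X.map f) := by
  rw [Cfsg.omegaOneCenter, Cfsg.omegaOneCenter, ← map_inf_centralizer f hf, Cfsg.omegaOne, Cfsg.omegaOne,
    MonoidHom.map_closure]
  congr 1
  ext y
  constructor
  · rintro ⟨x, ⟨hx, hxp⟩, rfl⟩
    exact ⟨mem_map_of_mem f hx, by rw [← map_pow, hxp, map_one]⟩
  · rintro ⟨⟨x, hx, rfl⟩, hxp⟩
    exact ⟨x, ⟨hx, hf (by rw [map_pow, hxp, map_one])⟩, rfl⟩

theorem map_frattini_le (e : A ≃* B) : (frattini A).map e.toMonoidHom ≤ frattini B := by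
  rintro _ ⟨x, hx, rfl⟩
  simp only [frattini, Order.radical, mem_iInf]
  intro K hK
  exact frattini_le_coatom ((e.mapSubgroup.isCoatom_iff (K.comap e.toMonoidHom)).1
    (by rwa [show e.mapSubgroup (K.comap e.toMonoidHom) = K from
      Subgroup.map_comap_eq_self_of_surjective e.surjective K])) hx

theorem map_frattini_sub (f : A →* B) (hf : Function.Injective f) (X : Subgroup A) :
    ((frattini ↥X).map X.subtype).map f = (frattini ↥(X.map f)).map (X.map f).subtype := by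
  set e := Subgroup.equivMapOfInjective X f hf
  refine le_antisymm ?_ ?_
  · rintro _ ⟨_, ⟨x, hx, rfl⟩, rfl⟩
    exact ⟨e x, map_frattini_le e (mem_map_of_mem _ hx), rfl⟩
  · rintro _ ⟨y, hy, rfl⟩
    refine ⟨_, ⟨e.symm y, map_frattini_le e.symm (mem_map_of_mem _ hy), rfl⟩, ?_⟩
    exact congrArg Subtype.val (e.apply_symm_apply y)

end Transport

section Pure

variable {P : Type*} [Group P] [Finite P] {p : ℕ}

theorem mem_omega {Q : Subgroup P} {x : P} :
    x ∈ Cfsg.omegaOneCenter p Q ↔ x ∈ Q ⊓ centralizer (Q : Set P) ∧ x ^ p = 1 := by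
  refine ⟨fun h => ?_, fun h => subset_closure h⟩
  rw [Cfsg.omegaOneCenter, Cfsg.omegaOne] at h
  induction h using closure_induction with
  | mem x hx => exact hx
  | one => exact ⟨one_mem _, one_pow p⟩
  | mul x y _ _ hx hy =>
    exact ⟨mul_mem hx.1 hy.1, by
      rw [(show Commute x y from mem_centralizer_iff.1 hy.1.2 x hx.1.1).mul_pow, hx.2, hy.2, one_mul]⟩
  | inv x _ hx => exact ⟨inv_mem hx.1, by rw [inv_pow, hx.2, inv_one]⟩

theorem card_omega_le {Q : Subgroup P} (hQ : Cfsg.IsMinimalCentrallyLarge Q) :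
    Nat.card ↥(Cfsg.omegaOneCenter p Q) ≤ Cfsg.maxOmegaCenterOfMinimalCL p P :=
  le_csSup ((Set.finite_range fun R : Subgroup P => Nat.card ↥(Cfsg.omegaOneCenter p R)).subset
    (by rintro k ⟨R, -, rfl⟩; exact ⟨R, rfl⟩)).bddAbove ⟨Q, hQ, rfl⟩

theorem exists_minimal_cl : ∃ Q : Subgroup P, Cfsg.IsMinimalCentrallyLarge Q := by
  obtain ⟨R, hR⟩ := exists_centrallyLarge (S := P)
  obtain ⟨Q, -, hQ⟩ := exists_minimal_le hR
  exact ⟨Q, hQ⟩

theorem exists_max_omega : ∃ Q : Subgroup P, Cfsg.IsMinimalCentrallyLarge Q ∧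
    Nat.card ↥(Cfsg.omegaOneCenter p Q) = Cfsg.maxOmegaCenterOfMinimalCL p P := by
  obtain ⟨Q, hQ⟩ := exists_minimal_cl (P := P)
  exact Nat.sSup_mem (s := {k : ℕ | ∃ Q : Subgroup P, Cfsg.IsMinimalCentrallyLarge Q ∧
      Nat.card ↥(Cfsg.omegaOneCenter p Q) = k}) ⟨_, Q, hQ, rfl⟩
    ((Set.finite_range fun R : Subgroup P => Nat.card ↥(Cfsg.omegaOneCenter p R)).subset
      (by rintro k ⟨R, -, rfl⟩; exact ⟨R, rfl⟩)).bddAbove

/-- Shifting a centrally large subgroup into `u`. -/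
theorem shift {u w : Subgroup P} (hwu : w ≤ u) (huw : u ≤ centralizer (w : Set P))
    (hb : ∀ B : Subgroup P, u.relIndex B ≤ (w ⊓ centralizer (B : Set P)).relIndex w) {Q : Subgroup P}
    (hQ : Cfsg.IsCentrallyLarge Q) :
    ∃ R : Subgroup P, Cfsg.IsMinimalCentrallyLarge R ∧ R ≤ u ∧
      (centralizer (Q : Set P) ⊓ u) ⊔ w ≤ centralizer (R : Set P) := by
  obtain ⟨hQ1, hQ2⟩ := centrallyLarge_iff.1 hQ
  set Z := centralizer (Q : Set P) with hZ
  set H := (Q ⊓ u) ⊔ w
  have hHu : H ≤ u := sup_le inf_le_right hwu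
  have hwc : w ≤ centralizer (u : Set P) := le_centralizer_iff.1 huw
  have hCH : (Z ⊓ u) ⊔ w ≤ centralizer (H : Set P) := by
    rw [centralizer_sup]
    exact sup_le (le_inf (inf_le_left.trans (centralizer_le inf_le_left)) (inf_le_right.trans huw))
      (le_inf (hwc.trans (centralizer_le inf_le_right)) (hwc.trans (centralizer_le hwu)))
  have hb1 : u.relIndex Z ≤ (w ⊓ Q).relIndex w := by
    have := hb Z
    rwa [← (large_centralizer hQ1).2] at this
  have hb2 : u.relIndex Q ≤ (w ⊓ Z).relIndex w := hb Q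
  have card1 : ∀ X : Subgroup P, Nat.card ↥(X ⊓ u) * (w ⊓ X).relIndex w ≤ Nat.card ↥((X ⊓ u) ⊔ w) := by
    intro X
    have h1 := card_mul_card_le (X ⊓ u) w
    rw [show X ⊓ u ⊓ w = w ⊓ X by rw [inf_assoc, inf_eq_right.2 hwu, inf_comm],
      card_eq_card_inf_mul_relIndex (w ⊓ X) w, show w ⊓ X ⊓ w = w ⊓ X from inf_eq_left.2 inf_le_left] at h1
    exact Nat.le_of_mul_le_mul_right (by linarith) (Nat.card_pos (α := ↥(w ⊓ X)))
  have card2 : ∀ X : Subgroup P, Nat.card ↥X = Nat.card ↥(X ⊓ u) * u.relIndex X := by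
    intro X
    rw [card_eq_card_inf_mul_relIndex u X, inf_comm]
  have hH : Cfsg.IsCentralizerLarge H := by
    refine centralizerLarge_of_le ?_
    rw [← (show Nat.card ↥Q * Nat.card ↥Z = _ from hQ1), card2 Q, card2 Z]
    calc Nat.card ↥(Q ⊓ u) * u.relIndex Q * (Nat.card ↥(Z ⊓ u) * u.relIndex Z)
        ≤ Nat.card ↥(Q ⊓ u) * (w ⊓ Z).relIndex w * (Nat.card ↥(Z ⊓ u) * (w ⊓ Q).relIndex w) := by gcongr
      _ = Nat.card ↥(Q ⊓ u) * (w ⊓ Q).relIndex w * (Nat.card ↥(Z ⊓ u) * (w ⊓ Z).relIndex w) := by ring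
      _ ≤ Nat.card ↥H * Nat.card ↥(centralizer (H : Set P)) :=
          Nat.mul_le_mul (card1 Q) ((card1 Z).trans (Nat.card_le_card_of_injective _
            (Subgroup.inclusion_injective hCH)))
  have hHeq : (Z ⊓ u) ⊔ w = centralizer (H : Set P) := by
    refine eq_of_card hCH ?_
    refine Nat.le_of_mul_le_mul_left ?_ (Nat.card_pos (α := ↥H))
    rw [show Nat.card ↥H * Nat.card ↥(centralizer (H : Set P)) = _ from hH,
      ← (show Nat.card ↥Q * Nat.card ↥Z = _ from hQ1), card2 Q, card2 Z]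
    calc Nat.card ↥(Q ⊓ u) * u.relIndex Q * (Nat.card ↥(Z ⊓ u) * u.relIndex Z)
        ≤ Nat.card ↥(Q ⊓ u) * (w ⊓ Z).relIndex w * (Nat.card ↥(Z ⊓ u) * (w ⊓ Q).relIndex w) := by gcongr
      _ = Nat.card ↥(Q ⊓ u) * (w ⊓ Q).relIndex w * (Nat.card ↥(Z ⊓ u) * (w ⊓ Z).relIndex w) := by ring
      _ ≤ Nat.card ↥H * Nat.card ↥((Z ⊓ u) ⊔ w) := Nat.mul_le_mul (card1 Q) (card1 Z)
  have hHCL : Cfsg.IsCentrallyLarge H :=
    centrallyLarge_iff.2 ⟨hH, hHeq.symm.le.trans (sup_le_sup_right (inf_le_inf_right u hQ2) w)⟩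
  obtain ⟨R, hRH, hR⟩ := exists_minimal_le hHCL
  exact ⟨R, hR, hRH.trans hHu, hCH.trans (centralizer_le hRH)⟩

end Pure

variable {G : Type*} [Group G] [Finite G] {p : ℕ} [Fact p.Prime] {S : Subgroup G}

/-- The image in `S` of the conjugate of a subgroup of `S`. -/
def cjS (S : Subgroup G) (g : G) (R : Subgroup ↥S) : Subgroup ↥S :=
  ((R.map S.subtype).map (MulAut.conj g).toMonoidHom).subgroupOf S

theorem conj_le_pCore {R : Subgroup ↥S} (hR : R ≤ (Cfsg.pCore p G).subgroupOf S) (g : G) :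
    (R.map S.subtype).map (MulAut.conj g).toMonoidHom ≤ Cfsg.pCore p G := by
  rintro _ ⟨_, ⟨r, hr, rfl⟩, rfl⟩
  exact (inferInstance : (Cfsg.pCore p G).Normal).conj_mem _ (hR hr) g

theorem cjS_le {R : Subgroup ↥S} (hR : R ≤ (Cfsg.pCore p G).subgroupOf S) (g : G) :
    cjS S g R ≤ (Cfsg.pCore p G).subgroupOf S :=
  fun _ hx => conj_le_pCore hR g hx

theorem map_cjS (hE : Cfsg.IsPushingUpSituation p S) {R : Subgroup ↥S}
    (hR : R ≤ (Cfsg.pCore p G).subgroupOf S) (g : G) :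
    (cjS S g R).map S.subtype = (R.map S.subtype).map (MulAut.conj g).toMonoidHom :=
  map_subgroupOf_eq_of_le ((conj_le_pCore hR g).trans (pCore_le hE))

theorem cjS_center (hE : Cfsg.IsPushingUpSituation p S) {R : Subgroup ↥S}
    (hR : R ≤ (Cfsg.pCore p G).subgroupOf S) (g : G) :
    Nat.card ↥(cjS S g R) = Nat.card ↥R ∧
      Nat.card ↥(Subgroup.center ↥(cjS S g R)) = Nat.card ↥(Subgroup.center ↥R) ∧
      Nat.card ↥(Cfsg.omegaOneCenter p (cjS S g R)) = Nat.card ↥(Cfsg.omegaOneCenter p R) := by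
  have hc := map_cjS hE hR g
  have hs := S.subtype_injective
  have hg : Function.Injective (MulAut.conj g).toMonoidHom := (MulAut.conj g).injective
  refine ⟨?_, ?_, ?_⟩
  · rw [← card_map_of_injective hs, hc, card_map_of_injective hg, card_map_of_injective hs]
  · rw [card_center_eq, card_center_eq, ← card_map_of_injective hs, map_inf_centralizer _ hs, hc,
      ← map_inf_centralizer _ hg, card_map_of_injective hg, ← map_inf_centralizer _ hs, card_map_of_injective hs]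
  · rw [← card_map_of_injective hs, map_omegaOneCenter _ _ hs, hc, ← map_omegaOneCenter _ _ hg,
      card_map_of_injective hg, ← map_omegaOneCenter _ _ hs, card_map_of_injective hs]

theorem cjS_minimal (hE : Cfsg.IsPushingUpSituation p S) {R : Subgroup ↥S}
    (hR : R ≤ (Cfsg.pCore p G).subgroupOf S) (g : G) (hmin : Cfsg.IsMinimalCentrallyLarge R) :
    Cfsg.IsMinimalCentrallyLarge (cjS S g R) := by
  obtain ⟨h1, h2, -⟩ := cjS_center hE hR g
  refine ⟨by unfold Cfsg.IsCentrallyLarge; rw [h1, h2]; exact hmin.1, fun X hX hXCL => ?_⟩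
  have hXu : X ≤ (Cfsg.pCore p G).subgroupOf S := hX.trans (cjS_le hR g)
  obtain ⟨k1, k2, -⟩ := cjS_center hE hXu g⁻¹
  have hle : cjS S g⁻¹ X ≤ R := by
    intro y hy
    obtain ⟨_, ⟨x, hx, rfl⟩, e⟩ := mem_subgroupOf.1 hy
    obtain ⟨_, ⟨r, hr, rfl⟩, e'⟩ := mem_subgroupOf.1 (hX hx)
    have : (y : G) = r := by
      rw [← e]
      simp only [MulEquiv.coe_toMonoidHom, MulAut.conj_apply, inv_inv] at e' ⊢
      rw [show S.subtype x = g * S.subtype r * g⁻¹ from e'.symm]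
      simp [mul_assoc]
    rwa [Subtype.ext this]
  have := hmin.2 _ hle (by unfold Cfsg.IsCentrallyLarge; rw [k1, k2]; exact hXCL)
  exact eq_of_card hX (by rw [h1, ← this, k1])

variable (hE : Cfsg.IsPushingUpSituation p S)
include hE

/-- The data attached to a central subgroup of `S` which is not normal in `G`. -/
theorem exists_module {X : Subgroup G} (hXS : X ≤ S) (hSX : S ≤ centralizer (X : Set G)) (hX : ¬ X.Normal) :
    ∃ V : Subgroup G, ∃ _ : V.Normal, X ≤ V ∧ V ≤ normalClosure (X : Set G) ∧ V ≤ Cfsg.pCore p G ∧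
      Cfsg.pCore p G ≤ centralizer (V : Set G) ∧ IsMulCommutative V ∧ IsPGroup p V ∧ Moved p V := by
  have hXQ : X ≤ Cfsg.pCore p G ⊓ centralizer (Cfsg.pCore p G : Set G) := by
    have h : X ≤ centralizer (Cfsg.pCore p G : Set G) :=
      (le_centralizer_iff.1 hSX).trans (centralizer_le (pCore_le hE))
    exact le_inf (h.trans hE.2.2.1) h
  set V := normalClosure (X : Set G)
  have hV : V ≤ Cfsg.pCore p G ⊓ centralizer (Cfsg.pCore p G : Set G) := normalClosure_le_normal hXQ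
  refine ⟨V, inferInstance, le_normalClosure, le_rfl, hV.trans inf_le_left,
    le_centralizer_iff.1 (hV.trans inf_le_right), ?_, (Lib.Hall.isPGroup_pCore p).to_le (hV.trans inf_le_left), ?_⟩
  · rw [← le_centralizer_iff_isMulCommutative]
    exact (hV.trans inf_le_right).trans (centralizer_le (hV.trans inf_le_left))
  · by_contra h
    exact hX (normal_of_not_moved hE hSX fun ⟨y, hy, v, hv, hne⟩ => h ⟨y, hy, v, le_normalClosure hv, hne⟩)

/-- The bound inside `S` afforded by a suitable `W ≤ V`. -/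
theorem exists_bound {V : Subgroup G} [V.Normal] (hVU : V ≤ Cfsg.pCore p G)
    (hUV : Cfsg.pCore p G ≤ centralizer (V : Set G)) (hVc : IsMulCommutative V) (hm : Moved p V) :
    ∃ W : Subgroup G, W ≤ V ∧ W.subgroupOf S ≤ (Cfsg.pCore p G).subgroupOf S ∧
      (Cfsg.pCore p G).subgroupOf S ≤ centralizer (W.subgroupOf S : Set ↥S) ∧
      ∀ B : Subgroup ↥S, ((Cfsg.pCore p G).subgroupOf S).relIndex B ≤
        (W.subgroupOf S ⊓ centralizer (B : Set ↥S)).relIndex (W.subgroupOf S) := by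
  obtain ⟨W, hWn, hWV, hW1, hWG⟩ := exists_moved_minimal ((Lib.Hall.isPGroup_pCore p).to_le hVU) hm
  haveI := hWn
  have hWc : IsMulCommutative W := by
    rw [← le_centralizer_iff_isMulCommutative]
    exact (hWV.trans (le_centralizer_iff_isMulCommutative.2 hVc)).trans (centralizer_le hWV)
  have hWS : W ≤ S := (hWV.trans hVU).trans (pCore_le hE)
  refine ⟨W, hWV, fun x hx => hVU (hWV hx), fun x hx => mem_centralizer_iff.2 fun v hv => Subtype.ext
    (mem_centralizer_iff.1 (hUV hx) (v : G) (hWV hv)), fun B => ?_⟩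
  have h := offender_bound hE hWc (hWV.trans hVU) hW1 hWG (B.map S.subtype) (map_subtype_le B)
  have e1 : (W.subgroupOf S ⊓ centralizer (B : Set ↥S)).map S.subtype =
      W ⊓ centralizer (B.map S.subtype : Set G) := by
    ext y
    constructor
    · rintro ⟨x, ⟨hx, hxc⟩, rfl⟩
      refine ⟨hx, mem_centralizer_iff.2 ?_⟩
      rintro _ ⟨b, hb, rfl⟩
      exact congrArg Subtype.val (mem_centralizer_iff.1 hxc b hb)
    · rintro ⟨hy, hyc⟩
      exact ⟨⟨y, hWS hy⟩, ⟨hy, mem_centralizer_iff.2 fun b hb =>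
        Subtype.ext (mem_centralizer_iff.1 hyc _ (mem_map_of_mem S.subtype hb))⟩, rfl⟩
  rw [← e1] at h
  rw [← map_subgroupOf_eq_of_le (pCore_le hE), relIndex_map_map_of_injective _ _ S.subtype_injective,
    show W = (W.subgroupOf S).map S.subtype from (map_subgroupOf_eq_of_le hWS).symm,
    relIndex_map_map_of_injective _ _ S.subtype_injective, map_subgroupOf_eq_of_le hWS] at h
  exact h

omit hE in
theorem derived_eq {Q R : Subgroup ↥S} (hS : IsPGroup p S) (hQ : Cfsg.IsMinimalCentrallyLarge Q)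
    (hR : Cfsg.IsMinimalCentrallyLarge R) : ⁅Q, Q⁆ = ⁅R, R⁆ :=
  (S3007.result ↥S hS Q R hQ hR).2.1

omit hE in
theorem center_map : (Subgroup.center ↥S).map S.subtype = S ⊓ centralizer (S : Set G) := map_center_eq S

/-- `Z(S) ∩ [Q,Q]` or the join of the minimal centrally large subgroups is normal. -/
theorem derived_or {Q : Subgroup ↥S} (hQ : Cfsg.IsMinimalCentrallyLarge Q) :
    ((S ⊓ centralizer (S : Set G)) ⊓ (⁅Q, Q⁆).map S.subtype).Normal ∨
      ((Cfsg.minimalCentrallyLargeJoin ↥S).map S.subtype).Normal := by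
  refine or_iff_not_imp_left.2 fun hX => ?_
  set X := (S ⊓ centralizer (S : Set G)) ⊓ (⁅Q, Q⁆).map S.subtype
  have hS := isPGroup_of_situation hE
  obtain ⟨V, hVn, -, hVX, hVU, hUV, hVc, hVp, hVm⟩ := exists_module hE (inf_le_left.trans inf_le_left)
    (le_centralizer_iff.1 (inf_le_left.trans inf_le_right)) hX
  obtain ⟨W, hWV, hwu, huw, hb⟩ := exists_bound hE hVU hUV hVc hVm
  set u := (Cfsg.pCore p G).subgroupOf S
  obtain ⟨R, hR, hRu, -⟩ := shift hwu huw hb hQ.1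
  -- the common derived subgroup is normal in `G`
  have hDn : ((⁅Q, Q⁆).map S.subtype).Normal := by
    refine ⟨fun x hx g => ?_⟩
    rw [derived_eq hS hQ hR] at hx
    rw [derived_eq hS hQ (cjS_minimal hE hRu g hR), Subgroup.map_commutator, map_cjS hE hRu g,
      ← Subgroup.map_commutator]
    rw [Subgroup.map_commutator] at hx
    exact mem_map_of_mem (MulAut.conj g).toMonoidHom hx
  have hwQ : ∀ Q' : Subgroup ↥S, Cfsg.IsMinimalCentrallyLarge Q' → Q' ≤ u := by
    intro Q' hQ'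
    have hw : W.subgroupOf S ≤ Q' := by
      intro x hx
      have hx' : (x : G) ∈ (⁅Q, Q⁆).map S.subtype :=
        (hWV.trans (hVX.trans (normalClosure_le_normal inf_le_right))) hx
      rw [derived_eq hS hQ hQ'] at hx'
      obtain ⟨y, hy, e⟩ := hx'
      rw [← Subtype.ext e]
      exact commutator_le.2 (fun a ha b hb => mul_mem (mul_mem (mul_mem ha hb) (inv_mem ha)) (inv_mem hb)) hy
    obtain ⟨hQ1, hQ2⟩ := centrallyLarge_iff.1 hQ'.1
    have h := hb (centralizer (Q' : Set ↥S))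
    rw [← (large_centralizer hQ1).2, inf_eq_left.2 hw, relIndex_self] at h
    have hZu : centralizer (Q' : Set ↥S) ≤ u := by
      refine relIndex_eq_one.1 (le_antisymm h ?_)
      exact Nat.one_le_iff_ne_zero.2 Subgroup.index_ne_zero_of_finite
    have h7 := (S3007.result ↥S hS Q' R hQ' hR).1
    rw [← h7]
    exact sup_le (inf_le_right.trans hRu) (inf_le_right.trans hZu)
  refine ⟨fun x hx g => ?_⟩
  have hle : (Cfsg.minimalCentrallyLargeJoin ↥S).map S.subtype ≤
      ((Cfsg.minimalCentrallyLargeJoin ↥S).map S.subtype).comap (MulAut.conj g).toMonoidHom := by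
    rw [map_le_iff_le_comap]
    refine sSup_le fun Q' hQ' => ?_
    rw [← map_le_iff_le_comap, ← map_le_iff_le_comap, ← map_cjS hE (hwQ Q' hQ') g]
    exact map_mono (le_sSup (cjS_minimal hE (hwQ Q' hQ') g hQ'))
  exact hle hx

/-- The members of the family defining `S_Φ` can be moved into `O_p(G)`. -/
theorem frattini_shift {V : Subgroup G} [V.Normal] (hVU : V ≤ Cfsg.pCore p G)
    (hUV : Cfsg.pCore p G ≤ centralizer (V : Set G)) (hVc : IsMulCommutative V) (hVel : ∀ v ∈ V, v ^ p = 1)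
    (hm : Moved p V) {Q : Subgroup ↥S} (hQ : Cfsg.IsMinimalCentrallyLarge Q)
    (hmz : Nat.card ↥(Cfsg.omegaOneCenter p Q) = Cfsg.maxOmegaCenterOfMinimalCL p ↥S) :
    ∃ R : Subgroup ↥S, Cfsg.IsMinimalCentrallyLarge R ∧ R ≤ (Cfsg.pCore p G).subgroupOf S ∧
      Nat.card ↥(Cfsg.omegaOneCenter p R) = Cfsg.maxOmegaCenterOfMinimalCL p ↥S ∧
      (frattini ↥Q).map Q.subtype ≤ (frattini ↥R).map R.subtype := by
  have hS := isPGroup_of_situation hE
  obtain ⟨W, hWV, hwu, huw, hb⟩ := exists_bound hE hVU hUV hVc hm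
  set u := (Cfsg.pCore p G).subgroupOf S
  set w := W.subgroupOf S
  have hwp : ∀ x ∈ w, x ^ p = 1 := fun x hx => Subtype.ext (by simpa using hVel _ (hWV hx))
  obtain ⟨R, hR, hRu, hRc⟩ := shift hwu huw hb hQ.1
  obtain ⟨hQ1, hQ2⟩ := centrallyLarge_iff.1 hQ.1
  obtain ⟨hR1, hR2⟩ := centrallyLarge_iff.1 hR.1
  set Z := centralizer (Q : Set ↥S)
  set O := Cfsg.omegaOneCenter p Q
  have hO : ∀ x, x ∈ O ↔ x ∈ Z ∧ x ^ p = 1 := fun x => by
    rw [mem_omega]
    exact ⟨fun h => ⟨h.1.2, h.2⟩, fun h => ⟨⟨hQ2 h.1, h.1⟩, h.2⟩⟩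
  have hOZ : O ≤ Z := fun x hx => ((hO x).1 hx).1
  have hOR : (O ⊓ u) ⊔ w ≤ Cfsg.omegaOneCenter p R := by
    have hc : (O ⊓ u) ⊔ w ≤ centralizer (R : Set ↥S) := (sup_le_sup_right (inf_le_inf_right u hOZ) w).trans hRc
    refine sup_le (fun x hx => ?_) (fun x hx => ?_) <;> refine mem_omega.2 ⟨⟨hR2 (hc ?_), hc ?_⟩, ?_⟩
    · exact mem_sup_left hx
    · exact mem_sup_left hx
    · exact ((hO x).1 hx.1).2
    · exact mem_sup_right hx
    · exact mem_sup_right hx
    · exact hwp x hx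
  have hwO : w ⊓ O = w ⊓ Z := le_antisymm (inf_le_inf_left w hOZ)
    fun x hx => ⟨hx.1, (hO x).2 ⟨hx.2, hwp x hx.1⟩⟩
  have e1 : Nat.card ↥O = Nat.card ↥(O ⊓ u) * u.relIndex O := by
    rw [card_eq_card_inf_mul_relIndex u O, inf_comm]
  have e2 : Nat.card ↥Z = Nat.card ↥(Z ⊓ u) * u.relIndex Z := by
    rw [card_eq_card_inf_mul_relIndex u Z, inf_comm]
  have e3 : Nat.card ↥(O ⊓ u) * (w ⊓ Z).relIndex w ≤ Nat.card ↥((O ⊓ u) ⊔ w) := by
    have h1 := card_mul_card_le (O ⊓ u) w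
    rw [show O ⊓ u ⊓ w = w ⊓ Z by rw [inf_assoc, inf_eq_right.2 hwu, inf_comm, hwO],
      card_eq_card_inf_mul_relIndex (w ⊓ Z) w, show w ⊓ Z ⊓ w = w ⊓ Z from inf_eq_left.2 inf_le_left] at h1
    exact Nat.le_of_mul_le_mul_right (by linarith) (Nat.card_pos (α := ↥(w ⊓ Z)))
  have r1 : u.relIndex O ≤ u.relIndex Z := Subgroup.relIndex_le_of_le_right hOZ Subgroup.index_ne_zero_of_finite
  have r2 : u.relIndex Z ≤ (w ⊓ Z).relIndex w :=
    (Subgroup.relIndex_le_of_le_right hQ2 Subgroup.index_ne_zero_of_finite).trans (hb Q)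
  have hge : Nat.card ↥(O ⊓ u) * (w ⊓ Z).relIndex w ≤ Nat.card ↥(Cfsg.omegaOneCenter p R) :=
    e3.trans (Nat.card_le_card_of_injective _ (Subgroup.inclusion_injective hOR))
  have hle : Nat.card ↥(Cfsg.omegaOneCenter p R) ≤ Nat.card ↥O := hmz.symm ▸ card_omega_le hR
  have hRmz : Nat.card ↥(Cfsg.omegaOneCenter p R) = Nat.card ↥O :=
    le_antisymm hle (e1 ▸ (Nat.mul_le_mul_left _ (r1.trans r2)).trans hge)
  have heq : u.relIndex O = u.relIndex Z := by
    refine le_antisymm r1 (r2.trans (Nat.le_of_mul_le_mul_left ?_ (Nat.card_pos (α := ↥(O ⊓ u)))))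
    rw [← e1]
    exact hge.trans hle
  have hsup : O ⊔ (Z ⊓ u) = Z := by
    refine eq_of_card (sup_le hOZ inf_le_left) ?_
    have h1 := card_mul_card_le O (Z ⊓ u)
    rw [show O ⊓ (Z ⊓ u) = O ⊓ u by rw [← inf_assoc, inf_eq_left.2 hOZ], e1, heq] at h1
    refine Nat.le_of_mul_le_mul_right ?_ (Nat.card_pos (α := ↥(O ⊓ u)))
    rw [e2]
    linarith
  set Φ := (frattini ↥R).map R.subtype
  have hΦp : ∀ x ∈ R, x ^ p ∈ Φ := fun x hx =>
    ⟨⟨x, hx⟩ ^ p, PGroupFrattini.pow_mem_frattini (hS.to_subgroup R) _, rfl⟩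
  have hZp : ∀ z ∈ Z, z ^ p ∈ Φ := by
    intro z hz
    have hzc : IsMulCommutative Z := le_centralizer_iff_isMulCommutative.1 (centralizer_le hQ2)
    rw [← hsup, sup_eq_closure] at hz
    induction hz using closure_induction with
    | mem z hz =>
      rcases hz with hz | hz
      · rw [((hO z).1 hz).2]; exact one_mem _
      · exact hΦp z (hR2 (hRc (mem_sup_left hz)))
    | one => simp
    | mul a b ha hb ia ib =>
      rw [← sup_eq_closure, hsup] at ha hb
      rw [(show Commute a b from congrArg Subtype.val (hzc.is_comm.comm ⟨a, ha⟩ ⟨b, hb⟩)).mul_pow]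
      exact mul_mem ia ib
    | inv a _ ia => rw [inv_pow]; exact inv_mem ia
  refine ⟨R, hR, hRu, hRmz.trans hmz, ?_⟩
  rw [map_le_iff_le_comap]
  refine PGroupFrattini.frattini_le (Fact.out : p.Prime) _ ?_ ?_
  · rw [← map_le_iff_le_comap, map_subtype_commutator, derived_eq hS hQ hR, ← map_subtype_commutator]
    exact map_mono (PGroupFrattini.commutator_le_frattini (hS.to_subgroup R))
  · intro x
    show ((x : ↥S)) ^ p ∈ Φ
    obtain ⟨h7, -⟩ := S3007.result ↥S hS Q R hQ hR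
    rw [inf_eq_right.2 hQ2] at h7
    have hx : (x : ↥S) ∈ (Q ⊓ R) ⊔ Z := h7.symm ▸ x.2
    rw [← SetLike.mem_coe, Subgroup.coe_mul_of_left_le_normalizer_right _ Z
      ((inf_le_left.trans (le_centralizer_iff.1 le_rfl)).trans (centralizer_le_normalizer _))] at hx
    obtain ⟨d, hd, z, hz, e⟩ := hx
    rw [← show d * z = (x : ↥S) from e, (show Commute d z from mem_centralizer_iff.1 hz d hd.1).mul_pow]
    exact mul_mem (hΦp d hd.2) (hZp z hz)

/-- `Z(S)` or `S_Φ` is normal. -/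
theorem frattini_or :
    (S ⊓ centralizer (S : Set G)).Normal ∨ ((Cfsg.frattiniOfMinimalCLJoin p ↥S).map S.subtype).Normal := by
  refine or_iff_not_imp_left.2 fun hX => ?_
  obtain ⟨V, hVn, -, -, hVU, hUV, hVc, hVp, hVm⟩ :=
    exists_module hE inf_le_left (le_centralizer_iff.1 inf_le_right) hX
  let E : Subgroup G :=
    { carrier := {v | v ∈ V ∧ v ^ p = 1}
      one_mem' := ⟨one_mem _, one_pow p⟩
      mul_mem' := fun {a b} ha hb => ⟨mul_mem ha.1 hb.1, by
        rw [(show Commute a b from congrArg Subtype.val (hVc.is_comm.comm ⟨a, ha.1⟩ ⟨b, hb.1⟩)).mul_pow,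
          ha.2, hb.2, one_mul]⟩
      inv_mem' := fun {a} ha => ⟨inv_mem ha.1, by rw [inv_pow, ha.2, inv_one]⟩ }
  have hEV : E ≤ V := fun v hv => hv.1
  haveI : E.Normal := ⟨fun v hv g => ⟨hVn.conj_mem v hv.1 g, by rw [conj_pow, hv.2, mul_one, mul_inv_cancel]⟩⟩
  have hEc : IsMulCommutative E := by
    rw [← le_centralizer_iff_isMulCommutative]
    exact (hEV.trans (le_centralizer_iff_isMulCommutative.2 hVc)).trans (centralizer_le hEV)
  refine ⟨fun x hx g => ?_⟩
  have hle : (Cfsg.frattiniOfMinimalCLJoin p ↥S).map S.subtype ≤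
      ((Cfsg.frattiniOfMinimalCLJoin p ↥S).map S.subtype).comap (MulAut.conj g).toMonoidHom := by
    rw [map_le_iff_le_comap]
    refine iSup_le fun Q => ?_
    obtain ⟨R, hR, hRu, hRmz, hΦ⟩ := frattini_shift hE (V := E) (hEV.trans hVU)
      (hUV.trans (centralizer_le hEV)) hEc (fun v hv => hv.2)
      (moved_omega hVp hVc (fun v hv h1 => ⟨hv, h1⟩) hVm) Q.2.1 Q.2.2
    refine hΦ.trans ?_
    rw [← map_le_iff_le_comap, ← map_le_iff_le_comap, map_frattini_sub _ S.subtype_injective,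
      map_frattini_sub _ (MulAut.conj g).injective, ← map_cjS hE hRu g, ← map_frattini_sub _ S.subtype_injective]
    exact map_mono (le_iSup (fun Q : {Q : Subgroup ↥S // Cfsg.IsMinimalCentrallyLarge Q ∧
      Nat.card ↥(Cfsg.omegaOneCenter p Q) = Cfsg.maxOmegaCenterOfMinimalCL p ↥S} =>
        (frattini ↥(Q : Subgroup ↥S)).map (Q : Subgroup ↥S).subtype)
      ⟨cjS S g R, cjS_minimal hE hRu g hR, (cjS_center hE hRu g).2.2.trans hRmz⟩)
  exact hle hx

omit hE in
theorem of_frattini_eq_bot {P : Type*} [Group P] [Finite P] (hP : IsPGroup p P)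
    (h : Cfsg.frattiniOfMinimalCLJoin p P = ⊥) :
    (∀ Q : Subgroup P, Cfsg.IsMinimalCentrallyLarge Q ↔ Q ∈ Cfsg.maxAbelianSubgroups P) ∧
      ∃ A ∈ Cfsg.maxAbelianSubgroups P, Cfsg.IsElementaryAbelian p A := by
  obtain ⟨Q, hQ, hmz⟩ := exists_max_omega (P := P) (p := p)
  have hΦ : (frattini ↥Q).map Q.subtype ≤ ⊥ := h ▸ le_iSup (fun Q : {Q : Subgroup P //
    Cfsg.IsMinimalCentrallyLarge Q ∧ Nat.card ↥(Cfsg.omegaOneCenter p Q) = Cfsg.maxOmegaCenterOfMinimalCL p P} =>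
      (frattini ↥(Q : Subgroup P)).map (Q : Subgroup P).subtype) ⟨Q, hQ, hmz⟩
  have hz : ∀ x : ↥Q, x ∈ frattini ↥Q → x = 1 := fun x hx => Subtype.ext (hΦ (mem_map_of_mem _ hx))
  have hQc : IsMulCommutative ↥Q := ⟨⟨fun a b => commutatorElement_eq_one_iff_mul_comm.1
    (hz _ (PGroupFrattini.commutator_le_frattini (hP.to_subgroup Q)
      (commutator_mem_commutator (mem_top a) (mem_top b))))⟩⟩
  have hiff := (S3007.result P hP Q Q hQ hQ).2.2.2.2 hQc
  exact ⟨hiff, Q, (hiff Q).1 hQ, hQc, fun x hx => congrArg Subtype.val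
    (hz _ (PGroupFrattini.pow_mem_frattini (hP.to_subgroup Q) ⟨x, hx⟩))⟩

end Cfsg.Agent.Lib.LocalChar.PushingUpCLNormal
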