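import Cfsg.Agent.Lib.LocalChar.PushingUpZJ
import Mathlib.GroupTheory.Transfer

/-! Rank-one pushing up: `C_S(Z(J(S)))` is a Sylow subgroup of its normal closure. -/

set_option autoImplicit false
set_option linter.unusedSectionVars false

namespace Cfsg.Agent.Lib.LocalChar.PushingUpSylow

open Subgroup Cfsg.Agent.Lib.LocalP2 Cfsg.Agent.Lib.LocalChar.PushingUp
open Cfsg.Agent.Lib.LocalChar.RankOneBound Cfsg.Agent.Lib.LocalChar.PushingUpZJ
open scoped commutatorElement IsMulCommutative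

variable {G : Type*} [Group G] [Finite G] {p : ℕ} [Fact p.Prime]

theorem exists_conj_le_sylow {M X : Subgroup G} (P : Sylow p G) (hPM : (P : Subgroup G) ≤ M)
    (hX : IsPGroup p X) (hXM : X ≤ M) : ∃ m ∈ M, ∀ x ∈ X, m⁻¹ * x * m ∈ (P : Subgroup G) := by
  obtain ⟨S, hS⟩ := (hX.comap_subtype (K := M)).exists_le_sylow
  obtain ⟨g, hg⟩ := MulAction.exists_smul_eq M (P.subtype hPM) S
  refine ⟨g, g.2, fun x hx => ?_⟩
  have h1 : (⟨x, hXM hx⟩ : M) ∈ (S : Subgroup M) := hS hx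
  rw [← hg] at h1
  obtain ⟨y, hy, hyx⟩ := h1
  have e : (g : G) * (y : G) * (g : G)⁻¹ = x := congrArg Subtype.val hyx
  rw [show (g : G)⁻¹ * x * g = y by rw [← e]; group]
  exact hy

/-- A transfer argument: if the Sylow subgroup is abelian modulo `K` and the group is generated by
`p`-subgroups whose conjugates inside the Sylow subgroup lie in `C`, central elements of it lie in `C`. -/
theorem mem_of_central (P : Sylow p G) (K C : Subgroup G) [K.Normal] (hKC : K ≤ C)
    (hCn : (P : Subgroup G) ≤ normalizer (C : Set G)) (hab : ∀ x : G, x ∈ P → ∀ y : G, y ∈ P → ⁅x, y⁆ ∈ K)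
    (hgen : ⊤ ≤ closure {b : G | ∃ B : Subgroup G, IsPGroup p B ∧ b ∈ B ∧
      ∀ l, (∀ y ∈ B, l⁻¹ * y * l ∈ P) → ∀ y ∈ B, l⁻¹ * y * l ∈ C})
    {x : G} (hx : x ∈ P) (hxc : ∀ l : G, ⁅l, x⁆ ∈ K) : x ∈ C := by
  classical
  let f := QuotientGroup.mk' K
  have hfs : Function.Surjective f := QuotientGroup.mk'_surjective K
  let Pb : Sylow p (G ⧸ K) := P.mapSurjective hfs
  have hPb : (Pb : Subgroup (G ⧸ K)) = (P : Subgroup G).map f := Sylow.coe_mapSurjective _ _
  haveI hc : IsMulCommutative ↥(Pb : Subgroup (G ⧸ K)) := by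
    refine ⟨⟨fun u v => Subtype.ext ?_⟩⟩
    obtain ⟨a, ha, ha'⟩ := (hPb ▸ u.2 : (u : G ⧸ K) ∈ (P : Subgroup G).map f)
    obtain ⟨b, hb, hb'⟩ := (hPb ▸ v.2 : (v : G ⧸ K) ∈ (P : Subgroup G).map f)
    rw [Subgroup.coe_mul, Subgroup.coe_mul, ← ha', ← hb', ← commutatorElement_eq_one_iff_mul_comm,
      ← map_commutatorElement]
    exact (QuotientGroup.eq_one_iff _).2 (hab a ha b hb)
  let P0 : Subgroup ↥(Pb : Subgroup (G ⧸ K)) := ((C ⊓ (P : Subgroup G)).map f).subgroupOf Pb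
  let φ : ↥(Pb : Subgroup (G ⧸ K)) →* ↥(Pb : Subgroup (G ⧸ K)) ⧸ P0 := QuotientGroup.mk' P0
  let τ := MonoidHom.transfer φ
  have hτ : ∀ g : G, τ (f g) = 1 := by
    intro g
    have hle : closure {b : G | ∃ B : Subgroup G, IsPGroup p B ∧ b ∈ B ∧
        ∀ l, (∀ y ∈ B, l⁻¹ * y * l ∈ P) → ∀ y ∈ B, l⁻¹ * y * l ∈ C} ≤ (τ.comp f).ker := by
      refine (closure_le _).2 ?_
      rintro b ⟨B, hB, hb, hBC⟩
      obtain ⟨l₀, -, hl₀⟩ := exists_conj_le_sylow P (le_top : (P : Subgroup G) ≤ ⊤) hB le_top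
      let := Fintype.ofFinite (Quotient (MulAction.orbitRel (zpowers (f b)) ((G ⧸ K) ⧸ (Pb : Subgroup (G ⧸ K)))))
      rw [SetLike.mem_coe, MonoidHom.mem_ker, MonoidHom.comp_apply,
        MonoidHom.transfer_eq_prod_quotient_orbitRel_zpowers_quot]
      refine Finset.prod_eq_one fun q _ => (QuotientGroup.eq_one_iff _).2 ?_
      obtain ⟨m, hm⟩ := hfs q.out.out
      set r := Function.minimalPeriod (f b • ·) q.out
      have hmem : (q.out.out)⁻¹ * f b ^ r * q.out.out ∈ (Pb : Subgroup (G ⧸ K)) :=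
        QuotientGroup.out_conj_pow_minimalPeriod_mem _ (f b) q.out
      show (q.out.out)⁻¹ * f b ^ r * q.out.out ∈ (C ⊓ (P : Subgroup G)).map f
      rw [← hm] at hmem ⊢
      set y₀ := b ^ r
      have hy₀ : y₀ ∈ B := pow_mem hb r
      have h1 : f (l₀⁻¹ * y₀ * l₀) ∈ (Pb : Subgroup (G ⧸ K)) := hPb ▸ mem_map_of_mem f (hl₀ y₀ hy₀)
      have h2 : (f l₀⁻¹ * f m)⁻¹ * f (l₀⁻¹ * y₀ * l₀) * (f l₀⁻¹ * f m) = (f m)⁻¹ * f b ^ r * f m := by
        simp only [y₀, map_mul, map_inv, map_pow]; group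
      obtain ⟨nb, hnb, hn⟩ := Pb.conj_eq_normalizer_conj_of_mem _ (f l₀⁻¹ * f m) h1 (h2 ▸ hmem)
      rw [h2] at hn
      obtain ⟨m', rfl⟩ := hfs nb
      set k₀ := l₀ * m'
      let B' : Subgroup G := B.map (MulAut.conj k₀⁻¹).toMonoidHom
      have hB'M : B' ≤ (Pb : Subgroup (G ⧸ K)).comap f := by
        rintro _ ⟨y, hy, rfl⟩
        rw [mem_comap]
        simp only [MulEquiv.coe_toMonoidHom, MulAut.conj_apply, inv_inv, k₀, mul_inv_rev, map_mul, map_inv]
        have h3 : f (l₀⁻¹ * y * l₀) ∈ (Pb : Subgroup (G ⧸ K)) := hPb ▸ mem_map_of_mem f (hl₀ y hy)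
        have h4 := (mem_normalizer_iff''.1 hnb _).1 h3
        simp only [map_mul, map_inv] at h4
        simpa [mul_assoc] using h4
      obtain ⟨k, hk, hkB⟩ := exists_conj_le_sylow P (fun z hz => hPb ▸ mem_map_of_mem f hz) (hB.map _) hB'M
      have hkC : k⁻¹ * (k₀⁻¹ * y₀ * k₀) * k ∈ C := by
        have := hBC (k₀ * k) (fun y hy => by
          have := hkB _ (mem_map_of_mem (MulAut.conj k₀⁻¹).toMonoidHom hy)
          show (k₀ * k)⁻¹ * y * (k₀ * k) ∈ (P : Subgroup G)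
          simpa [mul_assoc] using this) y₀ hy₀
        simpa [mul_assoc] using this
      obtain ⟨w, hw, hwk⟩ : f k ∈ (P : Subgroup G).map f := hPb ▸ hk
      have hk0 : k * w⁻¹ ∈ C := hKC ((QuotientGroup.eq_one_iff _).1 (by
        rw [← QuotientGroup.mk'_apply, map_mul, map_inv, hwk, mul_inv_cancel]))
      have hu : k₀⁻¹ * y₀ * k₀ ∈ C := by
        have h5 := (mem_normalizer_iff.1 (hCn hw) _).1 hkC
        have h6 := mul_mem (mul_mem hk0 h5) (inv_mem hk0)
        simpa [mul_assoc] using h6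
      have hfu : f (k₀⁻¹ * y₀ * k₀) = (f m)⁻¹ * f b ^ r * f m := by
        rw [hn]; simp only [k₀, map_mul, map_inv, mul_inv_rev]; group
      obtain ⟨t, ht, htu⟩ : f (k₀⁻¹ * y₀ * k₀) ∈ (P : Subgroup G).map f := hPb ▸ (hfu ▸ hmem)
      refine ⟨t, ⟨?_, ht⟩, htu.trans hfu⟩
      have h7 : (k₀⁻¹ * y₀ * k₀)⁻¹ * t ∈ C := hKC ((QuotientGroup.eq_one_iff _).1 (by
        rw [← QuotientGroup.mk'_apply, map_mul, map_inv, htu, inv_mul_cancel]))
      have h8 := mul_mem hu h7
      rwa [mul_inv_cancel_left] at h8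
    exact hle (hgen (mem_top g))
  have hxP : f x ∈ (Pb : Subgroup (G ⧸ K)) := hPb ▸ mem_map_of_mem f hx
  have key : ∀ (k : ℕ) (g₀ : G ⧸ K), g₀⁻¹ * f x ^ k * g₀ ∈ (Pb : Subgroup (G ⧸ K)) →
      g₀⁻¹ * f x ^ k * g₀ = f x ^ k := by
    intro k g₀ _
    obtain ⟨g₀, rfl⟩ := hfs g₀
    have h : Commute (f g₀) (f x) := commutatorElement_eq_one_iff_mul_comm.1 (by
      rw [← map_commutatorElement]; exact (QuotientGroup.eq_one_iff _).2 (hxc g₀))
    rw [mul_assoc, ← (h.pow_right k).eq, inv_mul_cancel_left]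
  have h1 := MonoidHom.transfer_eq_pow φ (f x) key
  rw [show MonoidHom.transfer φ (f x) = 1 from hτ x, eq_comm] at h1
  obtain ⟨t, ⟨htC, -⟩, ht⟩ := mem_subgroupOf.1 ((QuotientGroup.eq_one_iff _).1 h1)
  have hxi : x ^ (Pb : Subgroup (G ⧸ K)).index ∈ C := by
    have h2 : t⁻¹ * x ^ (Pb : Subgroup (G ⧸ K)).index ∈ C := hKC ((QuotientGroup.eq_one_iff _).1 (by
      rw [← QuotientGroup.mk'_apply, map_mul, map_inv, ht, map_pow]; exact inv_mul_cancel _))
    simpa using mul_mem htC h2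
  obtain ⟨e, he⟩ := P.2 ⟨x, hx⟩
  obtain ⟨c, hc'⟩ := exists_pow_eq_self_of_coprime (x := x) (n := (Pb : Subgroup (G ⧸ K)).index) (Nat.Coprime.coprime_dvd_right
    (orderOf_dvd_of_pow_eq_one (congrArg Subtype.val he : x ^ p ^ e = 1))
    (Nat.Coprime.pow_right _ ((Fact.out : p.Prime).coprime_iff_not_dvd.2 Pb.not_dvd_index).symm))
  exact hc' ▸ pow_mem hxi c

variable (S : Sylow p G)

/-- `C_S(Z(J(S)))` contains the intersection of `S` with its normal closure. -/
theorem inf_normalClosure_le (hE₁ : centralizer (Cfsg.pCore p G : Set G) ≤ Cfsg.pCore p G)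
    (hE₂ : ∃! M : Subgroup G, IsCoatom M ∧ (S : Subgroup G) ≤ M) {F : Type*} [Field F] [Fintype F] {n : ℕ}
    (hn : 1 ≤ n) (hF : Fintype.card F = p ^ n) (π : G →* Matrix.ProjectiveSpecialLinearGroup (Fin 2) F)
    (hπs : Function.Surjective π)
    (hZ : ¬ ((S : Subgroup G) ⊓ centralizer ((S : Subgroup G) : Set G)).Normal) :
    (S : Subgroup G) ⊓ normalClosure (((S : Subgroup G) ⊓ centralizer (Cfsg.centerThompsonAOf (S : Subgroup G) : Set G) :
      Subgroup G) : Set G) ≤ centralizer (Cfsg.centerThompsonAOf (S : Subgroup G) : Set G) := by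
  set T := (S : Subgroup G) with hTdef
  set Q := Cfsg.pCore p G
  set R := Cfsg.centerThompsonAOf T with hRdef
  set Z := T ⊓ centralizer (T : Set G)
  have hQp : IsPGroup p Q := Lib.Hall.isPGroup_pCore p
  have hQT : Q ≤ T := pCore_le_sylow S
  -- `T ∩ ker π = Q`
  have hQker : Q ≤ π.ker := by
    haveI : (Q.map π).Normal := Subgroup.Normal.map inferInstance π hπs
    exact (Subgroup.map_eq_bot_iff _).1 (normal_pgroup_eq_bot hn hF (hQp.map π))
  have hTker : T ⊓ π.ker ≤ Q := by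
    rcases dichotomy S hE₂ π.ker with h | h
    · exfalso
      refine not_pgroup hn hF (IsPGroup.of_surjective ((S.2.map π)) (T.map π).subtype fun z => ?_)
      have htop : T.map π = ⊤ := by
        have := congrArg (Subgroup.map π) h
        rwa [Subgroup.map_sup, (Subgroup.map_eq_bot_iff π.ker).2 le_rfl, bot_sup_eq, map_top_of_surjective π hπs] at this
      exact ⟨⟨z, htop ▸ mem_top z⟩, rfl⟩
    · exact Lib.Hall.le_pCore (S.2.to_le inf_le_left)
  have hq : ∀ A ≤ T, Q.relIndex A = Nat.card (A.map π) := by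
    intro A hA
    rw [← relIndex_ker, ← inf_relIndex_left, ← inf_relIndex_left (H := A) (K := π.ker)]
    exact congrArg (Subgroup.relIndex · A) (le_antisymm (inf_le_inf_left A hQker)
      (fun x hx => ⟨hx.1, hTker ⟨hA hx.1, hx.2⟩⟩))
  have hqle : ∀ A ≤ T, Q.relIndex A ≤ p ^ n := fun A hA =>
    (hq A hA).trans_le (pgroup_card_le hn hF ((S.2.to_le hA).map π))
  -- `V = ⟨Z^G⟩`
  set V := normalClosure (Z : Set G)
  have hZQ : Z ≤ Q ⊓ centralizer (Q : Set G) :=
    le_inf ((inf_le_right.trans (centralizer_le hQT)).trans hE₁) (inf_le_right.trans (centralizer_le hQT))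
  have hVQ : V ≤ Q ⊓ centralizer (Q : Set G) := normalClosure_le_normal hZQ
  haveI hVc : IsMulCommutative V := by
    rw [← le_centralizer_iff_isMulCommutative]
    exact (hVQ.trans inf_le_right).trans (centralizer_le (hVQ.trans inf_le_left))
  rcases dichotomy S hE₂ (centralizer (V : Set G)) with hN | hN
  · exact absurd (normal_of_centralized S hN (centralizer_le le_normalClosure) (le_centralizer_iff.1 inf_le_right)) hZ
  have hCQ : T ⊓ centralizer (V : Set G) ≤ Q := Lib.Hall.le_pCore (S.2.to_le inf_le_left)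
  have fin : R.Normal → T ⊓ normalClosure ((T ⊓ centralizer (R : Set G) : Subgroup G) : Set G) ≤ centralizer (R : Set G) := by
    intro hRn
    haveI := hRn
    exact inf_le_right.trans (normalClosure_le_normal fun x hx => hx.2)
  by_cases hex : ∃ A, MaxAb A T ∧ ¬ A ≤ centralizer (V : Set G)
  swap
  · push Not at hex
    refine fin ?_
    have hJ : Cfsg.thompsonSubgroupAOf T = Cfsg.thompsonSubgroupAOf Q :=
      thompson_eq hQT fun A hA => (le_inf hA.1 (hex A hA)).trans hCQ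
    haveI := thompson_normal Q
    rw [hRdef, Cfsg.centerThompsonAOf, hJ]
    infer_instance
  obtain ⟨A, hA, hAV⟩ := hex
  have hAQ : ¬ A ≤ Q := fun h => hAV (le_centralizer_iff.1 ((hVQ.trans inf_le_right).trans (centralizer_le h)))
  obtain ⟨a, haA, haQ⟩ := SetLike.not_le_iff_exists.1 hAQ
  have haker : a ∉ π.ker := fun h => haQ (hTker ⟨hA.1 haA, h⟩)
  have hAc : ∀ x ∈ A, ⁅a, x⁆ = 1 := fun x hx =>
    commutatorElement_eq_one_iff_mul_comm.2 (congrArg Subtype.val (hA.2.1.is_comm.comm ⟨a, haA⟩ ⟨x, hx⟩))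
  -- the lower bound on `V`
  set YV := Cfsg.powerClosure p 1 V
  haveI : YV.Normal := powerClosure_normal V
  have hcommV : ∀ x ∈ V, ∀ y ∈ V, ⁅x, y⁆ = 1 := fun x hx y hy =>
    commutatorElement_eq_one_iff_mul_comm.2 (congrArg Subtype.val (hVc.is_comm.comm ⟨x, hx⟩ ⟨y, hy⟩))
  have hVb : p ^ n ≤ (V ⊓ A).relIndex V := by
    have hfaith : ∀ g ∈ T, (∀ m ∈ V, ⁅g, m⁆ ∈ YV) → g ∈ Q := by
      rcases faith_or S hE₂ V YV Z le_normalClosure le_rfl (fun g hg w hw => by
        rw [show ⁅g, w⁆ = 1 from commutatorElement_eq_one_iff_mul_comm.2 (mem_centralizer_iff.1 hw.2 g hg)]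
        exact one_mem _) with h | h
      · have hVZ : V ≤ Z := le_of_le_sup_agemo (hQp.to_le (hVQ.trans inf_le_left)) hVc le_normalClosure h
        exact absurd (hA.1.trans (le_centralizer_iff.1 (hVZ.trans inf_le_right))) hAV
      · exact h
    refine le_trans (quot_bound (T := S) hn hF hπs hQker V YV (V ⊓ A) (hVQ.trans inf_le_left) (powerClosure_le V)
      (fun x hx => ⟨subset_closure ⟨x, hx, by rw [pow_one]⟩, fun y hy => by rw [hcommV x hx y hy]; exact one_mem _⟩)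
      hfaith (hA.1 haA) haker inf_le_left (fun c hc => by rw [hAc c hc.2]; exact one_mem _)) ?_
    exact relIndex_le_of_le_left le_sup_left Subgroup.index_ne_zero_of_finite
  have hVcomm : V ≤ centralizer ((A ⊓ Q : Subgroup G) : Set G) :=
    (hVQ.trans inf_le_right).trans (centralizer_le inf_le_right)
  obtain ⟨hVi, hVm⟩ := offender hA hQT (hVQ.trans inf_le_left) hVc hVcomm
  have hAq : Q.relIndex A = p ^ n := le_antisymm (hqle A hA.1) (hVb.trans hVi)
  have hA' : MaxAb ((A ⊓ Q) ⊔ V) T := hVm ((hqle A hA.1).trans hVb)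
  have hA'Q : (A ⊓ Q) ⊔ V ≤ Q := sup_le inf_le_right (hVQ.trans inf_le_left)
  have hRQ : R ≤ Q := (zj_le hA').trans hA'Q
  -- `T = AQ`
  have hTAQ : T ≤ A ⊔ Q := by
    have hTq : T.map π = A.map π := (eq_of_le_of_card_ge (map_mono hA.1) (by
      rw [← hq A hA.1, hAq]; exact pgroup_card_le hn hF (S.2.map π))).symm
    intro t ht
    obtain ⟨b, hb, hbt⟩ : π t ∈ A.map π := hTq ▸ mem_map_of_mem π ht
    have h' : b⁻¹ * t ∈ Q := hTker ⟨T.mul_mem (T.inv_mem (hA.1 hb)) ht, by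
      simp [MonoidHom.mem_ker, map_mul, map_inv, hbt]⟩
    have := mul_mem (mem_sup_left hb : b ∈ A ⊔ Q) (mem_sup_right h' : b⁻¹ * t ∈ A ⊔ Q)
    rwa [mul_inv_cancel_left] at this
  -- `M = ⟨R^G⟩`
  set M := normalClosure (R : Set G)
  have hdQ : dAb T ≤ dAb Q := hA'.card_eq.ge.trans (card_le_dAb hA'Q hA'.2.1)
  have hJQ : Cfsg.thompsonSubgroupAOf Q ≤ Cfsg.thompsonSubgroupAOf T := thompson_mono hQT hdQ
  haveI := thompson_normal Q
  haveI hR0n : (Cfsg.centerThompsonAOf Q).Normal := by unfold Cfsg.centerThompsonAOf; infer_instance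
  have hMR0 : M ≤ Cfsg.centerThompsonAOf Q := normalClosure_le_normal fun r hr =>
    ⟨(zj_le hA').trans (maxAb_le_thompson ⟨hA'Q, hA'.2.1, fun B hB hBc => hA'.2.2 B (hB.trans hQT) hBc⟩) hr,
      centralizer_le hJQ hr.2⟩
  have hMQ : M ≤ Q := hMR0.trans (inf_le_left.trans (thompson_le Q))
  haveI hMc : IsMulCommutative M := le_centralizer_iff_isMulCommutative.1
    ((hMR0.trans inf_le_right).trans (centralizer_le (hMR0.trans inf_le_left)))
  have hMcomm : M ≤ centralizer ((A ⊓ Q : Subgroup G) : Set G) :=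
    (hMR0.trans inf_le_right).trans (centralizer_le ((le_sup_left : A ⊓ Q ≤ (A ⊓ Q) ⊔ V).trans
      (maxAb_le_thompson ⟨hA'Q, hA'.2.1, fun B hB hBc => hA'.2.2 B (hB.trans hQT) hBc⟩)))
  obtain ⟨hMi, -⟩ := offender hA hQT hMQ hMc hMcomm
  haveI hVn : V.Normal := inferInstance
  haveI hMn : M.Normal := inferInstance
  have hRM : R ≤ M := le_normalClosure
  have hZR : Z ≤ R := center_le_centerThompson
  have hVM : V ≤ M := normalClosure_mono (fun z hz => hZR hz)
  have hVc' : ∀ q ∈ Q, ∀ v ∈ V, ⁅v, q⁆ = 1 := fun q hq v hv =>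
    commutatorElement_eq_one_iff_mul_comm.2 (mem_centralizer_iff.1 (hVQ hv).2 q hq).symm
  -- `M = (M ∩ A)V`
  have hMeq : M ≤ (M ⊓ A) ⊔ V := by
    have h2 := relIndex_mul_relIndex (H := M ⊓ A) (K := (M ⊓ A) ⊔ V) (L := M) le_sup_left (sup_le inf_le_left hVM)
    have h3 : p ^ n ≤ (M ⊓ A).relIndex ((M ⊓ A) ⊔ V) := by
      refine le_trans ?_ (relIndex_le_of_le_right (le_sup_right : V ≤ (M ⊓ A) ⊔ V) Subgroup.index_ne_zero_of_finite)
      rw [← inf_relIndex_right (M ⊓ A) V, inf_assoc, inf_comm A V, ← inf_assoc, inf_eq_right.2 hVM]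
      exact hVb
    have h4 : ((M ⊓ A) ⊔ V).relIndex M = 1 := by
      have hpos : 0 < ((M ⊓ A) ⊔ V).relIndex M := Nat.pos_of_ne_zero Subgroup.index_ne_zero_of_finite
      have hle : (M ⊓ A).relIndex ((M ⊓ A) ⊔ V) * ((M ⊓ A) ⊔ V).relIndex M ≤ p ^ n := h2 ▸ hMi.trans hAq.le
      have hq0 : 0 < p ^ n := pow_pos (Fact.out : p.Prime).pos n
      nlinarith
    exact relIndex_eq_one.1 h4
  -- everything acts trivially on `M / V`, hence `M = RV`
  have hAM : ∀ g ∈ A, ∀ m ∈ M, ⁅g, m⁆ ∈ V := by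
    intro g hg m hm
    have hm' : m ∈ (M ⊓ A) ⊔ V := hMeq hm
    rw [← SetLike.mem_coe, Subgroup.coe_mul_of_left_le_normalizer_right _ V le_normalizer_of_normal] at hm'
    obtain ⟨c, hc, v, hv, rfl⟩ := hm'
    rw [show ⁅g, c * v⁆ = ⁅g, c⁆ * (c * ⁅g, v⁆ * c⁻¹) by simp only [commutatorElement_def]; group,
      show ⁅g, c⁆ = 1 from commutatorElement_eq_one_iff_mul_comm.2
        (congrArg Subtype.val (hA.2.1.is_comm.comm ⟨g, hg⟩ ⟨c, hc.2⟩)), one_mul]
    exact hVn.conj_mem _ (mul_mem (hVn.conj_mem v hv g) (inv_mem hv)) c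
  let fV := QuotientGroup.mk' V
  haveI : (M.map fV).Normal := Subgroup.Normal.map inferInstance _ (QuotientGroup.mk'_surjective V)
  let N1 := (centralizer ((M.map fV : Subgroup (G ⧸ V)) : Set (G ⧸ V))).comap fV
  have hN1 : ∀ g, g ∈ N1 ↔ ∀ m ∈ M, ⁅g, m⁆ ∈ V := fun g => by
    rw [mem_comap, mem_centralizer_iff]
    refine ⟨fun h x hx => ?_, ?_⟩
    · rw [← QuotientGroup.eq_one_iff, ← QuotientGroup.mk'_apply, map_commutatorElement,
        commutatorElement_eq_one_iff_mul_comm]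
      exact (h _ (mem_map_of_mem fV hx)).symm
    · rintro h _ ⟨x, hx, rfl⟩
      refine (commutatorElement_eq_one_iff_mul_comm.1 ?_).symm
      rw [← map_commutatorElement]
      exact (QuotientGroup.eq_one_iff _).2 (h x hx)
  set Lg := normalClosure (A : Set G)
  haveI hLn : Lg.Normal := inferInstance
  have hLN1 : Lg ≤ N1 := normalClosure_le_normal fun g hg => (hN1 g).2 (hAM g hg)
  have hcover : N1 ⊔ T = ⊤ := by
    rcases dichotomy S hE₂ N1 with h | h
    · exact h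
    · exact absurd ((Lib.Hall.le_pCore (p := p) (S.2.to_le inf_le_left) : T ⊓ N1 ≤ Q)
        (mem_inf.2 ⟨hA.1 haA, hLN1 (subset_normalClosure haA)⟩)) haQ
  have hTR : T ≤ normalizer (R : Set G) := le_normalizer_zj T
  have hRV : M ≤ R ⊔ V := by
    suffices hn' : (R ⊔ V).Normal by
      haveI := hn'
      exact normalClosure_le_normal fun r hr => mem_sup_left hr
    refine ⟨fun x hx g => ?_⟩
    have hle : R ⊔ V ≤ (R ⊔ V).comap (MulAut.conj g).toMonoidHom := by
      have hall : (⊤ : Subgroup G) ≤ normalizer ((R ⊔ V : Subgroup G) : Set G) := hcover ▸ sup_le (fun a ha => by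
          refine Cfsg.Agent.Lib.LocalChar.mem_nz_of_cj_le (Cfsg.Agent.Lib.LocalChar.cj_le_iff.2 ?_)
          intro y hy
          show a * y * a⁻¹ ∈ R ⊔ V
          rw [show a * y * a⁻¹ = ⁅a, y⁆ * y by simp [commutatorElement_def]]
          exact mul_mem (mem_sup_right ((hN1 a).1 ha y (sup_le hRM hVM hy))) hy)
        (fun a ha => by
          refine Cfsg.Agent.Lib.LocalChar.mem_nz_of_cj_le (le_of_eq ?_)
          rw [Cfsg.Agent.Lib.LocalChar.cj, Subgroup.map_sup]
          exact congrArg₂ (· ⊔ ·) (Cfsg.Agent.Lib.LocalChar.cj_eq_of_mem_nz (hTR ha))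
            (Cfsg.Agent.Lib.LocalChar.cj_eq_of_mem_nz (le_normalizer_of_normal (mem_top a))))
      exact fun y hy => (mem_normalizer_iff.1 (hall (mem_top g)) y).1 hy
    exact hle hx
  -- `W = [M, Q] ≤ R`
  set W := ⁅M, Q⁆
  haveI : W.Normal := inferInstance
  have hWR : W ≤ R := commutator_le.2 fun m hm q hq => by
    have hm' : m ∈ R ⊔ V := hRV hm
    rw [← SetLike.mem_coe, Subgroup.coe_mul_of_left_le_normalizer_right R V le_normalizer_of_normal] at hm'
    obtain ⟨r, hr, v, hv, rfl⟩ := hm'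
    rw [show ⁅r * v, q⁆ = r * ⁅v, q⁆ * r⁻¹ * ⁅r, q⁆ by simp only [commutatorElement_def]; group, hVc' q hq v hv,
      mul_one, mul_inv_cancel, one_mul, commutatorElement_def, mul_assoc, mul_assoc, ← mul_assoc q]
    exact mul_mem hr ((mem_normalizer_iff.1 (hTR (hQT hq)) _).1 (inv_mem hr))
  have hWA : A ≤ centralizer (W : Set G) :=
    (le_centralizer_iff_isMulCommutative.2 hA.2.1).trans (centralizer_le (hWR.trans (zj_le hA)))
  have hLW : Lg ≤ centralizer (W : Set G) := normalClosure_le_normal hWA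
  set D := centralizer (M : Set G)
  haveI : D.Normal := inferInstance
  have hQL : ⁅Q, Lg⁆ ≤ D := by
    refine (commutator_eq_bot_iff_le_centralizer.1 (commutator_commutator_eq_bot_of_rotate ?_ ?_))
    · refine le_bot_iff.1 ((commutator_mono (commutator_le.2 fun l hl m hm => (hN1 l).1 (hLN1 hl) m hm) le_rfl).trans ?_)
      exact commutator_le.2 fun v hv q hq => mem_bot.2 (hVc' q hq v hv)
    · exact commutator_eq_bot_iff_le_centralizer.2 (le_centralizer_iff.1 hLW)
  -- transfer inside `Lg`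
  obtain ⟨P, hP⟩ := Lib.Thompson.exists_sylow_inf_normal S Lg
  have hPmem : ∀ y : ↥Lg, y ∈ P ↔ (y : G) ∈ T := fun y => by
    show y ∈ (P : Subgroup ↥Lg) ↔ _
    rw [← mem_map_iff_mem Lg.subtype_injective, hP, mem_inf]
    exact ⟨fun h => h.1, fun h => ⟨h, y.2⟩⟩
  have hQA : ∀ t ∈ T, ∃ b ∈ A, ∃ k ∈ Q, t = b * k := fun t ht => by
    have ht' : t ∈ A ⊔ Q := hTAQ ht
    rw [← SetLike.mem_coe, Subgroup.coe_mul_of_left_le_normalizer_right A Q le_normalizer_of_normal] at ht'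
    obtain ⟨b, hb, k, hk, rfl⟩ := ht'
    exact ⟨b, hb, k, hk, rfl⟩
  have hQLR : ∀ x ∈ Lg, x ∈ Q → x ∈ centralizer (R : Set G) := by
    intro x hxL hxQ
    refine mem_subgroupOf.1 (mem_of_central P (D.subgroupOf Lg) ((centralizer (R : Set G)).subgroupOf Lg)
      (fun y hy => mem_subgroupOf.2 (centralizer_le hRM (mem_subgroupOf.1 hy))) ?_ ?_ ?_
      (x := ⟨x, hxL⟩) ((hPmem _).2 (hQT hxQ)) (fun l => mem_subgroupOf.2 ?_))
    · intro y hy
      refine mem_normalizer_iff.2 fun z => ?_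
      simp only [mem_subgroupOf, Subgroup.coe_mul, InvMemClass.coe_inv]
      have hn := hTR ((hPmem y).1 hy)
      refine ⟨fun h => mem_centralizer_iff.2 fun r hr => ?_, fun h => mem_centralizer_iff.2 fun r hr => ?_⟩
      · have h2 := mem_centralizer_iff.1 h _ ((mem_normalizer_iff''.1 hn r).1 hr)
        calc r * ((y : G) * z * (y : G)⁻¹) = (y : G) * ((y : G)⁻¹ * r * y * z) * (y : G)⁻¹ := by group
          _ = (y : G) * (z * ((y : G)⁻¹ * r * y)) * (y : G)⁻¹ := by rw [h2]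
          _ = _ := by group
      · have h2 := mem_centralizer_iff.1 h _ ((mem_normalizer_iff.1 hn r).1 hr)
        calc r * (z : G) = (y : G)⁻¹ * ((y : G) * r * (y : G)⁻¹ * ((y : G) * z * (y : G)⁻¹)) * y := by group
          _ = (y : G)⁻¹ * ((y : G) * z * (y : G)⁻¹ * ((y : G) * r * (y : G)⁻¹)) * y := by rw [h2]
          _ = _ := by group
    · intro y hy z hz
      obtain ⟨b, hb, k, hk, hbk⟩ := hQA _ ((hPmem y).1 hy)
      obtain ⟨b', hb', k', hk', hbk'⟩ := hQA _ ((hPmem z).1 hz)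
      have hkL : k ∈ Lg := by
        rw [show k = b⁻¹ * (y : G) by rw [hbk]; group]
        exact mul_mem (inv_mem (subset_normalClosure hb)) y.2
      have hk'L : k' ∈ Lg := by
        rw [show k' = b'⁻¹ * (z : G) by rw [hbk']; group]
        exact mul_mem (inv_mem (subset_normalClosure hb')) z.2
      refine mem_subgroupOf.2 ?_
      show ⁅(y : G), (z : G)⁆ ∈ D
      rw [← QuotientGroup.eq_one_iff, ← QuotientGroup.mk'_apply, map_commutatorElement,
        commutatorElement_eq_one_iff_mul_comm, hbk, hbk', map_mul, map_mul]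
      have hc : ∀ u ∈ Q, ∀ w ∈ Lg, Commute (QuotientGroup.mk' D u) (QuotientGroup.mk' D w) := fun u hu w hw =>
        commutatorElement_eq_one_iff_mul_comm.1 (by
          rw [← map_commutatorElement]; exact (QuotientGroup.eq_one_iff _).2 (hQL (commutator_mem_commutator hu hw)))
      have hbb : Commute (QuotientGroup.mk' D b) (QuotientGroup.mk' D b') :=
        Commute.map (congrArg Subtype.val (hA.2.1.is_comm.comm ⟨b, hb⟩ ⟨b', hb'⟩)) _
      exact ((hbb.mul_right (hc k' hk' b (subset_normalClosure hb)).symm).mul_left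
        ((hc k hk b' (subset_normalClosure hb')).mul_right (hc k hk k' hk'L))).eq
    · intro y _
      have hle : Lg ≤ (closure {b : ↥Lg | ∃ B : Subgroup ↥Lg, IsPGroup p B ∧ b ∈ B ∧
          ∀ l, (∀ y ∈ B, l⁻¹ * y * l ∈ P) → ∀ y ∈ B, l⁻¹ * y * l ∈ (centralizer (R : Set G)).subgroupOf Lg}).map
            Lg.subtype := by
        show normalClosure (A : Set G) ≤ _
        rw [normalClosure, closure_le]
        intro b hb
        rw [Group.mem_conjugatesOfSet_iff] at hb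
        obtain ⟨a₁, ha₁, hconj⟩ := hb
        obtain ⟨g, rfl⟩ := isConj_iff.1 hconj
        let B0 := A.map (MulAut.conj g).toMonoidHom
        have hB0 : B0 ≤ Lg := by
          rintro _ ⟨u, hu, rfl⟩
          exact hLn.conj_mem u (subset_normalClosure hu) g
        refine ⟨⟨g * a₁ * g⁻¹, hB0 (mem_map_of_mem _ ha₁)⟩, subset_closure ⟨B0.subgroupOf Lg,
          ((S.2.to_le hA.1).map _).comap_subtype, mem_subgroupOf.2 (mem_map_of_mem _ ha₁), fun l hl u hu => ?_⟩, rfl⟩
        have hMax : MaxAb (B0.map (MulAut.conj (l : G)⁻¹).toMonoidHom) T := by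
          have := hA.2.1
          have : IsMulCommutative B0 := Subgroup.map_isMulCommutative A _
          refine ⟨?_, Subgroup.map_isMulCommutative B0 _, fun C hC hCc => ?_⟩
          · rintro _ ⟨w, hw, rfl⟩
            have := (hPmem _).1 (hl ⟨w, hB0 hw⟩ (mem_subgroupOf.2 hw))
            simpa using this
          · rw [card_map_of_injective (MulAut.conj _).injective, card_map_of_injective (MulAut.conj _).injective]
            exact hA.2.2 C hC hCc
        have hu' : ((l⁻¹ * u * l : ↥Lg) : G) ∈ B0.map (MulAut.conj (l : G)⁻¹).toMonoidHom :=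
          ⟨u, mem_subgroupOf.1 hu, by simp⟩
        exact mem_subgroupOf.2 (mem_centralizer_iff.2 fun r hr =>
          congrArg Subtype.val (hMax.2.1.is_comm.comm ⟨r, zj_le hMax hr⟩ ⟨_, hu'⟩))
      obtain ⟨w, hw, hwy⟩ := hle y.2
      rwa [← show w = y from Subtype.ext hwy]
    · show ⁅(l : G), x⁆ ∈ D
      rw [← commutatorElement_inv]
      exact inv_mem (hQL (commutator_mem_commutator hxQ l.2))
  -- conclusion
  set C2 := Q ⊓ D
  haveI : C2.Normal := inferInstance
  have hJ : T ⊓ centralizer (R : Set G) ≤ Lg ⊔ C2 := by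
    rintro t ⟨ht, htR⟩
    obtain ⟨b, hb, k, hk, rfl⟩ := hQA t ht
    refine mul_mem (mem_sup_left (subset_normalClosure hb)) (mem_sup_right ⟨hk, ?_⟩)
    have hkR : k ∈ centralizer (R : Set G) := by
      have hbR : b ∈ centralizer (R : Set G) := mem_centralizer_iff.2 fun r hr =>
        congrArg Subtype.val (hA.2.1.is_comm.comm ⟨r, zj_le hA hr⟩ ⟨b, hb⟩)
      simpa using mul_mem (inv_mem hbR) htR
    refine mem_centralizer_iff.2 fun m hm => ?_
    have hm' : m ∈ R ⊔ V := hRV hm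
    rw [← SetLike.mem_coe, Subgroup.coe_mul_of_left_le_normalizer_right R V le_normalizer_of_normal] at hm'
    obtain ⟨r, hr, v, hv, rfl⟩ := hm'
    have h1 : r * k = k * r := mem_centralizer_iff.1 hkR r hr
    have h2 : v * k = k * v := commutatorElement_eq_one_iff_mul_comm.1 (hVc' k hk v hv)
    rw [mul_assoc, h2, ← mul_assoc, h1, mul_assoc]
  refine (inf_le_inf_left T (normalClosure_le_normal (N := Lg ⊔ C2) hJ)).trans ?_
  rintro t ⟨ht, ht'⟩
  replace ht' : t ∈ ((Lg ⊔ C2 : Subgroup G) : Set G) := ht'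
  rw [Subgroup.coe_mul_of_left_le_normalizer_right Lg C2 le_normalizer_of_normal] at ht'
  obtain ⟨l, hl, c, hc, rfl⟩ := ht'
  have hlT : l ∈ T := by
    have h := T.mul_mem ht (T.inv_mem (hQT hc.1))
    rwa [mul_inv_cancel_right] at h
  obtain ⟨b, hb, k, hk, rfl⟩ := hQA l hlT
  have hkL : k ∈ Lg := by simpa using mul_mem (inv_mem (subset_normalClosure hb)) hl
  exact mul_mem (mul_mem (mem_centralizer_iff.2 fun r hr =>
    congrArg Subtype.val (hA.2.1.is_comm.comm ⟨r, zj_le hA hr⟩ ⟨b, hb⟩)) (hQLR k hkL hk))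
    (centralizer_le hRM hc.2)

end Cfsg.Agent.Lib.LocalChar.PushingUpSylow
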