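import Mathlib
import Cfsg.Agent.Lib.LocalChar.ModulePair
import Cfsg.Agent.Lib.LocalChar.PushingUp

/-! Module bounds for groups with a `PSL₂` quotient, kernels allowed. -/

set_option autoImplicit false
set_option linter.unusedSectionVars false

namespace Cfsg.Agent.Lib.LocalChar.RankOneBound

open Subgroup Cfsg.Agent.S2788 Cfsg.Agent.Lib.LocalChar.ModulePair
open scoped commutatorElement IsMulCommutative

variable {F : Type*} [Field F] [Fintype F] {p : ℕ} [Fact p.Prime] {n : ℕ}

local notation "PSL₂" => Matrix.ProjectiveSpecialLinearGroup (Fin 2) F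
local notation "SL₂" => Matrix.SpecialLinearGroup (Fin 2) F

theorem card_psl_dvd (hF : Fintype.card F = p ^ n) :
    Nat.card PSL₂ ∣ p ^ n * ((p ^ n) ^ 2 - 1) := by
  rw [← hF, ← card_sl2 (F := F)]
  exact card_dvd_of_surjective _ (QuotientGroup.mk'_surjective (center SL₂))

theorem pgroup_card_le (hn1 : 1 ≤ n) (hF : Fintype.card F = p ^ n) {P : Subgroup PSL₂} (hP : IsPGroup p P) :
    Nat.card P ≤ p ^ n := by
  obtain ⟨j, hj⟩ := IsPGroup.iff_card.1 hP
  rw [hj]
  have hd : p ^ j ∣ p ^ n * ((p ^ n) ^ 2 - 1) :=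
    (hj ▸ Subgroup.card_subgroup_dvd_card P).trans (card_psl_dvd hF)
  have hp : p.Prime := Fact.out
  have h1 : 1 ≤ (p ^ n) ^ 2 := Nat.one_le_pow _ _ (pow_pos hp.pos _)
  have hcop : Nat.Coprime (p ^ j) ((p ^ n) ^ 2 - 1) := by
    refine Nat.Coprime.pow_left _ (hp.coprime_iff_not_dvd.2 fun h => ?_)
    have h2 : p ∣ (p ^ n) ^ 2 := dvd_pow (dvd_pow_self p (by omega)) two_ne_zero
    have h3 : p ∣ 1 := by simpa [Nat.sub_sub_self h1] using Nat.dvd_sub h2 h
    exact hp.one_lt.not_ge (Nat.le_of_dvd one_pos h3)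
  exact Nat.le_of_dvd (pow_pos hp.pos _) (hcop.dvd_of_dvd_mul_right hd)

theorem not_pgroup (hn1 : 1 ≤ n) (hF : Fintype.card F = p ^ n) : ¬ IsPGroup p PSL₂ := by
  intro h
  obtain ⟨j, hj⟩ := IsPGroup.iff_card.1 h
  have hmul : Nat.card SL₂ = Nat.card PSL₂ * Nat.card (center SL₂) := card_eq_card_quotient_mul_card_subgroup _
  have hz : Nat.card (center SL₂) ≤ 2 := by
    have h2 : ∀ c : center SL₂, ∃ r : F, (r = 1 ∨ r = -1) ∧
        ((c : SL₂) : Matrix (Fin 2) (Fin 2) F) = Matrix.scalar (Fin 2) r := fun c => by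
      obtain ⟨r, hr, hre⟩ := Matrix.SpecialLinearGroup.mem_center_iff.1 c.2
      exact ⟨r, sq_eq_one_iff.1 (by simpa using hr), hre.symm⟩
    choose r hr hre using h2
    classical
    refine (Nat.card_le_card_of_injective (fun c => (⟨r c, by rcases hr c with h | h <;> simp [h]⟩ :
      ({1, -1} : Finset F))) fun c d hcd => Subtype.ext (Subtype.ext ?_)).trans ?_
    · rw [hre c, hre d, show r c = r d from congrArg Subtype.val hcd]
    · rw [Nat.card_eq_fintype_card, Fintype.card_coe]; exact Finset.card_le_two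
  rw [card_sl2, hF, hj] at hmul
  have hp : p.Prime := Fact.out
  have hq : 2 ≤ p ^ n := hp.two_le.trans (Nat.le_self_pow (by omega) p)
  have h3 : 3 ≤ (p ^ n) ^ 2 - 1 := by
    have := Nat.pow_le_pow_left hq 2
    omega
  have hcop : Nat.Coprime ((p ^ n) ^ 2 - 1) (p ^ j) := by
    refine Nat.Coprime.pow_right _ (Nat.Coprime.symm (hp.coprime_iff_not_dvd.2 fun h => ?_))
    have h2 : p ∣ (p ^ n) ^ 2 := dvd_pow (dvd_pow_self p (by omega)) two_ne_zero
    have h4 : p ∣ 1 := by simpa [Nat.sub_sub_self (by omega : 1 ≤ (p ^ n) ^ 2)] using Nat.dvd_sub h2 h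
    exact hp.one_lt.not_ge (Nat.le_of_dvd one_pos h4)
  have h5 : (p ^ n) ^ 2 - 1 ∣ Nat.card (center SL₂) := hcop.dvd_of_dvd_mul_left ⟨p ^ n, by rw [← hmul]; ring⟩
  exact absurd (Nat.le_of_dvd Nat.card_pos h5) (by omega)

/-- The image of the upper unitriangular group. -/
def upHom : Multiplicative F →* PSL₂ where
  toFun s := QuotientGroup.mk' (center SL₂) (up s.toAdd)
  map_one' := by
    rw [show up (Multiplicative.toAdd (1 : Multiplicative F)) = (1 : SL₂) from Subtype.ext (by
      rw [up_coe, Matrix.SpecialLinearGroup.coe_one]; simp [Matrix.one_fin_two]), map_one]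
  map_mul' s t := by
    rw [← map_mul]
    exact congrArg _ (Subtype.ext (by rw [Matrix.SpecialLinearGroup.coe_mul, up_coe, up_coe, up_coe]; simp [add_comm]))

/-- The image of the lower unitriangular group. -/
def loHom : Multiplicative F →* PSL₂ where
  toFun s := QuotientGroup.mk' (center SL₂) (lo s.toAdd)
  map_one' := by
    rw [show lo (Multiplicative.toAdd (1 : Multiplicative F)) = (1 : SL₂) from Subtype.ext (by
      rw [lo_coe, Matrix.SpecialLinearGroup.coe_one]; simp [Matrix.one_fin_two]), map_one]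
  map_mul' s t := by
    rw [← map_mul]
    exact congrArg _ (Subtype.ext (by rw [Matrix.SpecialLinearGroup.coe_mul, lo_coe, lo_coe, lo_coe]; simp))

theorem normal_pgroup_eq_bot (hn1 : 1 ≤ n) (hF : Fintype.card F = p ^ n) {P : Subgroup PSL₂} [P.Normal]
    (hP : IsPGroup p P) : P = ⊥ := by
  have key : ∀ f : Multiplicative F →* PSL₂, Function.Injective f → P ≤ f.range := by
    intro f hf
    have hc : Nat.card f.range = p ^ n := by
      rw [← Nat.card_congr (MonoidHom.ofInjective hf).toEquiv, Nat.card_eq_fintype_card, Fintype.card_multiplicative, hF]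
    have hr : IsPGroup p f.range := IsPGroup.of_card hc
    have hsup : IsPGroup p ↥(f.range ⊔ P) := hr.to_sup_of_normal_right hP
    rw [eq_of_le_of_card_ge (le_sup_left : f.range ≤ f.range ⊔ P) (hc ▸ pgroup_card_le hn1 hF hsup)]
    exact le_sup_right
  have hinj : ∀ (g : F → SL₂), (∀ s, g s ∈ center SL₂ → s = 0) →
      ∀ f : Multiplicative F →* PSL₂, (∀ s, f s = QuotientGroup.mk' _ (g s.toAdd)) → Function.Injective f := by
    intro g hg f hf
    refine (injective_iff_map_eq_one _).2 fun s hs => ?_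
    rw [hf] at hs
    exact congrArg Multiplicative.ofAdd (hg _ ((QuotientGroup.eq_one_iff _).1 hs))
  have h1 := key upHom (hinj up (fun s hs => by
    obtain ⟨r, -, hre⟩ := Matrix.SpecialLinearGroup.mem_center_iff.1 hs
    have := congrFun (congrFun hre 0) 1
    simpa [up_coe] using this.symm) _ fun _ => rfl)
  have h2 := key loHom (hinj lo (fun s hs => by
    obtain ⟨r, -, hre⟩ := Matrix.SpecialLinearGroup.mem_center_iff.1 hs
    have := congrFun (congrFun hre 1) 0
    simpa [lo_coe] using this.symm) _ fun _ => rfl)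
  refine (eq_bot_iff_forall _).2 fun x hx => ?_
  obtain ⟨s, rfl⟩ := h1 hx
  obtain ⟨t, ht⟩ := h2 hx
  have h3 : (lo t.toAdd : SL₂)⁻¹ * up s.toAdd ∈ center SL₂ := QuotientGroup.eq.1 ht
  obtain ⟨r, -, hre⟩ := Matrix.SpecialLinearGroup.mem_center_iff.1 h3
  have h01 := congrFun (congrFun hre 0) 1
  rw [Matrix.SpecialLinearGroup.coe_mul, Matrix.SpecialLinearGroup.coe_inv, lo_coe, up_coe,
    Matrix.adjugate_fin_two_of] at h01
  have hs0 : Multiplicative.toAdd s = 0 := by simpa using h01.symm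
  rw [show s = 1 from Multiplicative.toAdd.injective hs0, map_one]

variable {G : Type*} [Group G] [Finite G]

/-- The bound for a normal elementary abelian subgroup with centraliser in the kernel. -/
theorem kernel_bound (hn1 : 1 ≤ n) (hex : n = 1 → p = 2) (hF : Fintype.card F = p ^ n) (V : Subgroup G) [V.Normal]
    (hV : Cfsg.IsElementaryAbelian p V) (π : G →* PSL₂) (hπs : Function.Surjective π)
    (hker : centralizer (V : Set G) ≤ π.ker) (a : G) (hπa : π a ≠ 1) (hap : ∃ k, a ^ p ^ k = 1) :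
    p ^ n ≤ (V ⊓ centralizer ({a} : Set G)).relIndex V := by
  classical
  obtain ⟨k, hk⟩ := hap
  obtain ⟨A, hA⟩ := QuotientGroup.mk'_surjective _ (π a)
  have hcent : A ^ p ^ k ∈ center SL₂ := by
    rw [← QuotientGroup.eq_one_iff, ← QuotientGroup.mk'_apply, map_pow, hA, ← map_pow, hk, map_one]
  set c := A ^ p ^ k with hc
  have hc2 : c * c = 1 := by
    obtain ⟨r, hr, hre⟩ := Matrix.SpecialLinearGroup.mem_center_iff.1 hcent
    refine Subtype.ext ?_
    show ((c * c : SL₂) : Matrix (Fin 2) (Fin 2) F) = 1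
    rw [Matrix.SpecialLinearGroup.coe_mul, ← hre, ← map_mul, ← pow_two, show r ^ 2 = 1 by simpa using hr, map_one]
  have hcp : c ^ p ^ k = c := by
    rcases (Fact.out : p.Prime).eq_two_or_odd' with hp2 | hp2
    · have h1 : c = 1 := by
        haveI : CharP F p := charP_of_card_eq_prime_pow hF
        subst hp2
        obtain ⟨r, hr, hre⟩ := Matrix.SpecialLinearGroup.mem_center_iff.1 hcent
        refine Subtype.ext ?_
        show (c : Matrix (Fin 2) (Fin 2) F) = 1
        rw [← hre, show r = 1 from ?_, map_one]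
        have h0 : (r - 1) ^ 2 = 0 := by
          rw [sub_pow_char (p := 2), show r ^ 2 = 1 by simpa using hr, one_pow, sub_self]
        exact sub_eq_zero.1 (pow_eq_zero_iff (by norm_num) |>.1 h0)
      rw [h1, one_pow]
    · obtain ⟨i, hi⟩ := hp2.pow (n := k)
      rw [hi, pow_succ, pow_mul, pow_two, hc2, one_pow, one_mul]
  set A0 := A * c with hA0
  have hA0p : A0 ^ p ^ k = 1 := by
    rw [hA0, (show Commute A c from (Commute.refl A).pow_right _).mul_pow, hcp, ← hc, hc2]
  have hA0π : QuotientGroup.mk' (center SL₂) A0 = π a := by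
    rw [hA0, map_mul, hA, show QuotientGroup.mk' _ c = 1 from (QuotientGroup.eq_one_iff c).2 hcent, mul_one]
  have hA01 : A0 ≠ 1 := fun h => hπa (by rw [← hA0π, h, map_one])
  obtain ⟨ℓ, e, hℓ, hℓp, -, hmin, g0, hdvd⟩ := sl2_pair hn1 hex hF A0 hA01 hA0p
  -- pass to the semidirect product with the induced automorphism group
  let φ : G →* MulAut ↥V := MulAut.conjNormal
  have hφk : ∀ g, φ g = 1 → π g = 1 := by
    intro g hg
    refine hker (mem_centralizer_iff.2 fun v hv => ?_)
    have := congrArg Subtype.val (DFunLike.congr_fun hg ⟨v, hv⟩)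
    simp only [φ, MulAut.conjNormal_apply, MulAut.one_apply] at this
    calc v * g = g * v * g⁻¹ * g := by rw [this]
      _ = g * v := by group
  let ψ : φ.range →* PSL₂ := (QuotientGroup.lift φ.ker π (fun g hg => hφk g hg)).comp
    (QuotientGroup.quotientKerEquivRange φ).symm.toMonoidHom
  have hψ : ∀ g, ψ ⟨φ g, g, rfl⟩ = π g := by
    intro g
    have : (QuotientGroup.quotientKerEquivRange φ).symm ⟨φ g, g, rfl⟩ = QuotientGroup.mk g := by
      rw [MulEquiv.symm_apply_eq]; rfl
    simp only [ψ, MonoidHom.comp_apply, MulEquiv.coe_toMonoidHom, this]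
    rfl
  let Ω := ↥V ⋊[(φ.range).subtype] ↥φ.range
  haveI : Finite Ω := Finite.of_equiv _ SemidirectProduct.equivProd.symm
  let V' : Subgroup Ω := (SemidirectProduct.inl : ↥V →* Ω).range
  let H' : Subgroup Ω := (SemidirectProduct.inr : ↥φ.range →* Ω).range
  let ι : ↥φ.range ≃* ↥H' := MonoidHom.ofInjective SemidirectProduct.inr_injective
  have hV' : Cfsg.IsElementaryAbelian p V' := by
    obtain ⟨hVc, hVp⟩ := hV
    refine ⟨⟨⟨?_⟩⟩, ?_⟩
    · rintro ⟨_, x, rfl⟩ ⟨_, y, rfl⟩
      exact Subtype.ext (by rw [Subgroup.coe_mul, Subgroup.coe_mul, ← map_mul, ← map_mul, hVc.is_comm.comm])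
    · rintro _ ⟨x, rfl⟩
      rw [← map_pow, show x ^ p = 1 from Subtype.ext (by simpa using hVp _ x.2), map_one]
  have hN : H' ≤ normalizer (V' : Set Ω) := by
    have : V'.Normal := by
      rw [show V' = (SemidirectProduct.rightHom : Ω →* _).ker from SemidirectProduct.range_inl_eq_ker_rightHom]
      infer_instance
    exact le_normalizer_of_normal
  have hf : H' ⊓ centralizer (V' : Set Ω) = ⊥ := by
    refine (eq_bot_iff_forall _).2 fun z hz => ?_
    obtain ⟨⟨α, rfl⟩, hzc⟩ := hz
    rw [show α = 1 from Subtype.ext (MulEquiv.ext fun v => ?_), map_one]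
    have h := mem_centralizer_iff.1 hzc (SemidirectProduct.inl v) ⟨v, rfl⟩
    have h' : (SemidirectProduct.inl ((φ.range).subtype α v) : Ω) = SemidirectProduct.inl v := by
      rw [SemidirectProduct.inl_aut, ← h, mul_assoc, ← map_mul, mul_inv_cancel, map_one, mul_one]
    simpa using SemidirectProduct.inl_injective h'
  obtain ⟨g1, hg1⟩ := hπs (QuotientGroup.mk' _ g0)
  let α : G → ↥H' := fun x => ι ⟨φ x, x, rfl⟩
  have hb := (pair_bound V' H' hV' hN hf (ψ.comp ι.symm.toMonoidHom) (α a) (α g1) hℓ hℓp hmin (fun s hs => hdvd s (by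
    rw [← QuotientGroup.eq_one_iff, ← QuotientGroup.mk'_apply]
    simp only [map_pow, map_mul, map_inv, hA0π, ← hg1]
    simp only [MonoidHom.comp_apply, MulEquiv.coe_toMonoidHom, map_pow, map_mul, map_inv, α,
      MulEquiv.symm_apply_apply, hψ] at hs
    exact hs))).2
  have hb' : p ^ n ≤ (V' ⊓ centralizer ({((α a : ↥H') : Ω)} : Set Ω)).relIndex V' := by
    rw [mul_comm 2 n, pow_mul] at hb
    exact (Nat.pow_le_pow_iff_left two_ne_zero).1 hb
  refine hb'.trans (le_of_eq ?_)
  have e1 : V' ⊓ centralizer ({((α a : ↥H') : Ω)} : Set Ω) =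
      ((V ⊓ centralizer ({a} : Set G)).subgroupOf V).map (SemidirectProduct.inl : ↥V →* Ω) := by
    ext z
    have hα : ((α a : ↥H') : Ω) = SemidirectProduct.inr ⟨φ a, a, rfl⟩ := rfl
    constructor
    · rintro ⟨⟨v, rfl⟩, hv⟩
      refine ⟨v, mem_inf.2 ⟨v.2, mem_centralizer_singleton_iff.2 ?_⟩, rfl⟩
      have h := mem_centralizer_singleton_iff.1 hv
      rw [hα] at h
      have h' : (SemidirectProduct.inl ((φ.range).subtype ⟨φ a, a, rfl⟩ v) : Ω) = SemidirectProduct.inl v := by
        rw [SemidirectProduct.inl_aut, ← h, mul_assoc, ← map_mul, mul_inv_cancel, map_one, mul_one]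
      have h2 := congrArg Subtype.val (SemidirectProduct.inl_injective h')
      simp only [Subgroup.coe_subtype, φ, MulAut.conjNormal_apply] at h2
      calc (v : G) * a = a * v * a⁻¹ * a := by rw [h2]
        _ = a * v := by group
    · rintro ⟨v, hv, rfl⟩
      refine ⟨⟨v, rfl⟩, mem_centralizer_singleton_iff.2 ?_⟩
      have h := mem_centralizer_singleton_iff.1 (mem_inf.1 hv).2
      rw [hα]
      have h2 : (φ.range).subtype ⟨φ a, a, rfl⟩ v = v := Subtype.ext (by
        have h3 : (v : G) * a = a * v := h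
        simp only [Subgroup.coe_subtype, φ, MulAut.conjNormal_apply]
        rw [← h3, mul_inv_cancel_right])
      conv_lhs => rw [← h2, SemidirectProduct.inl_aut]
      rw [mul_assoc, ← map_mul, inv_mul_cancel, map_one, mul_one]
  rw [e1, show V' = (⊤ : Subgroup ↥V).map SemidirectProduct.inl from (MonoidHom.range_eq_map _),
    relIndex_map_map_of_injective _ _ SemidirectProduct.inl_injective, relIndex_top_right]
  rfl

variable {T : Sylow p G} {π : G →* Matrix.ProjectiveSpecialLinearGroup (Fin 2) F}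

/-- A normal subgroup meeting the Sylow subgroup inside the kernel lies in the kernel. -/
theorem le_ker_of_inf_le (hn2 : 2 ≤ n) (hF : Fintype.card F = p ^ n) (hπs : Function.Surjective π)
    (N : Subgroup G) [N.Normal] (h : (T : Subgroup G) ⊓ N ≤ π.ker) : N ≤ π.ker := by
  have h4 : 4 ≤ Nat.card F := by
    rw [Nat.card_eq_fintype_card, hF]
    exact le_trans (by norm_num) ((Nat.pow_le_pow_left (Fact.out : p.Prime).two_le n).trans' (Nat.pow_le_pow_right two_pos hn2))
  have hs : IsSimpleGroup PSL₂ := Matrix.ProjectiveSpecialLinearGroup.rank_two_simple h4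
  haveI : (N.map π).Normal := Subgroup.Normal.map inferInstance π hπs
  rcases hs.eq_bot_or_eq_top_of_normal (N.map π) inferInstance with hb | hb
  · exact fun x hx => (mem_bot.1 (hb ▸ mem_map_of_mem π hx) : π x = 1)
  exfalso
  obtain ⟨P, hP⟩ := Lib.Thompson.exists_sylow_inf_normal T N
  have h1 : π.ker.relIndex N = Nat.card PSL₂ := by rw [relIndex_ker, hb, card_top]
  have h2 : π.ker.relIndex N ∣ ((T : Subgroup G) ⊓ N).relIndex N := relIndex_dvd_of_le_left _ h
  have h3 : ((T : Subgroup G) ⊓ N).relIndex N = (P : Subgroup N).index := by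
    rw [← hP, relIndex, subgroupOf, comap_map_eq_self_of_injective N.subtype_injective]
  have h5 : p ∣ Nat.card PSL₂ := by
    have hup : Function.Injective (upHom (F := F)) := by
      refine (injective_iff_map_eq_one _).2 fun s hs => ?_
      obtain ⟨r, -, hre⟩ := Matrix.SpecialLinearGroup.mem_center_iff.1 ((QuotientGroup.eq_one_iff _).1 hs)
      have h01 := congrFun (congrFun hre 0) 1
      exact congrArg Multiplicative.ofAdd (show s.toAdd = 0 by simpa [up_coe] using h01.symm)
    refine dvd_trans ?_ (Subgroup.card_dvd_of_injective _ hup)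
    rw [Nat.card_eq_fintype_card, Fintype.card_multiplicative, hF]
    exact dvd_pow_self p (by omega)
  exact P.not_dvd_index ((h5.trans (h1 ▸ h2)).trans h3.dvd)

/-- An element of `T` outside `Q` moves a lot of every abelian chief section it can move. -/
theorem quot_bound (hn1 : 1 ≤ n) (hF : Fintype.card F = p ^ n) (hπs : Function.Surjective π)
    (hQ : Cfsg.pCore p G ≤ π.ker) (M Y C : Subgroup G) [M.Normal] [Y.Normal] (hMQ : M ≤ Cfsg.pCore p G)
    (hYM : Y ≤ M) (hel : ∀ x ∈ M, x ^ p ∈ Y ∧ ∀ y ∈ M, ⁅x, y⁆ ∈ Y)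
    (hfaith : ∀ g ∈ (T : Subgroup G), (∀ m ∈ M, ⁅g, m⁆ ∈ Y) → g ∈ Cfsg.pCore p G)
    {a : G} (haT : a ∈ (T : Subgroup G)) (haker : a ∉ π.ker) (hCM : C ≤ M) (hC : ∀ c ∈ C, ⁅a, c⁆ ∈ Y) :
    p ^ n ≤ (C ⊔ Y).relIndex M := by
  classical
  set X := C ⊔ Y
  have hXM : X ≤ M := sup_le hCM hYM
  let f := QuotientGroup.mk' Y
  have hfc : ∀ x y : G, ⁅x, y⁆ ∈ Y → f x * f y = f y * f x := fun x y h => by
    rw [← commutatorElement_eq_one_iff_mul_comm, ← map_commutatorElement]
    exact (QuotientGroup.eq_one_iff _).2 h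
  have hXc : X ≤ (centralizer ({f a} : Set (G ⧸ Y))).comap f := sup_le
    (fun c hc => mem_centralizer_singleton_iff.2 (hfc a c (hC c hc)).symm)
    (fun y hy => mem_centralizer_singleton_iff.2 (by rw [show f y = 1 from (QuotientGroup.eq_one_iff y).2 hy]; simp))
  have hne : X.relIndex M ≠ 1 := fun h1 => by
    refine haker (hQ (hfaith a haT fun m hm => (QuotientGroup.eq_one_iff _).1 ?_))
    rw [← QuotientGroup.mk'_apply, map_commutatorElement, commutatorElement_eq_one_iff_mul_comm]
    exact (mem_centralizer_singleton_iff.1 (hXc (relIndex_eq_one.1 h1 hm))).symm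
  have hMp : IsPGroup p M := (Lib.Hall.isPGroup_pCore p).to_le hMQ
  obtain ⟨j, hj⟩ := IsPGroup.iff_card.1 hMp
  obtain ⟨i, -, hi⟩ := (Nat.dvd_prime_pow (Fact.out : p.Prime)).1 (hj ▸ relIndex_dvd_card X M)
  rcases Nat.lt_or_ge n 2 with hn | hn
  · obtain rfl : n = 1 := by omega
    rw [pow_one, hi]
    exact Nat.le_self_pow (fun h0 => hne (by rw [hi, h0, pow_zero])) p
  have hYk : Y ≤ π.ker := (hYM.trans hMQ).trans hQ
  let π' : G ⧸ Y →* PSL₂ := QuotientGroup.lift Y π hYk
  have hπ' : ∀ x, π' (f x) = π x := fun x => rfl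
  haveI : (M.map f).Normal := Subgroup.Normal.map inferInstance _ (QuotientGroup.mk'_surjective Y)
  have helt : Cfsg.IsElementaryAbelian p (M.map f) := by
    refine ⟨⟨⟨?_⟩⟩, ?_⟩
    · rintro ⟨_, x, hx, rfl⟩ ⟨_, y, hy, rfl⟩
      exact Subtype.ext (hfc x y ((hel x hx).2 y hy))
    · rintro _ ⟨x, hx, rfl⟩
      rw [← map_pow]
      exact (QuotientGroup.eq_one_iff _).2 (hel x hx).1
  let N := (centralizer ((M.map f : Subgroup (G ⧸ Y)) : Set (G ⧸ Y))).comap f
  have hN : N ≤ π.ker := le_ker_of_inf_le (T := T) hn hF hπs N (by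
    rintro g ⟨hgT, hg⟩
    refine hQ (hfaith g hgT fun m hm => (QuotientGroup.eq_one_iff _).1 ?_)
    rw [← QuotientGroup.mk'_apply, map_commutatorElement, commutatorElement_eq_one_iff_mul_comm]
    exact (mem_centralizer_iff.1 hg (f m) (mem_map_of_mem f hm)).symm)
  have hker : centralizer ((M.map f : Subgroup (G ⧸ Y)) : Set (G ⧸ Y)) ≤ π'.ker := by
    intro x hx
    obtain ⟨g, rfl⟩ := QuotientGroup.mk'_surjective Y x
    exact hN hx
  obtain ⟨k, hk⟩ := T.2 ⟨a, haT⟩
  have hb := kernel_bound hn1 (fun h => by omega) hF (M.map f) helt π'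
    (fun x => (hπs x).elim fun g hg => ⟨f g, hg⟩) hker (f a) haker
    ⟨k, by rw [← map_pow, show a ^ p ^ k = 1 from congrArg Subtype.val hk, map_one]⟩
  refine hb.trans ?_
  have h1 : X.map f ≤ M.map f ⊓ centralizer ({f a} : Set (G ⧸ Y)) :=
    le_inf (map_mono hXM) (map_le_iff_le_comap.2 hXc)
  refine (relIndex_le_of_le_left h1 ?_).trans (le_of_eq ?_)
  · exact Subgroup.index_ne_zero_of_finite
  · rw [← relIndex_comap, comap_map_eq, QuotientGroup.ker_mk', sup_of_le_left (le_sup_right : Y ≤ X)]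

end Cfsg.Agent.Lib.LocalChar.RankOneBound
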