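import Cfsg.Agent.Lib.LocalChar.Core
import Cfsg.Agent.Lib.LocalChar.Norm
import Cfsg.Agent.Lib.LocalChar.PReduced

/-! Weakly closed subgroups and their weak closures. -/

set_option autoImplicit false
set_option linter.unusedSectionVars false

open scoped commutatorElement Pointwise

namespace Cfsg.Agent.Lib.LocalChar

variable {G : Type*} [Group G] [Finite G] {p : ℕ} [hp : Fact p.Prime]

theorem cj_inv_eq_self {g : G} {Q : Subgroup G} (h : cj g Q = Q) : cj g⁻¹ Q = Q := by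
  conv_lhs => rw [← h]
  rw [cj_cj, inv_mul_cancel, cj_one]

theorem wc_eq_sylow {Q : Subgroup G} (h : Cfsg.IsWeaklyClosedSubgroup p Q) {T : Sylow p G}
    (hQT : Q ≤ (T : Subgroup G)) {g : G} (hg : cj g Q ≤ (T : Subgroup G)) : cj g Q = Q := by
  obtain ⟨T₀, hle, hT₀⟩ := h
  obtain ⟨a, rfl⟩ := MulAction.exists_smul_eq G T₀ T
  have e : ((a • T₀ : Sylow p G) : Subgroup G) = cj a (T₀ : Subgroup G) := rfl
  rw [e] at hQT hg
  have key : ∀ {X : Subgroup G}, X ≤ cj a (T₀ : Subgroup G) → cj a⁻¹ X ≤ (T₀ : Subgroup G) := fun hX =>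
    le_trans (cj_mono hX) (by rw [cj_cj, inv_mul_cancel, cj_one])
  have h1 : cj a⁻¹ Q = Q := hT₀ a⁻¹ (key hQT)
  have h2 : cj a⁻¹ (cj g Q) = Q := by
    rw [cj_cj]
    exact hT₀ (a⁻¹ * g) (by show cj (a⁻¹ * g) Q ≤ _; rw [← cj_cj]; exact key hg)
  have h3 := congrArg (cj a) h2
  rw [cj_cj, mul_inv_cancel, cj_one] at h3
  rw [h3]
  have := cj_inv_eq_self h1
  rwa [inv_inv] at this

theorem wc_eq {Q : Subgroup G} (h : Cfsg.IsWeaklyClosedSubgroup p Q) {R : Subgroup G}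
    (hR : IsPGroup p R) (hQR : Q ≤ R) {g : G} (hg : cj g Q ≤ R) : cj g Q = Q := by
  obtain ⟨T, hT⟩ := hR.exists_le_sylow
  exact wc_eq_sylow h (hQR.trans hT) (hg.trans hT)

theorem wc_nz {Q : Subgroup G} (h : Cfsg.IsWeaklyClosedSubgroup p Q) {R : Subgroup G}
    (hR : IsPGroup p R) (hQR : Q ≤ R) :
    Subgroup.normalizer (R : Set G) ≤ Subgroup.normalizer (Q : Set G) := fun _ hg =>
  mem_nz_of_cj_eq (wc_eq h hR hQR ((cj_mono hQR).trans (cj_eq_of_mem_nz hg).le))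

theorem wc_eq_of_normalize {Q : Subgroup G} (h : Cfsg.IsWeaklyClosedSubgroup p Q) (hQ : IsPGroup p Q)
    {g : G} (hg : cj g Q ≤ Subgroup.normalizer (Q : Set G)) : cj g Q = Q :=
  wc_eq h (hQ.to_sup_of_normal_left' (isPGroup_cj hQ) hg) le_sup_left le_sup_right

theorem wc_of_nz {Q : Subgroup G} (hQp : IsPGroup p Q)
    (h : ∀ R : Subgroup G, IsPGroup p R → Q ≤ R →
      Subgroup.normalizer (R : Set G) ≤ Subgroup.normalizer (Q : Set G)) :
    Cfsg.IsWeaklyClosedSubgroup p Q := by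
  obtain ⟨T, hT⟩ := hQp.exists_le_sylow
  refine ⟨T, hT, fun g hg => ?_⟩
  change cj g Q ≤ (T : Subgroup G) at hg
  show cj g Q = Q
  set P := cj g Q
  have hPn : ∀ R : Subgroup G, IsPGroup p R → P ≤ R →
      Subgroup.normalizer (R : Set G) ≤ Subgroup.normalizer (P : Set G) := by
    intro R hR hPR n hn
    have h1 : cj g⁻¹ R ≥ Q := by
      refine le_trans (le_of_eq ?_) (cj_mono hPR)
      rw [cj_cj, inv_mul_cancel, cj_one]
    have h2 : g⁻¹ * n * g ∈ Subgroup.normalizer (cj g⁻¹ R : Set G) := mem_nz_of_cj_eq (by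
      rw [cj_cj, show g⁻¹ * n * g * g⁻¹ = g⁻¹ * n by group, ← cj_cj, cj_eq_of_mem_nz hn])
    have h3 := cj_eq_of_mem_nz (h _ (isPGroup_cj hR) h1 h2)
    refine mem_nz_of_cj_eq ?_
    show cj n (cj g Q) = cj g Q
    conv_rhs => rw [← h3, cj_cj]
    rw [cj_cj]
    congr 1; group
  set N := Subgroup.normalizer (P : Set G)
  have hTP : (T : Subgroup G) ≤ N := Subgroup.le_normalizer.trans (hPn _ T.isPGroup' hg)
  have hgTP : cj g (T : Subgroup G) ≤ N :=
    Subgroup.le_normalizer.trans (hPn _ (isPGroup_cj T.isPGroup') (cj_mono hT))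
  have hTN : IsSylowIn p (T : Subgroup G) N := ⟨hTP, T.isPGroup', fun hd => T.not_dvd_index
    (hd.trans (Subgroup.relIndex_dvd_index_of_le hTP))⟩
  obtain ⟨n, hn, hle⟩ := hTN.conj_le (isPGroup_cj T.isPGroup') hgTP
  have h1 : cj (n * g) (T : Subgroup G) = (T : Subgroup G) := by
    rw [← cj_cj]
    exact Subgroup.eq_of_le_of_card_ge hle (by rw [card_cj, card_cj])
  have h2 := cj_eq_of_mem_nz (h _ T.isPGroup' hT (mem_nz_of_cj_eq h1))
  rw [← cj_cj, cj_eq_of_mem_nz hn] at h2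
  exact h2

theorem nz_of_normalize_eq {Q : Subgroup G}
    (h : ∀ g : G, cj g Q ≤ Subgroup.normalizer (Q : Set G) → Q ≤ Subgroup.normalizer (cj g Q : Set G) →
      cj g Q = Q) :
    ∀ R : Subgroup G, IsPGroup p R → Q ≤ R → R ≤ Subgroup.normalizer (Q : Set G) := by
  intro R hR hQR
  by_contra hne
  set N := R ⊓ Subgroup.normalizer (Q : Set G)
  obtain ⟨u, hu, huN, hun⟩ := exists_mem_nz_of_lt hR
    (lt_of_le_of_ne inf_le_left fun e => hne (inf_eq_left.1 e) : N < R)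
  have hQN : Q ≤ N := le_inf hQR Subgroup.le_normalizer
  have h1 : cj u Q ≤ N := (cj_mono hQN).trans (cj_eq_of_mem_nz hun).le
  have h2 : cj u N ≤ Subgroup.normalizer (cj u Q : Set G) := by
    rw [cj_le_iff]
    intro y hy
    refine mem_nz_of_cj_eq ?_
    rw [cj_cj, show u * y * u⁻¹ * u = u * y by group, ← cj_cj, cj_eq_of_mem_nz hy.2]
  rw [cj_eq_of_mem_nz hun] at h2
  exact huN ⟨hu, mem_nz_of_cj_eq (h u (h1.trans inf_le_right) (hQN.trans h2))⟩

theorem wc_of_normalize_eq {Q : Subgroup G} (hQp : IsPGroup p Q)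
    (h : ∀ g : G, cj g Q ≤ Subgroup.normalizer (Q : Set G) → Q ≤ Subgroup.normalizer (cj g Q : Set G) →
      cj g Q = Q) : Cfsg.IsWeaklyClosedSubgroup p Q := by
  refine wc_of_nz hQp fun R hR hQR n hn => mem_nz_of_cj_eq ?_
  have hPR : cj n Q ≤ R := (cj_mono hQR).trans (cj_eq_of_mem_nz hn).le
  refine h n (hPR.trans (nz_of_normalize_eq h R hR hQR)) ?_
  have hR' : cj n⁻¹ R = R := cj_eq_of_mem_nz (Subgroup.inv_mem _ hn)
  intro q hq
  have h1 : n⁻¹ * q * n ∈ R := by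
    have := conj_mem_cj (g := n⁻¹) (hQR hq)
    rwa [hR', inv_inv] at this
  have h2 := nz_of_normalize_eq h R hR hQR h1
  refine mem_nz_of_cj_eq ?_
  rw [cj_cj, show q * n = n * (n⁻¹ * q * n) by group, ← cj_cj, cj_eq_of_mem_nz h2]

/-- Conjugates of `Q` inside `K` are conjugate in `K`. -/
theorem wc_exists_conj {Q : Subgroup G} (h : Cfsg.IsWeaklyClosedSubgroup p Q) (hQp : IsPGroup p Q)
    {K : Subgroup G} (hQK : Q ≤ K) {g : G} (hg : cj g Q ≤ K) : ∃ k ∈ K, cj g Q = cj k Q := by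
  obtain ⟨T, hT, hQT⟩ := exists_isSylowIn_ge (p := p) hQp hQK
  obtain ⟨k, hk, hle⟩ := hT.conj_le (isPGroup_cj hQp) hg
  refine ⟨k⁻¹, K.inv_mem hk, ?_⟩
  have h1 : cj (k * g) Q = Q := wc_eq h hT.2.1 hQT (by rw [← cj_cj]; exact hle)
  calc cj g Q = cj k⁻¹ (cj (k * g) Q) := by rw [cj_cj, inv_mul_cancel_left]
    _ = cj k⁻¹ Q := by rw [h1]

theorem cj_le_weakClosure {Q L : Subgroup G} {g : G} (h : cj g Q ≤ L) : cj g Q ≤ Cfsg.weakClosure Q L :=
  le_iSup_of_le (⟨g, h⟩ : {g : G // Q.map (MulAut.conj g).toMonoidHom ≤ L}) le_rfl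

theorem weakClosure_le {Q L M : Subgroup G} (h : ∀ g : G, cj g Q ≤ L → cj g Q ≤ M) :
    Cfsg.weakClosure Q L ≤ M := iSup_le fun g => h g.1 g.2

theorem le_weakClosure {Q L : Subgroup G} (h : Q ≤ L) : Q ≤ Cfsg.weakClosure Q L := by
  have := cj_le_weakClosure (Q := Q) (L := L) (g := 1) (by rwa [cj_one])
  rwa [cj_one] at this

theorem weakClosure_le_self (Q L : Subgroup G) : Cfsg.weakClosure Q L ≤ L :=
  weakClosure_le fun _ h => h

theorem nz_le_nz_weakClosure (Q L : Subgroup G) :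
    Subgroup.normalizer (L : Set G) ≤ Subgroup.normalizer (Cfsg.weakClosure Q L : Set G) := fun n hn =>
  mem_nz_of_cj_le (by
    show (Cfsg.weakClosure Q L).map (MulAut.conj n).toMonoidHom ≤ _
    rw [Cfsg.weakClosure, Subgroup.map_iSup]
    refine iSup_le fun g => ?_
    show cj n (cj (g : G) Q) ≤ Cfsg.weakClosure Q L
    rw [cj_cj]
    refine cj_le_weakClosure ?_
    rw [← cj_cj]
    exact (cj_mono g.2).trans (cj_eq_of_mem_nz hn).le)

/-- `Q`-normalised subgroups split over the normaliser of a weakly closed `Q`. -/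
theorem wc_factor {Q : Subgroup G} (h : Cfsg.IsWeaklyClosedSubgroup p Q) (hQp : IsPGroup p Q)
    {C : Subgroup G} (hC : Q ≤ Subgroup.normalizer (C : Set G)) {n : G} (hn : n ∈ C) :
    ∃ a ∈ C ⊓ Subgroup.normalizer (Q : Set G), ∃ b ∈ ⁅C, Q⁆, n = a * b := by
  have hQn : Q ≤ Subgroup.normalizer ((⁅C, Q⁆ : Subgroup G) : Set G) := right_le_nz_commutator C Q
  have hCn : C ≤ Subgroup.normalizer ((⁅C, Q⁆ : Subgroup G) : Set G) := left_le_nz_commutator C Q
  have hle : cj n Q ≤ ⁅C, Q⁆ ⊔ Q := cj_le_iff.2 fun q hq => by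
    have : n * q * n⁻¹ = ⁅n, q⁆ * q := by simp [commutatorElement_def, mul_assoc]
    rw [this]
    exact Subgroup.mul_mem_sup (Subgroup.commutator_mem_commutator hn hq) hq
  obtain ⟨k, hk, he⟩ := wc_exists_conj h hQp le_sup_right hle
  obtain ⟨c, hc, q, hq, rfl⟩ := (mem_sup_iff_of_nz' hQn).1 hk
  rw [← cj_cj c q, cj_eq_of_mem_nz (Subgroup.le_normalizer hq)] at he
  have hcC : c ∈ C := commutator_le_left_of_nz hC hc
  have haN : c⁻¹ * n ∈ Subgroup.normalizer (Q : Set G) :=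
    mem_nz_of_cj_eq (by rw [← cj_cj, he, cj_cj, inv_mul_cancel, cj_one])
  have haC : c⁻¹ * n ∈ C := C.mul_mem (C.inv_mem hcC) hn
  refine ⟨c⁻¹ * n, ⟨haC, haN⟩, (c⁻¹ * n)⁻¹ * c * (c⁻¹ * n), ?_, by group⟩
  simpa using conj_mem_of_nz (hCn (C.inv_mem haC)) hc

/-- A large subgroup is weakly closed. -/
theorem wc_of_isLarge {Q : Subgroup G} (hQp : IsPGroup p Q) (hQ1 : Q ≠ ⊥) (hL : Cfsg.IsLarge Q) :
    Cfsg.IsWeaklyClosedSubgroup p Q := by
  refine wc_of_nz hQp fun R hR hQR => ?_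
  refine le_trans (le_nz_inf le_rfl (le_nz_centralizer le_rfl))
    (hL.2 (R ⊓ Subgroup.centralizer (R : Set G)) (inf_le_right.trans (Subgroup.centralizer_le hQR)) ?_)
  obtain ⟨u, hu, hu1, hc⟩ := exists_fixed hR hR Subgroup.le_normalizer fun e => hQ1 (le_bot_iff.1 (e ▸ hQR))
  exact fun e => hu1 (Subgroup.mem_bot.1 (e ▸ ⟨hu, Subgroup.mem_centralizer_iff.2 fun r hr => (hc r hr).eq⟩))

end Cfsg.Agent.Lib.LocalChar
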